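import Cfsg.Agent.Omega.NO3S.Fit.Fix

/-!
# NO-3S, `q = 2`, `n = 1` (helper311's text #13963): `cf p` has characteristic 2; the bridge from `TwoOne.One`-type data

* `Fam.o2_le`, `Fam.char2` : `C_{cf p}(O₂(cf p)) ≤ O₂(cf p)`;
* `Fam.full` : `cf p = C_G(p)` is a family.
-/

set_option autoImplicit false
set_option linter.unusedSectionVars false

namespace Cfsg.Agent.Omega.NO3S.Fit

open Subgroup Cfsg Cfsg.Agent.ZN Cfsg.Agent.MinSimple.Geo Cfsg.Agent.Omega.CaseL
open Cfsg.Agent.ZN.Block (conj_mem_of_normalizer conj_mem_of_normalizer' le_normalizer_of_forall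
  mem_normalizer_of)

universe u

variable {G : Type u} [Group G]

namespace Fam

variable {T V : Subgroup G} {z : G} {cf : G → Subgroup G}

theorem o2_le_z [Finite G] (h : Fam T V z cf) : o2 (centralizer ({z} : Set G)) ≤ o2 (cf z) := by
  have h1 : o2 (centralizer ({z} : Set G)) ≤ T := h.ln.o2_le_T
  refine le_o2 (h1.trans h.T_le_cf) (isPGroup_o2 _) ?_
  exact (h.le z h.ln.z_mem h.ln.z_ne).trans (le_normalizer_o2 _)

theorem char2_z [Finite G] (h : Fam T V z cf) :
    cf z ⊓ centralizer ((o2 (cf z) : Subgroup G) : Set G) ≤ o2 (cf z) := by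
  have hloc : IsTwoLocal (centralizer ({z} : Set G)) := by
    refine ⟨zpowers z, isPGroup_zpowers h.ln.zz, ?_, ?_⟩
    · rw [Ne, zpowers_eq_bot]; exact h.ln.z_ne
    · ext g
      rw [mem_centralizer_singleton_iff]
      constructor
      · intro hg
        refine centralizer_le_normalizer _ (mem_centralizer_iff.mpr fun x hx => ?_)
        obtain ⟨m, rfl⟩ := mem_zpowers_iff.mp hx
        exact ((show Commute g z from hg).zpow_right m).eq.symm
      · intro hg
        have h1 : g * z * g⁻¹ ∈ zpowers z := (mem_normalizer_iff.mp hg z).mp (mem_zpowers z)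
        rcases (mem_zpowers_iff_of_mul_self h.ln.zz).mp h1 with e | e
        · exact absurd e (conj_ne h.ln.z_ne)
        · exact comm_of_conj_eq e
  intro c hc
  refine h.o2_le_z (inf_centralizer_o2_le h.ln.charTwo hloc ⟨h.le z h.ln.z_mem h.ln.z_ne hc.1, ?_⟩)
  exact centralizer_le h.o2_le_z hc.2

theorem char2 [Finite G] (h : Fam T V z cf) {p : G} (hp : p ∈ V) (hp1 : p ≠ 1) :
    cf p ⊓ centralizer ((o2 (cf p) : Subgroup G) : Set G) ≤ o2 (cf p) := by
  obtain ⟨g, -, -, hg⟩ := h.point hp hp1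
  exact hg.char2_z

/-- the full family -/
theorem full {T V : Subgroup G} {z : G} (hln : Ln T V z)
    (ab : ∀ a ∈ wf V (centralizer {z}), ∀ b ∈ wf V (centralizer {z}), a * b = b * a)
    (nc : ∃ y ∈ V, y ≠ 1 ∧ y ≠ z ∧ ∃ a ∈ wf V (centralizer {z}), ∃ b ∈ wf V (centralizer {y}), a * b ≠ b * a)
    (f1 : ∃ q ∈ T, q ∈ qf V (centralizer {z}) z ∧ q ∉ centralizer (V : Set G)) :
    Fam T V z (fun p => centralizer ({p} : Set G)) where
  ln := hln
  le := fun _ _ _ => le_rfl
  ge := fun _ _ _ => inf_le_right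
  cj_cf := fun g _ p _ _ => cj_centralizer_singleton g p
  ab := ab
  nc := nc
  f1 := f1

end Fam

end Cfsg.Agent.Omega.NO3S.Fit
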