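import Cfsg.Agent.Omega.NO3S.Fit.Mod

/-!
# NO-3S, `q = 2`, `n = 1` (helper311's text #13963): facts about `M = W_z/⟨z⟩` as an `H`-module

For `R : MRep V cf z M H` and a point `y ≠ z` of `V`, `v0 = R.pi y`:
* `R.hom`, `R.img K` (image in `H` of `K ≤ cf z`), `R.pre K` (preimage in `cf z` of `K ≤ H`);
* `R.smul_v0_iff`, `R.stab` : the stabilizer of `v0` is the image of `C_G(V)`;
* `R.span` : `M` is spanned by the orbit of `v0`;
* `R.img_T_two`, `R.img_T_index`, `R.img_T_fix` : the image of `T` is a Sylow 2-subgroup fixing `v0`;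
* `R.fixI` : LEMMA FIX;
* `R.quad`, `R.inv_A`, `R.cen_A` : the image `A` of `W_y`;
* `Fam.o2h` (0.1) : `O₂(C_z / Q_z) = 1`.
-/

set_option autoImplicit false
set_option linter.unusedSectionVars false

namespace Cfsg.Agent.Omega.NO3S.Fit

open Subgroup Cfsg Cfsg.Agent.ZN Cfsg.Agent.MinSimple.Geo Cfsg.Agent.Omega.CaseL
open Cfsg.Agent.ZN.Block (conj_mem_of_normalizer conj_mem_of_normalizer' le_normalizer_of_forall
  mem_normalizer_of)

universe u

variable {G : Type u} [Group G]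

theorem Fam.T_index {T V : Subgroup G} {z : G} {cf : G → Subgroup G} (h : Fam T V z cf) :
    ¬ 2 ∣ T.relIndex (cf z) := by
  intro hd
  apply h.ln.T_syl
  have h1 : T.relIndex (cf z) * (cf z).relIndex (centralizer ({z} : Set G)) =
      T.relIndex (centralizer ({z} : Set G)) := relIndex_mul_relIndex _ _ _ h.T_le_cf
        (h.le z h.ln.z_mem h.ln.z_ne)
  rw [← h1]
  exact hd.mul_right _

namespace MRep

variable {T V : Subgroup G} {z : G} {cf : G → Subgroup G} {M H : Type u} [AddCommGroup M] [Group H]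
  [DistribMulAction H M]

/-- `phi` as a homomorphism -/
def hom (R : MRep V cf z M H) : cf z →* H where
  toFun c := R.phi c
  map_one' := R.phi_one'
  map_mul' c d := R.phi_mul c c.2 d d.2

/-- the image of `K ≤ cf z` in `H` -/
def img (R : MRep V cf z M H) (K : Subgroup G) : Subgroup H := (K.subgroupOf (cf z)).map R.hom

theorem mem_img (R : MRep V cf z M H) {K : Subgroup G} (hK : K ≤ cf z) {x : H} :
    x ∈ R.img K ↔ ∃ k ∈ K, R.phi k = x := by
  constructor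
  · rintro ⟨k, hk, rfl⟩
    exact ⟨k, mem_subgroupOf.mp hk, rfl⟩
  · rintro ⟨k, hk, rfl⟩
    exact ⟨⟨k, hK hk⟩, mem_subgroupOf.mpr hk, rfl⟩

/-- the preimage of `K ≤ H` in `cf z` -/
def pre (R : MRep V cf z M H) (K : Subgroup H) : Subgroup G := (K.comap R.hom).map (cf z).subtype

theorem mem_pre (R : MRep V cf z M H) {K : Subgroup H} {c : G} : c ∈ R.pre K ↔ c ∈ cf z ∧ R.phi c ∈ K := by
  constructor
  · rintro ⟨c, hc, rfl⟩
    exact ⟨c.2, hc⟩
  · rintro ⟨hc, hc'⟩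
    exact ⟨⟨c, hc⟩, hc', rfl⟩

theorem pre_le (R : MRep V cf z M H) (K : Subgroup H) : R.pre K ≤ cf z := fun _ hc => (R.mem_pre.mp hc).1

section pt

variable (R : MRep V cf z M H) (h : Fam T V z cf) {y : G} (hy : y ∈ V) (hy1 : y ≠ 1) (hyz : y ≠ z)
include h hy hy1 hyz

omit hy1 hyz in
theorem y_mem : y ∈ ww V cf z := h.V_le hy

theorem v0_ne : R.pi y ≠ 0 := by
  intro e
  rcases (R.pi_ker y (h.V_le hy)).mp e with e | e
  · exact hy1 e
  · exact hyz e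

/-- an element of `C_G(z)` which maps `y` to `y` or `z y` normalizes `V` -/
theorem mem_normalizer_of_conj [Finite G] {c : G} (hcz : c * z = z * c) (hc : c * y * c⁻¹ ∈ V) :
    c ∈ normalizer (V : Set G) := by
  rw [mem_normalizer_iff_cj]
  refine eq_of_le_of_card_ge ?_ (by rw [card_cj])
  intro v hv
  rw [mem_cj] at hv
  have hcz' : c * z * c⁻¹ = z := conj_eq_of_comm hcz
  have e : v = c * (c⁻¹ * v * c) * c⁻¹ := by group
  rcases h.ln.four h.ln.z_mem hy h.ln.z_ne hy1 (Ne.symm hyz) hv with e1 | e1 | e1 | e1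
  · rw [e, e1]; simp
  · rw [e, e1, hcz']; exact h.ln.z_mem
  · rw [e, e1]; exact hc
  · rw [e, e1]
    have : c * (z * y) * c⁻¹ = (c * z * c⁻¹) * (c * y * c⁻¹) := by group
    rw [this, hcz']
    exact mul_mem h.ln.z_mem hc

/-- `Stab_H(v0)` is the image of `N_G(V) ∩ cf z` -/
theorem smul_v0_iff [Finite G] {c : G} (hc : c ∈ cf z) :
    R.phi c • R.pi y = R.pi y ↔ c ∈ normalizer (V : Set G) := by
  have hz := h.ln.z_mem
  have hz1 := h.ln.z_ne
  have hyW : y ∈ ww V cf z := h.V_le hy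
  have hcz := h.cf_comm hz hz1 hc
  rw [R.act c hc y hyW, R.pi_eq h (conj_mem_wf hc hyW) hyW]
  constructor
  · rintro (e | e)
    · exact mem_normalizer_of_conj h hy hy1 hyz hcz (by rw [e]; exact hy)
    · exact mem_normalizer_of_conj h hy hy1 hyz hcz (by rw [e]; exact mul_mem hz hy)
  · intro hn
    exact h.ln.conj_cases hz hy hz1 hcz hn

/-- the stabilizer of `v0` is the image of `C_G(V)` -/
theorem stab [Finite G] {x : H} (hx : x • R.pi y = R.pi y) : ∃ d ∈ centralizer (V : Set G), R.phi d = x := by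
  have hz := h.ln.z_mem
  have hz1 := h.ln.z_ne
  obtain ⟨c, hc, rfl⟩ := R.phi_surj x
  have hn := (smul_v0_iff R h hy hy1 hyz hc).mp hx
  obtain ⟨d, hd, k, hk, e⟩ := h.norm_eq hz hz1 hn (h.cf_comm hz hz1 hc)
  refine ⟨d, hd, ?_⟩
  rw [e, R.phi_mul d (h.cent_le_cf hz hz1 hd) k hk.1, (R.phi_ker k hk.1).mpr hk, mul_one]

omit hy1 hyz in
/-- `C_G(V)` fixes `v0` -/
theorem cent_v0 {d : G} (hd : d ∈ centralizer (V : Set G)) : R.phi d • R.pi y = R.pi y := by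
  rw [R.act d (h.cent_le_cf h.ln.z_mem h.ln.z_ne hd) y (h.V_le hy), conj_eq_of_comm (h.V_comm hy hd).symm]

/-- `M` is spanned by the orbit of `v0` -/
theorem span : AddSubgroup.closure (Set.range fun x : H => x • R.pi y) = ⊤ := by
  have hz := h.ln.z_mem
  have hz1 := h.ln.z_ne
  rw [eq_top_iff]
  rintro m -
  obtain ⟨w, hw, rfl⟩ := R.pi_surj m
  set D := AddSubgroup.closure (Set.range fun x : H => x • R.pi y)
  let B : Subgroup G :=
    { carrier := {w | w ∈ ww V cf z ∧ R.pi w ∈ D}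
      mul_mem' := by
        rintro a b ⟨ha, ha1⟩ ⟨hb, hb1⟩
        refine ⟨mul_mem ha hb, ?_⟩
        rw [R.pi_mul a ha b hb]
        exact add_mem ha1 hb1
      one_mem' := ⟨one_mem _, by rw [R.pi_one h]; exact zero_mem _⟩
      inv_mem' := by
        rintro a ⟨ha, ha1⟩
        refine ⟨inv_mem ha, ?_⟩
        rw [R.pi_inv h ha]
        exact neg_mem ha1 }
  have : ww V cf z ≤ B := by
    refine wf_le fun c hc x hx => ?_
    refine ⟨cj_le_wf hc hx, ?_⟩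
    rw [mem_cj] at hx
    have hxw : c⁻¹ * x * c ∈ ww V cf z := h.V_le hx
    have e : x = c * (c⁻¹ * x * c) * c⁻¹ := by group
    rw [e, ← R.act c hc _ hxw]
    have hy0 : R.phi c • R.pi y ∈ D := AddSubgroup.subset_closure ⟨_, rfl⟩
    rcases h.ln.four hz hy hz1 hy1 (Ne.symm hyz) hx with e1 | e1 | e1 | e1
    · rw [e1, R.pi_one h, smul_zero]; exact zero_mem _
    · rw [e1, R.pi_z h, smul_zero]; exact zero_mem _
    · rw [e1]; exact hy0
    · rw [e1, R.pi_mul z h.z_mem_ww y (h.V_le hy), R.pi_z h, zero_add]; exact hy0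
  exact (this hw).2

omit hy hy1 hyz in
theorem img_T_two : IsPGroup 2 (R.img T) := by
  have : IsPGroup 2 (T.subgroupOf (cf z)) := h.ln.two.comap_of_injective _ (cf z).subtype_injective
  exact this.map _

omit hy hy1 hyz in
theorem hom_surj : Function.Surjective R.hom := by
  intro x
  obtain ⟨c, hc, rfl⟩ := R.phi_surj x
  exact ⟨⟨c, hc⟩, rfl⟩

omit hy hy1 hyz in
theorem img_T_index : ¬ 2 ∣ (R.img T).index := by
  intro hd
  apply h.T_index
  have h1 : (R.img T).index ∣ (T.subgroupOf (cf z)).index :=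
    index_map_dvd _ (R.hom_surj (T := T) h)
  exact hd.trans h1

theorem img_T_fix {x : H} (hx : x ∈ R.img T) : x • R.pi y = R.pi y := by
  obtain ⟨t, ht, rfl⟩ := (R.mem_img h.T_le_cf).mp hx
  rw [R.act t (h.T_le_cf ht) y (h.V_le hy),
    R.pi_eq h (conj_mem_wf (h.T_le_cf ht) (h.V_le hy)) (h.V_le hy)]
  exact h.ln.conj_cases h.ln.z_mem hy h.ln.z_ne (h.ln.z_comm (h.ln.T_le ht)) (h.ln.T_norm ht)

/-- LEMMA FIX in `M` -/
theorem fixI [Finite G] {f : G} (hf : f ∈ jj V cf) (hT : ∀ x ∈ R.img T, x • R.pi f = R.pi f) :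
    R.pi f = 0 ∨ R.pi f = R.pi y := by
  have hz := h.ln.z_mem
  have hz1 := h.ln.z_ne
  have hfW := Fam.jj_le hz hz1 hf
  have hfV : f ∈ V := by
    refine h.fix hf fun t ht _ => ?_
    have h1 := hT _ ((R.mem_img h.T_le_cf).mpr ⟨t, ht, rfl⟩)
    rw [R.act t (h.T_le_cf ht) f hfW, R.pi_eq h (conj_mem_wf (h.T_le_cf ht) hfW) hfW] at h1
    exact h1
  rcases h.ln.four hz hy hz1 hy1 (Ne.symm hyz) hfV with e | e | e | e
  · left; rw [e, R.pi_one h]
  · left; rw [e, R.pi_z h]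
  · right; rw [e]
  · right; rw [e, R.pi_mul z h.z_mem_ww y (h.V_le hy), R.pi_z h, zero_add]

end pt

/-! ### the image `A` of `W_p`, `p ∈ V`, `p ≠ 1` -/

section A

variable (R : MRep V cf z M H) (h : Fam T V z cf) {y p : G} (hy : y ∈ V) (hy1 : y ≠ 1) (hyz : y ≠ z)
  (hp : p ∈ V) (hp1 : p ≠ 1)
include h

/-- `[m, a] = pi [a, w]` -/
theorem comm_eq {c w : G} (hc : c ∈ cf z) (hw : w ∈ ww V cf z) :
    R.phi c • R.pi w - R.pi w = R.pi (c * w * c⁻¹ * w⁻¹) := by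
  rw [R.act c hc w hw, R.pi_mul _ (conj_mem_wf hc hw) _ (inv_mem hw), R.pi_inv h hw, sub_eq_add_neg]

include hp hp1

theorem sq_A {w : G} (hw : w ∈ ww V cf p) : R.phi w * R.phi w = 1 := by
  have hwc := h.ww_le_cf' hp hp1 h.ln.z_mem h.ln.z_ne hw
  rw [← R.phi_mul w hwc w hwc, h.sq hp hp1 w hw, R.phi_one']

theorem comm_A {w w' : G} (hw : w ∈ ww V cf p) (hw' : w' ∈ ww V cf p) :
    R.phi w * R.phi w' = R.phi w' * R.phi w := by
  have hwc := h.ww_le_cf' hp hp1 h.ln.z_mem h.ln.z_ne hw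
  have hwc' := h.ww_le_cf' hp hp1 h.ln.z_mem h.ln.z_ne hw'
  rw [← R.phi_mul w hwc w' hwc', h.comm hp hp1 w hw w' hw', R.phi_mul w' hwc' w hwc]

theorem A_v0 (hy : y ∈ V) {w : G} (hw : w ∈ ww V cf p) : R.phi w • R.pi y = R.pi y :=
  R.cent_v0 h hy (h.ww_le_cent hp hp1 hw)

/-- `A` is quadratic on `M` -/
theorem quad (hpz : p ≠ z) {a b w : G} (ha : a ∈ ww V cf p) (hb : b ∈ ww V cf p) (hw : w ∈ ww V cf z) :
    R.phi a • (R.phi b • R.pi w - R.pi w) = R.phi b • R.pi w - R.pi w := by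
  have hz := h.ln.z_mem
  have hz1 := h.ln.z_ne
  have hac := h.ww_le_cf' hp hp1 hz hz1 ha
  have hbc := h.ww_le_cf' hp hp1 hz hz1 hb
  rw [R.comm_eq h hbc hw]
  have hj := h.comm_mem_jj hp hp1 hz hz1 (Ne.symm hpz) hb hw
  have h1 : b * w * b⁻¹ * w⁻¹ ∈ ww V cf z := Fam.jj_le hz hz1 hj
  rw [R.act a hac _ h1, conj_eq_of_comm (h.comm hp hp1 a ha _ (Fam.jj_le hp hp1 hj))]

/-- `A` is normalized by the stabilizer of `v0` -/
theorem norm_A (hy : y ∈ V) (hy1 : y ≠ 1) (hyz : y ≠ z) [Finite G] {x : H} (hx : x • R.pi y = R.pi y) {w : G}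
    (hw : w ∈ ww V cf p) : ∃ w' ∈ ww V cf p, x * R.phi w * x⁻¹ = R.phi w' ∧
      ∃ d ∈ centralizer (V : Set G), R.phi d = x ∧ w' = d * w * d⁻¹ := by
  have hz := h.ln.z_mem
  have hz1 := h.ln.z_ne
  obtain ⟨d, hd, rfl⟩ := R.stab h hy hy1 hyz hx
  have hdc := h.cent_le_cf hz hz1 hd
  have hwc := h.ww_le_cf' hp hp1 hz hz1 hw
  refine ⟨d * w * d⁻¹, conj_mem_of_normalizer (h.cent_norm hp hp1) hd hw, ?_, d, hd, rfl, rfl⟩
  rw [R.phi_mul _ (mul_mem hdc hwc) _ (inv_mem hdc), R.phi_mul d hdc w hwc, R.phi_inv hdc]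

/-- the nonzero `T`-fixed vectors of `[M, a]`, `a ∈ A`, are `v0` -/
theorem fix_A (hpz : p ≠ z) (hy : y ∈ V) (hy1 : y ≠ 1) (hyz : y ≠ z) [Finite G] {a : G} (ha : a ∈ ww V cf p)
    {m : M} (hT : ∀ x ∈ R.img T, x • (R.phi a • m - m) = R.phi a • m - m) :
    R.phi a • m - m = 0 ∨ R.phi a • m - m = R.pi y := by
  have hz := h.ln.z_mem
  have hz1 := h.ln.z_ne
  obtain ⟨w, hw, rfl⟩ := R.pi_surj m
  have hac := h.ww_le_cf' hp hp1 hz hz1 ha
  rw [R.comm_eq h hac hw] at hT ⊢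
  exact R.fixI h hy hy1 hyz (h.comm_mem_jj hp hp1 hz hz1 (Ne.symm hpz) ha hw) hT

end A

/-! ### the order of `[M, a]` for `k = 1` -/

end MRep

namespace Fam

variable {T V : Subgroup G} {z : G} {cf : G → Subgroup G}

/-- `k = 1`: the image of `W_p` in `C_q/Q_q` has order 2. -/
def One1 (V : Subgroup G) (cf : G → Subgroup G) : Prop :=
  ∀ p ∈ V, p ≠ 1 → ∀ q ∈ V, q ≠ 1 → q ≠ p → ∀ w ∈ ww V cf p, ∀ w' ∈ ww V cf p, w ∉ qq V cf q →
    w' ∉ qq V cf q → w * w' ∈ qq V cf q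

/-- it is enough for one pair of points -/
theorem one1_of [Finite G] (h : Fam T V z cf) {p q : G} (hp : p ∈ V) (hp1 : p ≠ 1) (hq : q ∈ V) (hq1 : q ≠ 1)
    (hqp : q ≠ p) (hk : ∀ w ∈ ww V cf p, ∀ w' ∈ ww V cf p, w ∉ qq V cf q → w' ∉ qq V cf q → w * w' ∈ qq V cf q) :
    One1 V cf := by
  intro p' hp' hp1' q' hq' hq1' hqp' w hw w' hw' hwq hwq'
  obtain ⟨g, hg, e1, e2⟩ := h.trans2 hp' hp1' hq' hq1' hqp' hp hp1 hq hq1 hqp
  have h1 := h.conj_ww hg hp' hp1' hw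
  have h2 := h.conj_ww hg hp' hp1' hw'
  rw [e1] at h1 h2
  have hback : ∀ x, g * x * g⁻¹ ∈ qq V cf q → x ∈ qq V cf q' := by
    intro x hx
    have := h.conj_qq (inv_mem hg) hq hq1 hx
    have e3 : g⁻¹ * q * g⁻¹⁻¹ = q' := by rw [← e2]; group
    have e4 : g⁻¹ * (g * x * g⁻¹) * g⁻¹⁻¹ = x := by group
    rwa [e3, e4] at this
  apply hback
  have h3 := hk _ h1 _ h2 (fun e => hwq (hback _ e)) (fun e => hwq' (hback _ e))
  have e : g * w * g⁻¹ * (g * w' * g⁻¹) = g * (w * w') * g⁻¹ := by group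
  rwa [e] at h3

/-- some element of `W_p` is not in `Q_q` -/
theorem exists_not_qq [Finite G] (h : Fam T V z cf) {p q : G} (hp : p ∈ V) (hp1 : p ≠ 1) (hq : q ∈ V) (hq1 : q ≠ 1)
    (hqp : q ≠ p) : ∃ w ∈ ww V cf p, w ∉ qq V cf q := by
  by_contra hcon
  push Not at hcon
  have h1 : ∀ w ∈ ww V cf q, w ∈ qq V cf p := by
    intro w hw
    obtain ⟨g, hg, e1, e2⟩ := h.trans2 hp hp1 hq hq1 hqp hq hq1 hp hp1 (Ne.symm hqp)
    have h2 := h.conj_ww (inv_mem hg) hq hq1 hw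
    have e3 : g⁻¹ * q * g⁻¹⁻¹ = p := by rw [← e1]; group
    rw [e3] at h2
    have h3 := h.conj_qq hg hq hq1 (hcon _ h2)
    have e4 : g * (g⁻¹ * w * g⁻¹⁻¹) * g⁻¹ = w := by group
    rwa [e2, e4] at h3
  obtain ⟨a, ha, b, hb, hab⟩ := h.nc' hp hp1 hq hq1 hqp
  exact hab (h.w1_comm hp hq hqp ha (hcon a ha) hb (h1 b hb))

/-- (0.1): `O₂(C_z / Q_z) = 1` -/
theorem o2h [Finite G] (h : Fam T V z cf) {N : Subgroup G} (hN : N ≤ cf z)
    (hn : cf z ≤ normalizer (N : Set G)) (h2 : ∀ n ∈ N, ∃ k : ℕ, n ^ 2 ^ k ∈ qq V cf z) : N ≤ qq V cf z := by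
  obtain ⟨M, H, _, _, _, _, _, _, ⟨R⟩⟩ := h.exists_mrep
  obtain ⟨y, hy, hy1, hyz⟩ := h.ln.exists_y
  have hfact : Fact (Nat.Prime 2) := ⟨Nat.prime_two⟩
  have hpow : ∀ c ∈ cf z, ∀ k : ℕ, R.phi (c ^ k) = R.phi c ^ k := by
    intro c hc k
    exact map_pow R.hom ⟨c, hc⟩ k
  have hp2 : IsPGroup 2 (R.img N) := by
    rintro ⟨x, hx⟩
    obtain ⟨n, hn', rfl⟩ := (R.mem_img hN).mp hx
    obtain ⟨k, hk⟩ := h2 n hn'
    refine ⟨k, Subtype.ext ?_⟩
    change R.phi n ^ 2 ^ k = 1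
    rw [← hpow n (hN hn'), (R.phi_ker _ (pow_mem (hN hn') _)).mpr hk]
  have hnorm : (R.img N).Normal := by
    refine ⟨fun x hx g => ?_⟩
    obtain ⟨n, hn', rfl⟩ := (R.mem_img hN).mp hx
    obtain ⟨c, hc, rfl⟩ := R.phi_surj g
    refine (R.mem_img hN).mpr ⟨c * n * c⁻¹, conj_mem_of_normalizer hn hc hn', ?_⟩
    rw [R.phi_mul _ (mul_mem hc (hN hn')) _ (inv_mem hc), R.phi_mul c hc n (hN hn'), R.phi_inv hc]
  let S : Sylow 2 H := (R.img_T_two h).toSylow (R.img_T_index h)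
  have hle : R.img N ≤ R.img T := IsPGroup.le_sylow_of_normal hp2 S
  intro n hn'
  rw [← R.phi_ker n (hN hn')]
  -- it fixes all `x • v0`
  have hfix : ∀ x : H, R.phi n • x • R.pi y = x • R.pi y := by
    intro x
    have h3 : x⁻¹ * R.phi n * x ∈ R.img N := by
      have := hnorm.conj_mem _ ((R.mem_img hN).mpr ⟨n, hn', rfl⟩) x⁻¹
      rwa [inv_inv] at this
    have h4 := R.img_T_fix h hy hy1 hyz (hle h3)
    calc R.phi n • x • R.pi y = x • ((x⁻¹ * R.phi n * x) • R.pi y) := by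
          rw [← mul_smul, ← mul_smul]; congr 1; group
      _ = x • R.pi y := by rw [h4]
  refine FaithfulSMul.eq_of_smul_eq_smul (M := H) (α := M) fun m => ?_
  rw [one_smul]
  have hm : m ∈ AddSubgroup.closure (Set.range fun x : H => x • R.pi y) := by
    rw [R.span h hy hy1 hyz]; trivial
  induction hm using AddSubgroup.closure_induction with
  | mem m hm =>
    obtain ⟨x, rfl⟩ := hm
    exact hfix x
  | zero => exact smul_zero _
  | add a b _ _ ha hb => rw [smul_add, ha, hb]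
  | neg a _ ha => rw [smul_neg, ha]

end Fam

end Cfsg.Agent.Omega.NO3S.Fit
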