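import Cfsg.Agent.Omega.NO3S.Fit.PlaneEnd
import Cfsg.Agent.Omega.NO3S.Fit.Rep
import Cfsg.Agent.Involutions.BaerSuzuki
import Cfsg.Agent.Involutions.DihedralPair

/-!
# LEMMA PLANE (helper311's text #13963, section 2) for families

`Fam.plane` : `k = 1`, `|[M, a]| = 4`: every `f ∈ C_z` which commutes with `a` modulo `Q_z` normalises `V`.
-/

set_option autoImplicit false
set_option linter.unusedSectionVars false

namespace Cfsg.Agent.Omega.NO3S.Fit

open Subgroup Cfsg Cfsg.Agent.ZN Cfsg.Agent.MinSimple.Geo Cfsg.Agent.Omega.CaseL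
open Cfsg.Agent.Omega.NO3S.Fit.PlaneForm (cm cm_eq_one cm_inv)
open Cfsg.Agent.ZN.Block (conj_mem_of_normalizer conj_mem_of_normalizer' le_normalizer_of_forall
  mem_normalizer_of)

universe u

variable {G : Type u} [Group G]

/-! ### An involution outside `O₂` inverts an element of odd order -/

/-- two involutions whose product has 2-power order generate a 2-group -/
theorem isPGroup_pair_of {Γ : Type*} [Group Γ] {x y : Γ} (hx : x * x = 1) (hy : y * y = 1) {n : ℕ}
    (hn : (x * y) ^ 2 ^ n = 1) : IsPGroup 2 (closure ({x, y} : Set Γ)) := by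
  rintro ⟨d, hd⟩
  obtain ⟨k, e | e⟩ := Involutions.DihedralPair.mem_closure_pair hx hy hd
  · refine ⟨n, Subtype.ext ?_⟩
    change d ^ 2 ^ n = 1
    rw [e, ← zpow_natCast, ← zpow_mul, mul_comm, zpow_mul, zpow_natCast, hn, one_zpow]
  · refine ⟨1, Subtype.ext ?_⟩
    change d ^ 2 ^ 1 = 1
    rw [pow_one, pow_two, e]
    have h1 := Involutions.DihedralPair.mul_zpow_pair hx hy k
    calc (x * y) ^ k * x * ((x * y) ^ k * x) = (x * y) ^ k * (x * (x * y) ^ k) * x := by group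
      _ = (x * y) ^ k * ((x * y) ^ (-k) * x) * x := by rw [h1]
      _ = (x * y) ^ k * (x * y) ^ (-k) * (x * x) := by group
      _ = 1 := by rw [hx, ← zpow_add]; simp

/-- An involution outside `O₂(Γ)` inverts a nontrivial element of odd order. -/
theorem exists_inverted_of_notMem {Γ : Type*} [Group Γ] [Finite Γ] {x : Γ} (hx : x * x = 1)
    (hxO : x ∉ pCore 2 Γ) : ∃ s : Γ, s ≠ 1 ∧ x * s * x⁻¹ = s⁻¹ ∧ ∃ n : ℕ, Odd n ∧ s ^ n = 1 := by
  have hfact : Fact (Nat.Prime 2) := ⟨Nat.prime_two⟩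
  by_contra hcon
  push Not at hcon
  apply hxO
  refine Involutions.BaerSuzuki.mem_pCore_of_conj_pairs x fun g => ?_
  set y := g * x * g⁻¹ with hy
  have hyy : y * y = 1 := by
    rw [hy]
    calc g * x * g⁻¹ * (g * x * g⁻¹) = g * (x * x) * g⁻¹ := by group
      _ = 1 := by rw [hx]; group
  have hxi : x⁻¹ = x := inv_eq_of_mul_eq_one_left hx
  have hyi : y⁻¹ = y := inv_eq_of_mul_eq_one_left hyy
  obtain ⟨k, m, hm, hkm⟩ := Nat.exists_eq_two_pow_mul_odd (n := orderOf (x * y)) (orderOf_pos _).ne'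
  refine isPGroup_pair_of hx hyy (n := k) ?_
  by_contra hne
  refine hcon ((x * y) ^ 2 ^ k) hne ?_ m hm ?_
  · rw [← conj_pow, ← inv_pow]
    congr 1
    rw [mul_inv_rev, hyi, hxi, ← mul_assoc, hx, one_mul]
  · rw [← pow_mul, ← hkm, pow_orderOf_eq_one]

/-! ### Commutators -/

theorem cm_mul_left (a b c : G) : cm (a * b) c = a * cm b c * a⁻¹ * cm a c := by
  unfold cm
  group

theorem cm_mul_right (a b c : G) : cm a (b * c) = cm a b * (b * cm a c * b⁻¹) := by
  unfold cm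
  group

theorem conj_cm' (g x y : G) : g * cm x y * g⁻¹ = cm (g * x * g⁻¹) (g * y * g⁻¹) := by
  unfold cm
  group

namespace Fam

variable {T V : Subgroup G} {z : G} {cf : G → Subgroup G}

/-- `[W_p, Q_p] ≤ ⟨p⟩` -/
theorem cm_qq (h : Fam T V z cf) {p w k : G} (hp : p ∈ V) (hp1 : p ≠ 1) (hw : w ∈ ww V cf p)
    (hk : k ∈ qq V cf p) : cm w k = 1 ∨ cm w k = p := by
  have e : cm w k = (cm k w)⁻¹ := (cm_inv k w).symm
  rcases h.qq_cases hp hk hw with e1 | e1
  · left
    rw [e, inv_eq_one, cm_eq_one]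
    exact comm_of_conj_eq e1
  · right
    have : cm k w = p := by
      unfold cm
      rw [e1, mul_assoc, mul_inv_cancel, mul_one]
    rw [e, this, h.ln.inv_eq hp]

/-- `[W_p ∩ Q_q, W_q] ≤ ⟨q⟩` -/
theorem cm_qq' (h : Fam T V z cf) {q w g : G} (hq : q ∈ V) (hw : w ∈ qq V cf q)
    (hg : g ∈ ww V cf q) : cm w g = 1 ∨ cm w g = q := by
  rcases h.qq_cases hq hw hg with e1 | e1
  · exact Or.inl (cm_eq_one.mpr (comm_of_conj_eq e1))
  · right
    unfold cm
    rw [e1, mul_assoc, mul_inv_cancel, mul_one]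

theorem cm_step (h : Fam T V z cf) {E : Subgroup G} (hVE : V ≤ E) {p q : G} (hp : p ∈ V) (hp1 : p ≠ 1)
    (hq : q ∈ V) (hq1 : q ≠ 1) (hqp : q ≠ p) (H : ∀ a ∈ ww V cf p, ∀ b ∈ ww V cf q, cm a b ∈ E) :
    ∀ a ∈ ww V cf p, ∀ b ∈ ww V cf (p * q), cm a b ∈ E := by
  intro a ha b hb
  have hpq1 : p * q ≠ 1 := h.mul_ne_one hq (Ne.symm hqp)
  have hpq : p * q ∈ V := mul_mem hp hq
  have hne : p * q ≠ p := fun e => hq1 (by simpa using e)
  obtain ⟨b', hb', k, hk, rfl⟩ := h.ww_mod hp hp1 hpq hpq1 hne hb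
  have e : p * (p * q) = q := by rw [← mul_assoc, h.ln.sq p hp, one_mul]
  rw [e] at hb'
  rw [cm_mul_right]
  refine mul_mem (H a ha b' hb') ?_
  rcases h.cm_qq hp hp1 ha hk with e1 | e1
  · rw [e1]; simp
  · rw [e1, mem_centralizer_iff.mp (h.ww_le_cent hq hq1 hb') p hp |>.symm, mul_inv_cancel_right]
    exact hVE hp

/-- All the commutators `[W_p, W_q]` are the same modulo `V`. -/
theorem cm_all (h : Fam T V z cf) {E : Subgroup G} (hVE : V ≤ E) {p q : G} (hp : p ∈ V) (hp1 : p ≠ 1)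
    (hq : q ∈ V) (hq1 : q ≠ 1) (hqp : q ≠ p) (H : ∀ a ∈ ww V cf p, ∀ b ∈ ww V cf q, cm a b ∈ E)
    {p' q' : G} (hp' : p' ∈ V) (hp1' : p' ≠ 1) (hq' : q' ∈ V) (hq1' : q' ≠ 1) (hqp' : q' ≠ p') :
    ∀ a ∈ ww V cf p', ∀ b ∈ ww V cf q', cm a b ∈ E := by
  have hc : q * p = p * q := h.ln.comm hq hp
  have hsymm : ∀ {p q : G}, (∀ a ∈ ww V cf p, ∀ b ∈ ww V cf q, cm a b ∈ E) →
      ∀ a ∈ ww V cf q, ∀ b ∈ ww V cf p, cm a b ∈ E := by
    intro p q H a ha b hb
    rw [← cm_inv]
    exact inv_mem (H b hb a ha)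
  have H2 := h.cm_step hVE hp hp1 hq hq1 hqp H
  have H3 := h.cm_step hVE hq hq1 hp hp1 (Ne.symm hqp) (hsymm H)
  rw [hc] at H3
  rcases h.ln.four hp hq hp1 hq1 (Ne.symm hqp) hp' with e | e | e | e <;>
    rcases h.ln.four hp hq hp1 hq1 (Ne.symm hqp) hq' with e' | e' | e' | e' <;>
    first
      | exact absurd e hp1'
      | exact absurd e' hq1'
      | exact absurd (e'.trans e.symm) hqp'
      | (rw [e, e']; first
          | exact H
          | exact H2
          | exact H3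
          | exact hsymm H
          | exact hsymm H2
          | exact hsymm H3)

/-- `V ∪ e V` -/
def eg (V : Subgroup G) (e : G) (he : e * e = 1) (hc : ∀ v ∈ V, e * v = v * e) : Subgroup G where
  carrier := {u | u ∈ V ∨ e * u ∈ V}
  one_mem' := Or.inl (one_mem _)
  mul_mem' := by
    rintro u v (h1 | h1) (h2 | h2)
    · exact Or.inl (mul_mem h1 h2)
    · right
      have : e * (u * v) = u * (e * v) := by rw [← mul_assoc, hc u h1, mul_assoc]
      rw [this]
      exact mul_mem h1 h2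
    · right
      rw [← mul_assoc]
      exact mul_mem h1 h2
    · left
      have e1 : u * v = (e * u) * (e * v) := by
        have h3 : u = e * (e * u) := by rw [← mul_assoc, he, one_mul]
        calc u * v = e * (e * u) * v := by rw [← h3]
          _ = (e * u) * e * v := by rw [hc _ h1]
          _ = (e * u) * (e * v) := by rw [mul_assoc]
      rw [e1]
      exact mul_mem h1 h2
  inv_mem' := by
    rintro u (h1 | h1)
    · exact Or.inl (inv_mem h1)
    · right
      have h2 := hc _ (inv_mem h1)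
      have e1 : u⁻¹ = (e * u)⁻¹ * e := by group
      rw [e1, ← mul_assoc, h2, mul_assoc, he, mul_one]
      exact inv_mem h1

theorem mem_eg {V : Subgroup G} {e : G} {he : e * e = 1} {hc : ∀ v ∈ V, e * v = v * e} {u : G} :
    u ∈ eg V e he hc ↔ u ∈ V ∨ e * u ∈ V := Iff.rfl

section

variable (h : Fam T V z cf) (hk : One1 V cf) {y a w0 : G} (hy : y ∈ V) (hy1 : y ≠ 1) (hyz : y ≠ z)
  (ha : a ∈ ww V cf y) (haQ : a ∉ qq V cf z) (hw0 : w0 ∈ ww V cf z) (hw0V : cm w0 a ∉ V)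
include h hk hy hy1 hyz ha haQ hw0 hw0V

theorem pl_cases : ∀ w ∈ ww V cf z, cm w a ∈ V ∨ cm w0 a * cm w a ∈ V := by
  have hz := h.ln.z_mem
  have hz1 := h.ln.z_ne
  intro w hw
  have h0 : ∀ w ∈ qq V cf y, cm w a ∈ V := by
    intro w hwQ
    rcases h.cm_qq' hy hwQ ha with e | e <;> rw [e]
    · exact one_mem _
    · exact hy
  by_cases hwQ : w ∈ qq V cf y
  · exact Or.inl (h0 w hwQ)
  · right
    have hw0Q : w0 ∉ qq V cf y := fun e => hw0V (h0 w0 e)
    have h1 := h0 _ (hk z hz hz1 y hy hy1 hyz w hw w0 hw0 hwQ hw0Q)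
    have h2 : cm w0 a ∈ ww V cf z := (h.comm_mem hz hz1 hy hy1 hw0 ha).1
    rw [cm_mul_left, h.ab w hw _ h2, mul_inv_cancel_right] at h1
    exact h1

/-- some element of `W_z` has commutator `y` with `a` -/
theorem pl_one [Finite G] : ∃ w ∈ ww V cf z, cm w a = y := by
  have hz := h.ln.z_mem
  have hz1 := h.ln.z_ne
  by_contra hcon
  push Not at hcon
  have h0 : ∀ w ∈ ww V cf z, w ∈ qq V cf y → cm w a = 1 := by
    intro w hw hwQ
    rcases h.cm_qq' hy hwQ ha with e | e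
    · exact e
    · exact absurd e (hcon w hw)
  have hw0Q : w0 ∉ qq V cf y := fun e => hw0V (by rw [h0 w0 hw0 e]; exact one_mem _)
  have heW : cm w0 a ∈ ww V cf z := (h.comm_mem hz hz1 hy hy1 hw0 ha).1
  have hee := h.sqz _ heW
  have h1 : ∀ w ∈ ww V cf z, w ∉ qq V cf y → cm w a = cm w0 a := by
    intro w hw hwQ
    have h2 := h0 _ (mul_mem hw hw0) (hk z hz hz1 y hy hy1 hyz w hw w0 hw0 hwQ hw0Q)
    rw [cm_mul_left, h.ab w hw _ heW, mul_inv_cancel_right] at h2
    calc cm w a = cm w0 a * cm w0 a * cm w a := by rw [hee, one_mul]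
      _ = cm w0 a := by rw [mul_assoc, h2, mul_one]
  refine hw0V (h.fix (h.comm_mem_jj hz hz1 hy hy1 hyz hw0 ha) fun t ht htV => ?_)
  have htc := h.T_le_cf ht
  have hty := h.ge y hy hy1 ⟨h.ln.T_norm ht, h.cent_le_cs hy htV⟩
  have hty1 : t * y * t⁻¹ = y := by
    rw [(h.V_comm hy htV).symm]; group
  have hw' : t * w0 * t⁻¹ ∈ ww V cf z := conj_mem_of_normalizer h.cf_norm htc hw0
  have ha' : t * a * t⁻¹ ∈ ww V cf y := conj_mem_of_normalizer h.cf_norm hty ha
  have haQ' : t * a * t⁻¹ ∉ qq V cf z := by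
    intro e
    apply haQ
    have := conj_mem_of_normalizer (h.cf_norm_qq hz hz1) (inv_mem htc) e
    have e1 : t⁻¹ * (t * a * t⁻¹) * t⁻¹⁻¹ = a := by group
    rwa [e1] at this
  have hwQ' : t * w0 * t⁻¹ ∉ qq V cf y := by
    intro e
    apply hw0Q
    have := conj_mem_of_normalizer (h.cf_norm_qq hy hy1) (inv_mem hty) e
    have e1 : t⁻¹ * (t * w0 * t⁻¹) * t⁻¹⁻¹ = w0 := by group
    rwa [e1] at this
  have hq : t * a * t⁻¹ * a ∈ qq V cf z := hk y hy hy1 z hz hz1 (Ne.symm hyz) _ ha' a ha haQ' haQ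
  have haa : a * a = 1 := h.sq hy hy1 a ha
  change t * cm w0 a * t⁻¹ = cm w0 a ∨ t * cm w0 a * t⁻¹ = z * cm w0 a
  rw [conj_cm']
  have e2 : t * a * t⁻¹ = (t * a * t⁻¹ * a) * a := by rw [mul_assoc _ a a, haa, mul_one]
  rw [e2, cm_mul_right, h1 _ hw' hwQ']
  have e3 := h.qq_cases hz hq heW
  have hcz : cm w0 a * z = z * cm w0 a := h.ab _ heW z h.z_mem_ww
  rcases h.cm_qq hz hz1 hw' hq with e1 | e1 <;> rcases e3 with e3 | e3 <;> rw [e1, e3]
  · exact Or.inl (one_mul _)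
  · exact Or.inr (one_mul _)
  · exact Or.inr rfl
  · left
    rw [← mul_assoc, h.ln.zz, one_mul]

/-- The plane. -/
theorem exists_pl [Finite G] : ∃ E, PlaneCore.Pl V E (cf z) (qq V cf z) (ww V cf z) (ww V cf y) z y a := by
  have hz := h.ln.z_mem
  have hz1 := h.ln.z_ne
  have heW : cm w0 a ∈ ww V cf z := (h.comm_mem hz hz1 hy hy1 hw0 ha).1
  have hee := h.sqz _ heW
  have heV : ∀ v ∈ V, cm w0 a * v = v * cm w0 a := fun v hv => h.ab _ heW v (h.V_le hv)
  have hjj : cm w0 a ∈ jj V cf := h.comm_mem_jj hz hz1 hy hy1 hyz hw0 ha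
  set E := eg V (cm w0 a) hee heV with hE
  have memE : ∀ u, u ∈ E ↔ u ∈ V ∨ cm w0 a * u ∈ V := fun u => Iff.rfl
  have hVE : V ≤ E := fun v hv => Or.inl hv
  have hdec : ∀ u, u = cm w0 a * (cm w0 a * u) := fun u => by rw [← mul_assoc, hee, one_mul]
  have hEj : E ≤ jj V cf := by
    rintro u (hu | hu)
    · exact h.V_le_jj hu
    · rw [hdec u]
      exact mul_mem hjj (h.V_le_jj hu)
  have hEW : E ≤ ww V cf z := hEj.trans (jj_le hz hz1)
  have heE : cm w0 a ∈ E := by
    right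
    rw [hee]
    exact one_mem _
  have hcase := h.pl_cases hk hy hy1 hyz ha haQ hw0 hw0V
  obtain ⟨w1, hw1, hw1y⟩ := h.pl_one hk hy hy1 hyz ha haQ hw0 hw0V
  have haa : a * a = 1 := h.sq hy hy1 a ha
  have hk1 : ∀ g ∈ ww V cf y, g ∈ qq V cf z ∨ g * a ∈ qq V cf z := by
    intro g hg
    by_cases hgQ : g ∈ qq V cf z
    · exact Or.inl hgQ
    · exact Or.inr (hk y hy hy1 z hz hz1 (Ne.symm hyz) g hg a ha hgQ haQ)
  have hmul : ∀ w ∈ ww V cf z, ∀ w' ∈ ww V cf z, cm (w * w') a = cm w' a * cm w a := by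
    intro w hw w' hw'
    have h2 : cm w' a ∈ ww V cf z := (h.comm_mem hz hz1 hy hy1 hw' ha).1
    rw [cm_mul_left, h.ab w hw _ h2, mul_inv_cancel_right]
  have hcomE : ∀ w ∈ ww V cf z, ∀ g ∈ ww V cf y, cm w g ∈ E := by
    intro w hw g hg
    have haE : cm w a ∈ E := hcase w hw
    rcases hk1 g hg with h1 | h1
    · rcases h.cm_qq hz hz1 hw h1 with e | e <;> rw [e]
      · exact one_mem _
      · exact hVE hz
    · have e : g = (g * a) * a := by rw [mul_assoc, haa, mul_one]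
      rw [e, cm_mul_right]
      refine mul_mem ?_ ?_
      · rcases h.cm_qq hz hz1 hw h1 with e | e <;> rw [e]
        · exact one_mem _
        · exact hVE hz
      · rcases h.qq_cases hz h1 (hEW haE) with e | e <;> rw [e]
        · exact haE
        · exact mul_mem (hVE hz) haE
  have hNE : normalizer (V : Set G) ≤ normalizer (E : Set G) := by
    refine le_normalizer_of_forall fun g hg u hu => ?_
    rcases hu with hu | hu
    · exact Or.inl (h.conj_pt hg hu)
    · rw [hdec u]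
      have e1 : g * (cm w0 a * (cm w0 a * u)) * g⁻¹ =
          (g * cm w0 a * g⁻¹) * (g * (cm w0 a * u) * g⁻¹) := by group
      rw [e1]
      refine mul_mem ?_ (hVE (h.conj_pt hg hu))
      rw [conj_cm']
      have hne : g * y * g⁻¹ ≠ g * z * g⁻¹ := by
        intro e
        apply hyz
        have := congrArg (fun x => g⁻¹ * x * g) e
        simpa [mul_assoc] using this
      exact h.cm_all hVE hz hz1 hy hy1 hyz hcomE (h.conj_pt hg hz) (conj_ne hz1) (h.conj_pt hg hy)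
        (conj_ne hy1) hne _ (h.conj_ww hg hz hz1 hw0) _ (h.conj_ww hg hy hy1 ha)
  have hinQ : ∀ w ∈ ww V cf z, cm w a ∈ V → w ∈ qq V cf y := by
    intro w hw hwV
    by_contra hwQ
    have hw0Q : w0 ∉ qq V cf y := by
      intro e
      rcases h.cm_qq' hy e ha with e | e
      · exact hw0V (by rw [e]; exact one_mem _)
      · exact hw0V (by rw [e]; exact hy)
    have h1 := hk z hz hz1 y hy hy1 hyz w hw w0 hw0 hwQ hw0Q
    have h2 : cm (w * w0) a ∈ V := by
      rcases h.cm_qq' hy h1 ha with e | e <;> rw [e]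
      · exact one_mem _
      · exact hy
    rw [hmul w hw w0 hw0] at h2
    apply hw0V
    have := mul_mem h2 (inv_mem hwV)
    rwa [mul_inv_cancel_right] at this
  refine ⟨E, ?_⟩
  refine
    { memQ := ?_, Cz := fun c hc => h.cf_comm hz hz1 hc
      CW := fun c hc w hw => conj_mem_of_normalizer h.cf_norm hc hw
      ge := fun g hg hgz => h.ge z hz hz1 ⟨hg, mem_centralizer_singleton_iff.mpr hgz⟩
      ab := h.ab, sqW := h.sqz, zz := h.ln.zz, yy := h.ln.sq y hy, z1 := hz1, y1 := hy1, yz := hyz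
      zV := hz, yV := hy
      four := fun v hv => h.ln.four hz hy hz1 hy1 (Ne.symm hyz) hv
      VE := hVE, EW := hEW, sqE := fun u hu => h.sqz u (hEW hu), idx := ?_
      neE := ⟨cm w0 a, heE, hw0V⟩, NE := hNE, tr := h.ln.trans, sw := ?_, trE := ?_, WYdef := ?_
      aW := ha, aa := haa, aQ := haQ, comE := hcomE, k1 := hk1, onto := ?_, inj := ?_, one := ?_ }
  · intro c
    constructor
    · intro hc
      refine ⟨hc.1, fun w hw => ?_⟩
      rcases h.qq_cases hz hc hw with e | e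
      · exact Or.inl (cm_eq_one.mpr (comm_of_conj_eq e))
      · right
        unfold cm
        rw [e, mul_assoc, mul_inv_cancel, mul_one]
    · rintro ⟨hc, hc1⟩
      refine h.mem_qq_of hz hz1 hc fun w hw => ?_
      have e0 : c * w * c⁻¹ = cm c w * w := by unfold cm; group
      rcases hc1 w hw with e | e
      · left; rw [e0, e, one_mul]
      · right; rw [e0, e]
  · intro u hu v hv huV hvV
    have hu' : cm w0 a * u ∈ V := hu.resolve_left huV
    have hv' : cm w0 a * v ∈ V := hv.resolve_left hvV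
    have e1 : u * v = (cm w0 a * u) * (cm w0 a * v) := by
      have huW := hEW hu
      have h4 : cm w0 a * u = u * cm w0 a := h.ab _ heW u huW
      rw [h4, mul_assoc, ← mul_assoc (cm w0 a) (cm w0 a) v, hee, one_mul]
    rw [e1]
    exact mul_mem hu' hv'
  · obtain ⟨k, hk', hk1'⟩ := h.exists_mover hz hz1
    exact ⟨k, hk', h.qq_le_normalizer hz hk', h.move hz hz1 hy hy1 hyz hk' hk1'⟩
  · intro u hu huV v hv
    have hcc : ∀ w ∈ E, w ∈ V ∨ w * u⁻¹ ∈ V := by
      intro w hw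
      by_cases hwV : w ∈ V
      · exact Or.inl hwV
      · right
        have hw' : cm w0 a * w ∈ V := hw.resolve_left hwV
        have hu' : cm w0 a * u ∈ V := hu.resolve_left huV
        have e1 : w * u⁻¹ = (cm w0 a * w) * (cm w0 a * u)⁻¹ := by
          have h4 : cm w0 a * w = w * cm w0 a := h.ab _ heW w (hEW hw)
          have h5 : cm w0 a * u = u * cm w0 a := h.ab _ heW u (hEW hu)
          rw [h4, h5]
          group
        rw [e1]
        exact mul_mem hw' (inv_mem hu')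
    obtain ⟨c, hc, e⟩ := h.four_of hEj hNE hu huV hcc hv
    refine ⟨c, fun x hx => (h.V_comm hx hc).symm, ?_⟩
    rw [e]
    exact h.ab v (h.V_le hv) u (hEW hu)
  · intro g hg hgz
    rw [h.cj_ww hg hz hz1, hgz]
  · intro u hu
    rcases hu with hu | hu
    · rcases h.ln.four hz hy hz1 hy1 (Ne.symm hyz) hu with e | e | e | e
      · exact ⟨1, one_mem _, Or.inl (by rw [e]; unfold cm; group)⟩
      · refine ⟨1, one_mem _, Or.inr ?_⟩
        rw [e, h.ln.zz]; unfold cm; group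
      · exact ⟨w1, hw1, Or.inl (by rw [hw1y, e])⟩
      · refine ⟨w1, hw1, Or.inr ?_⟩
        rw [hw1y, e, h.ln.comm hz hy, mul_assoc, h.ln.zz, mul_one]
    · have hcy : y * cm w0 a = cm w0 a * y := (heV y hy).symm
      rcases h.ln.four hz hy hz1 hy1 (Ne.symm hyz) hu with e | e | e | e
      · refine ⟨w0, hw0, Or.inl ?_⟩
        rw [hdec u, e, mul_one]
      · refine ⟨w0, hw0, Or.inr ?_⟩
        rw [hdec u, e, mul_assoc, h.ln.zz, mul_one]
      · refine ⟨w1 * w0, mul_mem hw1 hw0, Or.inl ?_⟩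
        rw [hmul w1 hw1 w0 hw0, hw1y, hdec u, e]
      · refine ⟨w1 * w0, mul_mem hw1 hw0, Or.inr ?_⟩
        rw [hmul w1 hw1 w0 hw0, hw1y, hdec u, e, h.ln.comm hz hy, mul_assoc, mul_assoc, h.ln.zz, mul_one]
  · intro w hw hwa g hg
    have hwV : cm w a ∈ V := by
      rcases hwa with e | e <;> rw [e]
      · exact one_mem _
      · exact hz
    have hwQ := hinQ w hw hwV
    have hwa1 : cm w a = 1 := by
      rcases h.cm_qq' hy hwQ ha with e | e
      · exact e
      · exfalso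
        rcases hwa with e' | e'
        · exact hy1 (e.symm.trans e')
        · exact hyz (e.symm.trans e')
    apply cm_eq_one.mp
    rcases h.cm_qq' hy hwQ hg with e | e
    · exact e
    · exfalso
      rcases hk1 g hg with h1 | h1
      · rcases h.cm_qq hz hz1 hw h1 with e' | e'
        · exact hy1 (e.symm.trans e')
        · exact hyz (e.symm.trans e')
      · have e2 : cm w (g * a) = y := by rw [cm_mul_right, hwa1, e]; group
        rcases h.cm_qq hz hz1 hw h1 with e' | e'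
        · exact hy1 (e2.symm.trans e')
        · exact hyz (e2.symm.trans e')
  · have h1 : w1 ∈ qq V cf y := hinQ w1 hw1 (by rw [hw1y]; exact hy)
    exact ⟨w1, hw1, fun g hg => h.cm_qq' hy h1 hg, a, ha, hw1y⟩

end

/-- **LEMMA PLANE.** -/
theorem plane [Finite G] {M H : Type u} [AddCommGroup M] [Group H] [DistribMulAction H M]
    (h : Fam T V z cf) (hk : One1 V cf) (R : MRep V cf z M H) {y : G} (hy : y ∈ V) (hy1 : y ≠ 1)
    (hyz : y ≠ z) {a : G} (ha : a ∈ ww V cf y) (haQ : a ∉ qq V cf z)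
    (h4 : ∃ m : M, R.phi a • m - m ≠ 0 ∧ R.phi a • m - m ≠ R.pi y) {f : G} (hf : f ∈ cf z)
    (hfa : R.phi f * R.phi a = R.phi a * R.phi f) : R.phi f • R.pi y = R.pi y := by
  have hz := h.ln.z_mem
  have hz1 := h.ln.z_ne
  have hac : a ∈ cf z := h.ww_le_cf' hy hy1 hz hz1 ha
  have haa : a * a = 1 := h.sq hy hy1 a ha
  -- `w0`
  obtain ⟨m, hm0, hmy⟩ := h4
  obtain ⟨w0, hw0, rfl⟩ := R.pi_surj m
  rw [R.comm_eq h hac hw0] at hm0 hmy
  have hw0V : cm w0 a ∉ V := by
    intro hV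
    rw [← cm_inv, inv_mem_iff] at hV
    change R.pi (cm a w0) ≠ 0 at hm0
    change R.pi (cm a w0) ≠ R.pi y at hmy
    rcases h.ln.four hz hy hz1 hy1 (Ne.symm hyz) hV with e | e | e | e
    · exact hm0 (by rw [e, R.pi_one h])
    · exact hm0 (by rw [e, R.pi_z h])
    · exact hmy (by rw [e])
    · exact hmy (by rw [e, R.pi_mul z h.z_mem_ww y (h.V_le hy), R.pi_z h, zero_add])
  obtain ⟨E, hE⟩ := h.exists_pl hk hy hy1 hyz ha haQ hw0 hw0V
  by_contra hcon
  rw [R.smul_v0_iff h hy hy1 hyz hf] at hcon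
  have hfaQ : f * a * f⁻¹ * a⁻¹ ∈ qq V cf z := by
    rw [← R.phi_mul f hf a hac, ← R.phi_mul a hac f hf, R.phi_eq (mul_mem hf hac) (mul_mem hac hf)] at hfa
    have e : f * a * (a * f)⁻¹ = f * a * f⁻¹ * a⁻¹ := by group
    rwa [e] at hfa
  have hM : PlaneCore.Mov V E (cf z) (qq V cf z) (ww V cf z) (ww V cf y) z y a f :=
    { hE with fC := hf, fa := hfaQ, fV := hcon }
  have hfin : Finite H := Finite.of_surjective R.hom (R.hom_surj (T := T) h)
  -- an inverted element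
  have hα : R.phi a * R.phi a = 1 := R.sq_A h hy hy1 ha
  have hO : R.phi a ∉ pCore 2 H := by
    intro hO
    apply haQ
    have hle : R.pre (pCore 2 H) ≤ qq V cf z := by
      refine h.o2h (R.pre_le _) ?_ ?_
      · refine le_normalizer_of_forall fun c hc n hn => ?_
        obtain ⟨hn1, hn2⟩ := R.mem_pre.mp hn
        refine R.mem_pre.mpr ⟨mul_mem (mul_mem hc hn1) (inv_mem hc), ?_⟩
        rw [R.phi_mul _ (mul_mem hc hn1) _ (inv_mem hc), R.phi_mul c hc n hn1, R.phi_inv hc]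
        exact (pCore_normal 2 H).conj_mem _ hn2 _
      · intro n hn
        obtain ⟨hn1, hn2⟩ := R.mem_pre.mp hn
        have hfact : Fact (Nat.Prime 2) := ⟨Nat.prime_two⟩
        obtain ⟨k, hk⟩ := Lib.HallHigman.pCore_isPGroup (G := H) 2 ⟨_, hn2⟩
        refine ⟨k, ?_⟩
        rw [← R.phi_ker _ (pow_mem hn1 _)]
        have h1 : R.phi (n ^ 2 ^ k) = R.phi n ^ 2 ^ k := map_pow R.hom ⟨n, hn1⟩ _
        rw [h1]
        exact congrArg Subtype.val hk
    exact hle (R.mem_pre.mpr ⟨hac, hO⟩)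
  obtain ⟨s, hs1, hsi, n, hn, hsn⟩ := exists_inverted_of_notMem hα hO
  obtain ⟨s, hs, rfl⟩ := R.phi_surj s
  refine hM.false_of_inverted hs (fun e => hs1 ((R.phi_ker s hs).mpr e)) ?_ hn ?_
  · have h1 : a * s * a⁻¹ * s ∈ cf z := mul_mem (mul_mem (mul_mem hac hs) (inv_mem hac)) hs
    rw [← R.phi_ker _ h1, R.phi_mul _ (mul_mem (mul_mem hac hs) (inv_mem hac)) s hs,
      R.phi_mul _ (mul_mem hac hs) _ (inv_mem hac), R.phi_mul a hac s hs, R.phi_inv hac, hsi,
      inv_mul_cancel]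
  · rw [← R.phi_ker _ (pow_mem hs _)]
    have h1 : R.phi (s ^ n) = R.phi s ^ n := map_pow R.hom ⟨s, hs⟩ _
    rw [h1, hsn]

end Fam

end Cfsg.Agent.Omega.NO3S.Fit
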