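import Cfsg.Agent.Omega.NO3S.Fit.AbsNat
import Cfsg.Agent.GTwoFour.Tools

/-!
# Text #13963, section 3 with `A = ⟨a⟩`: the context and the case `|[M,a]| = 2` (M12)

`Ctx v0 a T` : `H` faithful on `M`, `M` generated by the orbit of `v0`, `a` an involution of `H_0 = Stab(v0)` centralised
by `H_0`, `T ≤ H_0` a Sylow 2-subgroup of `H`, LEMMA FIX, `|[M,a]| ≤ 4` and LEMMA PLANE (`pl`).
-/

set_option autoImplicit false
set_option linter.unusedSectionVars false

open scoped Pointwise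

namespace Cfsg.Agent.Omega.NO3S.Fit.Abs

variable {H M : Type*} [Group H] [AddCommGroup M] [DistribMulAction H M]

/-- the context of section 3, `A = ⟨a⟩` -/
structure Ctx (v0 : M) (a : H) (T : Subgroup H) : Prop where
  two : ∀ m : M, m + m = 0
  ne : v0 ≠ 0
  span : AddSubgroup.closure (Set.range fun h : H => h • v0) = ⊤
  sq : a * a = 1
  a1 : a ≠ 1
  fix : a • v0 = v0
  cen : ∀ h : H, h • v0 = v0 → h * a = a * h
  T2 : IsPGroup 2 T
  Ti : ¬ 2 ∣ T.index
  T0 : ∀ t ∈ T, t • v0 = v0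
  FIX : ∀ m ∈ br M a, m ≠ 0 → (∀ t ∈ T, t • m = m) → m = v0
  le4 : Nat.card (br M a) ≤ 4
  pl : Nat.card (br M a) = 4 → ∀ f : H, f * a = a * f → f • v0 = v0

/-- the span of the `K`-orbit of `v` -/
def sp (K : Subgroup H) (v : M) : AddSubgroup M := AddSubgroup.closure {m | ∃ k ∈ K, k • v = m}

theorem mem_sp {K : Subgroup H} {v : M} {k : H} (hk : k ∈ K) : k • v ∈ sp K v :=
  AddSubgroup.subset_closure ⟨k, hk, rfl⟩

theorem sp_le {K : Subgroup H} {v : M} {N : AddSubgroup M} (h : ∀ k ∈ K, k • v ∈ N) :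
    sp K v ≤ N := by
  rw [sp, AddSubgroup.closure_le]
  rintro _ ⟨k, hk, rfl⟩
  exact h k hk

theorem smul_mem_sp {K : Subgroup H} {v : M} {k : H} (hk : k ∈ K) {m : M} (hm : m ∈ sp K v) :
    k • m ∈ sp K v := by
  have h : sp K v ≤ (sp K v).comap (DistribSMul.toAddMonoidHom M k) := by
    refine sp_le fun l hl => ?_
    change k • l • v ∈ sp K v
    rw [← mul_smul]
    exact mem_sp (mul_mem hk hl)
  exact h hm

namespace Ctx

variable {v0 : M} {a : H} {T : Subgroup H}

theorem inv_a (c : Ctx v0 a T) : a⁻¹ = a := inv_eq_of_mul_eq_one_right c.sq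

theorem fix_br (c : Ctx v0 a T) {m : M} (hm : m ∈ br M a) : a • m = m := by
  obtain ⟨n, rfl⟩ := hm
  rw [smul_sub, ← mul_smul, c.sq, one_smul, sub_eq c.two, sub_eq c.two, add_comm]

theorem smul_br_of_stab (c : Ctx v0 a T) {h : H} (hh : h • v0 = v0) {m : M} (hm : m ∈ br M a) :
    h • m ∈ br M a := smul_mem_br_of_comm (c.cen h hh) hm

theorem stab_inv {h : H} (hh : h • v0 = v0) : h⁻¹ • v0 = v0 := by
  rw [inv_smul_eq_iff, hh]

theorem stab_mul {h k : H} (hh : h • v0 = v0) (hk : k • v0 = v0) : (h * k) • v0 = v0 := by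
  rw [mul_smul, hk, hh]

theorem exists_inverted (c : Ctx v0 a T) {F : Subgroup H} [F.Normal] (hF : ∃ f ∈ F, f * a ≠ a * f) :
    ∃ x ∈ F, x ≠ 1 ∧ a * x * a⁻¹ = x⁻¹ := by
  obtain ⟨f, hf, hne⟩ := hF
  have hFn : F.Normal := inferInstance
  refine ⟨f * (a * f⁻¹ * a⁻¹), mul_mem hf (hFn.conj_mem _ (inv_mem hf) a), ?_, ?_⟩
  · intro h
    apply hne
    have h1 : f * a * f⁻¹ * a⁻¹ = 1 := by rw [← h]; group
    have := mul_inv_eq_one.mp h1
    exact mul_inv_eq_iff_eq_mul.mp this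
  · have h2 : a * (f * (a * f⁻¹ * a⁻¹)) * a⁻¹ = a * f * a * f⁻¹ * (a⁻¹ * a⁻¹) := by group
    have h3 : (f * (a * f⁻¹ * a⁻¹))⁻¹ = a * f * a⁻¹ * f⁻¹ := by group
    rw [h2, h3, c.inv_a, c.sq, mul_one]

variable [Finite H] [Finite M] [FaithfulSMul H M]

theorem v0_mem (c : Ctx v0 a T) : v0 ∈ br M a := by
  obtain ⟨m, hm, hm0, hmT⟩ := exists_fixed c.two c.T2 (N := br M a)
    (fun t ht m hm => c.smul_br_of_stab (c.T0 t ht) hm) (ne_zero_of_br c.a1)
  rw [← c.FIX m hm hm0 hmT]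
  exact hm

theorem card_two_or_four {N : AddSubgroup M} (two : ∀ m : M, m + m = 0) (h0 : N ≠ ⊥)
    (h4 : Nat.card N ≤ 4) : Nat.card N = 2 ∨ Nat.card N = 4 := by
  obtain ⟨k, hk⟩ := exists_card_two_pow two N
  have h1 : k ≠ 0 := by
    rintro rfl
    exact h0 (AddSubgroup.card_eq_one.mp (by simpa using hk))
  have h2 : k ≤ 2 := by
    by_contra hcon
    push Not at hcon
    have : 2 ^ 3 ≤ 2 ^ k := Nat.pow_le_pow_right (by decide) hcon
    omega
  rw [hk]
  interval_cases k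
  · exact absurd rfl h1
  · simp
  · right; norm_num

theorem card_cases (c : Ctx v0 a T) : Nat.card (br M a) = 2 ∨ Nat.card (br M a) = 4 :=
  card_two_or_four c.two (ne_zero_of_br c.a1) c.le4

theorem cx_le (c : Ctx v0 a T) {x : H} (hx : Odd (orderOf x)) (hi : a * x * a⁻¹ = x⁻¹) :
    cx M a x ≤ br M a := by
  intro m hm
  obtain ⟨d, -, rfl⟩ := cx_le_br c.two c.sq hx hi hm
  exact sub_mem_br a d

theorem cx_ne_bot (c : Ctx v0 a T) {x : H} (hx : Odd (orderOf x)) (hi : a * x * a⁻¹ = x⁻¹)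
    (hx1 : x ≠ 1) : cx M a x ≠ ⊥ := by
  intro h
  have h1 := (card_br_eq (M := M) c.two c.sq hx hi).1
  rw [h] at h1
  simp only [AddSubgroup.card_bot, mul_one] at h1
  exact ne_zero_of_br hx1 (AddSubgroup.card_eq_one.mp h1)

/-- an inverted element has `|[M,x]| = 4` or `16`; in the second case `[M,a] = C_{[M,x]}(a)` -/
theorem inv_cases (c : Ctx v0 a T) {x : H} (hx : Odd (orderOf x)) (hi : a * x * a⁻¹ = x⁻¹)
    (hx1 : x ≠ 1) : (Nat.card (cx M a x) = 2 ∧ Nat.card (br M x) = 4) ∨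
      (Nat.card (cx M a x) = 4 ∧ Nat.card (br M x) = 16 ∧ Nat.card (br M a) = 4 ∧
        cx M a x = br M a) := by
  have h1 := (card_br_eq (M := M) c.two c.sq hx hi).1
  have hle := c.cx_le hx hi
  have hle4 : Nat.card (cx M a x) ≤ 4 := (AddSubgroup.card_le_of_le hle).trans c.le4
  rcases card_two_or_four c.two (c.cx_ne_bot hx hi hx1) hle4 with h | h
  · left
    exact ⟨h, by rw [h1, h]⟩
  · right
    refine ⟨h, by rw [h1, h], ?_, ?_⟩
    · have := AddSubgroup.card_le_of_le hle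
      have := c.le4
      omega
    · exact AddSubgroup.eq_of_le_of_card_ge hle (by rw [h]; exact c.le4)

/-- `a` is trivial on `C_M(x)` as soon as `[M,a] ≤ [M,x]` -/
theorem triv_fx (c : Ctx v0 a T) {x : H} (hx : Odd (orderOf x)) (hi : a * x * a⁻¹ = x⁻¹)
    (hle : br M a ≤ br M x) {m : M} (hm : m ∈ fx M x) : a • m = m := by
  have h1 : a • m - m ∈ fx M x := sub_mem (smul_mem_fx_of_inv hi hm) hm
  exact sub_eq_zero.mp (br_inf_fx c.two hx (hle (sub_mem_br a m)) h1)

/-! ### (M12) -/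

/-- the output (M12) -/
structure M12 (v0 : M) (a d : H) : Prop where
  cube : d ^ 3 = 1
  inv : a * d * a⁻¹ = d⁻¹
  ne : d • v0 ≠ v0
  sum : v0 + d • v0 + d ^ 2 • v0 = 0
  card : Nat.card (br M d) = 4
  mem : v0 ∈ br M d
  nor : ∀ h : H, h • v0 = v0 → h * d * h⁻¹ = d ∨ h * d * h⁻¹ = d⁻¹
  hyp : ∀ N : AddSubgroup M, N.index = 2 → v0 ∈ N →
    (∀ h : H, h • v0 = v0 → ∀ m ∈ N, h • m ∈ N) → N = fx M a

theorem odd_conj {x : H} (hx : Odd (orderOf x)) (h : H) : Odd (orderOf (h * x * h⁻¹)) := by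
  have : orderOf (h * x * h⁻¹) = orderOf x := by
    have e : h * x * h⁻¹ = MulAut.conj h x := rfl
    rw [e]
    exact MulEquiv.orderOf_eq (MulAut.conj h) x
  rwa [this]

/-- **(M12)** -/
theorem m12 (c : Ctx v0 a T) {p : ℕ} (hp : p.Prime) (hp2 : p ≠ 2) {F : Subgroup H} [hFn : F.Normal]
    (hF : IsPGroup p F) (hFa : ∃ f ∈ F, f * a ≠ a * f) (h2 : Nat.card (br M a) = 2) :
    ∃ d ∈ F, M12 v0 a d := by
  obtain ⟨x, hxF, hx1, hi⟩ := c.exists_inverted hFa
  have hx := odd_orderOf_of_isPGroup hp hp2 hF hxF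
  have hcx : Nat.card (cx M a x) = 2 ∧ Nat.card (br M x) = 4 := by
    rcases c.inv_cases hx hi hx1 with h | h
    · exact h
    · omega
  have hn := hcx.2
  have hcxe : cx M a x = br M a :=
    AddSubgroup.eq_of_le_of_card_ge (c.cx_le hx hi) (by rw [hcx.1, h2])
  have hle : br M a ≤ br M x := hcxe ▸ (inf_le_left : cx M a x ≤ br M x)
  have hv : v0 ∈ br M x := hle c.v0_mem
  have hne : x • v0 ≠ v0 := fun h => c.ne (br_inf_fx c.two hx hv h)
  refine ⟨x, hxF, nat_cube c.two hx hn, hi, hne, nat_sum c.two hx hn hv, hn, hv, ?_, ?_⟩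
  · intro h hh
    have h1 : v0 ∈ br M (h * x * h⁻¹) := by
      have := smul_mem_br_conj h hv
      rwa [hh] at this
    exact (nat_same c.two hp hp2 hF hxF (hFn.conj_mem x hxF h) hn (nat_conj hn h) hv h1 c.ne).2
  · intro N hN hvN hNi
    let S : AddSubgroup M :=
      AddSubgroup.closure ({v0} ∪ {m | ∃ h : H, h • v0 = m ∧ m ∉ br M x})
    have hvS : v0 ∈ S := AddSubgroup.subset_closure (Or.inl rfl)
    have hbl : ∀ h : H, h • v0 ∉ br M x → br M (h * x * h⁻¹) ≤ fx M x ∧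
        br M x ≤ fx M (h * x * h⁻¹) := by
      intro h hh
      have hF' := hFn.conj_mem x hxF h
      have hn' := nat_conj (M := M) hn h
      have hmem := smul_mem_br_conj h hv
      have hne' : br M x ≠ br M (h * x * h⁻¹) := fun e => hh (e ▸ hmem)
      exact ⟨nat_indep c.two hp hp2 hF hxF hF' hn hn' hne',
        nat_indep c.two hp hp2 hF hF' hxF hn' hn hne'.symm⟩
    have hSN : S ≤ N := by
      refine (AddSubgroup.closure_le _).mpr ?_
      rintro m (rfl | ⟨h, rfl, hh⟩)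
      · exact hvN
      · obtain ⟨h1, h2⟩ := hbl h hh
        have h3 : (h * x * h⁻¹) • v0 = v0 := h2 hv
        have h4 : br M (h * x * h⁻¹) ≤ N := by
          rintro _ ⟨n, rfl⟩
          rw [sub_eq c.two, AddSubgroup.add_mem_iff_of_index_two hN]
          constructor
          · intro h5
            have := hNi _ (stab_inv h3) _ h5
            rwa [inv_smul_smul] at this
          · intro h5
            exact hNi _ h3 _ h5
        exact h4 (smul_mem_br_conj h hv)
    have hSa : S ≤ fx M a := by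
      refine (AddSubgroup.closure_le _).mpr ?_
      rintro m (rfl | ⟨h, rfl, hh⟩)
      · exact c.fix
      · exact c.triv_fx hx hi hle ((hbl h hh).1 (smul_mem_br_conj h hv))
    have htop : S ⊔ AddSubgroup.zmultiples (x • v0) = ⊤ := by
      rw [eq_top_iff, ← c.span, AddSubgroup.closure_le]
      rintro _ ⟨h, rfl⟩
      change h • v0 ∈ S ⊔ AddSubgroup.zmultiples (x • v0)
      by_cases hh : h • v0 ∈ br M x
      · have hxv : x • v0 ∈ S ⊔ AddSubgroup.zmultiples (x • v0) :=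
          AddSubgroup.mem_sup_right (AddSubgroup.mem_zmultiples _)
        have hv0 : v0 ∈ S ⊔ AddSubgroup.zmultiples (x • v0) := AddSubgroup.mem_sup_left hvS
        rcases nat_cases c.two hx hn hv c.ne hh with e | e | e | e
        · rw [e]; exact zero_mem _
        · rw [e]; exact hv0
        · rw [e]; exact hxv
        · rw [e, pow_two, mul_smul, nat_sq c.two hx hn hv]
          exact add_mem hv0 hxv
      · exact AddSubgroup.mem_sup_left (AddSubgroup.subset_closure (Or.inr ⟨h, rfl, hh⟩))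
    have hmax : ∀ N' : AddSubgroup M, S ≤ N' → N' ≠ ⊤ → N' = S := by
      intro N' hSN' hN'
      refine le_antisymm (fun m hm => ?_) hSN'
      have hm' : m ∈ S ⊔ AddSubgroup.zmultiples (x • v0) := by rw [htop]; trivial
      obtain ⟨s, hs, z, hz, rfl⟩ := AddSubgroup.mem_sup.mp hm'
      obtain ⟨k, rfl⟩ := AddSubgroup.mem_zmultiples_iff.mp hz
      rcases Int.even_or_odd k with ⟨j, rfl⟩ | ⟨j, rfl⟩
      · rw [← two_mul, mul_comm, mul_smul, two_zsmul, c.two, smul_zero, add_zero]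
        exact hs
      · exfalso
        rw [add_smul, one_smul, mul_comm, mul_smul, two_zsmul, c.two, smul_zero, zero_add] at hm
        have h5 : x • v0 ∈ N' := by
          have := sub_mem hm (hSN' hs)
          rwa [add_sub_cancel_left] at this
        apply hN'
        rw [eq_top_iff, ← htop]
        refine sup_le hSN' ?_
        rw [AddSubgroup.zmultiples_le]
        exact h5
    have hNt : N ≠ ⊤ := by
      rintro rfl
      rw [AddSubgroup.index_top] at hN
      omega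
    have hat : fx M a ≠ ⊤ := by
      intro h
      apply c.a1
      refine FaithfulSMul.eq_of_smul_eq_smul (α := M) fun m => ?_
      have : m ∈ fx M a := h ▸ AddSubgroup.mem_top m
      rw [one_smul]
      exact this
    rw [hmax N hSN hNt, hmax _ hSa hat]

end Ctx

end Cfsg.Agent.Omega.NO3S.Fit.Abs
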