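import Cfsg.Agent.Omega.NO3S.Fit.AbsTwo

/-!
# Text #13963, (3.5): the case `[F,a] = ⟨x⟩ ≤ Z(F)` of order 3 or 5, `|[M,x]| = 16`

* `Cyc.no_move` (contains (3.6)): `h • v0 ∈ [M,a]` ==> `h • v0 = v0`;
* `Cyc.t5`: the output (T5).
-/

set_option autoImplicit false
set_option linter.unusedSectionVars false

open scoped Pointwise

namespace Cfsg.Agent.Omega.NO3S.Fit.Abs

variable {H M : Type*} [Group H] [AddCommGroup M] [DistribMulAction H M]

theorem exists_sqrt {y : H} (hy : Odd (orderOf y)) : ∃ s ∈ Subgroup.zpowers y, s * s = y := by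
  obtain ⟨k, hk⟩ := hy
  refine ⟨y ^ (k + 1), Subgroup.npow_mem_zpowers y (k + 1), ?_⟩
  rw [← pow_add, show k + 1 + (k + 1) = (2 * k + 1) + 1 by ring, pow_succ, ← hk,
    pow_orderOf_eq_one, one_mul]

theorem inv_of_mem_zpowers {a x s : H} (hi : a * x * a⁻¹ = x⁻¹) (hs : s ∈ Subgroup.zpowers x) :
    a * s * a⁻¹ = s⁻¹ := by
  obtain ⟨i, rfl⟩ := hs
  change a * x ^ i * a⁻¹ = (x ^ i)⁻¹
  rw [← conj_zpow, hi, inv_zpow]

theorem br_le_of_mem_zpowers {x s : H} (hs : s ∈ Subgroup.zpowers x) : br M s ≤ br M x := by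
  obtain ⟨i, rfl⟩ := hs
  exact br_zpow_le x i

theorem smul_eq_of_mem_zpowers {x s : H} {m : M} (hs : s ∈ Subgroup.zpowers x)
    (h : x • m = m) : s • m = m := by
  have h1 : x ∈ MulAction.stabilizer H m := h
  exact (Subgroup.zpowers_le.mpr h1) hs

theorem comm_of_mem_zpowers {x y s : H} (hs : s ∈ Subgroup.zpowers x) (h : y * x = x * y) :
    y * s = s * y := by
  obtain ⟨i, rfl⟩ := hs
  exact ((show Commute y x from h).zpow_right i).eq

namespace Cyc

variable {v0 : M} {a : H} {T : Subgroup H} {F : Subgroup H} {x : H}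

theorem odd (K : Cyc M a F x) : Odd (orderOf x) := by
  rcases K.ord with h | h <;> rw [h] <;> decide

theorem ne_one (K : Cyc M a F x) : x ≠ 1 := by
  intro h
  rcases K.ord with h' | h' <;> rw [h, orderOf_one] at h' <;> omega

theorem br_le (K : Cyc M a F x) : br M a ≤ br M x := K.cxe ▸ (inf_le_left : cx M a x ≤ br M x)

theorem prime (K : Cyc M a F x) : (orderOf x).Prime := by
  rcases K.ord with h | h <;> rw [h] <;> norm_num

/-- a nontrivial element of `⟨x⟩` generates it -/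
theorem mem_zpowers_of (K : Cyc M a F x) {s : H} (hs : s ∈ Subgroup.zpowers x) (hs1 : s ≠ 1) :
    x ∈ Subgroup.zpowers s := by
  have : Fact (orderOf x).Prime := ⟨K.prime⟩
  have h1 : Nat.card (Subgroup.zpowers x) = orderOf x := Nat.card_zpowers x
  have h2 : Subgroup.zpowers s ≤ Subgroup.zpowers x := Subgroup.zpowers_le.mpr hs
  have hfin : Finite (Subgroup.zpowers x) :=
    Nat.finite_of_card_ne_zero (by rw [h1]; exact K.prime.ne_zero)
  have h3 : Nat.card (Subgroup.zpowers s) ∣ orderOf x := by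
    rw [← h1]
    exact Subgroup.card_dvd_of_le h2
  have h4 : Nat.card (Subgroup.zpowers s) = orderOf x := by
    rcases (Nat.dvd_prime K.prime).mp h3 with h | h
    · exfalso
      apply hs1
      have := Subgroup.card_eq_one.mp h
      exact Subgroup.zpowers_eq_bot.mp this
    · exact h
  have h5 : Subgroup.zpowers s = Subgroup.zpowers x :=
    Subgroup.eq_of_le_of_card_ge h2 (by rw [h1, h4])
  rw [h5]
  exact Subgroup.mem_zpowers x

variable [Finite H] [Finite M] [FaithfulSMul H M]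

/-- `F` acts on `D = [M,x]` as `⟨x⟩` -/
theorem act (K : Cyc M a F x) (c : Ctx v0 a T) (h4 : Nat.card (br M a) = 4)
    (hodd : ∀ f ∈ F, Odd (orderOf f)) {f : H} (hf : f ∈ F) :
    ∃ s ∈ Subgroup.zpowers x, ∀ m ∈ br M x, f • m = s • m := by
  have h1 : f * a * f⁻¹ * a⁻¹ ∈ Subgroup.zpowers x := by
    rw [← K.FA]
    exact Subgroup.subset_closure ⟨f, hf, a, Subgroup.mem_zpowers a, rfl⟩
  have h1F : f * a * f⁻¹ * a⁻¹ ∈ F := (Subgroup.zpowers_le.mpr K.mem) h1
  obtain ⟨s, hs, hss⟩ := exists_sqrt (hodd _ h1F)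
  have hsx : s ∈ Subgroup.zpowers x := (Subgroup.zpowers_le.mpr h1) hs
  have hsF : s ∈ F := (Subgroup.zpowers_le.mpr K.mem) hsx
  have hsi := inv_of_mem_zpowers K.inv hsx
  have hga : s⁻¹ * f * a = a * (s⁻¹ * f) := by
    have e1 : s⁻¹ * f * a = s⁻¹ * (f * a * f⁻¹ * a⁻¹) * a * f := by group
    have e2 : a * s⁻¹ * a⁻¹ = s := inv_symm hsi
    rw [e1, ← hss]
    have e3 : s⁻¹ * (s * s) * a * f = s * a * f := by group
    rw [e3]
    nth_rewrite 1 [← e2]
    group
  have hsxc : x * s = s * x := comm_of_mem_zpowers hsx rfl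
  have hgx : s⁻¹ * f * x = x * (s⁻¹ * f) := by
    have h2 : Commute f x := K.cen f hf
    have h3 : Commute s x := hsxc.symm
    exact (h3.inv_left.mul_left h2).eq
  refine ⟨s, hsx, fun m hm => ?_⟩
  have h5 := c.odd_triv_D h4 K.odd K.inv K.cxe (hodd _ (mul_mem (inv_mem hsF) hf)) hga hgx hm
  rw [mul_smul, inv_smul_eq_iff] at h5
  exact h5

/-- blocks `[M,x]`, `h [M,x]` with nonzero intersection are equal -/
theorem conj_mem (K : Cyc M a F x) [hFn : F.Normal] (c : Ctx v0 a T) (h4 : Nat.card (br M a) = 4)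
    (hodd : ∀ f ∈ F, Odd (orderOf f)) {h : H} {u : M} (hu0 : u ≠ 0) (hu : u ∈ br M x)
    (hu' : u ∈ br M (h * x * h⁻¹)) : h * x * h⁻¹ ∈ Subgroup.zpowers x := by
  have hxF : h * x * h⁻¹ ∈ F := hFn.conj_mem x K.mem h
  obtain ⟨s, hs, hsm⟩ := K.act c h4 hodd hxF
  have hs1 : s ≠ 1 := by
    rintro rfl
    have h1 := hsm u hu
    rw [one_smul] at h1
    exact hu0 (br_inf_fx c.two (hodd _ hxF) hu' h1)
  have hxs := K.mem_zpowers_of hs hs1
  have hle : br M x ≤ br M (h * x * h⁻¹) := by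
    intro d hd
    obtain ⟨n, rfl⟩ := br_le_of_mem_zpowers hxs hd
    obtain ⟨n1, hn1, n2, hn2, rfl⟩ := exists_decomp c.two K.odd n
    refine ⟨n1, ?_⟩
    rw [hsm n1 hn1, smul_add, smul_eq_of_mem_zpowers hs hn2]
    abel
  have heq : br M x = br M (h * x * h⁻¹) :=
    AddSubgroup.eq_of_le_of_card_ge hle (by rw [card_br_conj])
  have h1 : h * x * h⁻¹ * s⁻¹ = 1 := by
    have hF' : h * x * h⁻¹ * s⁻¹ ∈ F :=
      mul_mem hxF (inv_mem ((Subgroup.zpowers_le.mpr K.mem) hs))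
    refine eq_one_of_fix c.two (hodd _ hF') fun m hm => ?_
    have hm' : m ∈ br M x := by
      have : br M (h * x * h⁻¹ * s⁻¹) ≤ br M x := by
        refine (br_mul_le _ _).trans (sup_le heq.ge ?_)
        rw [br_inv]
        exact br_le_of_mem_zpowers hs
      exact this hm
    have h2 : s⁻¹ • m ∈ br M x :=
      smul_mem_of_into (by rw [br_inv]; exact br_le_of_mem_zpowers hs) hm'
    rw [mul_smul, hsm _ h2, smul_inv_smul]
  rw [mul_inv_eq_one.mp h1]
  exact hs

/-- `h • v0 ∈ [M,a]` ==> `h • v0 = v0` -/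
theorem no_move (K : Cyc M a F x) [hFn : F.Normal] (c : Ctx v0 a T)
    (h4 : Nat.card (br M a) = 4) (hodd : ∀ f ∈ F, Odd (orderOf f)) {h : H}
    (hh : h • v0 ∈ br M a) : h • v0 = v0 := by
  by_contra hne
  have hw0 : h • v0 ≠ 0 := fun e => c.ne ((smul_eq_zero_iff_eq h).mp e)
  have hcm := c.conj_comm hh
  have h1 : (h * a * h⁻¹) • v0 = v0 := c.pl h4 _ hcm
  have h2 : (h * a * h⁻¹) • h • v0 = h • v0 := by
    rw [mul_smul, mul_smul, inv_smul_smul, c.fix]
  have htriv : ∀ m ∈ br M a, (h * a * h⁻¹) • m = m := fun m hm =>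
    c.triv_of_fix h4 hh hw0 hne h1 h2 hm
  have hx' : h * x * h⁻¹ ∈ Subgroup.zpowers x :=
    K.conj_mem c h4 hodd hw0 (K.br_le hh) (smul_mem_br_conj h (K.br_le c.v0_mem))
  have hx1' : h * x * h⁻¹ ≠ 1 := by
    intro e
    apply K.ne_one
    have : x = h⁻¹ * (h * x * h⁻¹) * h := by group
    rw [this, e]
    group
  have hinv : h * a * h⁻¹ * x * (h * a * h⁻¹)⁻¹ = x⁻¹ := by
    refine inv_of_mem_zpowers (x := h * x * h⁻¹) ?_ (K.mem_zpowers_of hx' hx1')
    have e : h * a * h⁻¹ * (h * x * h⁻¹) * (h * a * h⁻¹)⁻¹ = h * (a * x * a⁻¹) * h⁻¹ := by group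
    rw [e, K.inv]
    group
  have hfx : ∀ m ∈ fx M x, (h * a * h⁻¹) • m = m := by
    intro m hm
    have h3 : x • h⁻¹ • m = h⁻¹ • m := by
      have h4 := smul_eq_of_mem_zpowers hx' (show x • m = m from hm)
      rw [mul_smul, mul_smul] at h4
      rw [eq_inv_smul_iff]
      exact h4
    have h5 := c.triv_fx K.odd K.inv K.br_le (show h⁻¹ • m ∈ fx M x from h3)
    rw [mul_smul, mul_smul, h5, smul_inv_smul]
  have heq := c.key_eq K.odd K.inv K.cxe hinv htriv hfx
  have hca : h * a = a * h := mul_inv_eq_iff_eq_mul.mp heq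
  exact hne (c.pl h4 h hca)

/-- the sum over `⟨x⟩` vanishes on `[M,x]`, order 5 -/
theorem sum5 (c : Ctx v0 a T) (K : Cyc M a F x) (h5 : orderOf x = 5) {m : M} (hm : m ∈ br M x) :
    m + x • m + x ^ 2 • m + x ^ 3 • m + x ^ 4 • m = 0 := by
  have hmem : ∀ i : ℕ, x ^ i • m ∈ br M x := fun i =>
    smul_mem_of_into (br_pow_le x i) hm
  have h1 := hmem 1
  rw [pow_one] at h1
  refine br_inf_fx c.two K.odd
    (add_mem (add_mem (add_mem (add_mem hm h1) (hmem 2)) (hmem 3)) (hmem 4)) ?_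
  have e5 : x • x ^ 4 • m = m := by
    have h6 : x ^ (4 + 1) = 1 := by
      have := pow_orderOf_eq_one x
      rwa [h5] at this
    rw [← mul_smul, ← pow_succ', h6, one_smul]
  have e2 : x • x • m = x ^ 2 • m := by rw [← mul_smul, ← pow_two]
  have e3 : x • x ^ 2 • m = x ^ 3 • m := by rw [← mul_smul, ← pow_succ']
  have e4 : x • x ^ 3 • m = x ^ 4 • m := by rw [← mul_smul, ← pow_succ']
  rw [smul_add, smul_add, smul_add, smul_add, e2, e3, e4, e5]
  abel

/-- order 3 -/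
theorem sum3 (c : Ctx v0 a T) (K : Cyc M a F x) (h3 : orderOf x = 3) {m : M} (hm : m ∈ br M x) :
    m + x • m + x • x • m = 0 := by
  have h1 : x • m ∈ br M x := smul_mem_br_self hm
  have h2 : x • x • m ∈ br M x := smul_mem_br_self h1
  refine br_inf_fx c.two K.odd (add_mem (add_mem hm h1) h2) ?_
  have e3 : x • x • x • m = m := by
    have : x * (x * x) = 1 := by
      have := pow_orderOf_eq_one x
      rwa [h3, pow_succ', pow_two] at this
    rw [← mul_smul, ← mul_smul, mul_assoc, this, one_smul]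
  rw [smul_add, smul_add, e3]
  abel

/-- `v0^⟨x⟩` spans `[M,x]`, order 5 -/
theorem sp_eq (c : Ctx v0 a T) (K : Cyc M a F x) (h5 : orderOf x = 5) :
    sp (Subgroup.zpowers x) v0 = br M x := by
  have hv : v0 ∈ br M x := K.br_le c.v0_mem
  have hle : sp (Subgroup.zpowers x) v0 ≤ br M x :=
    sp_le fun k hk => smul_mem_of_into (br_le_of_mem_zpowers hk) hv
  refine AddSubgroup.eq_of_le_of_card_ge hle ?_
  have h1 : Nat.card (Subgroup.zpowers x) ∣ Nat.card (sp (Subgroup.zpowers x) v0) - 1 := by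
    refine card_dvd_of_semireg (fun g hg m hm => smul_mem_sp hg hm) ?_
    intro g hg m hm hm0 hgm
    by_contra hg1
    exact hm0 (br_inf_fx c.two K.odd (hle hm)
      (smul_eq_of_mem_zpowers (K.mem_zpowers_of hg hg1) hgm))
  rw [Nat.card_zpowers, h5] at h1
  obtain ⟨k, hk⟩ := exists_card_two_pow c.two (sp (Subgroup.zpowers x) v0)
  have hne : sp (Subgroup.zpowers x) v0 ≠ ⊥ := by
    intro h
    apply c.ne
    have := mem_sp (v := v0) (one_mem (Subgroup.zpowers x))
    rw [h, one_smul] at this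
    simpa using this
  have hk0 : k ≠ 0 := by
    rintro rfl
    exact hne (AddSubgroup.card_eq_one.mp (by simpa using hk))
  have hk4 : 4 ≤ k := by
    by_contra hcon
    push Not at hcon
    rw [hk] at h1
    interval_cases k <;> omega
  rw [K.card, hk]
  calc 16 = 2 ^ 4 := by norm_num
    _ ≤ 2 ^ k := Nat.pow_le_pow_right (by decide) hk4

end Cyc

/-- the output (T5) -/
structure T5 (v0 : M) (a d : H) : Prop where
  five : d ^ 5 = 1
  inv : a * d * a⁻¹ = d⁻¹
  ne : d • v0 ≠ v0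
  sum : v0 + d • v0 + d ^ 2 • v0 + d ^ 3 • v0 + d ^ 4 • v0 = 0
  card : Nat.card (br M d) = 16
  le : br M a ≤ br M d
  cxe : cx M a d = br M a
  spe : sp (Subgroup.zpowers d) v0 = br M d
  nor : ∀ h : H, h • v0 = v0 → h * d * h⁻¹ ∈ Subgroup.zpowers d
  frob : ∃ h : H, h • v0 = v0 ∧ h * d * h⁻¹ = d ^ 2

namespace Cyc

variable {v0 : M} {a : H} {T : Subgroup H} {F : Subgroup H} {x : H}
variable [Finite H] [Finite M] [FaithfulSMul H M]

theorem nor (K : Cyc M a F x) [hFn : F.Normal] (c : Ctx v0 a T) {h : H} (hh : h • v0 = v0) :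
    h * x * h⁻¹ ∈ Subgroup.zpowers x := by
  rw [← K.FA]
  refine conj_mem_FA (c.cen h hh) ?_
  rw [K.FA]
  exact Subgroup.mem_zpowers x

theorem ne_v0 (K : Cyc M a F x) (c : Ctx v0 a T) : x • v0 ≠ v0 := fun h =>
  c.ne (br_inf_fx c.two K.odd (K.br_le c.v0_mem) h)

/-- **(T5)** -/
theorem t5 (K : Cyc M a F x) [hFn : F.Normal] (c : Ctx v0 a T) (h4 : Nat.card (br M a) = 4)
    (h5 : orderOf x = 5) : T5 v0 a x := by
  have hx5 : x ^ 5 = 1 := by rw [← h5, pow_orderOf_eq_one]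
  refine ⟨hx5, K.inv, K.ne_v0 c, K.sum5 c h5 (K.br_le c.v0_mem), K.card, K.br_le, K.cxe,
    K.sp_eq c h5, fun h hh => K.nor c hh, ?_⟩
  obtain ⟨b, hb, hb0, hbv⟩ := c.exists_b h4
  obtain ⟨t, ht, htb⟩ := c.exists_swap h4 hb hb0 hbv
  have htv := c.T0 t ht
  -- an element of `H_0` commuting with `x` fixes `b`
  have key : ∀ g : H, g • v0 = v0 → g * x = x * g → g • b = b := by
    intro g hg hgx
    have h1 : sp (Subgroup.zpowers x) v0 ≤ fx M g := by
      refine sp_le fun k hk => ?_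
      rw [mem_fx, ← mul_smul, comm_of_mem_zpowers hk hgx, mul_smul, hg]
    rw [K.sp_eq c h5] at h1
    exact h1 (K.br_le hb)
  have hbne : t • b ≠ b := by
    rw [htb]
    intro h
    exact c.ne (by simpa using h)
  obtain ⟨n, hn, hn'⟩ : ∃ n < 5, x ^ n = t * x * t⁻¹ := by
    classical
    have h1 := K.nor c htv
    rw [mem_zpowers_iff_mem_range_orderOf] at h1
    obtain ⟨n, hn, h2⟩ := Finset.mem_image.mp h1
    exact ⟨n, by rw [h5] at hn; exact Finset.mem_range.mp hn, h2⟩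
  have hta : (t * a) • v0 = v0 := by rw [mul_smul, c.fix, htv]
  have htax : t * a * x * (t * a)⁻¹ = (t * x * t⁻¹)⁻¹ := by
    have e : t * a * x * (t * a)⁻¹ = t * (a * x * a⁻¹) * t⁻¹ := by group
    rw [e, K.inv]
    group
  interval_cases n
  · exfalso
    rw [pow_zero] at hn'
    apply K.ne_one
    have : x = t⁻¹ * (t * x * t⁻¹) * t := by group
    rw [this, ← hn']
    group
  · exfalso
    rw [pow_one] at hn'
    exact hbne (key t htv (mul_inv_eq_iff_eq_mul.mp hn'.symm))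
  · exact ⟨t, htv, hn'.symm⟩
  · refine ⟨t * a, hta, ?_⟩
    rw [htax, ← hn', inv_eq_iff_mul_eq_one, ← pow_add]
    exact hx5
  · exfalso
    have h1 : t * a * x * (t * a)⁻¹ = x := by
      rw [htax, ← hn', inv_eq_iff_mul_eq_one, ← pow_succ]
      exact hx5
    have h2 := key (t * a) hta (mul_inv_eq_iff_eq_mul.mp h1)
    rw [mul_smul, c.fix_br hb] at h2
    exact hbne h2

end Cyc

end Cfsg.Agent.Omega.NO3S.Fit.Abs
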