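import Cfsg.Agent.Omega.NO3S.Fit.AbsNine

/-!
# Text #13963, section 3, `A = ⟨a⟩`: the main theorem and the consequences of its outputs

* `Ctx.main` : (M12), (T5) or (T9), and (3.6);
* `T9.*`, `T5.*`, `M12.*` : the action of `H1` on `D`.
-/

set_option autoImplicit false
set_option linter.unusedSectionVars false

open scoped Pointwise

namespace Cfsg.Agent.Omega.NO3S.Fit.Abs

variable {H M : Type*} [Group H] [AddCommGroup M] [DistribMulAction H M]
variable {v0 : M} {a : H} {T : Subgroup H}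

/-- **THE MAIN THEOREM of section 3, `A = ⟨a⟩`**, with the structure of `F` in case (T5). -/
theorem Ctx.main' [Finite H] [Finite M] [FaithfulSMul H M] (c : Ctx v0 a T) {p : ℕ}
    (hp : p.Prime) (hp2 : p ≠ 2) {F : Subgroup H} [hFn : F.Normal] (hF : IsPGroup p F)
    (hFa : ∃ f ∈ F, f * a ≠ a * f) :
    (Nat.card (br M a) = 2 ∧ ∃ d ∈ F, Ctx.M12 v0 a d) ∨
      (Nat.card (br M a) = 4 ∧ (∀ h : H, h • v0 ∈ br M a → h • v0 = v0) ∧
        ((∃ d, Cyc M a F d ∧ T5 v0 a d) ∨ ∃ H1 d1 d2 b1 b2, T9 v0 a T H1 d1 d2 b1 b2)) := by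
  have hodd : ∀ f ∈ F, Odd (orderOf f) := fun f hf => odd_orderOf_of_isPGroup hp hp2 hF hf
  rcases c.card_cases with h2 | h4
  · exact Or.inl ⟨h2, c.m12 hp hp2 hF hFa h2⟩
  · right
    rcases c.exists_struct h4 hp hp2 hF hFa with ⟨x, hx, hn, hi⟩ | ⟨x, K⟩
    · obtain ⟨h1, h2⟩ := c.t9_of_natural h4 hp hp2 hF hx hn hi
      exact ⟨h4, h2, Or.inr h1⟩
    · refine ⟨h4, fun h hh => K.no_move c h4 hodd hh, ?_⟩
      rcases K.ord with h | h
      · exact Or.inr (K.t9 c h4 hodd h)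
      · exact Or.inl ⟨x, K, K.t5 c h4 h⟩

/-- **THE MAIN THEOREM of section 3, `A = ⟨a⟩`.** -/
theorem Ctx.main [Finite H] [Finite M] [FaithfulSMul H M] (c : Ctx v0 a T) {p : ℕ}
    (hp : p.Prime) (hp2 : p ≠ 2) {F : Subgroup H} [hFn : F.Normal] (hF : IsPGroup p F)
    (hFa : ∃ f ∈ F, f * a ≠ a * f) :
    (Nat.card (br M a) = 2 ∧ ∃ d ∈ F, Ctx.M12 v0 a d) ∨
      (Nat.card (br M a) = 4 ∧ (∀ h : H, h • v0 ∈ br M a → h • v0 = v0) ∧
        ((∃ d ∈ F, T5 v0 a d) ∨ ∃ H1 d1 d2 b1 b2, T9 v0 a T H1 d1 d2 b1 b2)) := by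
  rcases c.main' hp hp2 hF hFa with h | ⟨h4, hm, ⟨d, K, h5⟩ | h9⟩
  · exact Or.inl h
  · exact Or.inr ⟨h4, hm, Or.inl ⟨d, K.mem, h5⟩⟩
  · exact Or.inr ⟨h4, hm, Or.inr h9⟩

/-- (3.6) -/
theorem Ctx.no_move_of_smul [Finite H] [Finite M] [FaithfulSMul H M] (c : Ctx v0 a T)
    (hm : ∀ h : H, h • v0 ∈ br M a → h • v0 = v0) {h : H}
    (hh : ∀ m ∈ br M a, h • m ∈ br M a) : h • v0 = v0 := hm h (hh v0 c.v0_mem)

/-! ### a group `⟨d⟩ H_0` -/

/-- `⟨d⟩ H_0`, `H_0 = Stab(v0)` -/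
def cyc (v0 : M) (d : H) (hd : ∀ h : H, h • v0 = v0 → h * d * h⁻¹ ∈ Subgroup.zpowers d) :
    Subgroup H where
  carrier := {h | ∃ i : ℤ, ∃ h0 : H, h0 • v0 = v0 ∧ h = d ^ i * h0}
  one_mem' := ⟨0, 1, one_smul _ _, by simp⟩
  mul_mem' := by
    rintro _ _ ⟨i, g, hg, rfl⟩ ⟨j, h, hh, rfl⟩
    obtain ⟨k, hk⟩ := (Subgroup.zpowers d).zpow_mem (hd g hg) j
    refine ⟨i + k, g * h, by rw [mul_smul, hh, hg], ?_⟩
    have hk' : d ^ k = g * d ^ j * g⁻¹ := by rw [← conj_zpow]; exact hk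
    rw [zpow_add, hk']
    group
  inv_mem' := by
    rintro _ ⟨i, g, hg, rfl⟩
    have hg' : g⁻¹ • v0 = v0 := by rw [inv_smul_eq_iff, hg]
    obtain ⟨k, hk⟩ := (Subgroup.zpowers d).zpow_mem (hd g⁻¹ hg') (-i)
    refine ⟨k, g⁻¹, hg', ?_⟩
    have hk' : d ^ k = g⁻¹ * d ^ (-i) * g⁻¹⁻¹ := by rw [← conj_zpow]; exact hk
    rw [hk']
    group

theorem mem_cyc {v0 : M} {d : H} {hd : ∀ h : H, h • v0 = v0 → h * d * h⁻¹ ∈ Subgroup.zpowers d}
    {h : H} : h ∈ cyc v0 d hd ↔ ∃ i : ℤ, ∃ h0 : H, h0 • v0 = v0 ∧ h = d ^ i * h0 := Iff.rfl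

theorem stab_le_cyc {v0 : M} {d : H}
    (hd : ∀ h : H, h • v0 = v0 → h * d * h⁻¹ ∈ Subgroup.zpowers d) {h : H} (hh : h • v0 = v0) :
    h ∈ cyc v0 d hd := ⟨0, h, hh, by simp⟩

theorem self_mem_cyc {v0 : M} {d : H}
    (hd : ∀ h : H, h • v0 = v0 → h * d * h⁻¹ ∈ Subgroup.zpowers d) : d ∈ cyc v0 d hd :=
  ⟨1, 1, one_smul _ _, by simp⟩

theorem sp_cyc {v0 : M} {d : H}
    (hd : ∀ h : H, h • v0 = v0 → h * d * h⁻¹ ∈ Subgroup.zpowers d) :
    sp (cyc v0 d hd) v0 = sp (Subgroup.zpowers d) v0 := by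
  refine le_antisymm (sp_le ?_) (sp_le ?_)
  · rintro _ ⟨i, h0, hh, rfl⟩
    rw [mul_smul, hh]
    exact mem_sp (Subgroup.zpow_mem_zpowers d i)
  · rintro _ ⟨i, rfl⟩
    exact mem_sp ((cyc v0 d hd).zpow_mem (self_mem_cyc hd) i)

/-! ### (M12) -/

namespace Ctx.M12

variable {d : H}

theorem nor' (K : Ctx.M12 v0 a d) (h : H) (hh : h • v0 = v0) : h * d * h⁻¹ ∈ Subgroup.zpowers d := by
  rcases K.nor h hh with e | e
  · rw [e]; exact Subgroup.mem_zpowers d
  · rw [e]; exact inv_mem (Subgroup.mem_zpowers d)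

theorem sp_eq (K : Ctx.M12 v0 a d) (two : ∀ m : M, m + m = 0) :
    sp (Subgroup.zpowers d) v0 = br M d := by
  have hv := K.mem
  have ho : Odd (orderOf d) := Odd.of_dvd_nat (by decide : Odd 3) (orderOf_dvd_of_pow_eq_one K.cube)
  have h0 : v0 ≠ 0 := by
    intro h
    apply K.ne
    rw [h, smul_zero]
  refine le_antisymm (sp_le fun k hk => smul_mem_of_into (br_le_of_mem_zpowers hk) hv) ?_
  intro m hm
  rcases nat_cases two ho K.card hv h0 hm with rfl | rfl | rfl | rfl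
  · exact zero_mem _
  · have := mem_sp (v := m) (one_mem (Subgroup.zpowers d))
    rwa [one_smul] at this
  · exact mem_sp (Subgroup.mem_zpowers d)
  · exact mem_sp (Subgroup.npow_mem_zpowers d 2)

end Ctx.M12

/-! ### (T5) -/

namespace T5

variable {d : H}

theorem sp_eq (K : T5 v0 a d) : sp (cyc v0 d K.nor) v0 = br M d := by
  rw [sp_cyc, K.spe]

theorem odd (K : T5 v0 a d) : Odd (orderOf d) :=
  Odd.of_dvd_nat (by decide : Odd 5) (orderOf_dvd_of_pow_eq_one K.five)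

/-- elements of `cyc v0 d` fixing `v0` and commuting with `d` are trivial on `D` -/
theorem triv (K : T5 v0 a d) {g : H} (hg : g • v0 = v0) (hgd : g * d = d * g) {m : M}
    (hm : m ∈ br M d) : g • m = m := by
  have h1 : sp (Subgroup.zpowers d) v0 ≤ fx M g := by
    refine sp_le fun k hk => ?_
    rw [mem_fx, ← mul_smul, comm_of_mem_zpowers hk hgd, mul_smul, hg]
  rw [K.spe] at h1
  exact h1 hm

/-- `C_D(a) = [M,a]` -/
theorem fixed (K : T5 v0 a d) {m : M} (hm : m ∈ br M d) (h : a • m = m) : m ∈ br M a := by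
  rw [← K.cxe]
  exact ⟨hm, h⟩

end T5

/-! ### (T9) -/

namespace T9

variable {H1 : Subgroup H} {d1 d2 : H} {b1 b2 : M}

/-- exchange the indices -/
theorem symm (K : T9 v0 a T H1 d1 d2 b1 b2) : T9 v0 a T H1 d2 d1 b2 b1 where
  stab_le := K.stab_le
  d1m := K.d2m
  d2m := K.d1m
  comm := K.comm.symm
  b1m := K.b2m
  b2m := K.b1m
  b10 := K.b20
  b20 := K.b10
  sum := by rw [add_comm]; exact K.sum
  d11 := K.d22
  d22 := K.d11
  d12 := K.d21
  d21 := K.d12
  a1 := K.a2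
  a2 := K.a1
  act := fun h hh => (K.act h hh).imp And.symm And.symm
  swap := by
    obtain ⟨t, ht, h1, h2⟩ := K.swap
    exact ⟨t, ht, h2, h1⟩

theorem smul_comm' (K : T9 v0 a T H1 d1 d2 b1 b2) (m : M) : d1 • d2 • m = d2 • d1 • m := by
  rw [← mul_smul, K.comm, mul_smul]

/-- `d1` is trivial on `B2` -/
theorem triv2 (K : T9 v0 a T H1 d1 d2 b1 b2) {m : M} (hm : m ∈ blk d2 b2) : d1 • m = m := by
  have h : blk d2 b2 ≤ fx M d1 := by
    refine blk_le K.d12 ?_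
    rw [mem_fx, K.smul_comm', K.d12]
  exact h hm

theorem triv1 (K : T9 v0 a T H1 d1 d2 b1 b2) {m : M} (hm : m ∈ blk d1 b1) : d2 • m = m :=
  K.symm.triv2 hm

theorem indep (K : T9 v0 a T H1 d1 d2 b1 b2) (two : ∀ m : M, m + m = 0) {m : M}
    (h1 : m ∈ blk d1 b1) (h2 : m ∈ blk d2 b2) : m = 0 := blk_fixed two K.d11 h1 (K.triv2 h2)

theorem uniq (K : T9 v0 a T H1 d1 d2 b1 b2) (two : ∀ m : M, m + m = 0) {p q p' q' : M}
    (hp : p ∈ blk d1 b1) (hq : q ∈ blk d2 b2) (hp' : p' ∈ blk d1 b1) (hq' : q' ∈ blk d2 b2)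
    (e : p + q = p' + q') : p = p' ∧ q = q' := by
  have h1 : p - p' = q' - q := by
    have : p - p' = (p + q) - q - p' := by abel
    rw [this, e]
    abel
  have h2 : p - p' = 0 := K.indep two (sub_mem hp hp') (by rw [h1]; exact sub_mem hq' hq)
  refine ⟨sub_eq_zero.mp h2, ?_⟩
  rw [h2] at h1
  exact (sub_eq_zero.mp h1.symm).symm

/-- `d1³ = 1` on `B1` -/
theorem cube1 (K : T9 v0 a T H1 d1 d2 b1 b2) (two : ∀ m : M, m + m = 0) {m : M}
    (hm : m ∈ blk d1 b1) : d1 • d1 • d1 • m = m := by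
  have h1 := blk_sum two K.d11 hm
  rw [h1, smul_add, h1, add_comm m, ← add_assoc, two, zero_add]

/-- `D = B1 + B2` -/
theorem sp_eq (K : T9 v0 a T H1 d1 d2 b1 b2) (two : ∀ m : M, m + m = 0) :
    sp H1 v0 = blk d1 b1 ⊔ blk d2 b2 := by
  refine le_antisymm (sp_le fun h hh => ?_) ?_
  · rw [← K.sum, smul_add]
    rcases K.act h hh with ⟨e1, e2⟩ | ⟨e1, e2⟩
    · exact AddSubgroup.add_mem_sup e1 e2
    · rw [add_comm]
      exact AddSubgroup.add_mem_sup e2 e1
  · have key : ∀ {e1 e2 : H} {c1 c2 : M}, T9 v0 a T H1 e1 e2 c1 c2 → blk e1 c1 ≤ sp H1 v0 := by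
      intro e1 e2 c1 c2 K
      have hv : v0 ∈ sp H1 v0 := by
        have := mem_sp (v := v0) (one_mem H1)
        rwa [one_smul] at this
      have h1 : e1 • e1 • c1 ∈ sp H1 v0 := by
        have h2 : e1 • v0 + v0 ∈ sp H1 v0 := add_mem (mem_sp K.d1m) hv
        have h3 : e1 • v0 + v0 = e1 • e1 • c1 := by
          rw [← K.sum, smul_add, K.d12, K.d11]
          have : e1 • c1 + c2 + (c1 + c2) = (c1 + e1 • c1) + (c2 + c2) := by abel
          rw [this, two, add_zero]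
        rwa [h3] at h2
      have h4 : c1 ∈ sp H1 v0 := by
        have := smul_mem_sp K.d1m h1
        rwa [K.cube1 two (self_mem_blk e1 c1)] at this
      exact blk_le h4 (smul_mem_sp K.d1m h4)
    exact sup_le (key K) (key K.symm)

theorem card_blk {d : H} {b : M} (two : ∀ m : M, m + m = 0) (hd : d • d • b = b + d • b)
    (hb : b ≠ 0) : Nat.card (blk d b) = 4 := by
  classical
  have h1 : (blk d b : Set M) = (({0, b, d • b, b + d • b} : Finset M) : Set M) := by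
    ext m
    simp only [SetLike.mem_coe, mem_blk two, Finset.coe_insert, Finset.coe_singleton,
      Set.mem_insert_iff, Set.mem_singleton_iff]
  have h2 : d • b ≠ b := fun h => hb (blk_fixed two hd (self_mem_blk d b) h)
  have h3 : d • b ≠ 0 := fun h => hb ((smul_eq_zero_iff_eq d).mp h)
  have h4 : b + d • b ≠ 0 := by
    intro h
    apply h2
    have := eq_neg_of_add_eq_zero_left h
    rw [neg_eq two] at this
    exact this.symm
  have h5 : Nat.card (blk d b) = Set.ncard (blk d b : Set M) := Nat.card_coe_set_eq _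
  rw [h5, h1, Set.ncard_coe_finset, Finset.card_insert_of_notMem, Finset.card_insert_of_notMem,
    Finset.card_insert_of_notMem, Finset.card_singleton]
  · simpa using hb
  · simp [h2.symm, h3]
  · simp [hb.symm, h3.symm, h4.symm]

/-- `|D| = 16` -/
theorem card_sp (K : T9 v0 a T H1 d1 d2 b1 b2) (two : ∀ m : M, m + m = 0) :
    Nat.card (sp H1 v0) = 16 := by
  rw [K.sp_eq two]
  have h1 := card_blk two K.d11 K.b10
  have h2 := card_blk two K.d22 K.b20
  let f : blk d1 b1 × blk d2 b2 → (blk d1 b1 ⊔ blk d2 b2 : AddSubgroup M) := fun p =>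
    ⟨p.1 + p.2, AddSubgroup.add_mem_sup p.1.2 p.2.2⟩
  have hf : Function.Bijective f := by
    constructor
    · rintro ⟨⟨p, hp⟩, ⟨q, hq⟩⟩ ⟨⟨p', hp'⟩, ⟨q', hq'⟩⟩ e
      have e' : p + q = p' + q' := congrArg Subtype.val e
      obtain ⟨e1, e2⟩ := K.uniq two hp hq hp' hq' e'
      subst e1
      subst e2
      rfl
    · rintro ⟨m, hm⟩
      obtain ⟨p, hp, q, hq, rfl⟩ := AddSubgroup.mem_sup.mp hm
      exact ⟨(⟨p, hp⟩, ⟨q, hq⟩), rfl⟩
  rw [← Nat.card_congr (Equiv.ofBijective f hf), Nat.card_prod, h1, h2]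

/-- every element of `H1` is `d1^i d2^j h0` -/
theorem exists_eq (K : T9 v0 a T H1 d1 d2 b1 b2) (two : ∀ m : M, m + m = 0) {h : H}
    (hh : h ∈ H1) : ∃ i j : ℕ, ∃ h0 : H, h0 • v0 = v0 ∧ h = d1 ^ i * d2 ^ j * h0 := by
  have key : ∃ i j : ℕ, h • v0 = d1 ^ i • b1 + d2 ^ j • b2 := by
    have hv : h • v0 = h • b1 + h • b2 := by rw [← smul_add, K.sum]
    have h1 : h • b1 ≠ 0 := fun e => K.b10 ((smul_eq_zero_iff_eq h).mp e)
    have h2 : h • b2 ≠ 0 := fun e => K.b20 ((smul_eq_zero_iff_eq h).mp e)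
    rcases K.act h hh with ⟨e1, e2⟩ | ⟨e1, e2⟩
    · obtain ⟨i, -, hi⟩ := exists_pow_of_mem_blk two K.d11 e1 h1
      obtain ⟨j, -, hj⟩ := exists_pow_of_mem_blk two K.d22 e2 h2
      exact ⟨i, j, by rw [hv, hi, hj]⟩
    · obtain ⟨i, -, hi⟩ := exists_pow_of_mem_blk two K.d11 e2 h2
      obtain ⟨j, -, hj⟩ := exists_pow_of_mem_blk two K.d22 e1 h1
      exact ⟨i, j, by rw [hv, hi, hj, add_comm]⟩
  obtain ⟨i, j, hij⟩ := key
  have hfix1 : ∀ n : ℕ, d1 ^ n • b2 = b2 := by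
    intro n
    induction n with
    | zero => simp
    | succ n ih => rw [pow_succ, mul_smul, K.d12, ih]
  have hfix2 : ∀ n : ℕ, d2 ^ n • b1 = b1 := by
    intro n
    induction n with
    | zero => simp
    | succ n ih => rw [pow_succ, mul_smul, K.d21, ih]
  have hc : Commute d1 d2 := K.comm
  have h1 : (d1 ^ i * d2 ^ j) • v0 = h • v0 := by
    rw [hij, ← K.sum, smul_add, mul_smul, hfix2, (hc.pow_pow i j).eq, mul_smul, hfix1]
  refine ⟨i, j, (d1 ^ i * d2 ^ j)⁻¹ * h, ?_, by group⟩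
  rw [mul_smul, ← h1, inv_smul_smul]

/-- `H_0` fixes or exchanges `b1`, `b2` -/
theorem stab_cases (K : T9 v0 a T H1 d1 d2 b1 b2) (two : ∀ m : M, m + m = 0) {h : H}
    (hh : h • v0 = v0) : (h • b1 = b1 ∧ h • b2 = b2) ∨ (h • b1 = b2 ∧ h • b2 = b1) := by
  have hv : h • b1 + h • b2 = b1 + b2 := by rw [← smul_add, K.sum, hh]
  rcases K.act h (K.stab_le h hh) with ⟨e1, e2⟩ | ⟨e1, e2⟩
  · exact Or.inl (K.uniq two e1 e2 (self_mem_blk _ _) (self_mem_blk _ _) hv)
  · rw [add_comm] at hv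
    obtain ⟨h1, h2⟩ := K.uniq two e2 e1 (self_mem_blk _ _) (self_mem_blk _ _) hv
    exact Or.inr ⟨h2, h1⟩

/-- an element of `H1` with `h b1 ∈ B1` maps `B1` to `B1` -/
theorem map1 (K : T9 v0 a T H1 d1 d2 b1 b2) (two : ∀ m : M, m + m = 0) {h : H} (hh : h ∈ H1)
    (h1 : h • b1 ∈ blk d1 b1) {m : M} (hm : m ∈ blk d1 b1) : h • m ∈ blk d1 b1 := by
  have key : h • d1 • b1 ∈ blk d1 b1 := by
    rcases K.act (h * d1) (mul_mem hh K.d1m) with ⟨e1, -⟩ | ⟨-, e2⟩
    · rwa [mul_smul] at e1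
    · exfalso
      rw [mul_smul, K.d12] at e2
      have h2 : h • b2 ∈ blk d2 b2 := by
        rcases K.act h hh with ⟨-, e⟩ | ⟨e, -⟩
        · exact e
        · have h3 : h • b1 = 0 := K.indep two h1 e
          exact absurd ((smul_eq_zero_iff_eq h).mp h3) K.b10
      have h3 : h • b2 = 0 := K.indep two e2 h2
      exact K.b20 ((smul_eq_zero_iff_eq h).mp h3)
  have hle : blk d1 b1 ≤ (blk d1 b1).comap (DistribSMul.toAddMonoidHom M h) := blk_le h1 key
  exact hle hm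

/-- an element of `H1` with `h b1 ∈ B2` maps `B1` to `B2` -/
theorem map12 (K : T9 v0 a T H1 d1 d2 b1 b2) (two : ∀ m : M, m + m = 0) {h : H} (hh : h ∈ H1)
    (h1 : h • b1 ∈ blk d2 b2) {m : M} (hm : m ∈ blk d1 b1) : h • m ∈ blk d2 b2 := by
  have key : h • d1 • b1 ∈ blk d2 b2 := by
    rcases K.act (h * d1) (mul_mem hh K.d1m) with ⟨-, e2⟩ | ⟨e1, -⟩
    · exfalso
      rw [mul_smul, K.d12] at e2
      have h2 : h • b2 ∈ blk d1 b1 := by
        rcases K.act h hh with ⟨e, -⟩ | ⟨-, e⟩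
        · have h3 : h • b1 = 0 := K.indep two e h1
          exact absurd ((smul_eq_zero_iff_eq h).mp h3) K.b10
        · exact e
      have h3 : h • b2 = 0 := K.indep two h2 e2
      exact K.b20 ((smul_eq_zero_iff_eq h).mp h3)
    · rwa [mul_smul] at e1
  have hle : blk d1 b1 ≤ (blk d2 b2).comap (DistribSMul.toAddMonoidHom M h) := blk_le h1 key
  exact hle hm

theorem blk_eq [Finite M] {d : H} {b b' : M} (two : ∀ m : M, m + m = 0)
    (hd : d • d • b = b + d • b) (hb : b ≠ 0) (hb' : b' ∈ blk d b) (hb0' : b' ≠ 0) :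
    blk d b' = blk d b := by
  refine AddSubgroup.eq_of_le_of_card_ge (blk_le hb' (smul_mem_blk hd hb')) ?_
  rw [card_blk two hd hb, card_blk two (blk_sum two hd hb') hb0']

/-- `h d1 = d1 h` or `d1² h` on `D` for `h ∈ H1` with `h b1 ∈ B1` -/
theorem nor1 [Finite M] (K : T9 v0 a T H1 d1 d2 b1 b2) (two : ∀ m : M, m + m = 0) {h : H} (hh : h ∈ H1)
    (h1 : h • b1 ∈ blk d1 b1) : (∀ m ∈ sp H1 v0, h • d1 • m = d1 • h • m) ∨
      (∀ m ∈ sp H1 v0, h • d1 • m = d1 • d1 • h • m) := by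
  have hh0 : h • b1 ≠ 0 := fun e => K.b10 ((smul_eq_zero_iff_eq h).mp e)
  have h2 : h • b2 ∈ blk d2 b2 := by
    rcases K.act h hh with ⟨-, e⟩ | ⟨e, -⟩
    · exact e
    · exact absurd (K.indep two h1 e) hh0
  have hm1 : h • d1 • b1 ∈ blk d1 b1 := K.map1 two hh h1 (smul_mem_blk' d1 b1)
  have hne : h • d1 • b1 ≠ h • b1 := by
    intro e
    exact K.b10 (blk_fixed two K.d11 (self_mem_blk d1 b1) (smul_left_cancel h e))
  have hs := blk_sum two K.d11 h1
  -- extension from `b1`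
  have ext : ∀ e : H, (∀ m ∈ blk d2 b2, e • m = m) → (e • d1 = d1 • e) →
      h • d1 • b1 = e • h • b1 → ∀ m ∈ sp H1 v0, h • d1 • m = e • h • m := by
    intro e he hed heb m hm
    rw [K.sp_eq two] at hm
    obtain ⟨p, hp, q, hq, rfl⟩ := AddSubgroup.mem_sup.mp hm
    have hq' : h • q ∈ blk d2 b2 := K.symm.map1 two hh h2 hq
    have hp' : h • d1 • p = e • h • p := by
      have hedm : ∀ n : M, e • d1 • n = d1 • e • n := by
        intro n
        have : e * d1 = d1 * e := hed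
        rw [← mul_smul, this, mul_smul]
      have hd1b : h • d1 • d1 • b1 = e • h • d1 • b1 := by
        rw [K.d11, smul_add, heb]
        have h5 : e • e • h • b1 = h • b1 + e • h • b1 := by
          rcases (exists_pow_of_mem_blk two K.d11 h1 hh0) with ⟨i, -, hi⟩
          rcases (exists_pow_of_mem_blk two K.d11 hm1 (fun z => K.b10
            ((smul_eq_zero_iff_eq d1).mp ((smul_eq_zero_iff_eq h).mp z)))) with ⟨j, -, hj⟩
          -- `h • b1`, `e • h • b1` are different nonzero elements of `B1`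
          have h6 : e • h • b1 = d1 • h • b1 ∨ e • h • b1 = d1 • d1 • h • b1 := by
            rw [← heb]
            have h7 : h • d1 • b1 ∈ blk d1 (h • b1) := by
              rw [blk_eq two K.d11 K.b10 h1 hh0]
              exact hm1
            rcases (mem_blk two).mp h7 with z | z | z | z
            · exact absurd ((smul_eq_zero_iff_eq d1).mp ((smul_eq_zero_iff_eq h).mp z)) K.b10
            · exact absurd z hne
            · exact Or.inl z
            · right; rw [z, hs]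
          rcases h6 with h6 | h6
          · rw [h6, hedm, h6, hs]
          · rw [h6, hedm, hedm, h6, K.cube1 two (smul_mem_blk K.d11 h1), hs, ← add_assoc, two,
              zero_add]
        rw [h5]
      rcases (mem_blk two).mp hp with rfl | rfl | rfl | rfl
      · simp
      · exact heb
      · exact hd1b
      · rw [smul_add d1, smul_add h, smul_add h, smul_add e, hd1b, heb]
    rw [smul_add, smul_add, smul_add, smul_add, hp', K.triv2 hq, he _ hq']
  have h7 : h • d1 • b1 ∈ blk d1 (h • b1) := by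
    rw [blk_eq two K.d11 K.b10 h1 hh0]
    exact hm1
  rcases (mem_blk two).mp h7 with z | z | z | z
  · exact absurd ((smul_eq_zero_iff_eq d1).mp ((smul_eq_zero_iff_eq h).mp z)) K.b10
  · exact absurd z hne
  · left
    exact ext d1 (fun m hm => K.triv2 hm) rfl z
  · right
    rw [← hs] at z
    intro m hm
    have h9 := ext (d1 * d1) (fun m hm => by rw [mul_smul, K.triv2 hm, K.triv2 hm])
      (show d1 * d1 * d1 = d1 * (d1 * d1) from mul_assoc _ _ _) (by rw [mul_smul]; exact z) m hm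
    rwa [mul_smul] at h9

/-- `a` inverts `d1` on `D` -/
theorem inv1 (K : T9 v0 a T H1 d1 d2 b1 b2) (c : Ctx v0 a T) {m : M} (hm : m ∈ sp H1 v0) :
    a • d1 • m = d1 • d1 • a • m := by
  have ha1 : a • b1 = b1 := c.fix_br K.b1m
  have ha2 : a • b2 = b2 := c.fix_br K.b2m
  have hm' := hm
  rw [K.sp_eq c.two] at hm'
  obtain ⟨p, hp, q, hq, rfl⟩ := AddSubgroup.mem_sup.mp hm'
  have hapq : a • q ∈ blk d2 b2 := by
    have hle : blk d2 b2 ≤ (blk d2 b2).comap (DistribSMul.toAddMonoidHom M a) := by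
      refine blk_le ?_ ?_
      · show a • b2 ∈ blk d2 b2
        rw [ha2]
        exact self_mem_blk d2 b2
      · show a • d2 • b2 ∈ blk d2 b2
        rw [K.a2]
        exact smul_mem_blk K.d22 (smul_mem_blk' d2 b2)
    exact hle hq
  have hp' : a • d1 • p = d1 • d1 • a • p := by
    have hd : a • d1 • d1 • b1 = d1 • b1 := by
      rw [← K.a1, ← mul_smul, c.sq, one_smul]
    rcases (mem_blk c.two).mp hp with rfl | rfl | rfl | rfl
    · simp
    · rw [ha1, K.a1]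
    · rw [hd, K.a1, K.cube1 c.two (smul_mem_blk' d1 b1)]
    · simp only [smul_add]
      rw [ha1, K.a1, hd, K.cube1 c.two (smul_mem_blk' d1 b1)]
  rw [smul_add, smul_add, smul_add, smul_add, smul_add, hp', K.triv2 hq, K.triv2 hapq,
    K.triv2 hapq]

/-- `C_D(a) = [M,a]` -/
theorem fixed (K : T9 v0 a T H1 d1 d2 b1 b2) (c : Ctx v0 a T) {m : M} (hm : m ∈ sp H1 v0)
    (h : a • m = m) : m ∈ br M a := by
  rw [K.sp_eq c.two] at hm
  obtain ⟨p, hp, q, hq, rfl⟩ := AddSubgroup.mem_sup.mp hm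
  have key : ∀ {e1 e2 : H} {c1 c2 : M}, T9 v0 a T H1 e1 e2 c1 c2 → ∀ r ∈ blk e1 c1,
      a • r ∈ blk e1 c1 ∧ (a • r = r → r = 0 ∨ r = c1) := by
    intro e1 e2 c1 c2 K r hr
    have ha1 : a • c1 = c1 := c.fix_br K.b1m
    have hd : a • e1 • e1 • c1 = e1 • c1 := by
      rw [← K.a1, ← mul_smul, c.sq, one_smul]
    have hne : e1 • c1 = e1 • e1 • c1 → c1 = 0 := by
      intro e
      exact blk_fixed c.two K.d11 (self_mem_blk e1 c1) (smul_left_cancel e1 e).symm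
    rcases (mem_blk c.two).mp hr with rfl | rfl | rfl | rfl
    · exact ⟨by simp [zero_mem], fun _ => Or.inl rfl⟩
    · exact ⟨by rw [ha1]; exact self_mem_blk e1 r, fun _ => Or.inr rfl⟩
    · refine ⟨by rw [K.a1]; exact smul_mem_blk K.d11 (smul_mem_blk' e1 c1), fun e => ?_⟩
      rw [K.a1] at e
      exact absurd (hne e.symm) K.b10
    · rw [← K.d11]
      refine ⟨by rw [hd]; exact smul_mem_blk' e1 c1, fun e => ?_⟩
      rw [hd] at e
      exact absurd (hne e) K.b10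
  obtain ⟨h1, h2⟩ := key K p hp
  obtain ⟨h3, h4⟩ := key K.symm q hq
  rw [smul_add] at h
  obtain ⟨e1, e2⟩ := K.uniq c.two h1 h3 hp hq h
  refine add_mem ?_ ?_
  · rcases h2 e1 with e | e
    · rw [e]; exact zero_mem _
    · rw [e]; exact K.b1m
  · rcases h4 e2 with e | e
    · rw [e]; exact zero_mem _
    · rw [e]; exact K.b2m

end T9

end Cfsg.Agent.Omega.NO3S.Fit.Abs
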