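import Mathlib
import Cfsg.Agent.Transfer.ElemAbAut

/-!
# Text #13963 (helper311), section 3: module facts, Mathlib level

`H` acts on an elementary abelian 2-group `M` (additive, `two : ∀ m, m + m = 0`).

* `br M g` = `[M,g]` = `{g • n - n}`, `fx M g` = `C_M(g)`;
* `eq_one_of_fix` (L0): `g` of odd order, trivial on `[M,g]`, is `1`;
* `exists_decomp`, `br_inf_fx`: `M = [M,x] ⊕ C_M(x)` for `x` of odd order;
* `inverted_*`: `x` of odd order inverted by the involution `a`: `[[M,x],a] = C_{[M,x]}(a)`, of order the square root of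
  `|[M,x]|`, and `[M,x] = C + x C` for `C = C_{[M,x]}(a)`;
* `nat_*` (3.3): natural elements (`|[M,n]| = 4`) of a normal `p`-group;
* `triv_on_br` (3.2), `faithful_on_F` (3.1).
-/

set_option autoImplicit false
set_option linter.unusedSectionVars false

open scoped Pointwise

namespace Cfsg.Agent.Omega.NO3S.Fit.Abs

section Basic

variable {H : Type*} (M : Type*) [Group H] [AddCommGroup M] [DistribMulAction H M]

/-- `[M,g]` -/
def br (g : H) : AddSubgroup M where
  carrier := {m | ∃ n : M, g • n - n = m}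
  zero_mem' := ⟨0, by simp⟩
  add_mem' := by
    rintro _ _ ⟨a, rfl⟩ ⟨b, rfl⟩
    exact ⟨a + b, by rw [smul_add]; abel⟩
  neg_mem' := by
    rintro _ ⟨a, rfl⟩
    exact ⟨-a, by rw [smul_neg]; abel⟩

/-- `C_M(g)` -/
def fx (g : H) : AddSubgroup M where
  carrier := {m | g • m = m}
  zero_mem' := smul_zero g
  add_mem' := by
    intro a b ha hb
    change g • (a + b) = a + b
    rw [smul_add, show g • a = a from ha, show g • b = b from hb]
  neg_mem' := by
    intro a ha
    change g • (-a) = -a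
    rw [smul_neg, show g • a = a from ha]

variable {M}

theorem mem_br {g : H} {m : M} : m ∈ br M g ↔ ∃ n : M, g • n - n = m := Iff.rfl

theorem mem_fx {g : H} {m : M} : m ∈ fx M g ↔ g • m = m := Iff.rfl

theorem sub_mem_br (g : H) (n : M) : g • n - n ∈ br M g := ⟨n, rfl⟩

theorem smul_mem_br_conj (g : H) {x : H} {m : M} (hm : m ∈ br M x) : g • m ∈ br M (g * x * g⁻¹) := by
  obtain ⟨n, rfl⟩ := hm
  refine ⟨g • n, ?_⟩
  rw [smul_sub, mul_smul, mul_smul, inv_smul_smul]

theorem smul_mem_fx_conj (g : H) {x : H} {m : M} (hm : m ∈ fx M x) : g • m ∈ fx M (g * x * g⁻¹) := by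
  rw [mem_fx] at hm ⊢
  rw [mul_smul, mul_smul, inv_smul_smul, hm]

theorem br_one : br M (1 : H) = ⊥ := by
  rw [eq_bot_iff]
  rintro _ ⟨n, rfl⟩
  simp

theorem br_mul_le (g h : H) : br M (g * h) ≤ br M g ⊔ br M h := by
  rintro _ ⟨n, rfl⟩
  have : (g * h) • n - n = (g • (h • n) - h • n) + (h • n - n) := by rw [mul_smul]; abel
  rw [this]
  exact AddSubgroup.add_mem_sup (sub_mem_br _ _) (sub_mem_br _ _)

theorem br_inv_le (g : H) : br M g⁻¹ ≤ br M g := by
  rintro _ ⟨n, rfl⟩
  refine ⟨-(g⁻¹ • n), ?_⟩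
  rw [smul_neg, smul_inv_smul]
  abel

theorem br_inv (g : H) : br M g⁻¹ = br M g :=
  le_antisymm (br_inv_le g) (by simpa using br_inv_le (M := M) g⁻¹)

theorem fx_inv (g : H) : fx M g⁻¹ = fx M g := by
  ext m
  rw [mem_fx, mem_fx, inv_smul_eq_iff, eq_comm]

/-- the elements `g` with `[M,g] ≤ N` -/
def into (N : AddSubgroup M) : Subgroup H where
  carrier := {g | br M g ≤ N}
  one_mem' := by
    change br M (1 : H) ≤ N
    rw [br_one]
    exact bot_le
  mul_mem' := fun {a b} ha hb => (br_mul_le a b).trans (sup_le ha hb)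
  inv_mem' := fun {a} ha => (br_inv_le a).trans ha

theorem mem_into {N : AddSubgroup M} {g : H} : g ∈ into N ↔ br M g ≤ N := Iff.rfl

theorem br_pow_le (g : H) (i : ℕ) : br M (g ^ i) ≤ br M g :=
  (into (br M g)).pow_mem (mem_into.mpr le_rfl) i

theorem br_zpow_le (g : H) (i : ℤ) : br M (g ^ i) ≤ br M g :=
  (into (br M g)).zpow_mem (mem_into.mpr le_rfl) i

theorem smul_mem_of_into {N : AddSubgroup M} {g : H} (hg : br M g ≤ N) {m : M} (hm : m ∈ N) :
    g • m ∈ N := by
  have := N.add_mem (hg (sub_mem_br g m)) hm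
  simpa using this

theorem smul_mem_br_self {g : H} {m : M} (hm : m ∈ br M g) : g • m ∈ br M g :=
  smul_mem_of_into le_rfl hm

theorem smul_mem_br_of_comm {g x : H} (h : g * x = x * g) {m : M} (hm : m ∈ br M x) :
    g • m ∈ br M x := by
  have := smul_mem_br_conj g hm
  rwa [h, mul_inv_cancel_right] at this

theorem smul_mem_br_of_inv {g x : H} (h : g * x * g⁻¹ = x⁻¹) {m : M} (hm : m ∈ br M x) :
    g • m ∈ br M x := by
  have := smul_mem_br_conj g hm
  rwa [h, br_inv] at this

theorem smul_mem_fx_of_comm {g x : H} (h : g * x = x * g) {m : M} (hm : m ∈ fx M x) :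
    g • m ∈ fx M x := by
  have := smul_mem_fx_conj g hm
  rwa [h, mul_inv_cancel_right] at this

theorem smul_mem_fx_of_inv {g x : H} (h : g * x * g⁻¹ = x⁻¹) {m : M} (hm : m ∈ fx M x) :
    g • m ∈ fx M x := by
  have := smul_mem_fx_conj g hm
  rwa [h, fx_inv] at this

theorem smul_br (g x : H) : g • br M x = br M (g * x * g⁻¹) := by
  ext m
  rw [AddSubgroup.mem_smul_pointwise_iff_exists]
  constructor
  · rintro ⟨n, hn, rfl⟩
    exact smul_mem_br_conj g hn
  · intro hm
    refine ⟨g⁻¹ • m, ?_, smul_inv_smul _ _⟩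
    have := smul_mem_br_conj g⁻¹ hm
    have e : g⁻¹ * (g * x * g⁻¹) * g⁻¹⁻¹ = x := by group
    rwa [e] at this

theorem card_smul (g : H) (N : AddSubgroup M) : Nat.card (g • N : AddSubgroup M) = Nat.card N :=
  Nat.card_congr
    { toFun := fun m => ⟨g⁻¹ • (m : M), by
        have := m.2
        rw [AddSubgroup.mem_pointwise_smul_iff_inv_smul_mem] at this
        exact this⟩
      invFun := fun n => ⟨g • (n : M), AddSubgroup.smul_mem_pointwise_smul _ _ _ n.2⟩
      left_inv := fun m => by simp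
      right_inv := fun n => by simp }

theorem card_br_conj (g x : H) : Nat.card (br M (g * x * g⁻¹)) = Nat.card (br M x) := by
  rw [← smul_br, card_smul]

/-- an element of `M` killed by an odd number and by 2 is 0 -/
theorem eq_zero_of_odd_nsmul (two : ∀ m : M, m + m = 0) {k : ℕ} (hk : Odd k) {m : M}
    (h : k • m = 0) : m = 0 := by
  obtain ⟨j, rfl⟩ := hk
  rw [add_smul, mul_comm, mul_smul, two_nsmul, two, smul_zero, zero_add, one_smul] at h
  exact h

theorem odd_nsmul (two : ∀ m : M, m + m = 0) {k : ℕ} (hk : Odd k) (m : M) : k • m = m := by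
  obtain ⟨j, rfl⟩ := hk
  rw [add_smul, mul_comm, mul_smul, two_nsmul, two, smul_zero, zero_add, one_smul]

theorem neg_eq (two : ∀ m : M, m + m = 0) (m : M) : -m = m := neg_eq_of_add_eq_zero_left (two m)

theorem sub_eq (two : ∀ m : M, m + m = 0) (m n : M) : m - n = m + n := by
  rw [sub_eq_add_neg, neg_eq two]

theorem pow_smul_eq {x : H} {n m : M} (h : x • n - n = m) (hx : x • m = m) (j : ℕ) :
    x ^ j • n = n + j • m := by
  induction j with
  | zero => simp
  | succ j ih =>
    have h1 : x • n = n + m := by rw [← h]; abel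
    have h2 : x • (j • m) = j • m := by
      rw [← smul_comm j x m, hx]
    rw [pow_succ', mul_smul, ih, smul_add, h1, h2, succ_nsmul]
    abel

/-- `[M,x] ∩ C_M(x) = 0` -/
theorem br_inf_fx (two : ∀ m : M, m + m = 0) {x : H} (hx : Odd (orderOf x)) {m : M}
    (hm : m ∈ br M x) (hf : x • m = m) : m = 0 := by
  obtain ⟨n, hn⟩ := hm
  have h1 := pow_smul_eq hn hf (orderOf x)
  rw [pow_orderOf_eq_one, one_smul, left_eq_add] at h1
  exact eq_zero_of_odd_nsmul two hx h1

theorem disjoint_br_fx (two : ∀ m : M, m + m = 0) {x : H} (hx : Odd (orderOf x)) :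
    Disjoint (br M x) (fx M x) := by
  rw [disjoint_iff, eq_bot_iff]
  rintro m ⟨h1, h2⟩
  exact br_inf_fx two hx h1 h2

/-- `M = [M,x] + C_M(x)` -/
theorem exists_decomp (two : ∀ m : M, m + m = 0) {x : H} (hx : Odd (orderOf x)) (m : M) :
    ∃ d ∈ br M x, ∃ c ∈ fx M x, d + c = m := by
  set k := orderOf x with hk
  let c : M := ∑ i ∈ Finset.range k, x ^ i • m
  have hc : x • c = c := by
    have h1 : x • c = ∑ i ∈ Finset.range k, x ^ (i + 1) • m := by
      change x • (∑ i ∈ Finset.range k, x ^ i • m) = _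
      rw [Finset.smul_sum]
      refine Finset.sum_congr rfl fun i _ => ?_
      rw [pow_succ', mul_smul]
    have h2 := Finset.sum_range_succ (fun i => x ^ i • m) k
    have h3 := Finset.sum_range_succ' (fun i => x ^ i • m) k
    rw [h2] at h3
    rw [h1]
    have h4 : x ^ k • m = x ^ 0 • m := by rw [hk, pow_orderOf_eq_one, pow_zero]
    rw [h4] at h3
    exact (add_right_cancel h3).symm
  have hd : m - c ∈ br M x := by
    have h1 : c = ∑ i ∈ Finset.range k, (x ^ i • m - m) + m := by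
      rw [Finset.sum_sub_distrib]
      simp only [Finset.sum_const, Finset.card_range]
      rw [odd_nsmul two hx]
      abel
    have h2 : ∑ i ∈ Finset.range k, (x ^ i • m - m) ∈ br M x :=
      AddSubgroup.sum_mem _ fun i _ => br_pow_le x i (sub_mem_br _ _)
    have h3 : m - c = -∑ i ∈ Finset.range k, (x ^ i • m - m) := by rw [h1]; abel
    rw [h3]
    exact neg_mem h2
  exact ⟨m - c, hd, c, hc, by abel⟩

theorem sup_br_fx (two : ∀ m : M, m + m = 0) {x : H} (hx : Odd (orderOf x)) :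
    br M x ⊔ fx M x = ⊤ := by
  rw [eq_top_iff]
  intro m _
  obtain ⟨d, hd, c, hc, rfl⟩ := exists_decomp two hx m
  exact AddSubgroup.add_mem_sup hd hc

/-- (L0) -/
theorem eq_one_of_fix [FaithfulSMul H M] (two : ∀ m : M, m + m = 0) {g : H}
    (hg : Odd (orderOf g)) (h : ∀ m ∈ br M g, g • m = m) : g = 1 := by
  refine FaithfulSMul.eq_of_smul_eq_smul (α := M) fun m => ?_
  have h1 := br_inf_fx two hg (sub_mem_br g m) (h _ (sub_mem_br g m))
  rw [one_smul]
  exact sub_eq_zero.mp h1

theorem ne_zero_of_br [FaithfulSMul H M] {g : H} (hg : g ≠ 1) : br M g ≠ ⊥ := by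
  intro h
  apply hg
  refine FaithfulSMul.eq_of_smul_eq_smul (α := M) fun m => ?_
  rw [one_smul]
  have : g • m - m ∈ (⊥ : AddSubgroup M) := h ▸ sub_mem_br g m
  exact sub_eq_zero.mp (by simpa using this)

theorem fix_of_pow {x : H} {m : M} {i : ℕ} (hx : Nat.Coprime i (orderOf x))
    (h : x ^ i • m = m) : x • m = m := by
  have h1 : x ^ i ∈ MulAction.stabilizer H m := h
  have h2 : x ∈ MulAction.stabilizer H m := by
    have : x ∈ Subgroup.zpowers (x ^ i) := by
      obtain ⟨j, hj⟩ := exists_pow_eq_self_of_coprime hx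
      exact Subgroup.mem_zpowers_iff.mpr ⟨j, by rw [zpow_natCast]; exact hj⟩
    exact (Subgroup.zpowers_le.mpr h1) this
  exact h2

theorem fix_of_sq {x : H} (hx : Odd (orderOf x)) {m : M} (h : x • x • m = m) : x • m = m := by
  refine fix_of_pow (i := 2) ?_ (by rw [pow_two, mul_smul]; exact h)
  exact Nat.coprime_two_left.mpr hx

end Basic

/-! ### Elements inverted by an involution -/

section Inverted

variable {H M : Type*} [Group H] [AddCommGroup M] [DistribMulAction H M]

/-- `C_{[M,x]}(a)` -/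
def cx (M : Type*) [AddCommGroup M] [DistribMulAction H M] (a x : H) : AddSubgroup M :=
  br M x ⊓ fx M a

theorem mem_cx {a x : H} {m : M} : m ∈ cx M a x ↔ m ∈ br M x ∧ a • m = m := Iff.rfl

theorem conj_eq_of_inv {a x : H} (hi : a * x * a⁻¹ = x⁻¹) : a * x = x⁻¹ * a := by
  rw [← hi]; group

theorem inv_smul_of_inv {a x : H} (hi : a * x * a⁻¹ = x⁻¹) {m : M} (hm : a • m = m) :
    a • x • m = x⁻¹ • m := by
  rw [← mul_smul, conj_eq_of_inv hi, mul_smul, hm]

theorem inv_smul_of_inv' {a x : H} (hi : a * x * a⁻¹ = x⁻¹) (m : M) :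
    a • x • m = x⁻¹ • a • m := by
  rw [← mul_smul, conj_eq_of_inv hi, mul_smul]

theorem inv_symm {a x : H} (hi : a * x * a⁻¹ = x⁻¹) : a * x⁻¹ * a⁻¹ = x := by
  have := congrArg (·⁻¹) hi
  simpa [mul_assoc] using this

theorem sub_mem_cx {a x : H} (two : ∀ m : M, m + m = 0) (ha : a * a = 1)
    (hi : a * x * a⁻¹ = x⁻¹) {m : M} (hm : m ∈ br M x) : a • m - m ∈ cx M a x := by
  rw [mem_cx]
  refine ⟨AddSubgroup.sub_mem _ (smul_mem_br_of_inv hi hm) hm, ?_⟩
  rw [smul_sub, ← mul_smul, ha, one_smul, sub_eq two, sub_eq two, add_comm]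

/-- `u + x w` determines `u, w ∈ C_{[M,x]}(a)` -/
theorem cx_indep {a x : H} (two : ∀ m : M, m + m = 0) (hx : Odd (orderOf x))
    (hi : a * x * a⁻¹ = x⁻¹) {u w : M} (hu : u ∈ cx M a x) (hw : w ∈ cx M a x)
    (h : u + x • w = 0) : u = 0 ∧ w = 0 := by
  have h1 : u = x • w := by
    have := eq_neg_of_add_eq_zero_left h
    rwa [neg_eq two] at this
  have h2 : a • u = x⁻¹ • w := by rw [h1]; exact inv_smul_of_inv hi hw.2
  have h3 : x • x • w = w := by
    rw [← h1]
    have h4 : a • u = u := hu.2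
    rw [h4] at h2
    rw [h2, smul_inv_smul]
  have h4 : w = 0 := br_inf_fx two hx hw.1 (fix_of_sq hx h3)
  exact ⟨by rw [h1, h4, smul_zero], h4⟩

theorem card_cx_sq_le [Finite M] {a x : H} (two : ∀ m : M, m + m = 0) (hx : Odd (orderOf x))
    (hi : a * x * a⁻¹ = x⁻¹) : Nat.card (cx M a x) * Nat.card (cx M a x) ≤ Nat.card (br M x) := by
  rw [← Nat.card_prod]
  refine Nat.card_le_card_of_injective
    (fun p : cx M a x × cx M a x => (⟨p.1 + x • p.2, add_mem p.1.2.1 (smul_mem_br_self p.2.2.1)⟩ : br M x))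
    ?_
  rintro ⟨⟨u, hu⟩, ⟨w, hw⟩⟩ ⟨⟨u', hu'⟩, ⟨w', hw'⟩⟩ h
  have h1 : u + x • w = u' + x • w' := congrArg Subtype.val h
  have h2 : (u - u') + x • (w - w') = 0 := by
    rw [smul_sub]
    have : u - u' + (x • w - x • w') = (u + x • w) - (u' + x • w') := by abel
    rw [this, h1, sub_self]
  obtain ⟨h3, h4⟩ := cx_indep two hx hi (sub_mem hu hu') (sub_mem hw hw') h2
  rw [sub_eq_zero] at h3 h4
  subst h3
  subst h4
  rfl

/-- `m ↦ a m - m` on `[M,x]` -/
def subHom {a x : H} (two : ∀ m : M, m + m = 0) (ha : a * a = 1) (hi : a * x * a⁻¹ = x⁻¹) :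
    br M x →+ cx M a x where
  toFun m := ⟨a • (m : M) - m, sub_mem_cx two ha hi m.2⟩
  map_zero' := by ext; simp
  map_add' m n := by ext; simp; abel

theorem card_br_eq [Finite M] {a x : H} (two : ∀ m : M, m + m = 0) (ha : a * a = 1)
    (hx : Odd (orderOf x)) (hi : a * x * a⁻¹ = x⁻¹) :
    Nat.card (br M x) = Nat.card (cx M a x) * Nat.card (cx M a x) ∧
      Function.Surjective (subHom (x := x) two ha hi) := by
  set f := subHom (x := x) two ha hi with hf
  have h1 : Nat.card f.ker * Nat.card f.range = Nat.card (br M x) := by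
    rw [← AddSubgroup.index_ker, AddSubgroup.card_mul_index]
  have h2 : Nat.card f.ker = Nat.card (cx M a x) := by
    refine Nat.card_congr
      { toFun := fun m => ⟨(m : br M x), ?_⟩
        invFun := fun m => ⟨⟨m, m.2.1⟩, ?_⟩
        left_inv := fun m => rfl
        right_inv := fun m => rfl }
    · rw [mem_cx]
      refine ⟨(m : br M x).2, ?_⟩
      have h3 : f (m : br M x) = 0 := m.2
      have h4 : a • ((m : br M x) : M) - ((m : br M x) : M) = 0 := congrArg Subtype.val h3
      exact sub_eq_zero.mp h4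
    · rw [AddMonoidHom.mem_ker]
      ext
      have h3 : a • (m : M) = m := m.2.2
      change a • (m : M) - (m : M) = 0
      rw [h3, sub_self]
  have h3 : Nat.card f.range ≤ Nat.card (cx M a x) :=
    Nat.card_le_card_of_injective _ (Subtype.val_injective)
  have h4 := card_cx_sq_le (M := M) two hx hi
  have h5 : 0 < Nat.card (cx M a x) := Nat.card_pos
  rw [← h1, h2] at h4
  have h6 : Nat.card (cx M a x) ≤ Nat.card f.range := Nat.le_of_mul_le_mul_left h4 h5
  have h7 : Nat.card f.range = Nat.card (cx M a x) := le_antisymm h3 h6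
  refine ⟨by rw [← h1, h2, h7], ?_⟩
  rw [← AddMonoidHom.range_eq_top]
  exact AddSubgroup.eq_top_of_card_eq _ h7

/-- `C_{[M,x]}(a) ≤ [M,a]` -/
theorem cx_le_br [Finite M] {a x : H} (two : ∀ m : M, m + m = 0) (ha : a * a = 1)
    (hx : Odd (orderOf x)) (hi : a * x * a⁻¹ = x⁻¹) {m : M} (hm : m ∈ cx M a x) :
    ∃ d ∈ br M x, a • d - d = m := by
  obtain ⟨d, hd⟩ := (card_br_eq two ha hx hi).2 ⟨m, hm⟩
  exact ⟨d, d.2, congrArg Subtype.val hd⟩

/-- `[M,x] = C + x C`, `C = C_{[M,x]}(a)` -/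
theorem exists_cx_add [Finite M] {a x : H} (two : ∀ m : M, m + m = 0) (ha : a * a = 1)
    (hx : Odd (orderOf x)) (hi : a * x * a⁻¹ = x⁻¹) {m : M} (hm : m ∈ br M x) :
    ∃ u ∈ cx M a x, ∃ w ∈ cx M a x, u + x • w = m := by
  have h1 := (card_br_eq (M := M) two ha hx hi).1
  let f : cx M a x × cx M a x → br M x := fun p =>
    ⟨p.1 + x • p.2, add_mem p.1.2.1 (smul_mem_br_self p.2.2.1)⟩
  have hinj : Function.Injective f := by
    rintro ⟨⟨u, hu⟩, ⟨w, hw⟩⟩ ⟨⟨u', hu'⟩, ⟨w', hw'⟩⟩ h
    have h1 : u + x • w = u' + x • w' := congrArg Subtype.val h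
    have h2 : (u - u') + x • (w - w') = 0 := by
      rw [smul_sub]
      have : u - u' + (x • w - x • w') = (u + x • w) - (u' + x • w') := by abel
      rw [this, h1, sub_self]
    obtain ⟨h3, h4⟩ := cx_indep two hx hi (sub_mem hu hu') (sub_mem hw hw') h2
    rw [sub_eq_zero] at h3 h4
    subst h3
    subst h4
    rfl
  have hbij : Function.Bijective f :=
    (Nat.bijective_iff_injective_and_card f).mpr ⟨hinj, by rw [Nat.card_prod, h1]⟩
  obtain ⟨⟨u, w⟩, hp⟩ := hbij.2 ⟨m, hm⟩
  exact ⟨u, u.2, w, w.2, congrArg Subtype.val hp⟩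

end Inverted

/-! ### Subgroups of order 4 -/

section Four

variable {M : Type*} [AddCommGroup M]

theorem mem_four {B : AddSubgroup M} (hB : Nat.card B = 4) (two : ∀ m : M, m + m = 0) {u v : M}
    (hu : u ∈ B) (hv : v ∈ B) (hu0 : u ≠ 0) (hv0 : v ≠ 0) (huv : u ≠ v) {w : M} (hw : w ∈ B) :
    w = 0 ∨ w = u ∨ w = v ∨ w = u + v := by
  classical
  have hfin : (B : Set M).Finite := by
    have : Finite B := Nat.finite_of_card_ne_zero (by rw [hB]; decide)
    exact Set.toFinite _
  have h1 : (({0, u, v, u + v} : Finset M) : Set M) ⊆ (B : Set M) := by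
    intro y hy
    simp only [Finset.coe_insert, Finset.coe_singleton, Set.mem_insert_iff,
      Set.mem_singleton_iff] at hy
    rcases hy with rfl | rfl | rfl | rfl
    · exact zero_mem _
    · exact hu
    · exact hv
    · exact add_mem hu hv
  have h2 : ({0, u, v, u + v} : Finset M).card = 4 := by
    have e1 : u + v ≠ 0 := by
      intro h
      apply huv
      have := eq_neg_of_add_eq_zero_left h
      rwa [neg_eq_of_add_eq_zero_left (two v)] at this
    have e2 : u ≠ u + v := by simpa using hv0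
    have e3 : v ≠ u + v := by simpa using hu0
    rw [Finset.card_insert_of_notMem, Finset.card_insert_of_notMem,
      Finset.card_insert_of_notMem, Finset.card_singleton]
    · simpa using e3
    · simp [huv, hv0]
    · simp [hu0.symm, hv0.symm, e1.symm]
  have h3 : (({0, u, v, u + v} : Finset M) : Set M) = (B : Set M) := by
    refine Set.eq_of_subset_of_ncard_le h1 ?_ hfin
    rw [Set.ncard_coe_finset, h2, ← hB]
    exact le_of_eq (Nat.card_coe_set_eq (B : Set M)).symm
  have h4 : w ∈ (({0, u, v, u + v} : Finset M) : Set M) := by rw [h3]; exact hw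
  simpa using h4

theorem exists_ne_zero_of_card {B : AddSubgroup M} (hB : 1 < Nat.card B) :
    ∃ u ∈ B, u ≠ 0 := by
  by_contra hcon
  push Not at hcon
  have : B = ⊥ := by
    rw [eq_bot_iff]
    intro u hu
    simpa using hcon u hu
  rw [this] at hB
  simp at hB

theorem exists_ne_ne_of_card {B : AddSubgroup M} (hB : Nat.card B = 4) {u : M} :
    ∃ v ∈ B, v ≠ 0 ∧ v ≠ u := by
  classical
  by_contra hcon
  push Not at hcon
  have h1 : (B : Set M) ⊆ (({0, u} : Finset M) : Set M) := by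
    intro y hy
    by_cases h : y = 0
    · simp [h]
    · simp [hcon y hy h]
  have h2 := Set.ncard_le_ncard h1 (Finset.finite_toSet _)
  rw [Set.ncard_coe_finset] at h2
  have h3 : Set.ncard (B : Set M) = 4 := by rw [← hB]; exact (Nat.card_coe_set_eq _).symm
  have h4 : ({0, u} : Finset M).card ≤ 2 := Finset.card_le_two
  omega

theorem exists_card_two_pow [Finite M] (two : ∀ m : M, m + m = 0) (N : AddSubgroup M) :
    ∃ k, Nat.card N = 2 ^ k := by
  let _ : Module (ZMod 2) N := AddCommGroup.zmodModule (n := 2) fun x => by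
    rw [two_nsmul]
    exact Subtype.ext (two x)
  have h := Module.natCard_eq_pow_finrank (K := ZMod 2) (V := N)
  rw [Nat.card_zmod] at h
  exact ⟨_, h⟩

theorem card_addAut_two [Finite M] (two : ∀ m : M, m + m = 0) {N : AddSubgroup M} {k : ℕ}
    (hk : Nat.card N = 2 ^ k) : Nat.card (AddAut N) = ∏ i : Fin k, (2 ^ k - 2 ^ (i : ℕ)) := by
  let _ : Module (ZMod 2) N := AddCommGroup.zmodModule (n := 2) fun x => by
    rw [two_nsmul]
    exact Subtype.ext (two x)
  exact Transfer.ElemAbAut.card_addAut 2 k hk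

theorem card_addAut_dvd [Finite M] (two : ∀ m : M, m + m = 0) {N : AddSubgroup M}
    (hN : Nat.card N ≤ 16) : Nat.card (AddAut N) ∣ 20160 := by
  obtain ⟨k, hk⟩ := exists_card_two_pow two N
  have hk4 : k ≤ 4 := by
    rw [hk] at hN
    by_contra hcon
    push Not at hcon
    have : 2 ^ 5 ≤ 2 ^ k := Nat.pow_le_pow_right (by decide) hcon
    omega
  rw [card_addAut_two two hk]
  interval_cases k <;> decide

theorem card_sup_le [Finite M] (A B : AddSubgroup M) :
    Nat.card (A ⊔ B : AddSubgroup M) ≤ Nat.card A * Nat.card B := by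
  rw [← Nat.card_prod]
  refine Nat.card_le_card_of_surjective
    (fun p : A × B => (⟨p.1 + p.2, AddSubgroup.add_mem_sup p.1.2 p.2.2⟩ : (A ⊔ B : AddSubgroup M)))
    ?_
  rintro ⟨m, hm⟩
  obtain ⟨a, ha, b, hb, rfl⟩ := AddSubgroup.mem_sup.mp hm
  exact ⟨(⟨a, ha⟩, ⟨b, hb⟩), rfl⟩

end Four

/-! ### Groups acting faithfully on `N ≥ [M,K]` -/

section Into

variable {H M : Type*} [Group H] [AddCommGroup M] [DistribMulAction H M]

/-- an element `g` with `[M,g] ≤ N` acts on `N` -/
def intoAut (N : AddSubgroup M) (g : (into N : Subgroup H)) : AddAut N where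
  toFun := fun m => ⟨(g : H) • (m : M), smul_mem_of_into g.2 m.2⟩
  invFun := fun m => ⟨(g : H)⁻¹ • (m : M), smul_mem_of_into (inv_mem g.2) m.2⟩
  left_inv := fun m => by ext; simp
  right_inv := fun m => by ext; simp
  map_add' := fun m n => by ext; simp

/-- the action of `{g | [M,g] ≤ N}` on `N` -/
def intoHom (N : AddSubgroup M) : (into N : Subgroup H) →* Multiplicative (AddAut N) where
  toFun g := Multiplicative.ofAdd (intoAut N g)
  map_one' := by
    apply congrArg Multiplicative.ofAdd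
    ext m
    change ((1 : H) • (m : M)) = m
    rw [one_smul]
  map_mul' g h := by
    apply congrArg Multiplicative.ofAdd
    ext m
    change (((g : H) * (h : H)) • (m : M)) = (g : H) • ((h : H) • (m : M))
    rw [mul_smul]

/-- a group of odd order acting trivially on `M / N` is faithful on `N` -/
theorem card_dvd_addAut [FaithfulSMul H M] (two : ∀ m : M, m + m = 0) {N : AddSubgroup M}
    {K : Subgroup H} (hK : ∀ k ∈ K, br M k ≤ N) (hodd : ∀ k ∈ K, Odd (orderOf k)) :
    Nat.card K ∣ Nat.card (AddAut N) := by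
  let f : K →* Multiplicative (AddAut N) :=
    (intoHom N).comp (Subgroup.inclusion (fun k hk => hK k hk))
  have hf : Function.Injective f := by
    rw [injective_iff_map_eq_one]
    intro k hk
    have h1 : ∀ m ∈ N, (k : H) • m = m := by
      intro m hm
      have h0 : Multiplicative.toAdd (f k) = Multiplicative.toAdd 1 := by rw [hk]
      have h2 : Multiplicative.toAdd (f k) ⟨m, hm⟩ =
        (Multiplicative.toAdd (1 : Multiplicative (AddAut N))) ⟨m, hm⟩ := by rw [h0]
      exact congrArg Subtype.val h2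
    have h3 : (k : H) = 1 := eq_one_of_fix two (hodd k k.2) fun m hm => h1 m (hK k k.2 hm)
    exact Subtype.ext h3
  have h4 : Nat.card K ∣ Nat.card (Multiplicative (AddAut N)) :=
    Subgroup.card_dvd_of_injective f hf
  exact h4

theorem odd_orderOf_of_isPGroup [Finite H] {p : ℕ} (hp : p.Prime) (hp2 : p ≠ 2) {F : Subgroup H}
    (hF : IsPGroup p F) {x : H} (hx : x ∈ F) : Odd (orderOf x) := by
  have : Fact p.Prime := ⟨hp⟩
  obtain ⟨k, hk⟩ := IsPGroup.iff_orderOf.mp hF ⟨x, hx⟩
  rw [Subgroup.orderOf_mk] at hk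
  rw [hk]
  exact (hp.odd_of_ne_two hp2).pow

end Into

/-! ### (3.3) natural elements -/

section Natural

variable {H M : Type*} [Group H] [AddCommGroup M] [DistribMulAction H M]

theorem nat_sq (two : ∀ m : M, m + m = 0) {x : H} (hx : Odd (orderOf x))
    (hn : Nat.card (br M x) = 4) {u : M} (hu : u ∈ br M x) : x • x • u = u + x • u := by
  by_cases hu0 : u = 0
  · simp [hu0]
  have h1 : x • u ≠ u := fun h => hu0 (br_inf_fx two hx hu h)
  have h2 : x • u ≠ 0 := fun h => hu0 ((smul_eq_zero_iff_eq x).mp h)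
  rcases mem_four hn two hu (smul_mem_br_self hu) hu0 h2 h1.symm
    (smul_mem_br_self (smul_mem_br_self hu)) with h | h | h | h
  · exact absurd ((smul_eq_zero_iff_eq x).mp h) h2
  · exact absurd (fix_of_sq hx h) h1
  · exact absurd (smul_left_cancel x h) h1
  · exact h

theorem nat_sum (two : ∀ m : M, m + m = 0) {x : H} (hx : Odd (orderOf x))
    (hn : Nat.card (br M x) = 4) {u : M} (hu : u ∈ br M x) : u + x • u + x ^ 2 • u = 0 := by
  rw [pow_two, mul_smul, nat_sq two hx hn hu, two]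

theorem nat_cube [FaithfulSMul H M] (two : ∀ m : M, m + m = 0) {x : H} (hx : Odd (orderOf x))
    (hn : Nat.card (br M x) = 4) : x ^ 3 = 1 := by
  refine eq_one_of_fix two (Odd.of_dvd_nat hx (orderOf_pow_dvd 3)) fun m hm => ?_
  have hm' := br_pow_le x 3 hm
  rw [pow_succ', pow_two, mul_smul, mul_smul, nat_sq two hx hn hm', smul_add,
    nat_sq two hx hn hm', add_comm (x • m), add_assoc, two, add_zero]

theorem nat_ne_one {x : H} (hn : Nat.card (br M x) = 4) : x ≠ 1 := by
  rintro rfl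
  rw [br_one] at hn
  simp at hn

theorem nat_orderOf [FaithfulSMul H M] (two : ∀ m : M, m + m = 0) {x : H} (hx : Odd (orderOf x))
    (hn : Nat.card (br M x) = 4) : orderOf x = 3 :=
  orderOf_eq_prime (nat_cube two hx hn) (nat_ne_one hn)

/-- the four elements of a natural block -/
theorem nat_cases (two : ∀ m : M, m + m = 0) {x : H} (hx : Odd (orderOf x))
    (hn : Nat.card (br M x) = 4) {u : M} (hu : u ∈ br M x) (hu0 : u ≠ 0) {w : M}
    (hw : w ∈ br M x) : w = 0 ∨ w = u ∨ w = x • u ∨ w = x ^ 2 • u := by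
  have h1 : x • u ≠ u := fun h => hu0 (br_inf_fx two hx hu h)
  have h2 : x • u ≠ 0 := fun h => hu0 ((smul_eq_zero_iff_eq x).mp h)
  rcases mem_four hn two hu (smul_mem_br_self hu) hu0 h2 h1.symm hw with h | h | h | h
  · exact Or.inl h
  · exact Or.inr (Or.inl h)
  · exact Or.inr (Or.inr (Or.inl h))
  · right; right; right
    rw [h, pow_two, mul_smul, nat_sq two hx hn hu]

variable [Finite H] [Finite M] [FaithfulSMul H M]

theorem nat_comm (two : ∀ m : M, m + m = 0) {p : ℕ} (hp : p.Prime) (hp2 : p ≠ 2)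
    {F : Subgroup H} (hF : IsPGroup p F) {x y : H} (hx : x ∈ F) (hy : y ∈ F)
    (hnx : Nat.card (br M x) = 4) (hny : Nat.card (br M y) = 4) : x * y = y * x := by
  have hox := odd_orderOf_of_isPGroup hp hp2 hF hx
  have hoy := odd_orderOf_of_isPGroup hp hp2 hF hy
  have : Fact p.Prime := ⟨hp⟩
  have hp3 : p = 3 := by
    obtain ⟨k, hk⟩ := IsPGroup.iff_orderOf.mp hF ⟨x, hx⟩
    rw [Subgroup.orderOf_mk, nat_orderOf two hox hnx] at hk
    have h1 : p ∣ 3 := by
      rcases Nat.eq_zero_or_pos k with rfl | hk0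
      · simp at hk
      · rw [hk]; exact dvd_pow_self p hk0.ne'
    exact (Nat.prime_dvd_prime_iff_eq hp Nat.prime_three).mp h1
  subst hp3
  set K : Subgroup H := Subgroup.closure {x, y} with hK
  have hKF : K ≤ F := by
    rw [hK, Subgroup.closure_le]
    rintro z (rfl | rfl)
    · exact hx
    · exact hy
  set N : AddSubgroup M := br M x ⊔ br M y with hN
  have hKN : K ≤ into N := by
    rw [hK, Subgroup.closure_le]
    rintro z (rfl | rfl)
    · exact mem_into.mpr le_sup_left
    · exact mem_into.mpr le_sup_right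
  have hN16 : Nat.card N ≤ 16 := by
    have := card_sup_le (br M x) (br M y)
    rwa [hnx, hny] at this
  have hdvd : Nat.card K ∣ 20160 :=
    (card_dvd_addAut two (fun k hk => hKN hk)
      (fun k hk => odd_orderOf_of_isPGroup hp hp2 hF (hKF hk))).trans (card_addAut_dvd two hN16)
  have hKp : IsPGroup 3 K := hF.to_le hKF
  obtain ⟨k, hk⟩ := IsPGroup.iff_card.mp hKp
  have hk2 : k ≤ 2 := by
    by_contra hcon
    push Not at hcon
    have h27 : 27 ∣ 20160 := by
      refine dvd_trans ?_ hdvd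
      rw [hk]
      exact pow_dvd_pow 3 hcon
    revert h27
    decide
  have hcomm : ∀ g h : K, g * h = h * g := by
    interval_cases k
    · have : Subsingleton K := (Nat.card_eq_one_iff_unique.mp (by simpa using hk)).1
      intro g h
      exact Subsingleton.elim _ _
    · have : IsCyclic K := isCyclic_of_prime_card (p := 3) (by simpa using hk)
      intro g h
      exact (IsCyclic.commGroup (α := K)).mul_comm g h
    · intro g h
      exact (IsPGroup.commGroupOfCardEqPrimeSq (p := 3) hk).mul_comm g h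
  have hxK : x ∈ K := Subgroup.subset_closure (by simp)
  have hyK : y ∈ K := Subgroup.subset_closure (by simp)
  exact congrArg Subtype.val (hcomm ⟨x, hxK⟩ ⟨y, hyK⟩)

/-- (3.3) two natural elements with meeting blocks generate the same group -/
theorem nat_same (two : ∀ m : M, m + m = 0) {p : ℕ} (hp : p.Prime) (hp2 : p ≠ 2)
    {F : Subgroup H} (hF : IsPGroup p F) {x y : H} (hx : x ∈ F) (hy : y ∈ F)
    (hnx : Nat.card (br M x) = 4) (hny : Nat.card (br M y) = 4) {u : M} (hux : u ∈ br M x)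
    (huy : u ∈ br M y) (hu0 : u ≠ 0) : br M x = br M y ∧ (y = x ∨ y = x⁻¹) := by
  have hc := nat_comm two hp hp2 hF hx hy hnx hny
  have hox := odd_orderOf_of_isPGroup hp hp2 hF hx
  have hoy := odd_orderOf_of_isPGroup hp hp2 hF hy
  have hle : br M x ≤ br M y := by
    intro w hw
    rcases nat_cases two hox hnx hux hu0 hw with rfl | rfl | rfl | rfl
    · exact zero_mem _
    · exact huy
    · exact smul_mem_br_of_comm hc huy
    · rw [pow_two, mul_smul]
      exact smul_mem_br_of_comm hc (smul_mem_br_of_comm hc huy)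
  have heq : br M x = br M y := AddSubgroup.eq_of_le_of_card_ge hle (by rw [hnx, hny])
  refine ⟨heq, ?_⟩
  have key : ∀ z : H, z ∈ F → br M z ≤ br M y → z * y = y * z → z • u = u → z = 1 := by
    intro z hz hzy hzc hzu
    refine eq_one_of_fix two (odd_orderOf_of_isPGroup hp hp2 hF hz) fun m hm => ?_
    rcases nat_cases two hoy hny huy hu0 (hzy hm) with rfl | rfl | rfl | rfl
    · simp
    · exact hzu
    · rw [← mul_smul, hzc, mul_smul, hzu]
    · rw [pow_two, mul_smul, ← mul_smul z, hzc, mul_smul, ← mul_smul z, hzc, mul_smul, hzu]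
  have hyu0 : y • u ≠ 0 := fun h => hu0 ((smul_eq_zero_iff_eq y).mp h)
  rcases nat_cases two hox hnx hux hu0 (heq ▸ smul_mem_br_self huy : y • u ∈ br M x)
    with h | h | h | h
  · exact absurd h hyu0
  · exact absurd (br_inf_fx two hoy huy h) hu0
  · left
    have h1 : x⁻¹ * y = 1 := by
      refine key _ (mul_mem (inv_mem hx) hy) ?_ ?_ ?_
      · refine (br_mul_le _ _).trans (sup_le ?_ le_rfl)
        rw [br_inv, heq]
      · have hc' : Commute x y := hc
        exact (hc'.inv_left.mul_left (Commute.refl y)).eq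
      · rw [mul_smul, h, inv_smul_smul]
    have := inv_mul_eq_one.mp h1
    exact this.symm
  · right
    have h3 := nat_cube two hox hnx
    have h1 : x * y = 1 := by
      refine key _ (mul_mem hx hy) ?_ ?_ ?_
      · refine (br_mul_le _ _).trans (sup_le ?_ le_rfl)
        rw [heq]
      · have hc' : Commute x y := hc
        exact (hc'.mul_left (Commute.refl y)).eq
      · rw [mul_smul, h, ← mul_smul, ← pow_succ', h3, one_smul]
    exact eq_inv_of_mul_eq_one_right h1

/-- (3.3) natural elements with different blocks centralise each other's block -/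
theorem nat_indep (two : ∀ m : M, m + m = 0) {p : ℕ} (hp : p.Prime) (hp2 : p ≠ 2)
    {F : Subgroup H} (hF : IsPGroup p F) {x y : H} (hx : x ∈ F) (hy : y ∈ F)
    (hnx : Nat.card (br M x) = 4) (hny : Nat.card (br M y) = 4) (hne : br M x ≠ br M y) :
    br M y ≤ fx M x := by
  have hc := nat_comm two hp hp2 hF hx hy hnx hny
  intro u hu
  rw [mem_fx]
  by_contra hcon
  have h1 : x • u - u ∈ br M x := sub_mem_br x u
  have h2 : x • u - u ∈ br M y := sub_mem (smul_mem_br_of_comm hc hu) hu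
  exact hne (nat_same two hp hp2 hF hx hy hnx hny h1 h2 (sub_ne_zero.mpr hcon)).1

/-- (3.3) a conjugate of a natural element -/
theorem nat_conj {x : H} (hnx : Nat.card (br M x) = 4) (h : H) :
    Nat.card (br M (h * x * h⁻¹)) = 4 := by rw [card_br_conj, hnx]

end Natural

/-! ### (3.2) and (3.1) -/

section Quad

variable {H M : Type*} [Group H] [AddCommGroup M] [DistribMulAction H M]

/-- (3.2): `a` inverts `x`, `a` centralises `[M,b]`, `b` commutes with `x`: `b` is trivial on `[M,x]` -/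
theorem triv_on_br (two : ∀ m : M, m + m = 0) {a b x : H} (hx : Odd (orderOf x))
    (hi : a * x * a⁻¹ = x⁻¹) (hq : ∀ m : M, a • (b • m - m) = b • m - m) (hb : b * x = x * b)
    {m : M} (hm : m ∈ br M x) : b • m = m := by
  have h1 : b • m - m ∈ br M x := sub_mem (smul_mem_br_of_comm hb hm) hm
  have h2 : a • (b • m - m) = b • m - m := hq m
  have h3 : a • (x • (b • m - m)) = x • (b • m - m) := by
    have := hq (x • m)
    rwa [← mul_smul, hb, mul_smul, ← smul_sub] at this
  have h4 : x • x • (b • m - m) = b • m - m := by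
    rw [inv_smul_of_inv hi h2] at h3
    rw [← h3, smul_inv_smul]
  exact sub_eq_zero.mp (br_inf_fx two hx h1 (fix_of_sq hx h4))

/-- `[F,A]` -/
def cmm (F A : Subgroup H) : Subgroup H :=
  Subgroup.closure {g | ∃ f ∈ F, ∃ a ∈ A, f * a * f⁻¹ * a⁻¹ = g}

theorem cmm_le {F A : Subgroup H} (hn : ∀ a ∈ A, ∀ f ∈ F, a * f * a⁻¹ ∈ F) : cmm F A ≤ F := by
  rw [cmm, Subgroup.closure_le]
  rintro _ ⟨f, hf, a, ha, rfl⟩
  have : f * a * f⁻¹ * a⁻¹ = f * (a * f * a⁻¹)⁻¹ := by group
  rw [this]
  exact mul_mem hf (inv_mem (hn a ha f hf))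

theorem conj_mem_cmm {F A : Subgroup H} {g : H} (h1 : ∀ f ∈ F, g * f * g⁻¹ ∈ F)
    (h2 : ∀ a ∈ A, g * a * g⁻¹ ∈ A) {c : H} (hc : c ∈ cmm F A) : g * c * g⁻¹ ∈ cmm F A := by
  induction hc using Subgroup.closure_induction with
  | mem x hx =>
    obtain ⟨f, hf, a, ha, rfl⟩ := hx
    refine Subgroup.subset_closure ⟨g * f * g⁻¹, h1 f hf, g * a * g⁻¹, h2 a ha, ?_⟩
    group
  | one => simp
  | mul x y _ _ hx hy =>
    have : g * (x * y) * g⁻¹ = g * x * g⁻¹ * (g * y * g⁻¹) := by group
    rw [this]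
    exact mul_mem hx hy
  | inv x _ hx =>
    have : g * x⁻¹ * g⁻¹ = (g * x * g⁻¹)⁻¹ := by group
    rw [this]
    exact inv_mem hx

theorem conj_mem_cmm' {F A : Subgroup H} {g : H} (hg : g ∈ F) {c : H} (hc : c ∈ cmm F A) :
    g * c * g⁻¹ ∈ cmm F A := by
  induction hc using Subgroup.closure_induction with
  | mem x hx =>
    obtain ⟨f, hf, a, ha, rfl⟩ := hx
    have h1 : g * f * a * (g * f)⁻¹ * a⁻¹ ∈ cmm F A :=
      Subgroup.subset_closure ⟨g * f, mul_mem hg hf, a, ha, rfl⟩
    have h2 : g * a * g⁻¹ * a⁻¹ ∈ cmm F A := Subgroup.subset_closure ⟨g, hg, a, ha, rfl⟩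
    have : g * (f * a * f⁻¹ * a⁻¹) * g⁻¹ =
      (g * f * a * (g * f)⁻¹ * a⁻¹) * (g * a * g⁻¹ * a⁻¹)⁻¹ := by group
    rw [this]
    exact mul_mem h1 (inv_mem h2)
  | one => simp
  | mul x y _ _ hx hy =>
    have : g * (x * y) * g⁻¹ = g * x * g⁻¹ * (g * y * g⁻¹) := by group
    rw [this]
    exact mul_mem hx hy
  | inv x _ hx =>
    have : g * x⁻¹ * g⁻¹ = (g * x * g⁻¹)⁻¹ := by group
    rw [this]
    exact inv_mem hx

/-- `[M,K]` -/
def brs (M : Type*) [AddCommGroup M] [DistribMulAction H M] (K : Subgroup H) : AddSubgroup M :=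
  ⨆ k : K, br M (k : H)

/-- `C_M(K)` -/
def fxs (M : Type*) [AddCommGroup M] [DistribMulAction H M] (K : Subgroup H) : AddSubgroup M :=
  ⨅ k : K, fx M (k : H)

theorem mem_fxs {K : Subgroup H} {m : M} : m ∈ fxs M K ↔ ∀ k ∈ K, k • m = m := by
  simp only [fxs, AddSubgroup.mem_iInf, mem_fx, Subtype.forall]

theorem br_le_brs {K : Subgroup H} {k : H} (hk : k ∈ K) : br M k ≤ brs M K :=
  le_iSup (fun k : K => br M (k : H)) ⟨k, hk⟩

theorem brs_le {K : Subgroup H} {N : AddSubgroup M} (h : ∀ k ∈ K, br M k ≤ N) : brs M K ≤ N :=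
  iSup_le fun k => h k k.2

theorem smul_mem_brs {K : Subgroup H} {g : H} (hg : ∀ k ∈ K, g * k * g⁻¹ ∈ K) {m : M}
    (hm : m ∈ brs M K) : g • m ∈ brs M K := by
  have h : brs M K ≤ (brs M K).comap (DistribSMul.toAddMonoidHom M g) := by
    refine brs_le fun k hk m hm => ?_
    exact br_le_brs (hg k hk) (smul_mem_br_conj g hm)
  exact h hm

theorem smul_mem_fxs {K : Subgroup H} {g : H} (hg : ∀ k ∈ K, g⁻¹ * k * g ∈ K) {m : M}
    (hm : m ∈ fxs M K) : g • m ∈ fxs M K := by
  rw [mem_fxs] at hm ⊢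
  intro k hk
  have := hm _ (hg k hk)
  rw [mul_smul, mul_smul, inv_smul_eq_iff] at this
  exact this

theorem smul_brs_le {K : Subgroup H} {g : H} {m : M} (hm : m ∈ brs M K)
    (h : ∀ k ∈ K, ∀ n ∈ br M k, g • n = n) : g • m = m := by
  have h' : brs M K ≤ fx M g := brs_le fun k hk n hn => h k hk n hn
  exact h' hm

variable [Finite H]

/-- `M = [M,K] + C_M(K)`, `K` of odd order -/
theorem exists_decomp_sub (two : ∀ m : M, m + m = 0) {K : Subgroup H} (hK : Odd (Nat.card K))
    (m : M) : ∃ d ∈ brs M K, ∃ c ∈ fxs M K, d + c = m := by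
  classical
  have : Fintype K := Fintype.ofFinite K
  let c : M := ∑ k : K, (k : H) • m
  have hc : c ∈ fxs M K := by
    rw [mem_fxs]
    intro g hg
    change g • (∑ k : K, (k : H) • m) = ∑ k : K, (k : H) • m
    rw [Finset.smul_sum]
    refine Fintype.sum_equiv (Equiv.mulLeft (⟨g, hg⟩ : K)) _ _ fun k => ?_
    change g • (k : H) • m = (g * (k : H)) • m
    rw [mul_smul]
  have hd : m - c ∈ brs M K := by
    have h1 : c = ∑ k : K, ((k : H) • m - m) + m := by
      rw [Finset.sum_sub_distrib]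
      simp only [Finset.sum_const, Finset.card_univ]
      rw [← Nat.card_eq_fintype_card, odd_nsmul two hK]
      abel
    have h2 : ∑ k : K, ((k : H) • m - m) ∈ brs M K :=
      AddSubgroup.sum_mem _ fun k _ => br_le_brs k.2 (sub_mem_br _ _)
    have h3 : m - c = -∑ k : K, ((k : H) • m - m) := by rw [h1]; abel
    rw [h3]
    exact neg_mem h2
  exact ⟨m - c, hd, c, hc, by abel⟩

/-- `[M,K] ∩ C_M(K) = 0`, `K` of odd order -/
theorem brs_inf_fxs (two : ∀ m : M, m + m = 0) {K : Subgroup H} (hK : Odd (Nat.card K))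
    {m : M} (hm : m ∈ brs M K) (hf : m ∈ fxs M K) : m = 0 := by
  classical
  have : Fintype K := Fintype.ofFinite K
  -- the trace kills `[M,K]`
  let tr : M →+ M :=
    { toFun := fun m => ∑ k : K, (k : H) • m
      map_zero' := by simp
      map_add' := fun a b => by simp only [smul_add, Finset.sum_add_distrib] }
  have h1 : brs M K ≤ tr.ker := by
    refine brs_le fun g hg => ?_
    rintro _ ⟨n, rfl⟩
    rw [AddMonoidHom.mem_ker, map_sub, sub_eq_zero]
    change ∑ k : K, (k : H) • g • n = ∑ k : K, (k : H) • n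
    refine Fintype.sum_equiv (Equiv.mulRight (⟨g, hg⟩ : K)) _ _ fun k => ?_
    change (k : H) • g • n = ((k : H) * g) • n
    rw [mul_smul]
  have h2 : tr m = 0 := h1 hm
  have h3 : tr m = Nat.card K • m := by
    change ∑ k : K, (k : H) • m = _
    rw [Finset.sum_congr rfl (fun (k : K) _ => (mem_fxs.mp hf) k k.2)]
    simp [Finset.sum_const, Finset.card_univ, Nat.card_eq_fintype_card]
  rw [h3] at h2
  exact eq_zero_of_odd_nsmul two hK h2

/-- a 2-group acting on a nonzero invariant subgroup of `M` fixes a nonzero vector in it -/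
theorem exists_fixed [Finite M] (two : ∀ m : M, m + m = 0) {T : Subgroup H} (hT : IsPGroup 2 T)
    {N : AddSubgroup M} (hN : ∀ t ∈ T, ∀ m ∈ N, t • m ∈ N) (h0 : N ≠ ⊥) :
    ∃ m ∈ N, m ≠ 0 ∧ ∀ t ∈ T, t • m = m := by
  classical
  let _ : MulAction T N :=
    { smul := fun t m => ⟨(t : H) • (m : M), hN t t.2 m m.2⟩
      one_smul := fun m => Subtype.ext (one_smul H (m : M))
      mul_smul := fun s t m => Subtype.ext (mul_smul (s : H) (t : H) (m : M)) }
  have hsm : ∀ (t : T) (m : N), ((t • m : N) : M) = (t : H) • (m : M) := fun _ _ => rfl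
  have h2 : 2 ∣ Nat.card N := by
    obtain ⟨k, hk⟩ := exists_card_two_pow two N
    rcases Nat.eq_zero_or_pos k with rfl | hk0
    · exfalso
      apply h0
      rw [pow_zero] at hk
      exact AddSubgroup.card_eq_one.mp hk
    · rw [hk]; exact dvd_pow_self 2 hk0.ne'
  have hz : (0 : N) ∈ MulAction.fixedPoints T N := by
    intro t
    exact Subtype.ext (by rw [hsm]; exact smul_zero _)
  obtain ⟨b, hb, hb0⟩ := hT.exists_fixed_point_of_prime_dvd_card_of_fixed_point N h2 hz
  refine ⟨b, b.2, fun h => hb0 (Subtype.ext h.symm), fun t ht => ?_⟩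
  have := congrArg Subtype.val (hb ⟨t, ht⟩)
  rwa [hsm] at this

/-- **(3.1)**: `A` (quadratic on `M`, not centralising the odd order group `F`) is trivial on `C_M([F,A])` and faithful
on `F`. `FIX`: a `T`-fixed vector of `[M,A]` is `v0`. -/
theorem faithful_on_F [Finite M] [FaithfulSMul H M] (two : ∀ m : M, m + m = 0) {v0 : M}
    {A F T : Subgroup H} (hq : ∀ a ∈ A, ∀ b ∈ A, ∀ m : M, a • (b • m - m) = b • m - m)
    (hF : Odd (Nat.card F)) (hAF : ∀ a ∈ A, ∀ f ∈ F, a * f * a⁻¹ ∈ F)
    (hT : IsPGroup 2 T) (hTA : ∀ t ∈ T, ∀ a ∈ A, t * a * t⁻¹ ∈ A)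
    (hTF : ∀ t ∈ T, ∀ f ∈ F, t * f * t⁻¹ ∈ F)
    (FIX : ∀ m ∈ brs M A, m ≠ 0 → (∀ t ∈ T, t • m = m) → m = v0)
    (hne : ∃ a ∈ A, ∃ f ∈ F, a * f ≠ f * a) :
    (∀ a ∈ A, ∀ m ∈ fxs M (cmm F A), a • m = m) ∧
      (∀ b ∈ A, (∀ f ∈ F, b * f = f * b) → b = 1) := by
  classical
  set P := cmm F A with hP
  have hPF : P ≤ F := cmm_le hAF
  have hPodd : Odd (Nat.card P) := Odd.of_dvd_nat hF (Subgroup.card_dvd_of_le hPF)
  have hTP : ∀ t ∈ T, ∀ k ∈ P, t * k * t⁻¹ ∈ P := fun t ht k hk =>
    conj_mem_cmm (hTF t ht) (hTA t ht) hk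
  -- a group trivially acted on by `A` and `F`-invariant is centralised by `P`
  have key : ∀ U : AddSubgroup M, (∀ f ∈ F, ∀ u ∈ U, f • u ∈ U) → (∀ a ∈ A, ∀ u ∈ U, a • u = u) →
      ∀ k ∈ P, ∀ u ∈ U, k • u = u := by
    intro U hU1 hU2 k hk u hu
    have : P ≤ MulAction.stabilizer H u := by
      rw [hP, cmm, Subgroup.closure_le]
      rintro _ ⟨f, hf, a, ha, rfl⟩
      change (f * a * f⁻¹ * a⁻¹) • u = u
      have h1 : a⁻¹ • u = u := by rw [inv_smul_eq_iff, hU2 a ha u hu]
      have h2 : f⁻¹ • u ∈ U := hU1 _ (inv_mem hf) u hu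
      rw [mul_smul, mul_smul, mul_smul, h1, hU2 a ha _ h2, smul_inv_smul]
    exact this hk
  have hPA : ∀ a ∈ A, ∀ k ∈ P, a * k * a⁻¹ ∈ P := fun a ha k hk =>
    conj_mem_cmm (hAF a ha) (fun b hb => mul_mem (mul_mem ha hb) (inv_mem ha)) hk
  -- A is nontrivial on [M,P]
  have hA1 : ∃ a ∈ A, ∃ m ∈ brs M P, a • m - m ≠ 0 := by
    by_contra hcon
    push Not at hcon
    have h1 : ∀ k ∈ P, ∀ u ∈ brs M P, k • u = u := by
      refine key (brs M P) (fun f hf u hu => smul_mem_brs (fun k hk => conj_mem_cmm' hf hk) hu)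
        (fun a ha u hu => sub_eq_zero.mp (hcon a ha u hu))
    have h2 : ∀ k ∈ P, k = 1 := by
      intro k hk
      refine FaithfulSMul.eq_of_smul_eq_smul (α := M) fun m => ?_
      have h3 : k • m - m ∈ brs M P := br_le_brs hk (sub_mem_br k m)
      have h4 : k • m - m ∈ fxs M P := mem_fxs.mpr fun g hg => h1 g hg _ h3
      rw [one_smul]
      exact sub_eq_zero.mp (brs_inf_fxs two hPodd h3 h4)
    obtain ⟨a, ha, f, hf, hne⟩ := hne
    apply hne
    have h3 : f * a * f⁻¹ * a⁻¹ = 1 := h2 _ (Subgroup.subset_closure ⟨f, hf, a, ha, rfl⟩)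
    have h4 : f * a = a * f := by
      have := mul_inv_eq_one.mp h3
      have h5 := mul_inv_eq_iff_eq_mul.mp this
      exact h5
    exact h4.symm
  have hb1 : ∀ N : AddSubgroup M, (∀ t ∈ T, ∀ m ∈ N, t • m ∈ N) →
      (∀ a ∈ A, ∀ m ∈ N, a • m ∈ N) → (∃ a ∈ A, ∃ m ∈ N, a • m - m ≠ 0) → v0 ∈ N := by
    intro N hN1 hN2 hN3
    let U : AddSubgroup M := AddSubgroup.closure {u | ∃ a ∈ A, ∃ m ∈ N, a • m - m = u}
    have hUN : U ≤ N := by
      rw [AddSubgroup.closure_le]
      rintro _ ⟨a, ha, m, hm, rfl⟩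
      exact sub_mem (hN2 a ha m hm) hm
    have hUA : U ≤ brs M A := by
      rw [AddSubgroup.closure_le]
      rintro _ ⟨a, ha, m, hm, rfl⟩
      exact br_le_brs ha (sub_mem_br a m)
    have hUT : ∀ t ∈ T, ∀ m ∈ U, t • m ∈ U := by
      intro t ht
      have : U ≤ U.comap (DistribSMul.toAddMonoidHom M t) := by
        rw [AddSubgroup.closure_le]
        rintro _ ⟨a, ha, m, hm, rfl⟩
        refine AddSubgroup.subset_closure ⟨t * a * t⁻¹, hTA t ht a ha, t • m, hN1 t ht m hm, ?_⟩
        change (t * a * t⁻¹) • t • m - t • m = t • (a • m - m)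
        rw [smul_sub, mul_smul, mul_smul, inv_smul_smul]
      exact fun m hm => this hm
    have hU0 : U ≠ ⊥ := by
      obtain ⟨a, ha, m, hm, h⟩ := hN3
      intro h0
      apply h
      have : a • m - m ∈ U := AddSubgroup.subset_closure ⟨a, ha, m, hm, rfl⟩
      rw [h0] at this
      simpa using this
    obtain ⟨u, hu, hu0, huT⟩ := exists_fixed two hT hUT hU0
    rw [← FIX u (hUA hu) hu0 huT]
    exact hUN hu
  have hA2 : ∀ a ∈ A, ∀ m ∈ fxs M P, a • m = m := by
    by_contra hcon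
    push Not at hcon
    obtain ⟨a, ha, m, hm, h⟩ := hcon
    have h1 : v0 ∈ brs M P := hb1 _ (fun t ht m hm => smul_mem_brs (hTP t ht) hm)
      (fun a ha m hm => smul_mem_brs (hPA a ha) hm) hA1
    have h2 : v0 ∈ fxs M P := by
      refine hb1 _ (fun t ht m hm => smul_mem_fxs (fun k hk => ?_) hm)
        (fun a ha m hm => smul_mem_fxs (fun k hk => ?_) hm) ⟨a, ha, m, hm, sub_ne_zero.mpr h⟩
      · simpa using hTP t⁻¹ (inv_mem ht) k hk
      · simpa using hPA a⁻¹ (inv_mem ha) k hk
    have h3 : v0 = 0 := brs_inf_fxs two hPodd h1 h2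
    -- but `v0 ≠ 0`: use FIX on the nonzero vector
    obtain ⟨a', ha', m', hm', h'⟩ := hA1
    let U : AddSubgroup M := brs M A
    have hU0 : U ≠ ⊥ := by
      intro h0
      apply h'
      have : a' • m' - m' ∈ U := br_le_brs ha' (sub_mem_br a' m')
      rw [h0] at this
      simpa using this
    obtain ⟨u, hu, hu0, huT⟩ := exists_fixed two hT (N := U)
      (fun t ht m hm => smul_mem_brs (hTA t ht) hm) hU0
    exact hu0 ((FIX u hu hu0 huT).trans h3)
  refine ⟨hA2, fun b hb hbF => ?_⟩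
  -- [M,b] is F-invariant and centralised by A
  have h1 : ∀ k ∈ P, ∀ u ∈ br M b, k • u = u := by
    refine key (br M b) (fun f hf u hu => smul_mem_br_of_comm (hbF f hf).symm hu) ?_
    rintro a ha _ ⟨n, rfl⟩
    exact hq a ha b hb n
  have h2 : ∀ m ∈ brs M P, b • m = m := by
    intro m hm
    refine smul_brs_le hm fun k hk n hn => ?_
    obtain ⟨l, rfl⟩ := hn
    have h3 : b * k = k * b := hbF k (hPF hk)
    have h4 := h1 k hk _ (sub_mem_br b l)
    have h5 : b • (k • l - l) - (k • l - l) = k • (b • l - l) - (b • l - l) := by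
      rw [smul_sub, smul_sub, ← mul_smul, ← mul_smul, h3]
      abel
    rw [← sub_eq_zero, h5, h4, sub_self]
  refine FaithfulSMul.eq_of_smul_eq_smul (α := M) fun m => ?_
  obtain ⟨d, hd, c, hc, rfl⟩ := exists_decomp_sub two hPodd m
  rw [smul_add, h2 d hd, hA2 b hb c hc, one_smul]

end Quad

end Cfsg.Agent.Omega.NO3S.Fit.Abs
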