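import Cfsg.Agent.Omega.NO3S.Fit.AbsCyc

/-!
# Text #13963, (3.5): the output (T9)

* `blk d b` = `⟨b, d b⟩`;
* `T9` : the output; `T9.*` its consequences on `D = sp H1 v0`;
* `Ctx.t9_of_natural`, `Cyc.t9` : the two sources.
-/

set_option autoImplicit false
set_option linter.unusedSectionVars false

open scoped Pointwise

namespace Cfsg.Agent.Omega.NO3S.Fit.Abs

variable {H M : Type*} [Group H] [AddCommGroup M] [DistribMulAction H M]

/-! ### blocks `⟨b, d b⟩` -/

theorem mem_zmultiples_two (two : ∀ m : M, m + m = 0) {u m : M} :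
    m ∈ AddSubgroup.zmultiples u ↔ m = 0 ∨ m = u := by
  constructor
  · intro h
    obtain ⟨k, rfl⟩ := AddSubgroup.mem_zmultiples_iff.mp h
    rcases Int.even_or_odd k with ⟨j, rfl⟩ | ⟨j, rfl⟩
    · left
      rw [← two_mul, mul_comm, mul_smul, two_zsmul, two, smul_zero]
    · right
      rw [add_smul, one_smul, mul_comm, mul_smul, two_zsmul, two, smul_zero, zero_add]
  · rintro (rfl | rfl)
    · exact zero_mem _
    · exact AddSubgroup.mem_zmultiples _

/-- `⟨b, d b⟩` -/
def blk (d : H) (b : M) : AddSubgroup M :=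
  AddSubgroup.zmultiples b ⊔ AddSubgroup.zmultiples (d • b)

theorem mem_blk (two : ∀ m : M, m + m = 0) {d : H} {b m : M} :
    m ∈ blk d b ↔ m = 0 ∨ m = b ∨ m = d • b ∨ m = b + d • b := by
  rw [blk, AddSubgroup.mem_sup]
  simp only [mem_zmultiples_two two]
  constructor
  · rintro ⟨y, rfl | rfl, z, rfl | rfl, rfl⟩ <;> simp
  · rintro (rfl | rfl | rfl | rfl)
    · exact ⟨0, Or.inl rfl, 0, Or.inl rfl, by simp⟩
    · exact ⟨m, Or.inr rfl, 0, Or.inl rfl, by simp⟩
    · exact ⟨0, Or.inl rfl, d • b, Or.inr rfl, by simp⟩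
    · exact ⟨b, Or.inr rfl, d • b, Or.inr rfl, rfl⟩

theorem self_mem_blk (d : H) (b : M) : b ∈ blk d b :=
  AddSubgroup.mem_sup_left (AddSubgroup.mem_zmultiples b)

theorem smul_mem_blk' (d : H) (b : M) : d • b ∈ blk d b :=
  AddSubgroup.mem_sup_right (AddSubgroup.mem_zmultiples _)

theorem blk_le {d : H} {b : M} {N : AddSubgroup M} (h1 : b ∈ N) (h2 : d • b ∈ N) : blk d b ≤ N :=
  sup_le (AddSubgroup.zmultiples_le.mpr h1) (AddSubgroup.zmultiples_le.mpr h2)

theorem smul_mem_blk {d : H} {b : M} (hd : d • d • b = b + d • b) {m : M} (hm : m ∈ blk d b) :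
    d • m ∈ blk d b := by
  have h : blk d b ≤ (blk d b).comap (DistribSMul.toAddMonoidHom M d) := by
    refine blk_le (smul_mem_blk' d b) ?_
    change d • d • b ∈ blk d b
    rw [hd]
    exact add_mem (self_mem_blk d b) (smul_mem_blk' d b)
  exact h hm

/-- the nonzero elements of a block -/
theorem exists_pow_of_mem_blk (two : ∀ m : M, m + m = 0) {d : H} {b : M}
    (hd : d • d • b = b + d • b) {m : M} (hm : m ∈ blk d b) (hm0 : m ≠ 0) :
    ∃ i : ℕ, i < 3 ∧ m = d ^ i • b := by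
  rcases (mem_blk two).mp hm with h | h | h | h
  · exact absurd h hm0
  · exact ⟨0, by omega, by simpa using h⟩
  · exact ⟨1, by omega, by simpa using h⟩
  · exact ⟨2, by omega, by rw [pow_two, mul_smul, hd, h]⟩

theorem blk_sum (two : ∀ m : M, m + m = 0) {d : H} {b : M} (hd : d • d • b = b + d • b) {m : M}
    (hm : m ∈ blk d b) : d • d • m = m + d • m := by
  rcases (mem_blk two).mp hm with rfl | rfl | rfl | rfl
  · simp
  · exact hd
  · conv_lhs => rw [hd]
    rw [smul_add]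
  · rw [smul_add, smul_add, hd, smul_add, hd]

theorem blk_fixed (two : ∀ m : M, m + m = 0) {d : H} {b : M} (hd : d • d • b = b + d • b) {m : M}
    (hm : m ∈ blk d b) (h : d • m = m) : m = 0 := by
  have := blk_sum two hd hm
  rw [h, h, two] at this
  exact this

/-! ### (T9) -/

/-- the output (T9): `H1 ≥ H_0` and its action on `D = sp H1 v0 = B1 ⊕ B2`, `B_i = ⟨b_i, d_i b_i⟩` -/
structure T9 (v0 : M) (a : H) (T H1 : Subgroup H) (d1 d2 : H) (b1 b2 : M) : Prop where
  stab_le : ∀ h : H, h • v0 = v0 → h ∈ H1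
  d1m : d1 ∈ H1
  d2m : d2 ∈ H1
  comm : d1 * d2 = d2 * d1
  b1m : b1 ∈ br M a
  b2m : b2 ∈ br M a
  b10 : b1 ≠ 0
  b20 : b2 ≠ 0
  sum : b1 + b2 = v0
  d11 : d1 • d1 • b1 = b1 + d1 • b1
  d22 : d2 • d2 • b2 = b2 + d2 • b2
  d12 : d1 • b2 = b2
  d21 : d2 • b1 = b1
  a1 : a • d1 • b1 = d1 • d1 • b1
  a2 : a • d2 • b2 = d2 • d2 • b2
  act : ∀ h ∈ H1, (h • b1 ∈ blk d1 b1 ∧ h • b2 ∈ blk d2 b2) ∨
    (h • b1 ∈ blk d2 b2 ∧ h • b2 ∈ blk d1 b1)
  swap : ∃ t ∈ T, t • b1 = b2 ∧ t • b2 = b1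

/-! ### the natural case -/

namespace Ctx

variable {v0 : M} {a : H} {T : Subgroup H}

/-- the stabiliser of an unordered pair of subgroups -/
def pairStab (B1 B2 : AddSubgroup M) : Subgroup H where
  carrier := {h | (h • B1 = B1 ∧ h • B2 = B2) ∨ (h • B1 = B2 ∧ h • B2 = B1)}
  one_mem' := Or.inl ⟨one_smul _ _, one_smul _ _⟩
  mul_mem' := by
    rintro g h (⟨h1, h2⟩ | ⟨h1, h2⟩) (⟨h3, h4⟩ | ⟨h3, h4⟩)
    · left; rw [mul_smul, mul_smul, h3, h4]; exact ⟨h1, h2⟩
    · right; rw [mul_smul, mul_smul, h3, h4]; exact ⟨h2, h1⟩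
    · right; rw [mul_smul, mul_smul, h3, h4]; exact ⟨h1, h2⟩
    · left; rw [mul_smul, mul_smul, h3, h4]; exact ⟨h2, h1⟩
  inv_mem' := by
    rintro g (⟨h1, h2⟩ | ⟨h1, h2⟩)
    · left; exact ⟨inv_smul_eq_iff.mpr h1.symm, inv_smul_eq_iff.mpr h2.symm⟩
    · right; exact ⟨inv_smul_eq_iff.mpr h2.symm, inv_smul_eq_iff.mpr h1.symm⟩

variable [Finite H] [Finite M] [FaithfulSMul H M]

/-- a natural element of `F` inverted by `a` gives (T9); moreover `h • v0 ∈ [M,a]` ==> `h • v0 = v0` -/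
theorem t9_of_natural (c : Ctx v0 a T) (h4 : Nat.card (br M a) = 4) {p : ℕ} (hp : p.Prime)
    (hp2 : p ≠ 2) {F : Subgroup H} [hFn : F.Normal] (hF : IsPGroup p F) {x : H} (hx : x ∈ F)
    (hn : Nat.card (br M x) = 4) (hi : a * x * a⁻¹ = x⁻¹) :
    (∃ H1 d1 d2 b1 b2, T9 v0 a T H1 d1 d2 b1 b2) ∧
      (∀ h : H, h • v0 ∈ br M a → h • v0 = v0) := by
  classical
  have hodd : ∀ f ∈ F, Odd (orderOf f) := fun f hf => odd_orderOf_of_isPGroup hp hp2 hF hf
  have hxo := hodd x hx
  have hx1 : x ≠ 1 := nat_ne_one hn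
  have hcx2 : Nat.card (cx M a x) = 2 := by
    rcases c.inv_cases hxo hi hx1 with h | h
    · exact h.1
    · omega
  obtain ⟨b, hbc, hb0⟩ := exists_ne_zero_of_card (B := cx M a x) (by omega)
  have hbx : b ∈ br M x := hbc.1
  have hba : b ∈ br M a := c.cx_le hxo hi hbc
  -- the only fixed vectors of `a` in the block are `0`, `b`
  have hfix2 : ∀ u ∈ cx M a x, u = 0 ∨ u = b := by
    intro u hu
    by_contra hcon
    push Not at hcon
    have h1 : Nat.card (cx M a x) = 4 := by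
      have h2 : (({0, b, u} : Finset M) : Set M) ⊆ (cx M a x : Set M) := by
        intro y hy
        simp only [Finset.coe_insert, Finset.coe_singleton, Set.mem_insert_iff,
          Set.mem_singleton_iff] at hy
        rcases hy with rfl | rfl | rfl
        · exact zero_mem _
        · exact hbc
        · exact hu
      have h3 := Set.ncard_le_ncard h2 (Set.toFinite _)
      rw [Set.ncard_coe_finset, Finset.card_insert_of_notMem, Finset.card_insert_of_notMem,
        Finset.card_singleton] at h3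
      · have h4 : Set.ncard (cx M a x : Set M) = 2 := by
          rw [← hcx2]; exact (Nat.card_coe_set_eq _).symm
        omega
      · simpa using hcon.2.symm
      · simp [hb0.symm, hcon.1.symm]
    omega
  -- the blocks of `F` through `b`
  have hsame : ∀ h : H, ∀ u : M, u ≠ 0 → u ∈ br M x → u ∈ br M (h * x * h⁻¹) →
      br M x = br M (h * x * h⁻¹) ∧ (h * x * h⁻¹ = x ∨ h * x * h⁻¹ = x⁻¹) := fun h u hu0 hu hu' =>
    nat_same c.two hp hp2 hF hx (hFn.conj_mem x hx h) hn (nat_conj hn h) hu hu' hu0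
  -- `b ≠ v0`
  have hbv : b ≠ v0 := by
    rintro rfl
    -- `C_M(x)` is `T`-invariant
    have hT : ∀ t ∈ T, ∀ m ∈ fx M x, t • m ∈ fx M x := by
      intro t ht m hm
      have h1 := (hsame t b hb0 hbx (by
        have := smul_mem_br_conj t hbx
        rwa [c.T0 t ht] at this)).2
      have h2 := smul_mem_fx_conj t hm
      rcases h1 with h1 | h1
      · rwa [h1] at h2
      · rwa [h1, fx_inv] at h2
    have hne : fx M x ⊓ br M a ≠ ⊥ := by
      intro hbot
      -- then `[M,a] ≤ [M,x]`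
      have hle : br M a ≤ br M x := by
        rintro _ ⟨m, rfl⟩
        obtain ⟨d, hd, e, he, rfl⟩ := exists_decomp c.two hxo m
        have h1 : a • e - e ∈ fx M x ⊓ br M a :=
          AddSubgroup.mem_inf.mpr ⟨sub_mem (smul_mem_fx_of_inv hi he) he, sub_mem_br a e⟩
        rw [hbot, AddSubgroup.mem_bot] at h1
        have h2 : a • (d + e) - (d + e) = (a • d - d) + (a • e - e) := by rw [smul_add]; abel
        rw [h2, h1, add_zero]
        exact sub_mem (smul_mem_br_of_inv hi hd) hd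
      have h1 : br M a ≤ cx M a x := fun m hm => ⟨hle hm, c.fix_br hm⟩
      have h2 := AddSubgroup.card_le_of_le h1
      omega
    obtain ⟨m, hm, hm0, hmT⟩ := exists_fixed c.two c.T2 (N := fx M x ⊓ br M a)
      (fun t ht m hm => ⟨hT t ht m hm.1, c.smul_br_of_stab (c.T0 t ht) hm.2⟩) hne
    have h1 := c.FIX m hm.2 hm0 hmT
    rw [h1] at hm
    exact hb0 (br_inf_fx c.two hxo hbx hm.1)
  obtain ⟨t, ht, htb⟩ := c.exists_swap h4 hba hb0 hbv
  have htv := c.T0 t ht
  set y := t * x * t⁻¹ with hy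
  have hyF : y ∈ F := hFn.conj_mem x hx t
  have hyn : Nat.card (br M y) = 4 := nat_conj hn t
  have hyo := hodd y hyF
  set b2 := v0 + b with hb2
  have hb2a : b2 ∈ br M a := add_mem c.v0_mem hba
  have hb2y : b2 ∈ br M y := by
    rw [← htb]
    exact smul_mem_br_conj t hbx
  have hb20 : b2 ≠ 0 := by
    intro h
    apply hbv
    have := eq_neg_of_add_eq_zero_left h
    rw [neg_eq c.two] at this
    exact this.symm
  have hb2b : b2 ≠ b := by
    intro h
    exact c.ne (by simpa [hb2] using h)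
  have hne : br M x ≠ br M y := by
    intro e
    have h1 : b2 ∈ cx M a x := ⟨e ▸ hb2y, c.fix_br hb2a⟩
    rcases hfix2 b2 h1 with h | h
    · exact hb20 h
    · exact hb2b h
  have hxy := nat_comm c.two hp hp2 hF hx hyF hn hyn
  have hyfx : br M y ≤ fx M x := nat_indep c.two hp hp2 hF hx hyF hn hyn hne
  have hxfy : br M x ≤ fx M y := nat_indep c.two hp hp2 hF hyF hx hyn hn hne.symm
  have hyi : a * y * a⁻¹ = y⁻¹ := by
    have h1 := c.cen t htv
    have e : a * y * a⁻¹ = t * (a * x * a⁻¹) * t⁻¹ := by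
      have h2 : a * t = t * a := h1.symm
      have h3 : t⁻¹ * a⁻¹ = a⁻¹ * t⁻¹ := by rw [← mul_inv_rev, ← mul_inv_rev, h2]
      calc a * y * a⁻¹ = (a * t) * x * (t⁻¹ * a⁻¹) := by rw [hy]; group
        _ = (t * a) * x * (a⁻¹ * t⁻¹) := by rw [h2, h3]
        _ = t * (a * x * a⁻¹) * t⁻¹ := by group
    rw [e, hi, hy]
    group
  have hsum : b + b2 = v0 := by rw [hb2, add_comm v0, ← add_assoc, c.two, zero_add]
  have hbx' : x • x • b = b + x • b := nat_sq c.two hxo hn hbx
  have hby' : y • y • b2 = b2 + y • b2 := nat_sq c.two hyo hyn hb2y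
  have hblk1 : blk x b = br M x := by
    refine le_antisymm (blk_le hbx (smul_mem_br_self hbx)) fun m hm => ?_
    rw [mem_blk c.two]
    rcases nat_cases c.two hxo hn hbx hb0 hm with h | h | h | h
    · exact Or.inl h
    · exact Or.inr (Or.inl h)
    · exact Or.inr (Or.inr (Or.inl h))
    · right; right; right
      rw [h, pow_two, mul_smul, hbx']
  have hblk2 : blk y b2 = br M y := by
    refine le_antisymm (blk_le hb2y (smul_mem_br_self hb2y)) fun m hm => ?_
    rw [mem_blk c.two]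
    rcases nat_cases c.two hyo hyn hb2y hb20 hm with h | h | h | h
    · exact Or.inl h
    · exact Or.inr (Or.inl h)
    · exact Or.inr (Or.inr (Or.inl h))
    · right; right; right
      rw [h, pow_two, mul_smul, hby']
  have hx3 : x⁻¹ = x * x := by
    have := nat_cube c.two hxo hn
    rw [inv_eq_iff_mul_eq_one, ← mul_assoc, ← pow_two, ← pow_succ]
    exact this
  have hy3 : y⁻¹ = y * y := by
    have := nat_cube c.two hyo hyn
    rw [inv_eq_iff_mul_eq_one, ← mul_assoc, ← pow_two, ← pow_succ]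
    exact this
  have htb2 : t • b2 = b := by
    rw [hb2, smul_add, htv, htb, hb2, ← add_assoc, c.two, zero_add]
  -- stabiliser
  have hst : ∀ h : H, h • v0 = v0 → h ∈ pairStab (br M x) (br M y) := by
    have hbl : ∀ h : H, ∀ z ∈ F, ∀ z' ∈ F, Nat.card (br M z) = 4 → Nat.card (br M z') = 4 →
        ∀ u ∈ br M z, u ≠ 0 → h • u ∈ br M z' → h • br M z = br M z' := by
      intro h z hz z' hz' hzn hzn' u hu hu0 hhu
      rw [smul_br]
      refine (nat_same c.two hp hp2 hF (hFn.conj_mem z hz h) hz' (nat_conj hzn h) hzn'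
        (smul_mem_br_conj h hu) hhu ?_).1
      intro e
      exact hu0 ((smul_eq_zero_iff_eq h).mp e)
    intro h hh
    rcases c.stab_b h4 hba hb0 hbv hh with e | e
    · left
      have e2 : h • b2 = b2 := by rw [hb2, smul_add, hh, e]
      exact ⟨hbl h x hx x hx hn hn b hbx hb0 (by rw [e]; exact hbx),
        hbl h y hyF y hyF hyn hyn b2 hb2y hb20 (by rw [e2]; exact hb2y)⟩
    · right
      have e2 : h • b2 = b := by
        rw [hb2, smul_add, hh, e, ← add_assoc, c.two, zero_add]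
      exact ⟨hbl h x hx y hyF hn hyn b hbx hb0 (by rw [e]; exact hb2y),
        hbl h y hyF x hx hyn hn b2 hb2y hb20 (by rw [e2]; exact hbx)⟩
  have hsm : ∀ g : H, ∀ z : H, g * z = z * g → g • br M z = br M z := by
    intro g z e
    rw [smul_br, e, mul_inv_cancel_right]
  refine ⟨⟨pairStab (br M x) (br M y), x, y, b, b2, hst, ?_, ?_, hxy, hba, hb2a, hb0, hb20, hsum,
    hbx', hby', hyfx hb2y, hxfy hbx, ?_, ?_, ?_, ⟨t, ht, htb, htb2⟩⟩, ?_⟩
  · exact Or.inl ⟨hsm x x rfl, hsm x y hxy⟩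
  · exact Or.inl ⟨hsm y x hxy.symm, hsm y y rfl⟩
  · rw [inv_smul_of_inv hi (c.fix_br hba), hx3, mul_smul]
  · rw [inv_smul_of_inv hyi (c.fix_br hb2a), hy3, mul_smul]
  · rw [hblk1, hblk2]
    rintro h (⟨e1, e2⟩ | ⟨e1, e2⟩)
    · left
      constructor
      · have := AddSubgroup.smul_mem_pointwise_smul b h (br M x) hbx
        rwa [e1] at this
      · have := AddSubgroup.smul_mem_pointwise_smul b2 h (br M y) hb2y
        rwa [e2] at this
    · right
      constructor
      · have := AddSubgroup.smul_mem_pointwise_smul b h (br M x) hbx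
        rwa [e1] at this
      · have := AddSubgroup.smul_mem_pointwise_smul b2 h (br M y) hb2y
        rwa [e2] at this
  · -- `v0` lies in no natural block
    have hno : ∀ z ∈ F, Nat.card (br M z) = 4 → v0 ∉ br M z := by
      intro z hz hzn hv
      have h1 : br M x ≠ br M z := by
        intro e
        rw [← e] at hv
        have h2 : v0 ∈ cx M a x := ⟨hv, c.fix⟩
        rcases hfix2 v0 h2 with h | h
        · exact c.ne h
        · exact hbv h.symm
      have h2 : br M z ≤ fx M x := nat_indep c.two hp hp2 hF hx hz hn hzn h1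
      have h3 : x • v0 = v0 := h2 hv
      rw [← hsum, smul_add, show x • b2 = b2 from hyfx hb2y] at h3
      exact hb0 (br_inf_fx c.two hxo hbx (add_right_cancel h3))
    intro h hh
    have hcase : ∀ z ∈ F, Nat.card (br M z) = 4 → h • v0 ∉ br M z := by
      intro z hz hzn hv
      have h1 := smul_mem_br_conj h⁻¹ hv
      rw [inv_smul_smul] at h1
      exact hno _ (hFn.conj_mem z hz h⁻¹) (nat_conj hzn h⁻¹) h1
    rcases c.br_cases h4 hba hb0 hbv hh with e | e | e | e
    · exact absurd ((smul_eq_zero_iff_eq h).mp e) c.ne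
    · exact e
    · exact absurd (e ▸ hbx) (hcase x hx hn)
    · exact absurd (e ▸ hb2y) (hcase y hyF hyn)

end Ctx

/-! ### the case `[F,a]` of order 3 -/

/-- `h x h⁻¹ = x^{±1}` -/
def pm (x : H) : Subgroup H where
  carrier := {h | h * x * h⁻¹ = x ∨ h * x * h⁻¹ = x⁻¹}
  one_mem' := by left; simp
  mul_mem' := by
    intro g h hg hh
    have e : g * h * x * (g * h)⁻¹ = g * (h * x * h⁻¹) * g⁻¹ := by group
    have e' : g * x⁻¹ * g⁻¹ = (g * x * g⁻¹)⁻¹ := by group
    change g * h * x * (g * h)⁻¹ = x ∨ g * h * x * (g * h)⁻¹ = x⁻¹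
    rw [e]
    rcases hg with hg | hg <;> rcases hh with hh | hh
    · left; rw [hh, hg]
    · right; rw [hh, e', hg]
    · right; rw [hh, hg]
    · left; rw [hh, e', hg, inv_inv]
  inv_mem' := by
    rintro g (hg | hg)
    · left
      rw [inv_inv]
      nth_rewrite 1 [← hg]
      group
    · right
      have : g⁻¹ * x * g⁻¹⁻¹ = (g⁻¹ * x⁻¹ * g)⁻¹ := by group
      have h2 : g⁻¹ * x⁻¹ * g = x := by rw [← hg]; group
      rw [this, h2]

namespace Cyc

variable {v0 : M} {a : H} {T : Subgroup H} {F : Subgroup H} {x : H}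
variable [Finite H] [Finite M] [FaithfulSMul H M]

theorem mem_pm (K : Cyc M a F x) (h3 : orderOf x = 3) {h : H}
    (hh : h * x * h⁻¹ ∈ Subgroup.zpowers x) : h ∈ pm x := by
  classical
  rw [mem_zpowers_iff_mem_range_orderOf] at hh
  obtain ⟨n, hn, h2⟩ := Finset.mem_image.mp hh
  rw [h3, Finset.mem_range] at hn
  have hx3 : x ^ 3 = 1 := by rw [← h3, pow_orderOf_eq_one]
  interval_cases n
  · exfalso
    apply K.ne_one
    have : x = h⁻¹ * (h * x * h⁻¹) * h := by group
    rw [this, ← h2]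
    group
  · exact Or.inl (by rw [← h2, pow_one])
  · right
    rw [← h2, eq_inv_iff_mul_eq_one, ← pow_succ]
    exact hx3

/-- **(T3)** is a case of (T9) -/
theorem t9 (K : Cyc M a F x) [hFn : F.Normal] (c : Ctx v0 a T) (h4 : Nat.card (br M a) = 4)
    (hodd : ∀ f ∈ F, Odd (orderOf f)) (h3 : orderOf x = 3) :
    ∃ H1 d1 d2 b1 b2, T9 v0 a T H1 d1 d2 b1 b2 := by
  classical
  have hx3 : x * (x * x) = 1 := by
    have := pow_orderOf_eq_one x
    rwa [h3, pow_succ', pow_two] at this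
  have hxinv : x⁻¹ = x * x := inv_eq_of_mul_eq_one_right hx3
  have hxsm : ∀ m : M, x⁻¹ • m = x • x • m := fun m => by rw [hxinv, mul_smul]
  have hxx : ∀ m ∈ br M x, x • x • m = m + x • m := by
    intro m hm
    have := K.sum3 c h3 hm
    have h1 := eq_neg_of_add_eq_zero_left this
    rw [neg_eq c.two] at h1
    exact h1.symm
  obtain ⟨b, hba, hb0, hbv⟩ := c.exists_b h4
  obtain ⟨t, ht, htb⟩ := c.exists_swap h4 hba hb0 hbv
  have htv := c.T0 t ht
  obtain ⟨b2, hb2⟩ : ∃ b2, b2 = v0 + b := ⟨_, rfl⟩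
  rw [← hb2] at htb
  have hb2a : b2 ∈ br M a := hb2 ▸ add_mem c.v0_mem hba
  have hb20 : b2 ≠ 0 := by
    intro h
    apply hbv
    rw [hb2] at h
    have := eq_neg_of_add_eq_zero_left h
    rw [neg_eq c.two] at this
    exact this.symm
  have hb2v : b2 ≠ v0 := by
    intro h
    exact hb0 (by simpa [hb2] using h)
  have hb2b : b2 ≠ b := by
    intro h
    exact c.ne (by simpa [hb2] using h)
  have hsum : b + b2 = v0 := by rw [hb2, add_comm v0, ← add_assoc, c.two, zero_add]
  have htb2 : t • b2 = b := by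
    rw [hb2, smul_add, htv, htb, hb2, ← add_assoc, c.two, zero_add]
  have hbx : b ∈ br M x := K.br_le hba
  have hb2x : b2 ∈ br M x := K.br_le hb2a
  have hvx : v0 ∈ br M x := K.br_le c.v0_mem
  have hb' := hxx b hbx
  have hb2' := hxx b2 hb2x
  -- `a`-fixed vectors in a block
  have hfix : ∀ w ∈ br M x, a • w = w → ∀ u ∈ blk x w, a • u = u → u = 0 ∨ u = w := by
    intro w hw haw u hu hau
    have hw' := hxx w hw
    have hxw : x • x • w = x • w → w = 0 := fun h =>
      br_inf_fx c.two K.odd hw (smul_left_cancel x h)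
    rcases (mem_blk c.two).mp hu with e | e | e | e
    · exact Or.inl e
    · exact Or.inr e
    · left
      rw [e, inv_smul_of_inv K.inv haw, hxsm] at hau
      rw [e, hxw hau, smul_zero]
    · left
      rw [← hw'] at e
      rw [e, inv_smul_of_inv' K.inv, inv_smul_of_inv K.inv haw, ← mul_smul, ← mul_inv_rev,
        ← hxinv, inv_inv] at hau
      rw [e, hxw hau.symm, smul_zero, smul_zero]
  -- no element of the orbit in `B1`, `B2`
  have hnm : ∀ h : H, ∀ w ∈ br M a, w ≠ v0 → h • v0 ∉ blk x w := by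
    intro h w hw hwv hmem
    have hw' := hxx w (K.br_le hw)
    have h0 : h • v0 ≠ 0 := fun e => c.ne ((smul_eq_zero_iff_eq h).mp e)
    obtain ⟨i, -, hi⟩ := exists_pow_of_mem_blk c.two hw' hmem h0
    have h1 : ((x ^ i)⁻¹ * h) • v0 = w := by rw [mul_smul, hi, inv_smul_smul]
    have h2 := K.no_move c h4 hodd (h := (x ^ i)⁻¹ * h) (by rw [h1]; exact hw)
    exact hwv (h1.symm.trans h2)
  set B1 := blk x b with hB1
  set B2 := blk x b2 with hB2
  have hB1x : B1 ≤ br M x := blk_le hbx (smul_mem_br_self hbx)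
  have hB2x : B2 ≤ br M x := blk_le hb2x (smul_mem_br_self hb2x)
  -- independence
  have hind : ∀ p ∈ B1, p ∈ B2 → p = 0 := by
    intro p hp1 hp2
    by_contra hp0
    obtain ⟨i, -, hi⟩ := exists_pow_of_mem_blk c.two hb' hp1 hp0
    have h1 : b ∈ B2 := by
      have h2 : b = (x ^ i)⁻¹ • p := by rw [hi, inv_smul_smul]
      rw [h2]
      have h3 : ∀ j : ℕ, ∀ m ∈ B2, x⁻¹ ^ j • m ∈ B2 := by
        intro j
        induction j with
        | zero => intro m hm; simpa using hm
        | succ j ih =>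
          intro m hm
          rw [pow_succ, mul_smul, hxsm]
          exact ih _ (smul_mem_blk hb2' (smul_mem_blk hb2' hm))
      rw [← inv_pow]
      exact h3 i p hp2
    rcases hfix b2 hb2x (c.fix_br hb2a) b h1 (c.fix_br hba) with h | h
    · exact hb0 h
    · exact hb2b h.symm
  -- `D = B1 + B2`
  have hD : ∀ m ∈ br M x, ∃ p ∈ B1, ∃ q ∈ B2, p + q = m := by
    have h1 : br M a ≤ B1 ⊔ B2 := by
      intro m hm
      rcases c.br_cases h4 hba hb0 hbv hm with rfl | rfl | rfl | rfl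
      · exact zero_mem _
      · rw [← hsum]
        exact AddSubgroup.add_mem_sup (self_mem_blk x b) (self_mem_blk x b2)
      · exact AddSubgroup.mem_sup_left (self_mem_blk x m)
      · rw [← hb2]
        exact AddSubgroup.mem_sup_right (self_mem_blk x b2)
    intro m hm
    obtain ⟨u, hu, w, hw, rfl⟩ := exists_cx_add c.two c.sq K.odd K.inv hm
    rw [K.cxe] at hu hw
    obtain ⟨p, hp, q, hq, rfl⟩ := AddSubgroup.mem_sup.mp (h1 hu)
    obtain ⟨p', hp', q', hq', rfl⟩ := AddSubgroup.mem_sup.mp (h1 hw)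
    refine ⟨p + x • p', add_mem hp (smul_mem_blk hb' hp'), q + x • q',
      add_mem hq (smul_mem_blk hb2' hq'), ?_⟩
    rw [smul_add]
    abel
  have huniq : ∀ p ∈ B1, ∀ q ∈ B2, ∀ p' ∈ B1, ∀ q' ∈ B2, p + q = p' + q' → p = p' ∧ q = q' := by
    intro p hp q hq p' hp' q' hq' e
    have h1 : p - p' = q' - q := by
      have : p - p' = (p + q) - q - p' := by abel
      rw [this, e]
      abel
    have h2 : p - p' = 0 := hind _ (sub_mem hp hp') (by rw [h1]; exact sub_mem hq' hq)
    refine ⟨sub_eq_zero.mp h2, ?_⟩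
    rw [h2] at h1
    exact (sub_eq_zero.mp h1.symm).symm
  -- `H1`
  have hst : ∀ h : H, h • v0 = v0 → h ∈ pm x := fun h hh => K.mem_pm h3 (K.nor c hh)
  have hxpm : x ∈ pm x := Or.inl (by group)
  have hapm : a ∈ pm x := Or.inr K.inv
  have hpmD : ∀ h ∈ pm x, ∀ m ∈ br M x, h • m ∈ br M x := by
    rintro h (hh | hh) m hm
    · have := smul_mem_br_conj h hm
      rwa [hh] at this
    · exact smul_mem_br_of_inv hh hm
  have hinvD : ∀ h ∉ pm x, x • h • v0 = h • v0 := by
    intro h hh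
    by_contra hcon
    apply hh
    rw [← inv_inv h]
    apply inv_mem
    apply K.mem_pm h3
    have h1 : (h⁻¹ * x * h⁻¹⁻¹) • v0 - v0 ≠ 0 := by
      rw [sub_ne_zero]
      intro e
      apply hcon
      rw [inv_inv, mul_smul, mul_smul, inv_smul_eq_iff] at e
      exact e
    have hF' : h⁻¹ * x * h⁻¹⁻¹ ∈ F := hFn.conj_mem x K.mem h⁻¹
    refine K.conj_mem c h4 hodd h1 ?_ (sub_mem_br _ _)
    refine sub_mem ?_ hvx
    exact smul_mem_br_of_comm (K.cen _ hF') hvx
  have hspan : ∀ d ∈ br M x, d ∈ sp (pm x) v0 := by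
    have hsx : sp (pm x) v0 ≤ br M x := sp_le fun h hh => hpmD h hh v0 hvx
    have htop : sp (pm x) v0 ⊔ fx M x = ⊤ := by
      rw [eq_top_iff, ← c.span, AddSubgroup.closure_le]
      rintro _ ⟨h, rfl⟩
      change h • v0 ∈ sp (pm x) v0 ⊔ fx M x
      by_cases hh : h ∈ pm x
      · exact AddSubgroup.mem_sup_left (mem_sp hh)
      · exact AddSubgroup.mem_sup_right (hinvD h hh)
    intro d hd
    have h1 : d ∈ sp (pm x) v0 ⊔ fx M x := by rw [htop]; trivial
    obtain ⟨s, hs, e, he, rfl⟩ := AddSubgroup.mem_sup.mp h1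
    have h2 : e ∈ br M x := by
      have := sub_mem hd (hsx hs)
      rwa [add_sub_cancel_left] at this
    rw [br_inf_fx c.two K.odd h2 he, add_zero]
    exact hs
  -- vectors `x^i b + x^j b2`
  have hxz : ∀ n : ℤ, ∀ m : M, x ^ n • m = x ^ (n % 3) • m := by
    intro n m
    have := zpow_mod_orderOf x n
    rw [h3] at this
    rw [← this]
    norm_num
  have hpq : ∀ i j : ℕ, x ^ i • b + x ^ j • b2 = x ^ (j : ℤ) • (x ^ ((i : ℤ) - j) • b + b2) := by
    intro i j
    rw [smul_add, ← mul_smul, ← zpow_add, add_sub_cancel, zpow_natCast, zpow_natCast]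
  have htype : ∀ i j : ℕ, ∃ k : ℤ, x ^ i • b + x ^ j • b2 = x ^ k • v0 ∨
      x ^ i • b + x ^ j • b2 = x ^ k • (x • x • b + b2) ∨
      x ^ i • b + x ^ j • b2 = x ^ k • a • (x • x • b + b2) := by
    intro i j
    refine ⟨j, ?_⟩
    rw [hpq i j, hxz ((i : ℤ) - j) b]
    have h1 : 0 ≤ ((i : ℤ) - j) % 3 := Int.emod_nonneg _ (by norm_num)
    have h2 : ((i : ℤ) - j) % 3 < 3 := Int.emod_lt_of_pos _ (by norm_num)
    have hab : a • (x • x • b + b2) = x • b + b2 := by
      rw [smul_add, inv_smul_of_inv' K.inv, inv_smul_of_inv K.inv (c.fix_br hba), ← mul_smul,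
        ← mul_inv_rev, ← hxinv, inv_inv, c.fix_br hb2a]
    generalize ((i : ℤ) - j) % 3 = n at h1 h2
    interval_cases n
    · left; rw [zpow_zero, one_smul, hsum]
    · right; right; rw [zpow_one, hab]
    · right; left
      have : x ^ (2 : ℤ) = x * x := by rw [zpow_ofNat, pow_two]
      rw [this, mul_smul]
  -- elements with `g v0 = x² b + b2`
  obtain ⟨g, hg, hgv⟩ : ∃ g ∈ pm x, g • v0 = x • x • b + b2 := by
    by_contra hcon
    push Not at hcon
    have h1 : sp (pm x) v0 ≤ blk x v0 := by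
      have hv' := hxx v0 hvx
      have hzp : ∀ k : ℤ, x ^ k • v0 ∈ blk x v0 := by
        intro k
        rw [hxz]
        have h1 : 0 ≤ k % 3 := Int.emod_nonneg _ (by norm_num)
        have h2 : k % 3 < 3 := Int.emod_lt_of_pos _ (by norm_num)
        generalize k % 3 = n at h1 h2
        interval_cases n
        · rw [zpow_zero, one_smul]; exact self_mem_blk x v0
        · rw [zpow_one]; exact smul_mem_blk' x v0
        · have : x ^ (2 : ℤ) = x * x := by rw [zpow_ofNat, pow_two]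
          rw [this, mul_smul]
          exact smul_mem_blk hv' (smul_mem_blk' x v0)
      refine sp_le fun h hh => ?_
      obtain ⟨p, hp, q, hq, hpq'⟩ := hD _ (hpmD h hh v0 hvx)
      have hp0 : p ≠ 0 := by
        rintro rfl
        rw [zero_add] at hpq'
        exact hnm h b2 hb2a hb2v (hpq' ▸ hq)
      have hq0 : q ≠ 0 := by
        rintro rfl
        rw [add_zero] at hpq'
        exact hnm h b hba hbv (hpq' ▸ hp)
      obtain ⟨i, -, rfl⟩ := exists_pow_of_mem_blk c.two hb' hp hp0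
      obtain ⟨j, -, rfl⟩ := exists_pow_of_mem_blk c.two hb2' hq hq0
      rcases htype i j with ⟨k, e | e | e⟩
      · rw [← hpq', e]
        exact hzp k
      · exfalso
        refine hcon ((x ^ k)⁻¹ * h) (mul_mem (inv_mem (zpow_mem hxpm k)) hh) ?_
        rw [mul_smul, ← hpq', e, inv_smul_smul]
      · exfalso
        refine hcon (a * (x ^ k)⁻¹ * h)
          (mul_mem (mul_mem hapm (inv_mem (zpow_mem hxpm k))) hh) ?_
        rw [mul_smul, ← hpq', e, mul_smul, inv_smul_smul, ← mul_smul, c.sq, one_smul]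
    have h2 : b ∈ blk x v0 := h1 (hspan b hbx)
    rcases hfix v0 hvx c.fix b h2 (c.fix_br hba) with h | h
    · exact hb0 h
    · exact hbv h
  -- every `x^i b + x^j b2` is in the orbit
  have horb : ∀ i j : ℕ, ∃ k ∈ pm x, x ^ i • b + x ^ j • b2 = k • v0 := by
    intro i j
    rcases htype i j with ⟨k, e | e | e⟩
    · exact ⟨x ^ k, zpow_mem hxpm k, e⟩
    · exact ⟨x ^ k * g, mul_mem (zpow_mem hxpm k) hg, by rw [e, mul_smul, hgv]⟩
    · exact ⟨x ^ k * a * g, mul_mem (mul_mem (zpow_mem hxpm k) hapm) hg, by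
        rw [e, mul_smul, mul_smul, hgv]⟩
  have hone : ∀ h ∈ pm x, ∀ w ∈ br M a, w ≠ v0 → h • w ∈ B1 ∨ h • w ∈ B2 := by
    intro h hh w hw hwv
    obtain ⟨p, hp, q, hq, hpq'⟩ := hD _ (hpmD h hh w (K.br_le hw))
    by_cases hp0 : p = 0
    · right
      rw [hp0, zero_add] at hpq'
      rw [← hpq']
      exact hq
    by_cases hq0 : q = 0
    · left
      rw [hq0, add_zero] at hpq'
      rw [← hpq']
      exact hp
    exfalso
    obtain ⟨i, -, rfl⟩ := exists_pow_of_mem_blk c.two hb' hp hp0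
    obtain ⟨j, -, rfl⟩ := exists_pow_of_mem_blk c.two hb2' hq hq0
    obtain ⟨k, -, e⟩ := horb i j
    rw [e] at hpq'
    have h1 : (h⁻¹ * k) • v0 = w := by rw [mul_smul, hpq', inv_smul_smul]
    have h2 := K.no_move c h4 hodd (h := h⁻¹ * k) (by rw [h1]; exact hw)
    exact hwv (h1.symm.trans h2)
  have hact : ∀ h ∈ pm x, (h • b ∈ B1 ∧ h • b2 ∈ B2) ∨ (h • b ∈ B2 ∧ h • b2 ∈ B1) := by
    intro h hh
    have hv : h • v0 = h • b + h • b2 := by rw [← smul_add, hsum]
    rcases hone h hh b hba hbv with h1 | h1 <;> rcases hone h hh b2 hb2a hb2v with h2 | h2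
    · exfalso
      exact hnm h b hba hbv (by rw [hv]; exact add_mem h1 h2)
    · exact Or.inl ⟨h1, h2⟩
    · exact Or.inr ⟨h1, h2⟩
    · exfalso
      exact hnm h b2 hb2a hb2v (by rw [hv]; exact add_mem h1 h2)
  have htpm : t ∈ pm x := hst t htv
  -- an element with `g b = x² b`, `g b2 = b2`
  obtain ⟨g1, hg1, hg1b, hg1b2⟩ : ∃ g1 ∈ pm x, g1 • b = x • x • b ∧ g1 • b2 = b2 := by
    have hv : g • b + g • b2 = x • x • b + b2 := by rw [← smul_add, hsum, hgv]
    rcases hact g hg with ⟨h1, h2⟩ | ⟨h1, h2⟩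
    · obtain ⟨e1, e2⟩ := huniq _ h1 _ h2 _ (smul_mem_blk hb' (smul_mem_blk' x b)) _
        (self_mem_blk x b2) hv
      exact ⟨g, hg, e1, e2⟩
    · rw [add_comm] at hv
      obtain ⟨e1, e2⟩ := huniq _ h2 _ h1 _ (smul_mem_blk hb' (smul_mem_blk' x b)) _
        (self_mem_blk x b2) hv
      exact ⟨g * t, mul_mem hg htpm, by rw [mul_smul, htb, e1], by rw [mul_smul, htb2, e2]⟩
  obtain ⟨d, hd, hdx, hdb, hdb2⟩ : ∃ d ∈ pm x, d * x = x * d ∧ d • b = x • x • b ∧ d • b2 = b2 := by
    rcases hg1 with h | h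
    · exact ⟨g1, Or.inl h, mul_inv_eq_iff_eq_mul.mp h, hg1b, hg1b2⟩
    · refine ⟨g1 * a, mul_mem (Or.inr h) hapm, ?_, ?_, ?_⟩
      · have e1 : g1 * a * x = g1 * (a * x * a⁻¹) * a := by group
        rw [e1, K.inv]
        have e2 : g1 * x⁻¹ * a = (g1 * x * g1⁻¹)⁻¹ * (g1 * a) := by group
        rw [e2, h, inv_inv]
      · rw [mul_smul, c.fix_br hba, hg1b]
      · rw [mul_smul, c.fix_br hb2a, hg1b2]
  have hdx' : Commute d x := hdx
  have hdm : ∀ m : M, d • x • m = x • d • m := fun m => by rw [← mul_smul, hdx, mul_smul]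
  have hdim : ∀ m : M, d⁻¹ • x • m = x • d⁻¹ • m := fun m => by
    rw [← mul_smul, hdx'.inv_left.eq, mul_smul]
  have hdib : d⁻¹ • b = x • b := by
    rw [inv_smul_eq_iff, hdm, hdb, ← mul_smul, ← mul_smul, mul_assoc, hx3, one_smul]
  have hdib2 : d⁻¹ • b2 = b2 := by rw [inv_smul_eq_iff, hdb2]
  -- `d2 = x x d⁻¹`
  have hx3m : ∀ m : M, x • x • x • m = m := fun m => by
    rw [← mul_smul, ← mul_smul, mul_assoc, hx3, one_smul]
  have hd2b2 : (x * x * d⁻¹) • b2 = x • x • b2 := by rw [mul_smul, hdib2, mul_smul]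
  have hd2b : (x * x * d⁻¹) • b = b := by rw [mul_smul, hdib, mul_smul, hx3m]
  have hb1e : blk d b = B1 := by
    refine le_antisymm (blk_le (self_mem_blk x b) ?_) (blk_le (self_mem_blk d b) ?_)
    · rw [hdb]
      exact smul_mem_blk hb' (smul_mem_blk' x b)
    · rw [mem_blk c.two]
      right; right; right
      rw [hdb, hb', ← add_assoc, c.two, zero_add]
  have hb2e : blk (x * x * d⁻¹) b2 = B2 := by
    refine le_antisymm (blk_le (self_mem_blk x b2) ?_) (blk_le (self_mem_blk _ b2) ?_)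
    · rw [hd2b2]
      exact smul_mem_blk hb2' (smul_mem_blk' x b2)
    · rw [mem_blk c.two]
      right; right; right
      rw [hd2b2, hb2', ← add_assoc, c.two, zero_add]
  refine ⟨pm x, d, x * x * d⁻¹, b, b2, hst, hd,
    mul_mem (mul_mem hxpm hxpm) (inv_mem hd), ?_, hba, hb2a, hb0, hb20, hsum, ?_, ?_, hdb2, hd2b,
    ?_, ?_, ?_, ⟨t, ht, htb, htb2⟩⟩
  · have h1 : Commute d (x * x * d⁻¹) :=
      ((hdx'.mul_right hdx').mul_right (Commute.refl d).inv_right)
    exact h1.eq
  · rw [hdb, hdm, hdm, hdb, hx3m, hb', ← add_assoc, c.two, zero_add]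
  · rw [hd2b2, mul_smul, mul_smul, hdim, hdim, hdib2, hx3m, hb2', ← add_assoc, c.two, zero_add]
  · rw [hdb, hdm, hdm, hdb, inv_smul_of_inv' K.inv, inv_smul_of_inv K.inv (c.fix_br hba), hxsm,
      hxsm]
  · rw [hd2b2, mul_smul, mul_smul, hdim, hdim, hdib2, inv_smul_of_inv' K.inv,
      inv_smul_of_inv K.inv (c.fix_br hb2a), hxsm, hxsm]
  · rw [hb1e, hb2e]
    exact hact

end Cyc

end Cfsg.Agent.Omega.NO3S.Fit.Abs
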