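import Cfsg.Agent.Omega.NO3S.Fit.AbsMain

/-!
# Text #13963, section 3: the passage to the subfamily, module level

`Down H1 D H' M'` : `M'` is `D` as a module for the image `H'` of `H1`. `T9.nineA`, `T5.fiveA`, `M12.card_down`: the outputs
of section 3 for the faithful pair `(H', M')`, in the form used in section 4.
-/

set_option autoImplicit false
set_option linter.unusedSectionVars false

open scoped Pointwise

namespace Cfsg.Agent.Omega.NO3S.Fit.Abs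

variable {H M : Type*} [Group H] [AddCommGroup M] [DistribMulAction H M]
variable {H' M' : Type*} [Group H'] [AddCommGroup M'] [DistribMulAction H' M']

/-- `M'` is `D` as a module for the image `H'` of `H1` -/
structure Down (H1 : Subgroup H) (D : AddSubgroup M) (H' M' : Type*) [Group H'] [AddCommGroup M']
    [DistribMulAction H' M'] where
  io : M' → M
  rho : H → H'
  io_add : ∀ m n, io (m + n) = io m + io n
  io_inj : Function.Injective io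
  io_mem : ∀ m, io m ∈ D
  io_surj : ∀ m ∈ D, ∃ m', io m' = m
  rho_mul : ∀ g ∈ H1, ∀ h ∈ H1, rho (g * h) = rho g * rho h
  rho_surj : ∀ x : H', ∃ h ∈ H1, rho h = x
  act : ∀ h ∈ H1, ∀ m, io (rho h • m) = h • io m

namespace Down

variable {H1 : Subgroup H} {D : AddSubgroup M} (E : Down H1 D H' M')
include E

/-- `rho` on `H1` -/
def hom : H1 →* H' where
  toFun h := E.rho h
  map_one' := by
    have h1 := E.rho_mul 1 (one_mem _) 1 (one_mem _)
    rw [mul_one] at h1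
    change E.rho 1 = 1
    exact left_eq_mul.mp h1
  map_mul' g h := E.rho_mul g g.2 h h.2

theorem rho_pow {h : H} (hh : h ∈ H1) (n : ℕ) : E.rho (h ^ n) = E.rho h ^ n :=
  map_pow E.hom (⟨h, hh⟩ : H1) n

theorem io_zero : E.io 0 = 0 := by
  have := E.io_add 0 0
  rw [add_zero] at this
  exact left_eq_add.mp this

theorem card : Nat.card M' = Nat.card D :=
  Nat.card_congr (Equiv.ofBijective (fun m => (⟨E.io m, E.io_mem m⟩ : D))
    ⟨fun m n h => E.io_inj (congrArg Subtype.val h), fun ⟨m, hm⟩ => by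
      obtain ⟨m', h⟩ := E.io_surj m hm
      exact ⟨m', Subtype.ext h⟩⟩)

theorem eq_of_smul [FaithfulSMul H' M'] {g h : H} (hg : g ∈ H1) (hh : h ∈ H1)
    (e : ∀ m ∈ D, g • m = h • m) : E.rho g = E.rho h := by
  refine FaithfulSMul.eq_of_smul_eq_smul (α := M') fun m => E.io_inj ?_
  rw [E.act g hg, E.act h hh, e _ (E.io_mem m)]

theorem eq_one_of_smul [FaithfulSMul H' M'] {g : H} (hg : g ∈ H1)
    (e : ∀ m ∈ D, g • m = m) : E.rho g = 1 := by
  have h1 := E.eq_of_smul hg (one_mem H1) (fun m hm => by rw [e m hm, one_smul])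
  rw [h1]
  exact map_one E.hom

theorem fix_iff {h : H} (hh : h ∈ H1) {v0' : M'} :
    E.rho h • v0' = v0' ↔ h • E.io v0' = E.io v0' := by
  rw [← E.act h hh]
  exact ⟨fun e => by rw [e], fun e => E.io_inj e⟩

end Down

/-- the clauses of (T9) for a faithful pair `(H', M')` -/
structure NineA (v0 : M') (a d1 d2 : H') (b1 b2 : M') : Prop where
  card : Nat.card M' = 16
  vb : v0 = b1 + b2
  f1 : d1 • b2 = b2
  f2 : d2 • b1 = b1
  s1 : b1 + d1 • b1 + d1 • d1 • b1 = 0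
  s2 : b2 + d2 • b2 + d2 • d2 • b2 = 0
  n1 : d1 • b1 ≠ b1
  n2 : d2 • b2 ≠ b2
  comm : d1 * d2 = d2 * d1
  c1 : d1 ^ 3 = 1
  c2 : d2 ^ 3 = 1
  inv1 : a * d1 * a⁻¹ = d1⁻¹
  inv2 : a * d2 * a⁻¹ = d2⁻¹
  fa1 : a • b1 = b1
  fa2 : a • b2 = b2
  gen : ∀ x : H', ∃ i j : ℕ, ∃ h0 : H', h0 • v0 = v0 ∧ x = d1 ^ i * d2 ^ j * h0
  st : ∀ h0 : H', h0 • v0 = v0 →
    (h0 • b1 = b1 ∧ h0 • b2 = b2 ∧ (h0 * d1 * h0⁻¹ = d1 ∨ h0 * d1 * h0⁻¹ = d1⁻¹) ∧
      (h0 * d2 * h0⁻¹ = d2 ∨ h0 * d2 * h0⁻¹ = d2⁻¹)) ∨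
    (h0 • b1 = b2 ∧ h0 • b2 = b1 ∧ (h0 * d1 * h0⁻¹ = d2 ∨ h0 * d1 * h0⁻¹ = d2⁻¹) ∧
      (h0 * d2 * h0⁻¹ = d1 ∨ h0 * d2 * h0⁻¹ = d1⁻¹))
  sw : ∃ h0 : H', h0 • v0 = v0 ∧ h0 • b1 = b2 ∧ h0 • b2 = b1

/-- the clauses of (T5) for a faithful pair `(H', M')` -/
structure FiveA (v0 : M') (a d : H') : Prop where
  card : Nat.card M' = 16
  d5 : d ^ 5 = 1
  fd : ∀ m : M', d • m = m → m = 0
  inv : a * d * a⁻¹ = d⁻¹
  gen : ∀ x : H', ∃ i : ℕ, ∃ h0 : H', h0 • v0 = v0 ∧ x = d ^ i * h0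
  nd : ∀ h0 : H', h0 • v0 = v0 → ∃ i : ℕ, h0 * d * h0⁻¹ = d ^ i
  frob : ∃ h0 : H', h0 • v0 = v0 ∧ h0 * d * h0⁻¹ = d ^ 2

variable {v0 : M} {a : H} {T : Subgroup H}

namespace T9

variable {H1 : Subgroup H} {d1 d2 : H} {b1 b2 : M}

/-- `h d1 = e1 h` or `e1² h` on `D` -/
theorem norG [Finite M] (K : T9 v0 a T H1 d1 d2 b1 b2) (two : ∀ m : M, m + m = 0) {e1 e2 : H}
    {c1 c2 : M} (K' : T9 v0 a T H1 e1 e2 c1 c2) {h : H}
    (hm1 : ∀ m ∈ blk d1 b1, h • m ∈ blk e1 c1) (hm2 : ∀ m ∈ blk d2 b2, h • m ∈ blk e2 c2) :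
    (∀ m ∈ sp H1 v0, h • d1 • m = e1 • h • m) ∨
      (∀ m ∈ sp H1 v0, h • d1 • m = e1 • e1 • h • m) := by
  have h1 : h • b1 ∈ blk e1 c1 := hm1 _ (self_mem_blk d1 b1)
  have hh0 : h • b1 ≠ 0 := fun e => K.b10 ((smul_eq_zero_iff_eq h).mp e)
  have hs := blk_sum two K'.d11 h1
  have hmem : h • d1 • b1 ∈ blk e1 (h • b1) := by
    rw [blk_eq two K'.d11 K'.b10 h1 hh0]
    exact hm1 _ (smul_mem_blk' d1 b1)
  have hne : h • d1 • b1 ≠ h • b1 := by
    intro e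
    exact K.b10 (blk_fixed two K.d11 (self_mem_blk d1 b1) (smul_left_cancel h e))
  have hcube : e1 • e1 • e1 • h • b1 = h • b1 := K'.cube1 two h1
  -- it is enough to look at `b1` and `d1 b1`
  have ext : ∀ e : H, (∀ m ∈ blk e2 c2, e • m = m) → h • d1 • b1 = e • h • b1 →
      h • d1 • d1 • b1 = e • h • d1 • b1 → ∀ m ∈ sp H1 v0, h • d1 • m = e • h • m := by
    intro e he h3 h4 m hm
    rw [K.sp_eq two] at hm
    obtain ⟨p, hp, q, hq, rfl⟩ := AddSubgroup.mem_sup.mp hm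
    have hp' : h • d1 • p = e • h • p := by
      rcases (mem_blk two).mp hp with rfl | rfl | rfl | rfl
      · simp
      · exact h3
      · exact h4
      · rw [smul_add d1, smul_add h, smul_add h, smul_add e, h4, h3]
    rw [smul_add, smul_add, smul_add, smul_add, hp', K.triv2 hq, he _ (hm2 q hq)]
  rcases (mem_blk two).mp hmem with z | z | z | z
  · exact absurd ((smul_eq_zero_iff_eq d1).mp ((smul_eq_zero_iff_eq h).mp z)) K.b10
  · exact absurd z hne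
  · left
    refine ext e1 (fun m hm => K'.triv2 hm) z ?_
    rw [K.d11, smul_add, z, hs]
  · right
    have z' : h • d1 • b1 = (e1 * e1) • h • b1 := by rw [mul_smul, hs]; exact z
    have h9 := ext (e1 * e1) (fun m hm => by rw [mul_smul, K'.triv2 hm, K'.triv2 hm]) z' (by
      rw [K.d11, smul_add, z', mul_smul, mul_smul, hcube, hs, ← add_assoc, two, zero_add])
    intro m hm
    have := h9 m hm
    rwa [mul_smul] at this

variable [FaithfulSMul H' M']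

theorem nineA [Finite M] (K : T9 v0 a T H1 d1 d2 b1 b2) (c : Ctx v0 a T)
    (E : Down H1 (sp H1 v0) H' M') {v0' : M'} (hv : E.io v0' = v0) :
    ∃ d1' d2' b1' b2', NineA v0' (E.rho a) d1' d2' b1' b2' := by
  have two := c.two
  have haH : a ∈ H1 := K.stab_le a c.fix
  have hb1D : b1 ∈ sp H1 v0 := by
    rw [K.sp_eq two]; exact AddSubgroup.mem_sup_left (self_mem_blk d1 b1)
  have hb2D : b2 ∈ sp H1 v0 := by
    rw [K.sp_eq two]; exact AddSubgroup.mem_sup_right (self_mem_blk d2 b2)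
  obtain ⟨b1', hb1⟩ := E.io_surj b1 hb1D
  obtain ⟨b2', hb2⟩ := E.io_surj b2 hb2D
  -- transport of equations `h • io m = io m'`
  have tr : ∀ h ∈ H1, ∀ m m' : M', h • E.io m = E.io m' → E.rho h • m = m' := by
    intro h hh m m' e
    apply E.io_inj
    rw [E.act h hh, e]
  -- relations in `H'`
  have rel : ∀ g ∈ H1, ∀ d ∈ H1, ∀ e ∈ H1, (∀ m ∈ sp H1 v0, g • d • m = e • g • m) →
      E.rho g * E.rho d * (E.rho g)⁻¹ = E.rho e := by
    intro g hg d hd e he h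
    rw [mul_inv_eq_iff_eq_mul, ← E.rho_mul g hg d hd, ← E.rho_mul e he g hg]
    exact E.eq_of_smul (mul_mem hg hd) (mul_mem he hg) fun m hm => by
      rw [mul_smul, mul_smul, h m hm]
  have cube : ∀ {e1 e2 : H} {c1 c2 : M}, T9 v0 a T H1 e1 e2 c1 c2 →
      E.rho e1 ^ 3 = 1 := by
    intro e1 e2 c1 c2 K
    rw [← E.rho_pow K.d1m]
    refine E.eq_one_of_smul (pow_mem K.d1m 3) fun m hm => ?_
    rw [K.sp_eq two] at hm
    obtain ⟨p, hp, q, hq, rfl⟩ := AddSubgroup.mem_sup.mp hm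
    rw [pow_succ, pow_two, mul_smul, mul_smul, smul_add, smul_add, smul_add, K.cube1 two hp,
      K.triv2 hq, K.triv2 hq, K.triv2 hq]
  have sqinv : ∀ {e1 e2 : H} {c1 c2 : M}, T9 v0 a T H1 e1 e2 c1 c2 →
      E.rho (e1 * e1) = (E.rho e1)⁻¹ := by
    intro e1 e2 c1 c2 K
    rw [E.rho_mul _ K.d1m _ K.d1m, eq_inv_iff_mul_eq_one, ← pow_two, ← pow_succ]
    exact cube K
  -- `h d1 h⁻¹`
  have conj : ∀ {e1 e2 f1 f2 : H} {c1 c2 g1 g2 : M}, T9 v0 a T H1 e1 e2 c1 c2 →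
      T9 v0 a T H1 f1 f2 g1 g2 → ∀ h ∈ H1, (∀ m ∈ blk e1 c1, h • m ∈ blk f1 g1) →
      (∀ m ∈ blk e2 c2, h • m ∈ blk f2 g2) →
      E.rho h * E.rho e1 * (E.rho h)⁻¹ = E.rho f1 ∨
        E.rho h * E.rho e1 * (E.rho h)⁻¹ = (E.rho f1)⁻¹ := by
    intro e1 e2 f1 f2 c1 c2 g1 g2 K K' h hh hm1 hm2
    rcases K.norG two K' hm1 hm2 with h3 | h3
    · exact Or.inl (rel h hh e1 K.d1m f1 K'.d1m h3)
    · right
      rw [← sqinv K']
      refine rel h hh e1 K.d1m (f1 * f1) (mul_mem K'.d1m K'.d1m) fun m hm => ?_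
      rw [h3 m hm, mul_smul]
  have sum1 : ∀ {e1 e2 : H} {c1 c2 : M} {c1' : M'}, T9 v0 a T H1 e1 e2 c1 c2 → E.io c1' = c1 →
      c1' + E.rho e1 • c1' + E.rho e1 • E.rho e1 • c1' = 0 := by
    intro e1 e2 c1 c2 c1' K hc
    apply E.io_inj
    rw [E.io_add, E.io_add, E.act _ K.d1m, E.act _ K.d1m, E.act _ K.d1m, hc, K.d11, E.io_zero,
      two]
  have ne1 : ∀ {e1 e2 : H} {c1 c2 : M} {c1' : M'}, T9 v0 a T H1 e1 e2 c1 c2 → E.io c1' = c1 →
      E.rho e1 • c1' ≠ c1' := by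
    intro e1 e2 c1 c2 c1' K hc e
    have h1 : e1 • c1 = c1 := by rw [← hc, ← E.act _ K.d1m, e]
    exact K.b10 (blk_fixed two K.d11 (self_mem_blk e1 c1) h1)
  have inv : ∀ {e1 e2 : H} {c1 c2 : M}, T9 v0 a T H1 e1 e2 c1 c2 →
      E.rho a * E.rho e1 * (E.rho a)⁻¹ = (E.rho e1)⁻¹ := by
    intro e1 e2 c1 c2 K
    rw [← sqinv K]
    refine rel a haH e1 K.d1m (e1 * e1) (mul_mem K.d1m K.d1m) fun m hm => ?_
    rw [K.inv1 c hm, mul_smul]
  refine ⟨E.rho d1, E.rho d2, b1', b2', ?_⟩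
  refine
    { card := by rw [E.card, K.card_sp two]
      vb := E.io_inj (by rw [E.io_add, hb1, hb2, hv, K.sum])
      f1 := tr d1 K.d1m _ _ (by rw [hb2, K.d12])
      f2 := tr d2 K.d2m _ _ (by rw [hb1, K.d21])
      s1 := sum1 K hb1
      s2 := sum1 K.symm hb2
      n1 := ne1 K hb1
      n2 := ne1 K.symm hb2
      comm := by rw [← E.rho_mul _ K.d1m _ K.d2m, ← E.rho_mul _ K.d2m _ K.d1m, K.comm]
      c1 := cube K
      c2 := cube K.symm
      inv1 := inv K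
      inv2 := inv K.symm
      fa1 := tr a haH _ _ (by rw [hb1, c.fix_br K.b1m])
      fa2 := tr a haH _ _ (by rw [hb2, c.fix_br K.b2m])
      gen := ?_
      st := ?_
      sw := ?_ }
  · intro x
    obtain ⟨h, hh, rfl⟩ := E.rho_surj x
    obtain ⟨i, j, h0, hh0, e⟩ := K.exists_eq two hh
    have h0H := K.stab_le h0 hh0
    refine ⟨i, j, E.rho h0, (E.fix_iff h0H).mpr (by rw [hv, hh0]), ?_⟩
    rw [e, E.rho_mul _ (mul_mem (pow_mem K.d1m i) (pow_mem K.d2m j)) _ h0H,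
      E.rho_mul _ (pow_mem K.d1m i) _ (pow_mem K.d2m j), E.rho_pow K.d1m, E.rho_pow K.d2m]
  · intro x hx
    obtain ⟨h, hh, rfl⟩ := E.rho_surj x
    have hhv : h • v0 = v0 := by
      have := (E.fix_iff hh).mp hx
      rwa [hv] at this
    rcases K.stab_cases two hhv with ⟨e1, e2⟩ | ⟨e1, e2⟩
    · left
      have m1 : ∀ m ∈ blk d1 b1, h • m ∈ blk d1 b1 := fun m hm =>
        K.map1 two hh (by rw [e1]; exact self_mem_blk d1 b1) hm
      have m2 : ∀ m ∈ blk d2 b2, h • m ∈ blk d2 b2 := fun m hm =>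
        K.symm.map1 two hh (by rw [e2]; exact self_mem_blk d2 b2) hm
      exact ⟨tr h hh _ _ (by rw [hb1, e1]), tr h hh _ _ (by rw [hb2, e2]),
        conj K K h hh m1 m2, conj K.symm K.symm h hh m2 m1⟩
    · right
      have m1 : ∀ m ∈ blk d1 b1, h • m ∈ blk d2 b2 := fun m hm =>
        K.map12 two hh (by rw [e1]; exact self_mem_blk d2 b2) hm
      have m2 : ∀ m ∈ blk d2 b2, h • m ∈ blk d1 b1 := fun m hm =>
        K.symm.map12 two hh (by rw [e2]; exact self_mem_blk d1 b1) hm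
      exact ⟨tr h hh _ _ (by rw [hb1, e1, hb2]), tr h hh _ _ (by rw [hb2, e2, hb1]),
        conj K K.symm h hh m1 m2, conj K.symm K h hh m2 m1⟩
  · obtain ⟨t, ht, e1, e2⟩ := K.swap
    have htv := c.T0 t ht
    have htH := K.stab_le t htv
    exact ⟨E.rho t, (E.fix_iff htH).mpr (by rw [hv, htv]), tr t htH _ _ (by rw [hb1, e1, hb2]),
      tr t htH _ _ (by rw [hb2, e2, hb1])⟩

end T9

namespace T5

variable {d : H} [FaithfulSMul H' M']

theorem fiveA (K : T5 v0 a d) (c : Ctx v0 a T) {H1 : Subgroup H} (hH : H1 = cyc v0 d K.nor)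
    (E : Down H1 (br M d) H' M') {v0' : M'} (hv : E.io v0' = v0) :
    FiveA v0' (E.rho a) (E.rho d) := by
  have hdH : d ∈ H1 := hH ▸ self_mem_cyc K.nor
  have hst : ∀ h : H, h • v0 = v0 → h ∈ H1 := fun h hh => hH ▸ stab_le_cyc K.nor hh
  have haH : a ∈ H1 := hst a c.fix
  have hinv : ∀ g ∈ H1, ∀ e ∈ H1, g * d * g⁻¹ = e → E.rho g * E.rho d * (E.rho g)⁻¹ = E.rho e := by
    intro g hg e he h
    rw [mul_inv_eq_iff_eq_mul, ← E.rho_mul g hg d hdH, ← E.rho_mul e he g hg,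
      mul_inv_eq_iff_eq_mul.mp h]
  have hd5 : E.rho d ^ 5 = 1 := by
    rw [← E.rho_pow hdH, K.five]
    exact map_one E.hom
  have hz : ∀ z ∈ Subgroup.zpowers d, ∃ i : ℕ, z = d ^ i := by
    rintro _ ⟨i, rfl⟩
    have h1 : 0 ≤ i % 5 := Int.emod_nonneg _ (by norm_num)
    refine ⟨(i % 5).toNat, ?_⟩
    change d ^ i = _
    rw [← zpow_natCast, Int.toNat_of_nonneg h1]
    conv_lhs => rw [← Int.emod_add_mul_ediv i 5]
    rw [zpow_add, zpow_mul, zpow_ofNat, K.five, one_zpow, mul_one]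
  have hstab : ∀ x : H', x • v0' = v0' → ∃ h, h • v0 = v0 ∧ E.rho h = x := by
    intro x hx
    obtain ⟨h, hh, rfl⟩ := E.rho_surj x
    have := (E.fix_iff hh).mp hx
    rw [hv] at this
    exact ⟨h, this, rfl⟩
  refine
    { card := by rw [E.card, K.card]
      d5 := hd5
      fd := fun m hm => ?_
      inv := ?_
      gen := fun x => ?_
      nd := fun x hx => ?_
      frob := ?_ }
  · apply E.io_inj
    rw [E.io_zero]
    refine br_inf_fx c.two K.odd (E.io_mem m) ?_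
    rw [← E.act d hdH, hm]
  · have h1 := hinv a haH d⁻¹ (inv_mem hdH) K.inv
    rw [h1]
    exact map_inv E.hom (⟨d, hdH⟩ : H1)
  · obtain ⟨h, hh, rfl⟩ := E.rho_surj x
    obtain ⟨i, h0, hh0, e⟩ := mem_cyc.mp (hH ▸ hh)
    obtain ⟨n, hn⟩ := hz (d ^ i) (Subgroup.zpow_mem_zpowers d i)
    refine ⟨n, E.rho h0, (E.fix_iff (hst h0 hh0)).mpr (by rw [hv, hh0]), ?_⟩
    rw [e, hn, E.rho_mul _ (pow_mem hdH n) _ (hst h0 hh0), E.rho_pow hdH]
  · obtain ⟨h, hh, rfl⟩ := hstab x hx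
    obtain ⟨n, hn⟩ := hz _ (K.nor h hh)
    refine ⟨n, ?_⟩
    rw [hinv h (hst h hh) (d ^ n) (pow_mem hdH n) hn, E.rho_pow hdH]
  · obtain ⟨h, hh, e⟩ := K.frob
    refine ⟨E.rho h, (E.fix_iff (hst h hh)).mpr (by rw [hv, hh]), ?_⟩
    rw [hinv h (hst h hh) (d ^ 2) (pow_mem hdH 2) e, E.rho_pow hdH]

end T5

/-- in (M12) the subfamily has `|M'| = 4` -/
theorem Ctx.M12.card_down {d : H} (K : Ctx.M12 v0 a d) {H1 : Subgroup H}
    (E : Down H1 (br M d) H' M') : Nat.card M' = 4 := by rw [E.card, K.card]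

end Cfsg.Agent.Omega.NO3S.Fit.Abs
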