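import Cfsg.Agent.Omega.NO3S.Fit.AbsCtx

/-!
# Text #13963, section 3 with `A = ⟨a⟩`, `|[M,a]| = 4`

A natural element of `F` inverted by `a`, or `[F,a] = ⟨x⟩ ≤ Z(F)` of order 3 or 5 with `|[M,x]| = 16`.
-/

set_option autoImplicit false
set_option linter.unusedSectionVars false

open scoped Pointwise

namespace Cfsg.Agent.Omega.NO3S.Fit.Abs

variable {H M : Type*} [Group H] [AddCommGroup M] [DistribMulAction H M]

namespace Ctx

variable {v0 : M} {a : H} {T : Subgroup H}

/-- `h • v0 ∈ [M,a]` ==> `h a h⁻¹` commutes with `a` -/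
theorem conj_comm (c : Ctx v0 a T) {h : H} (hh : h • v0 ∈ br M a) :
    h * a * h⁻¹ * a = a * (h * a * h⁻¹) := by
  have h1 : a • h • v0 = h • v0 := c.fix_br hh
  have h2 : (h⁻¹ * a * h) • v0 = v0 := by
    rw [mul_smul, mul_smul, h1, inv_smul_smul]
  have h3 := c.cen _ h2
  have e1 : h * a * h⁻¹ * a = h * (a * (h⁻¹ * a * h)) * h⁻¹ := by group
  have e2 : a * (h * a * h⁻¹) = h * (h⁻¹ * a * h * a) * h⁻¹ := by group
  rw [e1, e2, h3]

variable [Finite H] [Finite M] [FaithfulSMul H M]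

section

variable (c : Ctx v0 a T) (h4 : Nat.card (br M a) = 4)
include c h4

theorem br_cases {b : M} (hb : b ∈ br M a) (hb0 : b ≠ 0) (hbv : b ≠ v0) {w : M}
    (hw : w ∈ br M a) : w = 0 ∨ w = v0 ∨ w = b ∨ w = v0 + b :=
  mem_four h4 c.two c.v0_mem hb c.ne hb0 hbv.symm hw

theorem exists_b : ∃ b ∈ br M a, b ≠ 0 ∧ b ≠ v0 := exists_ne_ne_of_card h4

theorem stab_b {b : M} (hb : b ∈ br M a) (hb0 : b ≠ 0) (hbv : b ≠ v0) {g : H}
    (hg : g • v0 = v0) : g • b = b ∨ g • b = v0 + b := by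
  have hgb := c.smul_br_of_stab hg hb
  rcases c.br_cases h4 hb hb0 hbv hgb with h | h | h | h
  · exact absurd ((smul_eq_zero_iff_eq g).mp h) hb0
  · exfalso
    apply hbv
    have : g • b = g • v0 := by rw [h, hg]
    exact smul_left_cancel g this
  · exact Or.inl h
  · exact Or.inr h

theorem exists_swap {b : M} (hb : b ∈ br M a) (hb0 : b ≠ 0) (hbv : b ≠ v0) :
    ∃ t ∈ T, t • b = v0 + b := by
  by_contra hcon
  push Not at hcon
  apply hbv
  refine c.FIX b hb hb0 fun t ht => ?_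
  rcases c.stab_b h4 hb hb0 hbv (c.T0 t ht) with h | h
  · exact h
  · exact absurd h (hcon t ht)

theorem triv_of_fix {b : M} (hb : b ∈ br M a) (hb0 : b ≠ 0) (hbv : b ≠ v0) {g : H}
    (hg : g • v0 = v0) (hgb : g • b = b) {m : M} (hm : m ∈ br M a) : g • m = m := by
  rcases c.br_cases h4 hb hb0 hbv hm with rfl | rfl | rfl | rfl
  · simp
  · exact hg
  · exact hgb
  · rw [smul_add, hg, hgb]

theorem odd_triv {g : H} (hg : Odd (orderOf g)) (hga : g * a = a * g) {m : M}
    (hm : m ∈ br M a) : g • m = m := by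
  obtain ⟨b, hb, hb0, hbv⟩ := c.exists_b h4
  have hgv : g • v0 = v0 := c.pl h4 g hga
  refine c.triv_of_fix h4 hb hb0 hbv hgv ?_ hm
  rcases c.stab_b h4 hb hb0 hbv hgv with h | h
  · exact h
  · refine fix_of_sq hg ?_
    rw [h, smul_add, hgv, h, ← add_assoc, c.two, zero_add]

end

/-- `a` is determined by its action: it inverts `x` and is trivial on `[M,a]` and on `C_M(x)` -/
theorem key_eq (c : Ctx v0 a T) {x g : H} (hx : Odd (orderOf x)) (hi : a * x * a⁻¹ = x⁻¹)
    (hcx : cx M a x = br M a) (hg : g * x * g⁻¹ = x⁻¹) (hgb : ∀ m ∈ br M a, g • m = m)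
    (hgf : ∀ m ∈ fx M x, g • m = m) : g = a := by
  refine FaithfulSMul.eq_of_smul_eq_smul (α := M) fun m => ?_
  have hle : br M a ≤ br M x := hcx ▸ (inf_le_left : cx M a x ≤ br M x)
  obtain ⟨d, hd, e, he, rfl⟩ := exists_decomp c.two hx m
  obtain ⟨u, hu, w, hw, rfl⟩ := exists_cx_add c.two c.sq hx hi hd
  rw [smul_add, smul_add, smul_add, smul_add, hgf e he, c.triv_fx hx hi hle he,
    inv_smul_of_inv hg (hgb w (hcx ▸ hw)), inv_smul_of_inv hi hw.2, hgb u (hcx ▸ hu),
    show a • u = u from hu.2]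

/-- an element of odd order commuting with `a` and `x` is trivial on `[M,x]` (`cx = [M,a]`) -/
theorem odd_triv_D (c : Ctx v0 a T) (h4 : Nat.card (br M a) = 4) {x : H}
    (hx : Odd (orderOf x)) (hi : a * x * a⁻¹ = x⁻¹)
    (hcx : cx M a x = br M a) {g : H} (hg : Odd (orderOf g)) (hga : g * a = a * g)
    (hgx : g * x = x * g) {m : M} (hm : m ∈ br M x) : g • m = m := by
  obtain ⟨u, hu, w, hw, rfl⟩ := exists_cx_add c.two c.sq hx hi hm
  rw [smul_add, ← mul_smul, hgx, mul_smul, c.odd_triv h4 hg hga (hcx ▸ hu),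
    c.odd_triv h4 hg hga (hcx ▸ hw)]

theorem dead (c : Ctx v0 a T) (h4 : Nat.card (br M a) = 4) {x : H}
    (hx : Odd (orderOf x)) (hi : a * x * a⁻¹ = x⁻¹)
    (hcx : cx M a x = br M a) {g : H} (hg : Odd (orderOf g)) (hga : g * a = a * g)
    (hgx : g * x = x * g) (hle : br M g ≤ br M x) : g = 1 :=
  eq_one_of_fix c.two hg fun _ hm => c.odd_triv_D h4 hx hi hcx hg hga hgx (hle hm)

end Ctx

/-! ### arithmetic -/

theorem card_p_le {p k : ℕ} (hp : p.Prime) (hp2 : p ≠ 2) (h : p ^ k ∣ 20160) : k ≤ 2 := by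
  by_contra hcon
  push Not at hcon
  have h1 : p ^ 3 ∣ 20160 := (pow_dvd_pow p hcon).trans h
  have h2 : p ^ 3 ≤ 20160 := Nat.le_of_dvd (by decide) h1
  have h3 : p < 28 := by
    by_contra hc
    push Not at hc
    have := Nat.pow_le_pow_left hc 3
    omega
  have h4 := hp.two_le
  interval_cases p <;>
    first
    | exact hp2 rfl
    | exact absurd h1 (by decide)
    | exact absurd hp (by norm_num)

theorem comm_of_card {K : Type*} [Group K] [Finite K] {p : ℕ} (hp : p.Prime) (hp2 : p ≠ 2)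
    (hK : IsPGroup p K) (h : Nat.card K ∣ 20160) (g g' : K) : g * g' = g' * g := by
  have : Fact p.Prime := ⟨hp⟩
  obtain ⟨k, hk⟩ := IsPGroup.iff_card.mp hK
  have hk2 : k ≤ 2 := card_p_le hp hp2 (hk ▸ h)
  interval_cases k
  · have : Subsingleton K := (Nat.card_eq_one_iff_unique.mp (by simpa using hk)).1
    exact Subsingleton.elim _ _
  · have : IsCyclic K := isCyclic_of_prime_card (p := p) (by simpa using hk)
    exact (IsCyclic.commGroup (α := K)).mul_comm g g'
  · exact (IsPGroup.commGroupOfCardEqPrimeSq (p := p) hk).mul_comm g g'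

/-- a semiregular action on `N - 0` -/
theorem card_dvd_of_semireg [Finite H] [Finite M] {P : Subgroup H} {N : AddSubgroup M}
    (hN : ∀ g ∈ P, ∀ m ∈ N, g • m ∈ N)
    (hs : ∀ g ∈ P, ∀ m ∈ N, m ≠ 0 → g • m = m → g = 1) :
    Nat.card P ∣ Nat.card N - 1 := by
  classical
  let X := {m : N // m ≠ 0}
  let _ : MulAction P X :=
    { smul := fun g m => ⟨⟨(g : H) • ((m : N) : M), hN g g.2 _ (m : N).2⟩, by
        intro h
        apply m.2
        have h1 : (g : H) • ((m : N) : M) = 0 := congrArg Subtype.val h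
        exact Subtype.ext ((smul_eq_zero_iff_eq (g : H)).mp h1)⟩
      one_smul := fun m => Subtype.ext (Subtype.ext (one_smul H _))
      mul_smul := fun s t m => Subtype.ext (Subtype.ext (mul_smul (s : H) (t : H) _)) }
  have hsm : ∀ (g : P) (m : X), (((g • m : X) : N) : M) = (g : H) • ((m : N) : M) :=
    fun _ _ => rfl
  have : Fintype P := Fintype.ofFinite P
  have : Fintype X := Fintype.ofFinite X
  have : Fintype (Quotient (MulAction.orbitRel P X)) := Fintype.ofFinite _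
  have : ∀ b : X, Fintype (MulAction.stabilizer P b) := fun b => Fintype.ofFinite _
  have h1 := MulAction.card_eq_sum_card_group_div_card_stabilizer P X
  have h2 : ∀ b : X, Fintype.card (MulAction.stabilizer P b) = 1 := by
    intro b
    have : MulAction.stabilizer P b = ⊥ := by
      rw [eq_bot_iff]
      intro g hg
      have h3 : g • b = b := hg
      have h4 : (g : H) • ((b : N) : M) = ((b : N) : M) := by
        rw [← hsm, h3]
      have h5 : (g : H) = 1 := hs g g.2 _ (b : N).2 (fun h => b.2 (Subtype.ext h)) h4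
      exact Subtype.ext h5
    rw [← Nat.card_eq_fintype_card, this]
    exact Subgroup.card_bot
  simp only [h2, Nat.div_one, Finset.sum_const, smul_eq_mul] at h1
  have h3 : Nat.card X = Nat.card N - 1 := by
    have : Fintype N := Fintype.ofFinite N
    rw [Nat.card_eq_fintype_card, Nat.card_eq_fintype_card, Fintype.card_subtype_compl]
    simp
  rw [← h3, Nat.card_eq_fintype_card, Nat.card_eq_fintype_card, h1]
  exact Dvd.intro_left _ rfl

/-! ### the structure of `[F,a]` -/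

theorem conj_mem_FA {F : Subgroup H} [hFn : F.Normal] {a g : H} (hg : g * a = a * g) {k : H}
    (hk : k ∈ cmm F (Subgroup.zpowers a)) : g * k * g⁻¹ ∈ cmm F (Subgroup.zpowers a) := by
  refine conj_mem_cmm (fun f hf => hFn.conj_mem f hf g) ?_ hk
  rintro _ ⟨i, rfl⟩
  have h1 : Commute g (a ^ i) := (show Commute g a from hg).zpow_right i
  change g * a ^ i * g⁻¹ ∈ Subgroup.zpowers a
  rw [h1.eq, mul_inv_cancel_right]
  exact Subgroup.zpow_mem_zpowers a i

/-- `[F,a] = ⟨x⟩ ≤ Z(F)` of order 3 or 5, `|[M,x]| = 16` -/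
structure Cyc (M : Type*) [AddCommGroup M] [DistribMulAction H M] (a : H) (F : Subgroup H)
    (x : H) : Prop where
  mem : x ∈ F
  cen : ∀ f ∈ F, f * x = x * f
  inv : a * x * a⁻¹ = x⁻¹
  ord : orderOf x = 3 ∨ orderOf x = 5
  card : Nat.card (br M x) = 16
  cxe : cx M a x = br M a
  FA : cmm F (Subgroup.zpowers a) = Subgroup.zpowers x

/-- an involution acts on an abelian odd order set-up: `y (a y a⁻¹)` commutes with `a` -/
theorem comm_prod {a y : H} (hsq : a * a = 1) (hc : y * (a * y * a⁻¹) = a * y * a⁻¹ * y) :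
    (y * (a * y * a⁻¹)) * a = a * (y * (a * y * a⁻¹)) := by
  have ha : a⁻¹ = a := inv_eq_of_mul_eq_one_right hsq
  rw [ha] at hc ⊢
  have e1 : y * (a * y * a) * a = y * (a * y) * (a * a) := by group
  have e2 : a * (y * (a * y * a)) = a * (y * (a * y * a)) * 1 := by rw [mul_one]
  rw [e1, hsq, mul_one, hc]
  have e3 : a * (a * y * a * y) = (a * a) * y * (a * y) := by group
  rw [e3, hsq, one_mul]

namespace Ctx

variable {v0 : M} {a : H} {T : Subgroup H} [Finite H] [Finite M] [FaithfulSMul H M]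

/-- a natural element of `F` inverted by `a`, or `Cyc` -/
theorem exists_struct (c : Ctx v0 a T) (h4 : Nat.card (br M a) = 4) {p : ℕ} (hp : p.Prime)
    (hp2 : p ≠ 2) {F : Subgroup H} [hFn : F.Normal] (hF : IsPGroup p F)
    (hFa : ∃ f ∈ F, f * a ≠ a * f) :
    (∃ x ∈ F, Nat.card (br M x) = 4 ∧ a * x * a⁻¹ = x⁻¹) ∨ ∃ x, Cyc M a F x := by
  have : Fact p.Prime := ⟨hp⟩
  set P := cmm F (Subgroup.zpowers a) with hP
  have hPF : P ≤ F := cmm_le fun b _ f hf => hFn.conj_mem f hf b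
  have hPp : IsPGroup p P := hF.to_le hPF
  have hodd : ∀ f ∈ F, Odd (orderOf f) := fun f hf => odd_orderOf_of_isPGroup hp hp2 hF hf
  have hgen : ∀ f ∈ F, f * a * f⁻¹ * a⁻¹ ∈ P := fun f hf =>
    Subgroup.subset_closure ⟨f, hf, a, Subgroup.mem_zpowers a, rfl⟩
  have hP1 : P ≠ ⊥ := by
    obtain ⟨f, hf, hne⟩ := hFa
    intro h
    apply hne
    have h1 : f * a * f⁻¹ * a⁻¹ = 1 := by
      have := hgen f hf
      rwa [h, Subgroup.mem_bot] at this
    exact mul_inv_eq_iff_eq_mul.mp (mul_inv_eq_one.mp h1)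
  -- central element
  obtain ⟨x, hxP, hxF, hx1⟩ : ∃ x ∈ P, (∀ f ∈ F, f * x = x * f) ∧ x ≠ 1 := by
    have hN : (P.subgroupOf F).Normal := by
      refine ⟨fun n hn g => ?_⟩
      rw [Subgroup.mem_subgroupOf] at hn ⊢
      exact conj_mem_cmm' g.2 hn
    have hN1 : P.subgroupOf F ≠ ⊥ := by
      intro h
      apply hP1
      rw [Subgroup.subgroupOf_eq_bot] at h
      rw [eq_bot_iff]
      intro g hg
      exact h.le_bot ⟨hg, hPF hg⟩
    obtain ⟨z, hz, hzc, hz1⟩ :=
      Cfsg.Agent.GTwoFour.Tools.exists_mem_center_of_normal hF (P.subgroupOf F) hN1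
    refine ⟨z, hz, fun f hf => ?_, fun h => hz1 (Subtype.ext h)⟩
    have := (Subgroup.mem_center_iff.mp hzc) ⟨f, hf⟩
    exact congrArg Subtype.val this
  -- a nontrivial central element of `P` does not commute with `a`
  have hdead : ∀ z ∈ P, (∀ f ∈ F, f * z = z * f) → z * a = a * z → z = 1 := by
    intro z hz hzF hza
    have hzo := hodd z (hPF hz)
    have h1 : P ≤ into (fx M z) := by
      rw [hP, cmm, Subgroup.closure_le]
      rintro _ ⟨f, hf, b, ⟨i, rfl⟩, rfl⟩
      change br M (f * a ^ i * f⁻¹ * (a ^ i)⁻¹) ≤ fx M z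
      have h2 : br M (a ^ i) ≤ fx M z := fun m hm => c.odd_triv h4 hzo hza (br_zpow_le a i hm)
      refine (br_mul_le _ _).trans (sup_le ?_ ?_)
      · rw [← smul_br]
        intro m hm
        rw [AddSubgroup.mem_smul_pointwise_iff_exists] at hm
        obtain ⟨n, hn, rfl⟩ := hm
        exact smul_mem_fx_of_comm (hzF f hf) (h2 hn)
      · rw [br_inv]
        exact h2
    exact eq_one_of_fix c.two hzo fun m hm => h1 hz hm
  have hxa : a * x * a⁻¹ = x⁻¹ := by
    have haP : a * x * a⁻¹ ∈ P := conj_mem_FA rfl hxP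
    have haF : ∀ f ∈ F, f * (a * x * a⁻¹) = a * x * a⁻¹ * f := by
      intro f hf
      have h1 := hxF (a⁻¹ * f * a) (by simpa using hFn.conj_mem f hf a⁻¹)
      have e1 : f * (a * x * a⁻¹) = a * (a⁻¹ * f * a * x) * a⁻¹ := by group
      rw [e1, h1]
      group
    have hcx : x * (a * x * a⁻¹) = a * x * a⁻¹ * x := haF x (hPF hxP)
    have h2 : x * (a * x * a⁻¹) = 1 := by
      refine hdead _ (mul_mem hxP haP) (fun f hf => ?_) (comm_prod c.sq hcx)
      rw [← mul_assoc, hxF f hf, mul_assoc, haF f hf, ← mul_assoc x]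
    exact eq_inv_of_mul_eq_one_right h2
  have hxo := hodd x (hPF hxP)
  rcases c.inv_cases hxo hxa hx1 with ⟨-, h⟩ | ⟨-, h16, -, hcx⟩
  · exact Or.inl ⟨x, hPF hxP, h, hxa⟩
  have hle : br M a ≤ br M x := hcx ▸ (inf_le_left : cx M a x ≤ br M x)
  have hPD : P ≤ into (br M x) := by
    rw [hP, cmm, Subgroup.closure_le]
    rintro _ ⟨f, hf, b, ⟨i, rfl⟩, rfl⟩
    change br M (f * a ^ i * f⁻¹ * (a ^ i)⁻¹) ≤ br M x
    refine (br_mul_le _ _).trans (sup_le ?_ ?_)
    · rw [← smul_br]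
      intro m hm
      rw [AddSubgroup.mem_smul_pointwise_iff_exists] at hm
      obtain ⟨n, hn, rfl⟩ := hm
      exact smul_mem_br_of_comm (hxF f hf) (hle (br_zpow_le a i hn))
    · rw [br_inv]
      exact (br_zpow_le a i).trans hle
  have hdvd : Nat.card P ∣ 20160 :=
    (card_dvd_addAut c.two (fun k hk => hPD hk) (fun k hk => hodd k (hPF hk))).trans
      (card_addAut_dvd c.two (by rw [h16]))
  by_cases hsr : ∀ g ∈ P, ∀ m ∈ br M x, m ≠ 0 → g • m = m → g = 1
  · right
    have h15 : Nat.card P ∣ 15 := by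
      have := card_dvd_of_semireg (P := P) (N := br M x)
        (fun g hg m hm => smul_mem_br_of_comm (hxF g (hPF hg)) hm) hsr
      rwa [h16] at this
    obtain ⟨k, hk⟩ := IsPGroup.iff_card.mp hPp
    have hk1 : k ≠ 0 := by
      rintro rfl
      exact hP1 (Subgroup.card_eq_one.mp (by simpa using hk))
    have hp15 : p ∣ 15 := by
      refine dvd_trans ?_ h15
      rw [hk]
      exact dvd_pow_self p hk1
    have hp35 : p = 3 ∨ p = 5 := by
      have h1 : p ∣ 3 * 5 := hp15
      rcases (Nat.Prime.dvd_mul hp).mp h1 with h | h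
      · exact Or.inl ((Nat.prime_dvd_prime_iff_eq hp Nat.prime_three).mp h)
      · exact Or.inr ((Nat.prime_dvd_prime_iff_eq hp Nat.prime_five).mp h)
    have hk2 : k = 1 := by
      by_contra hcon
      have h2 : 2 ≤ k := by omega
      have h3 : p ^ 2 ∣ 15 := (pow_dvd_pow p h2).trans (hk ▸ h15)
      rcases hp35 with rfl | rfl <;> revert h3 <;> decide
    subst hk2
    rw [pow_one] at hk
    have hxo' : orderOf x = p := by
      have h1 : orderOf x ∣ p := by
        rw [← hk]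
        exact Subgroup.orderOf_dvd_natCard P hxP
      rcases (Nat.dvd_prime hp).mp h1 with h | h
      · exact absurd (orderOf_eq_one_iff.mp h) hx1
      · exact h
    refine ⟨x, hPF hxP, hxF, hxa, by rwa [hxo'], h16, hcx, ?_⟩
    symm
    refine Subgroup.eq_of_le_of_card_ge (Subgroup.zpowers_le.mpr hxP) ?_
    rw [Nat.card_zpowers, hxo', hk]
  · left
    push Not at hsr
    obtain ⟨y, hyP, m, hm, hm0, hym, hy1⟩ := hsr
    have hPc : ∀ g ∈ P, ∀ g' ∈ P, g * g' = g' * g := by
      intro g hg g' hg'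
      exact congrArg Subtype.val (comm_of_card hp hp2 hPp hdvd ⟨g, hg⟩ ⟨g', hg'⟩)
    have hya : a * y * a⁻¹ = y⁻¹ := by
      have haP : a * y * a⁻¹ ∈ P := conj_mem_FA rfl hyP
      have hc := hPc y hyP _ haP
      have h2 : y * (a * y * a⁻¹) = 1 := by
        have hmem : y * (a * y * a⁻¹) ∈ P := mul_mem hyP haP
        exact c.dead h4 hxo hxa hcx (hodd _ (hPF hmem)) (comm_prod c.sq hc)
          (hxF _ (hPF hmem)) (hPD hmem)
      exact eq_inv_of_mul_eq_one_right h2
    have hyo := hodd y (hPF hyP)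
    rcases c.inv_cases hyo hya hy1 with ⟨-, h⟩ | ⟨-, h16', -, -⟩
    · exact ⟨y, hPF hyP, h, hya⟩
    · exfalso
      have h1 : br M y = br M x := AddSubgroup.eq_of_le_of_card_ge (hPD hyP) (by rw [h16, h16'])
      rw [← h1] at hm
      exact hm0 (br_inf_fx c.two hyo hm hym)

end Ctx

end Cfsg.Agent.Omega.NO3S.Fit.Abs
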