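import Cfsg.Agent.Omega.CaseL.Core

/-!
# NO-3S, `q = 2`, `n = 1` (helper311's text #13963): families and the base facts (section 0)

`Fam T V z cf` : a flag `(z, V)` as in `CaseL.Ln` (K-free) and a FAMILY `cf` : for every point `p` of `V` a group
`cf p` with `N_G(V) ∩ C_G(p) ≤ cf p ≤ C_G(p)`, compatible with conjugation by `N_G(V)`; `ww V cf p = ⟨V^c : c ∈ cf p⟩` is
elementary abelian, `[W_z, W_y] ≠ 1` for some `y ∈ V`, and (F1): some `q ∈ T ∩ Q_z` moves `V`.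

* `wf V C = ⟨V^c : c ∈ C⟩`, `ww V cf p = wf V (cf p)`;
* `qf V C x` : the kernel of `C ∩ C_G(x)` on `wf V C / ⟨x⟩`, `qq V cf p = qf V (cf p) p`;
* `kk V cf p = C_G(W_p)`;
* `jj V cf` : the intersection of the `W_p`, `p ∈ V#`.
-/

set_option autoImplicit false
set_option linter.unusedSectionVars false

namespace Cfsg.Agent.Omega.NO3S.Fit

open Subgroup Cfsg Cfsg.Agent.ZN Cfsg.Agent.MinSimple.Geo Cfsg.Agent.Omega.CaseL
open Cfsg.Agent.ZN.Block (conj_mem_of_normalizer conj_mem_of_normalizer' le_normalizer_of_forall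
  mem_normalizer_of)

universe u

variable {G : Type u} [Group G]

/-! ### Definitions -/

/-- `⟨V^c : c ∈ C⟩` -/
def wf (V C : Subgroup G) : Subgroup G := ⨆ c : C, cj (c : G) V

/-- `W_p` -/
abbrev ww (V : Subgroup G) (cf : G → Subgroup G) (p : G) : Subgroup G := wf V (cf p)

theorem cj_le_wf {V C : Subgroup G} {c : G} (hc : c ∈ C) : cj c V ≤ wf V C :=
  le_iSup (fun c : C => cj (c : G) V) ⟨c, hc⟩

theorem wf_le {V C A : Subgroup G} (h : ∀ c ∈ C, cj c V ≤ A) : wf V C ≤ A :=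
  iSup_le fun c => h c c.2

theorem V_le_wf (V C : Subgroup G) : V ≤ wf V C := by
  have := cj_le_wf (V := V) (one_mem C)
  rwa [cj_one] at this

theorem wf_mono {V C D : Subgroup G} (h : C ≤ D) : wf V C ≤ wf V D :=
  wf_le fun _ hc => cj_le_wf (h hc)

theorem cj_wf (V C : Subgroup G) (g : G) : cj g (wf V C) = wf (cj g V) (cj g C) := by
  have key : ∀ (g : G) (V C : Subgroup G), cj g (wf V C) ≤ wf (cj g V) (cj g C) := by
    intro g V C
    refine map_le_iff_le_comap.mpr (wf_le fun c hc => map_le_iff_le_comap.mp ?_)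
    have h1 : g * c * g⁻¹ ∈ cj g C := conj_mem_cj hc
    have h2 := cj_le_wf (V := cj g V) h1
    rw [cj_cj, inv_mul_cancel_right, ← cj_cj] at h2
    exact h2
  refine le_antisymm (key g V C) ?_
  have := cj_mono (g := g) (key g⁻¹ (cj g V) (cj g C))
  have e1 : cj g (cj g⁻¹ (wf (cj g V) (cj g C))) = wf (cj g V) (cj g C) := by
    rw [cj_cj, mul_inv_cancel, cj_one]
  have e2 : ∀ A : Subgroup G, cj g⁻¹ (cj g A) = A := fun A => by rw [cj_cj, inv_mul_cancel, cj_one]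
  rwa [e1, e2, e2] at this

theorem le_normalizer_wf (V C : Subgroup G) : C ≤ normalizer ((wf V C : Subgroup G) : Set G) := by
  refine le_normalizer_of_forall fun c hc w hw => ?_
  have hle : wf V C ≤ cj c⁻¹ (wf V C) := by
    refine wf_le fun d hd => ?_
    have := cj_mono (g := c⁻¹) (cj_le_wf (V := V) (mul_mem hc hd))
    rwa [cj_cj, inv_mul_cancel_left] at this
  have := mem_cj.mp (hle hw)
  rwa [inv_inv] at this

theorem conj_mem_wf {V C : Subgroup G} {c w : G} (hc : c ∈ C) (hw : w ∈ wf V C) :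
    c * w * c⁻¹ ∈ wf V C := conj_mem_of_normalizer (le_normalizer_wf V C) hc hw

/-- the kernel of `C ∩ C_G(x)` on `wf V C / ⟨x⟩` -/
def qf (V C : Subgroup G) (x : G) : Subgroup G where
  carrier := {c | c ∈ C ∧ c * x = x * c ∧ ∀ w ∈ wf V C, c * w * c⁻¹ * w⁻¹ ∈ zpowers x}
  mul_mem' := by
    rintro a b ⟨ha, hax, ha1⟩ ⟨hb, hbx, hb1⟩
    refine ⟨mul_mem ha hb, mul_comm_of hax hbx, fun w hw => ?_⟩
    have e : a * b * w * (a * b)⁻¹ * w⁻¹ =
        (a * (b * w * b⁻¹) * a⁻¹ * (b * w * b⁻¹)⁻¹) * (b * w * b⁻¹ * w⁻¹) := by group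
    rw [e]
    exact mul_mem (ha1 _ (conj_mem_wf hb hw)) (hb1 w hw)
  one_mem' := ⟨one_mem _, by simp, fun w _ => by simp⟩
  inv_mem' := by
    rintro a ⟨ha, hax, ha1⟩
    refine ⟨inv_mem ha, inv_comm_of hax, fun w hw => ?_⟩
    have hw' : a⁻¹ * w * a ∈ wf V C := by
      have := conj_mem_wf (inv_mem ha) hw
      rwa [inv_inv] at this
    have e : a⁻¹ * w * a⁻¹⁻¹ * w⁻¹ = (a * (a⁻¹ * w * a) * a⁻¹ * (a⁻¹ * w * a)⁻¹)⁻¹ := by group
    rw [e]
    exact inv_mem (ha1 _ hw')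

theorem mem_qf {V C : Subgroup G} {x c : G} : c ∈ qf V C x ↔
    c ∈ C ∧ c * x = x * c ∧ ∀ w ∈ wf V C, c * w * c⁻¹ * w⁻¹ ∈ zpowers x := Iff.rfl

/-- `Q_p` -/
abbrev qq (V : Subgroup G) (cf : G → Subgroup G) (p : G) : Subgroup G := qf V (cf p) p

/-- `K_p = C_G(W_p)` -/
abbrev kk (V : Subgroup G) (cf : G → Subgroup G) (p : G) : Subgroup G :=
  centralizer ((ww V cf p : Subgroup G) : Set G)

/-- the intersection of the `W_p`, `p ∈ V#` -/
def jj (V : Subgroup G) (cf : G → Subgroup G) : Subgroup G where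
  carrier := {u | ∀ p ∈ V, p ≠ 1 → u ∈ ww V cf p}
  mul_mem' := fun ha hb p hp hp1 => mul_mem (ha p hp hp1) (hb p hp hp1)
  one_mem' := fun _ _ _ => one_mem _
  inv_mem' := fun ha p hp hp1 => inv_mem (ha p hp hp1)

/-- **A family over the flag `(z, V)`** at critical distance 1, with (F1). -/
structure Fam (T V : Subgroup G) (z : G) (cf : G → Subgroup G) : Prop where
  ln : Ln T V z
  le : ∀ p ∈ V, p ≠ 1 → cf p ≤ centralizer ({p} : Set G)
  ge : ∀ p ∈ V, p ≠ 1 → normalizer (V : Set G) ⊓ centralizer ({p} : Set G) ≤ cf p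
  cj_cf : ∀ g ∈ normalizer (V : Set G), ∀ p ∈ V, p ≠ 1 → cj g (cf p) = cf (g * p * g⁻¹)
  ab : ∀ a ∈ ww V cf z, ∀ b ∈ ww V cf z, a * b = b * a
  nc : ∃ y ∈ V, y ≠ 1 ∧ y ≠ z ∧ ∃ a ∈ ww V cf z, ∃ b ∈ ww V cf y, a * b ≠ b * a
  f1 : ∃ q ∈ T, q ∈ qq V cf z ∧ q ∉ centralizer (V : Set G)

end Cfsg.Agent.Omega.NO3S.Fit
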