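import Cfsg.Agent.Omega.NO3S.Fit.Sub
import Cfsg.Agent.Omega.NO3S.Fit.AbsNat

/-!
# NO-3S, `q = 2`, `n = 1` (helper311's text #13963): comparison of a subfamily with the family

`K ≥ Stab_H(v0)`, the subfamily `subf V z (R.pre K)`, its representation `R'` on `M'` by `H'`: `θ : M' → M` injective with range
`⟨v0^K⟩`, `κ : K → H'` onto, `θ (κ x • m) = x • θ m`.
-/

set_option autoImplicit false
set_option linter.unusedSectionVars false

namespace Cfsg.Agent.Omega.NO3S.Fit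

open Subgroup Cfsg Cfsg.Agent.ZN Cfsg.Agent.MinSimple.Geo Cfsg.Agent.Omega.CaseL
open Cfsg.Agent.ZN.Block (conj_mem_of_normalizer conj_mem_of_normalizer' le_normalizer_of_forall
  mem_normalizer_of)

universe u

variable {G : Type u} [Group G] {T V : Subgroup G} {z : G} {cf : G → Subgroup G}
variable {M H M' H' : Type u} [AddCommGroup M] [Group H] [DistribMulAction H M]
  [AddCommGroup M'] [Group H'] [DistribMulAction H' M']

/-- the span of the `K`-orbit of `v` -/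
def spn (K : Subgroup H) (v : M) : AddSubgroup M := AddSubgroup.closure (Set.range fun x : K => (x : H) • v)

theorem mem_spn (K : Subgroup H) (v : M) : v ∈ spn K v :=
  AddSubgroup.subset_closure ⟨1, one_smul _ _⟩

theorem smul_mem_spn' {K : Subgroup H} {x : H} (hx : x ∈ K) (v : M) : x • v ∈ spn K v :=
  AddSubgroup.subset_closure ⟨⟨x, hx⟩, rfl⟩

theorem smul_mem_spn {K : Subgroup H} {x : H} (hx : x ∈ K) {v m : M} (hm : m ∈ spn K v) : x • m ∈ spn K v := by
  induction hm using AddSubgroup.closure_induction with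
  | mem m hm =>
    obtain ⟨x', rfl⟩ := hm
    change x • ((x' : H) • v) ∈ _
    rw [← mul_smul]
    exact smul_mem_spn' (mul_mem hx x'.2) v
  | zero => rw [smul_zero]; exact zero_mem _
  | add a b _ _ ha hb => rw [smul_add]; exact add_mem ha hb
  | neg a _ ha => rw [smul_neg]; exact neg_mem ha

theorem spn_le {K : Subgroup H} {v : M} {N : AddSubgroup M} (h : ∀ x ∈ K, x • v ∈ N) : spn K v ≤ N := by
  refine (AddSubgroup.closure_le _).mpr ?_
  rintro _ ⟨x, rfl⟩
  exact h x x.2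

/-- comparison of the representation `R` of the family with the representation `R'` of the subfamily `pre K` -/
structure Cmp (R : MRep V cf z M H) (y : G) (K : Subgroup H) (R' : MRep V (subf V z (R.pre K)) z M' H')
    (θ : M' →+ M) (κ : K →* H') : Prop where
  inj : Function.Injective θ
  surj : Function.Surjective κ
  pi : ∀ w ∈ wf V (R.pre K), θ (R'.pi w) = R.pi w
  phi : ∀ (c : G) (hc : c ∈ R.pre K), κ ⟨R.phi c, (R.mem_pre.mp hc).2⟩ = R'.phi c
  act : ∀ (x : K) (m : M'), θ (κ x • m) = (x : H) • θ m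
  range : ∀ m, (∃ m', θ m' = m) ↔ m ∈ spn K (R.pi y)

theorem exists_cmp [Finite G] (R : MRep V cf z M H) (h : Fam T V z cf) {y : G} (hy : y ∈ V) (hy1 : y ≠ 1)
    (hyz : y ≠ z) {K : Subgroup H} (hK : ∀ x : H, x • R.pi y = R.pi y → x ∈ K)
    (R' : MRep V (subf V z (R.pre K)) z M' H') (h' : Fam T V z (subf V z (R.pre K))) :
    ∃ (θ : M' →+ M) (κ : K →* H'), Cmp R y K R' θ κ := by
  classical
  have hz := h.ln.z_mem
  have hz1 := h.ln.z_ne
  have hC := R.le_pre h hy hy1 hyz hK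
  have hCle : (R.pre K) ≤ cf z := R.pre_le K
  have eW : ww V (subf V z (R.pre K)) z = wf V (R.pre K) := Fam.ww_subf hC
  have eC : subf V z (R.pre K) z = (R.pre K) := subf_z hC
  have hWW : wf V (R.pre K) ≤ ww V cf z := wf_mono hCle
  have hpi' : ∀ w ∈ wf V (R.pre K), ∀ w' ∈ wf V (R.pre K), (R'.pi w = R'.pi w' ↔ R.pi w = R.pi w') := by
    intro w hw w' hw'
    rw [R'.pi_eq h' (by rw [eW]; exact hw) (by rw [eW]; exact hw'), R.pi_eq h (hWW hw) (hWW hw')]
  have hphi' : ∀ c ∈ (R.pre K), ∀ c' ∈ (R.pre K), R.phi c = R.phi c' → R'.phi c = R'.phi c' := by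
    intro c hc c' hc' e
    rw [R.phi_eq (hCle hc) (hCle hc')] at e
    rw [R'.phi_eq (by rw [eC]; exact hc) (by rw [eC]; exact hc')]
    refine ⟨by rw [eC]; exact mul_mem hc (inv_mem hc'), e.2.1, fun w hw => e.2.2 w ?_⟩
    rw [eC] at hw
    exact hWW hw
  -- `θ`
  have hs : ∀ m : M', ∃ w ∈ wf V (R.pre K), R'.pi w = m := by
    intro m
    obtain ⟨w, hw, e⟩ := R'.pi_surj m
    exact ⟨w, by rwa [eW] at hw, e⟩
  choose s hs1 hs2 using hs
  have hθ : ∀ w ∈ wf V (R.pre K), R.pi (s (R'.pi w)) = R.pi w := by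
    intro w hw
    exact (hpi' _ (hs1 _) _ hw).mp (hs2 _)
  have hadd : ∀ w ∈ wf V (R.pre K), ∀ w' ∈ wf V (R.pre K), R'.pi (w * w') = R'.pi w + R'.pi w' := by
    intro w hw w' hw'
    exact R'.pi_mul w (by rw [eW]; exact hw) w' (by rw [eW]; exact hw')
  let θ : M' →+ M :=
    { toFun := fun m => R.pi (s m)
      map_zero' := by
        have h1 : R'.pi 1 = 0 := R'.pi_one h'
        have h2 := hθ 1 (one_mem _)
        rw [h1, R.pi_one h] at h2
        exact h2
      map_add' := by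
        intro a b
        have h2 := hθ (s a * s b) (mul_mem (hs1 a) (hs1 b))
        rw [hadd _ (hs1 a) _ (hs1 b), hs2, hs2] at h2
        rw [h2, R.pi_mul _ (hWW (hs1 a)) _ (hWW (hs1 b))] }
  have hθpi : ∀ w ∈ wf V (R.pre K), θ (R'.pi w) = R.pi w := hθ
  -- `κ`
  have ht : ∀ x : K, ∃ c, ∃ hc : c ∈ (R.pre K), R.phi c = (x : H) := by
    intro x
    obtain ⟨c, hc, e⟩ := R.phi_surj (x : H)
    exact ⟨c, R.mem_pre.mpr ⟨hc, by rw [e]; exact x.2⟩, e⟩
  choose t ht1 ht2 using ht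
  have hκ : ∀ (c : G) (hc : c ∈ (R.pre K)), R'.phi (t ⟨R.phi c, (R.mem_pre.mp hc).2⟩) = R'.phi c := by
    intro c hc
    exact hphi' _ (ht1 _) _ hc (ht2 _)
  let κ : K →* H' :=
    { toFun := fun x => R'.phi (t x)
      map_one' := by
        have h1 : R.phi 1 = 1 := R.phi_one'
        have h2 := hphi' _ (ht1 1) 1 (one_mem _) (by rw [ht2, h1]; rfl)
        rw [h2, R'.phi_one']
      map_mul' := by
        intro a b
        have h2 := hphi' _ (ht1 (a * b)) (t a * t b) (mul_mem (ht1 a) (ht1 b)) (by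
          rw [ht2, R.phi_mul _ (hCle (ht1 a)) _ (hCle (ht1 b)), ht2, ht2]; rfl)
        rw [h2, R'.phi_mul _ (by rw [eC]; exact ht1 a) _ (by rw [eC]; exact ht1 b)] }
  have hκphi : ∀ (c : G) (hc : c ∈ (R.pre K)), κ ⟨R.phi c, (R.mem_pre.mp hc).2⟩ = R'.phi c := hκ
  refine ⟨θ, κ, ?_, ?_, hθpi, hκphi, ?_, ?_⟩
  · intro a b e
    have e' : R.pi (s a) = R.pi (s b) := e
    rw [← hpi' _ (hs1 a) _ (hs1 b), hs2, hs2] at e'
    exact e'
  · intro x
    obtain ⟨c, hc, rfl⟩ := R'.phi_surj x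
    rw [eC] at hc
    exact ⟨_, hκphi c hc⟩
  · intro x m
    obtain ⟨w, hw, rfl⟩ : ∃ w ∈ wf V (R.pre K), R'.pi w = m := ⟨s m, hs1 m, hs2 m⟩
    have e1 : κ x = R'.phi (t x) := rfl
    rw [e1, R'.act _ (by rw [eC]; exact ht1 x) w (by rw [eW]; exact hw),
      hθpi _ (conj_mem_wf (ht1 x) hw), hθpi w hw, ← ht2 x, R.act _ (hCle (ht1 x)) w (hWW hw)]
  · intro m
    constructor
    · rintro ⟨m', rfl⟩
      exact ((R.mem_wf_pre h hy hy1 hyz K).mp (hs1 m')).2
    · intro hm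
      have hm' : m ∈ AddSubgroup.closure (Set.range fun x : K => (x : H) • R.pi y) := hm
      obtain ⟨w, hw, e⟩ := R.pi_surj m
      have hw' : w ∈ wf V (R.pre K) := (R.mem_wf_pre h hy hy1 hyz K).mpr ⟨hw, by rw [e]; exact hm'⟩
      exact ⟨R'.pi w, by rw [hθpi w hw', e]⟩

namespace Cmp

variable {R : MRep V cf z M H} {y : G} {K : Subgroup H} {R' : MRep V (subf V z (R.pre K)) z M' H'}
  {θ : M' →+ M} {κ : K →* H'}

theorem pi_y (c : Cmp R y K R' θ κ) (hy : y ∈ V) : θ (R'.pi y) = R.pi y :=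
  c.pi y (V_le_wf V _ hy)

theorem card (c : Cmp R y K R' θ κ) : Nat.card M' = Nat.card (spn K (R.pi y)) := by
  refine Nat.card_congr (Equiv.ofBijective (fun m => (⟨θ m, (c.range _).mp ⟨m, rfl⟩⟩ : spn K (R.pi y))) ⟨?_, ?_⟩)
  · intro a b e
    exact c.inj (congrArg Subtype.val e)
  · rintro ⟨m, hm⟩
    obtain ⟨m', e⟩ := (c.range m).mpr hm
    exact ⟨m', Subtype.ext e⟩

/-- two elements of `K` with the same action on `⟨v0^K⟩` have the same image in `H'` -/
theorem eq_of [FaithfulSMul H' M'] (c : Cmp R y K R' θ κ) {a b : K}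
    (hab : ∀ m ∈ spn K (R.pi y), (a : H) • m = (b : H) • m) : κ a = κ b := by
  refine FaithfulSMul.eq_of_smul_eq_smul (α := M') fun m => c.inj ?_
  rw [c.act, c.act]
  exact hab _ ((c.range _).mp ⟨m, rfl⟩)

theorem mem_range (c : Cmp R y K R' θ κ) (m : M') : θ m ∈ spn K (R.pi y) := (c.range _).mp ⟨m, rfl⟩

/-- the stabilizer of `v0` in `H'` comes from the one in `K` -/
theorem stab (c : Cmp R y K R' θ κ) (hy : y ∈ V) {x : K} (hx : κ x • R'.pi y = R'.pi y) :
    (x : H) • R.pi y = R.pi y := by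
  rw [← c.pi_y hy, ← c.act, hx]

theorem stab' (c : Cmp R y K R' θ κ) (hy : y ∈ V) {x : K} (hx : (x : H) • R.pi y = R.pi y) :
    κ x • R'.pi y = R'.pi y := by
  apply c.inj
  rw [c.act, c.pi_y hy, hx]

end Cmp

end Cfsg.Agent.Omega.NO3S.Fit
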