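import Cfsg.Agent.Omega.NO3S.Fit.TFiveAbs
import Cfsg.Agent.Omega.NO3S.Fit.Sub

/-!
# NO-3S, `q = 2`, `n = 1` (helper311's text #13963), section 6: `|K_z| ≤ 64` for the type `T5`

From `K_z ∩ K_y = E` of order 8 (section 4) and the structure of the type `T5` on `M` of order 16:
* an element of `H` which fixes `C_M(a)` pointwise is `1` or `a`; so `|K_y : K_y ∩ Q_z| ≤ 2`;
* `(K_y ∩ Q_z)/E` embeds into `Hom(W_z/E, ⟨z⟩)` of order 4.
-/

set_option autoImplicit false
set_option linter.unusedSectionVars false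

namespace Cfsg.Agent.Omega.NO3S.Fit

open Subgroup Cfsg Cfsg.Agent.ZN Cfsg.Agent.MinSimple.Geo Cfsg.Agent.Omega.CaseL
open Cfsg.Agent.ZN.Block (conj_mem_of_normalizer conj_mem_of_normalizer' le_normalizer_of_forall
  mem_normalizer_of)

universe u

namespace Abs

variable {H M : Type*} [Group H] [AddCommGroup M] [DistribMulAction H M]

/-- `C_M(a) = [M,a]` has order 4 -/
theorem fix_four [Finite M] [FaithfulSMul H M] (two : ∀ m : M, m + m = 0) (hM : Nat.card M = 16)
    {a d : H} (ha : a * a = 1) (hd : d ^ 5 = 1) (hd1 : d ≠ 1) (hi : a * d * a⁻¹ = d⁻¹) :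
    Nat.card (fx M a) = 4 ∧ ∀ m ∈ fx M a, ∃ n : M, a • n - n = m := by
  have hodd : Odd (orderOf d) := by
    have h1 : orderOf d ∣ 5 := orderOf_dvd_of_pow_eq_one hd
    exact Odd.of_dvd_nat (by decide) h1
  have hfx : fx M d = ⊥ := by
    rw [eq_bot_iff]
    intro m hm
    exact fpf_five two hd hd1 hM hm
  have hbr : br M d = ⊤ := by
    have := sup_br_fx two hodd (M := M)
    rwa [hfx, sup_bot_eq] at this
  obtain ⟨h1, h2⟩ := card_br_eq (M := M) two ha hodd hi
  have h3 : cx M a d = fx M a := by rw [cx, hbr, top_inf_eq]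
  rw [h3, hbr] at h1
  have h4 : Nat.card (⊤ : AddSubgroup M) = 16 := by
    rw [AddSubgroup.card_top]; exact hM
  rw [h4] at h1
  refine ⟨?_, fun m hm => ?_⟩
  · nlinarith [h1]
  · have hm' : m ∈ cx M a d := by rw [h3]; exact hm
    obtain ⟨n, -, hn⟩ := cx_le_br two ha hodd hi hm'
    exact ⟨n, hn⟩

/-- an element which fixes `C_M(a)` pointwise, commutes with `a` and normalizes `⟨d⟩` is `1` or `a` -/
theorem eq_of_fix [Finite M] [FaithfulSMul H M] (two : ∀ m : M, m + m = 0) (hM : Nat.card M = 16)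
    {a d : H} (ha : a * a = 1) (hd : d ^ 5 = 1) (hd1 : d ≠ 1) (hi : a * d * a⁻¹ = d⁻¹)
    {s : H} (hs : ∀ m ∈ fx M a, s • m = m) (hsa : s * a = a * s) {i : ℕ} (hsd : s * d * s⁻¹ = d ^ i)
    {v0 : M} (hv0 : v0 ≠ 0) (hav : a • v0 = v0) : s = 1 ∨ s = a := by
  obtain ⟨-, -⟩ := fix_four (M := M) two hM ha hd hd1 hi
  have hsq : s * s = 1 := by
    refine FaithfulSMul.eq_of_smul_eq_smul (α := M) fun m => ?_
    rw [one_smul, mul_smul]
    -- `a m - m` is fixed by `s`
    have h1 : a • m - m ∈ fx M a := by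
      change a • (a • m - m) = a • m - m
      rw [smul_sub, ← mul_smul, ha, one_smul, sub_eq two, sub_eq two, add_comm]
    have h2 := hs _ h1
    have h3 : s • m - m ∈ fx M a := by
      change a • (s • m - m) = s • m - m
      rw [smul_sub, ← mul_smul, ← hsa, mul_smul]
      rw [smul_sub] at h2
      -- `s a m - s m = a m - m`
      have : s • a • m - a • m = s • m - m := by
        rw [sub_eq_sub_iff_add_eq_add] at h2 ⊢
        calc s • a • m + m = a • m + s • m := h2
          _ = s • m + a • m := add_comm _ _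
      exact this
    have h4 := hs _ h3
    rw [smul_sub] at h4
    have h5 : s • s • m = (s • s • m - s • m) + (s • m - m) + m := by abel
    rw [h5, h4, two, zero_add]
  have hpow : ∀ k : ℕ, s * d ^ k * s⁻¹ = d ^ (i * k) := by
    intro k
    rw [← conj_pow, hsd, ← pow_mul]
  have hii : d ^ (i * i) = d := by
    rw [← hpow i, ← hsd]
    calc s * (s * d * s⁻¹) * s⁻¹ = (s * s) * d * (s * s)⁻¹ := by group
      _ = d := by rw [hsq]; group
  have hod : orderOf d = 5 := by
    have h1 : orderOf d ∣ 5 := orderOf_dvd_of_pow_eq_one hd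
    rcases (Nat.dvd_prime (by norm_num)).mp h1 with e | e
    · exact absurd (orderOf_eq_one_iff.mp e) hd1
    · exact e
  have hmod : i * i ≡ 1 [MOD 5] := by
    have : d ^ (i * i) = d ^ 1 := by rw [hii, pow_one]
    rw [pow_eq_pow_iff_modEq, hod] at this
    exact this
  have hi5 : i % 5 = 1 ∨ i % 5 = 4 := by
    have h1 : (i % 5) * (i % 5) % 5 = 1 := by
      have := hmod
      unfold Nat.ModEq at this
      rw [Nat.mul_mod] at this
      simpa using this
    have h2 : i % 5 < 5 := Nat.mod_lt _ (by norm_num)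
    interval_cases h : i % 5 <;> simp_all
  have hred : d ^ i = d ^ (i % 5) := by
    rw [← hod, pow_mod_orderOf]
  rw [hred] at hsd
  have hsv : s • v0 = v0 := hs _ hav
  rcases hi5 with e | e
  · left
    rw [e, pow_one] at hsd
    exact cent_semireg two hd hd1 hM (mul_inv_eq_iff_eq_mul.mp hsd) hsv hv0
  · right
    rw [e] at hsd
    have hd4 : d ^ 4 = d⁻¹ := by
      rw [eq_inv_iff_mul_eq_one, ← pow_succ]; exact hd
    rw [hd4] at hsd
    have h1 : (s * a) * d = d * (s * a) := by
      have h2 : s * a * d * (s * a)⁻¹ = d := by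
        calc s * a * d * (s * a)⁻¹ = s * (a * d * a⁻¹) * s⁻¹ := by group
          _ = (s * d * s⁻¹)⁻¹ := by rw [hi]; group
          _ = d := by rw [hsd, inv_inv]
      exact mul_inv_eq_iff_eq_mul.mp h2
    have h3 : (s * a) • v0 = v0 := by rw [mul_smul, hav, hsv]
    have h4 := cent_semireg two hd hd1 hM h1 h3 hv0
    calc s = s * a * a := by rw [mul_assoc, ha, mul_one]
      _ = a := by rw [h4, one_mul]

end Abs

theorem card_le_two_mul {G : Type*} [Group G] [Finite G] {K L : Subgroup G}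
    (hx : ∀ k ∈ L, k ∉ K → ∀ k' ∈ L, k' ∉ K → k * k'⁻¹ ∈ K) : Nat.card L ≤ 2 * Nat.card K := by
  by_cases hKL : L ≤ K
  · have : Nat.card L ≤ Nat.card K := Subgroup.card_le_of_le hKL
    omega
  obtain ⟨k0, hk0, hk0'⟩ := Set.not_subset.mp hKL
  have h1 : (L : Set G) ⊆ (K : Set G) ∪ (fun x => x * k0) '' (K : Set G) := by
    intro k hk
    by_cases hkK : k ∈ K
    · exact Or.inl hkK
    · exact Or.inr ⟨k * k0⁻¹, hx k hk hkK k0 hk0 hk0', by group⟩
  have h2 : (L : Set G).ncard ≤ ((K : Set G) ∪ (fun x => x * k0) '' (K : Set G)).ncard :=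
    Set.ncard_le_ncard h1 (Set.toFinite _)
  have h3 := Set.ncard_union_le (K : Set G) ((fun x => x * k0) '' (K : Set G))
  have h4 : ((fun x => x * k0) '' (K : Set G)).ncard ≤ (K : Set G).ncard := Set.ncard_image_le (Set.toFinite _)
  have h5 : (L : Set G).ncard = Nat.card L := rfl
  have h6 : (K : Set G).ncard = Nat.card K := rfl
  omega

variable {G : Type u} [Group G] {T V : Subgroup G} {z : G} {cf : G → Subgroup G}
variable {M H : Type u} [AddCommGroup M] [Group H] [DistribMulAction H M]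

namespace MRep

/-- `|W_z| = 2 |M|` -/
theorem card_ww [Finite G] (R : MRep V cf z M H) (h : Fam T V z cf) :
    Nat.card (ww V cf z) = 2 * Nat.card M := by
  let f : ww V cf z →* Multiplicative M :=
    { toFun := fun w => Multiplicative.ofAdd (R.pi w)
      map_one' := by
        change Multiplicative.ofAdd (R.pi 1) = 1
        rw [R.pi_one h]; rfl
      map_mul' := fun a b => by
        change Multiplicative.ofAdd (R.pi (a * b)) = _
        rw [R.pi_mul a a.2 b b.2]; rfl }
  have hf : Function.Surjective f := by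
    intro m
    obtain ⟨w, hw, e⟩ := R.pi_surj (Multiplicative.toAdd m)
    exact ⟨⟨w, hw⟩, congrArg Multiplicative.ofAdd e⟩
  have h1 := f.ker.card_mul_index
  rw [index_ker, MonoidHom.range_eq_top.mpr hf] at h1
  have h2 : Nat.card (⊤ : Subgroup (Multiplicative M)) = Nat.card M := by
    rw [Subgroup.card_top]; rfl
  have h3 : Nat.card f.ker = 2 := by
    have h4 : ((f.ker : Subgroup (ww V cf z)) : Set (ww V cf z)) = {1, ⟨z, h.z_mem_ww⟩} := by
      ext w
      rw [SetLike.mem_coe, MonoidHom.mem_ker]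
      constructor
      · intro e
        rcases (R.pi_ker w w.2).mp (Multiplicative.ofAdd.injective e) with e | e
        · exact Or.inl (Subtype.ext e)
        · exact Or.inr (Subtype.ext e)
      · rintro (rfl | rfl)
        · exact map_one f
        · change Multiplicative.ofAdd (R.pi z) = 1
          rw [R.pi_z h]; rfl
    have h5 : Nat.card f.ker = ((f.ker : Subgroup (ww V cf z)) : Set (ww V cf z)).ncard := rfl
    rw [h5, h4, Set.ncard_pair]
    intro e
    exact h.ln.z_ne (congrArg Subtype.val e).symm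
  rw [h3, h2] at h1
  exact h1.symm

/-- **`|K_z| ≤ 64`** -/
theorem card_kk_le [Finite G] [Finite M] [Finite H] [FaithfulSMul H M] (R : MRep V cf z M H)
    (h : Fam T V z cf) (hk : Fam.One1 V cf) {y : G} (hy : y ∈ V) (hy1 : y ≠ 1) (hyz : y ≠ z)
    (card : Nat.card M = 16) {d : H} (d5 : d ^ 5 = 1) (fd : ∀ m : M, d • m = m → m = 0)
    (inv : ∀ a ∈ ww V cf y, a ∉ qq V cf z → R.phi a * d * (R.phi a)⁻¹ = d⁻¹)
    (nd : ∀ h0 : H, h0 • R.pi y = R.pi y → ∃ i : ℕ, h0 * d * h0⁻¹ = d ^ i)
    (hE : Nat.card (jj V cf) = 8) (hKK : kk V cf z ⊓ kk V cf y ≤ jj V cf) :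
    Nat.card (kk V cf z) ≤ 64 := by
  have hz := h.ln.z_mem
  have hz1 := h.ln.z_ne
  have two : ∀ m : M, m + m = 0 := R.two h
  have hv0 : R.pi y ≠ 0 := R.v0_ne h hy hy1 hyz
  have hd1 : d ≠ 1 := by
    rintro rfl
    exact hv0 (fd _ (one_smul _ _))
  obtain ⟨w, hw, hwz⟩ := h.exists_not_qq hy hy1 hz hz1 (Ne.symm hyz)
  have hwc := h.ww_le_cf' hy hy1 hz hz1 hw
  set a := R.phi w with ha
  have ha2 : a * a = 1 := R.sq_A h hy hy1 hw
  have hi := inv w hw hwz
  have hav : a • R.pi y = R.pi y := R.A_v0 h hy hy1 hy hw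
  obtain ⟨hfx4, -⟩ := Abs.fix_four (M := M) two card ha2 d5 hd1 hi
  -- `π(E) = C_M(a)`
  have hEfx : ∀ m ∈ Abs.fx M a, ∃ e ∈ jj V cf, R.pi e = m := by
    have h1 : R.pi '' ((jj V cf : Subgroup G) : Set G) ⊆ ((Abs.fx M a : AddSubgroup M) : Set M) := by
      rintro _ ⟨e, he, rfl⟩
      change a • R.pi e = R.pi e
      rw [ha, R.act w hwc e (Fam.jj_le hz hz1 he)]
      congr 1
      exact conj_eq_of_comm (h.comm hy hy1 w hw e (Fam.jj_le hy hy1 he))
    have h2 : 8 ≤ 2 * (R.pi '' ((jj V cf : Subgroup G) : Set G)).ncard := by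
      have h3 : ((jj V cf : Subgroup G) : Set G).ncard = 8 := hE
      rw [← h3]
      -- fibers of size at most 2
      classical
      have hfin : ((jj V cf : Subgroup G) : Set G).Finite := Set.toFinite _
      rw [Set.ncard_eq_toFinset_card _ hfin]
      have h4 : (R.pi '' ((jj V cf : Subgroup G) : Set G)).ncard = (hfin.toFinset.image R.pi).card := by
        rw [← Set.ncard_coe_finset]
        congr 1
        ext m
        simp
      rw [h4]
      refine Finset.card_le_mul_card_image _ _ ?_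
      intro m hm
      obtain ⟨e, he, rfl⟩ := Finset.mem_image.mp hm
      have he' : e ∈ jj V cf := by simpa using he
      have h5 : (hfin.toFinset.filter fun x => R.pi x = R.pi e) ⊆ {e, z * e} := by
        intro x hx
        rw [Finset.mem_filter] at hx
        have hx1 : x ∈ jj V cf := by simpa using hx.1
        rw [Finset.mem_insert, Finset.mem_singleton]
        exact (R.pi_eq h (Fam.jj_le hz hz1 hx1) (Fam.jj_le hz hz1 he')).mp hx.2
      exact (Finset.card_le_card h5).trans Finset.card_le_two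
    have h3 : (R.pi '' ((jj V cf : Subgroup G) : Set G)) = ((Abs.fx M a : AddSubgroup M) : Set M) := by
      refine Set.eq_of_subset_of_ncard_le h1 ?_ (Set.toFinite _)
      have h4 : ((Abs.fx M a : AddSubgroup M) : Set M).ncard = 4 := hfx4
      omega
    intro m hm
    have : m ∈ R.pi '' ((jj V cf : Subgroup G) : Set G) := by rw [h3]; exact hm
    obtain ⟨e, he, rfl⟩ := this
    exact ⟨e, he, rfl⟩
  -- elements of `K_y`
  have hK : ∀ k ∈ kk V cf y, k ∈ cf z ∧ (R.phi k = 1 ∨ R.phi k = a) := by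
    intro k hkk
    have hkV := h.kk_le_cent hkk
    have hkc := h.cent_le_cf hz hz1 hkV
    refine ⟨hkc, ?_⟩
    have hkv : R.phi k • R.pi y = R.pi y := R.cent_v0 h hy hkV
    obtain ⟨i, hsd⟩ := nd _ hkv
    refine Abs.eq_of_fix (M := M) two card ha2 d5 hd1 hi (s := R.phi k) ?_ ?_ hsd hv0 hav
    · intro m hm
      obtain ⟨e, he, rfl⟩ := hEfx m hm
      rw [R.act k hkc e (Fam.jj_le hz hz1 he)]
      congr 1
      exact conj_eq_of_comm (mem_centralizer_iff.mp hkk e (Fam.jj_le hy hy1 he)).symm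
    · exact R.cen_A h hk hy hy1 hyz hw hkv
  have c1 : Nat.card (kk V cf y) ≤ 2 * Nat.card (kk V cf y ⊓ qq V cf z : Subgroup G) := by
    refine card_le_two_mul fun k hkk hk1 k' hkk' hk1' => ?_
    obtain ⟨hkc, e⟩ := hK k hkk
    obtain ⟨hkc', e'⟩ := hK k' hkk'
    have f : R.phi k = a := by
      rcases e with e | e
      · exact absurd (mem_inf.mpr ⟨hkk, (R.phi_ker k hkc).mp e⟩) hk1
      · exact e
    have f' : R.phi k' = a := by
      rcases e' with e | e
      · exact absurd (mem_inf.mpr ⟨hkk', (R.phi_ker k' hkc').mp e⟩) hk1'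
      · exact e
    exact mem_inf.mpr ⟨mul_mem hkk (inv_mem hkk'), (R.phi_eq hkc hkc').mp (f.trans f'.symm)⟩
  -- two more elements
  have cW : Nat.card (ww V cf z) = 32 := by rw [R.card_ww h, card]
  have cstep : ∀ (X : Subgroup G) (w1 : G), X ≤ qq V cf z → w1 ∈ ww V cf z →
      Nat.card X ≤ 2 * Nat.card (X ⊓ centralizer {w1} : Subgroup G) := by
    intro X w1 hX hw1
    refine card_le_two_mul fun k hkk hk1 k' hkk' hk1' => ?_
    have key : ∀ k ∈ X, k ∉ X ⊓ centralizer {w1} → k * w1 * k⁻¹ = z * w1 := by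
      intro k hkX hk1
      rcases h.qq_cases hz (hX hkX) hw1 with e | e
      · exfalso
        apply hk1
        refine mem_inf.mpr ⟨hkX, ?_⟩
        rw [mem_centralizer_singleton_iff]
        exact comm_of_conj_eq e
      · exact e
    have e1 := key k hkk hk1
    have e2 := key k' hkk' hk1'
    refine mem_inf.mpr ⟨mul_mem hkk (inv_mem hkk'), ?_⟩
    rw [mem_centralizer_singleton_iff]
    refine comm_of_conj_eq ?_
    have hkz : k * z = z * k := h.cf_comm hz hz1 (h.qq_le_cf (hX hkk))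
    have hkz' : k' * z = z * k' := h.cf_comm hz hz1 (h.qq_le_cf (hX hkk'))
    have hzz : z * z = 1 := h.ln.zz
    have e3 : k'⁻¹ * w1 * k' = z * w1 := by
      have h1 : w1 = k'⁻¹ * (z * w1) * k' := by rw [← e2]; group
      have h2 : k'⁻¹ * (z * w1) * k' = z * (k'⁻¹ * w1 * k') := by
        have : k'⁻¹ * z = z * k'⁻¹ := by
          rw [inv_mul_eq_iff_eq_mul, ← mul_assoc, hkz', mul_inv_cancel_right]
        calc k'⁻¹ * (z * w1) * k' = (k'⁻¹ * z) * w1 * k' := by group
          _ = z * (k'⁻¹ * w1 * k') := by rw [this]; group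
      rw [h2] at h1
      calc k'⁻¹ * w1 * k' = (z * z) * (k'⁻¹ * w1 * k') := by rw [hzz, one_mul]
        _ = z * (z * (k'⁻¹ * w1 * k')) := by group
        _ = z * w1 := by rw [← h1]
    calc k * k'⁻¹ * w1 * (k * k'⁻¹)⁻¹ = k * (k'⁻¹ * w1 * k') * k⁻¹ := by group
      _ = (k * z) * w1 * k⁻¹ := by rw [e3]; group
      _ = z * (k * w1 * k⁻¹) := by rw [hkz]; group
      _ = (z * z) * w1 := by rw [e1]; group
      _ = w1 := by rw [hzz, one_mul]
  -- `W_z` is generated by `E`, `w1`, `w2`
  have hEW : jj V cf ≤ ww V cf z := Fam.jj_le hz hz1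
  obtain ⟨w1, w2, hw1, hw2, hgen⟩ : ∃ w1 w2, w1 ∈ ww V cf z ∧ w2 ∈ ww V cf z ∧
      ∀ B : Subgroup G, jj V cf ≤ B → w1 ∈ B → w2 ∈ B → ww V cf z ≤ B := by
    have hnot : ∀ X : Subgroup G, Nat.card X < 32 → ∃ w ∈ ww V cf z, w ∉ X := by
      intro X hX
      by_contra hcon
      push Not at hcon
      have : Nat.card (ww V cf z) ≤ Nat.card X := Subgroup.card_le_of_le hcon
      omega
    obtain ⟨w1, hw1, hw1'⟩ := hnot (jj V cf) (by omega)
    set E1 := jj V cf ⊔ zpowers w1 with hE1
    have hE1W : E1 ≤ ww V cf z := sup_le hEW (by rwa [zpowers_le])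
    by_cases hlt : Nat.card E1 < 32
    · obtain ⟨w2, hw2, hw2'⟩ := hnot E1 hlt
      refine ⟨w1, w2, hw1, hw2, fun B hB1 hB2 hB3 => ?_⟩
      have h1 : E1 ≤ B ⊓ ww V cf z := le_inf (sup_le hB1 (by rwa [zpowers_le])) hE1W
      have h2 : jj V cf < E1 := by
        refine lt_of_le_of_ne le_sup_left fun e => hw1' ?_
        rw [e]
        exact (le_sup_right : zpowers w1 ≤ _) (mem_zpowers w1)
      have h3 : E1 < B ⊓ ww V cf z := by
        refine lt_of_le_of_ne h1 fun e => hw2' ?_
        rw [e]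
        exact mem_inf.mpr ⟨hB3, hw2⟩
      have h4 : B ⊓ ww V cf z ≤ ww V cf z := inf_le_right
      have d1 : Nat.card (jj V cf) ∣ Nat.card E1 := card_dvd_of_le h2.le
      have d2 : Nat.card E1 ∣ Nat.card (B ⊓ ww V cf z : Subgroup G) := card_dvd_of_le h3.le
      have d3 : Nat.card (B ⊓ ww V cf z : Subgroup G) ∣ Nat.card (ww V cf z) := card_dvd_of_le h4
      have l1 : Nat.card (jj V cf) < Nat.card E1 := by
        refine lt_of_le_of_ne (Subgroup.card_le_of_le h2.le) fun e => h2.ne ?_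
        exact Subgroup.eq_of_le_of_card_ge h2.le e.symm.le
      have l2 : Nat.card E1 < Nat.card (B ⊓ ww V cf z : Subgroup G) := by
        refine lt_of_le_of_ne (Subgroup.card_le_of_le h3.le) fun e => h3.ne ?_
        exact Subgroup.eq_of_le_of_card_ge h3.le e.symm.le
      have h5 : Nat.card (B ⊓ ww V cf z : Subgroup G) = Nat.card (ww V cf z) := by
        rw [hE] at d1 l1
        rw [cW] at d3 ⊢
        obtain ⟨i, -, hi⟩ := (Nat.dvd_prime_pow Nat.prime_two (m := 5)).mp d3
        have hi' : Nat.card E1 ∣ 2 ^ 5 := d2.trans d3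
        obtain ⟨j, -, hj⟩ := (Nat.dvd_prime_pow Nat.prime_two (m := 5)).mp hi'
        have hj4 : 3 < j := by
          by_contra hcon
          have : 2 ^ j ≤ 2 ^ 3 := Nat.pow_le_pow_right (by norm_num) (by omega)
          omega
        have hij : j < i := by
          by_contra hcon
          have : 2 ^ i ≤ 2 ^ j := Nat.pow_le_pow_right (by norm_num) (by omega)
          omega
        have : 2 ^ 5 ≤ 2 ^ i := Nat.pow_le_pow_right (by norm_num) (by omega)
        have h6 : Nat.card (B ⊓ ww V cf z : Subgroup G) ≤ 32 := Nat.le_of_dvd (by norm_num) d3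
        omega
      have h6 : B ⊓ ww V cf z = ww V cf z := Subgroup.eq_of_le_of_card_ge h4 h5.symm.le
      rw [← h6]
      exact inf_le_left
    · refine ⟨w1, w1, hw1, hw1, fun B hB1 hB2 _ => ?_⟩
      have h1 : E1 ≤ B := sup_le hB1 (by rwa [zpowers_le])
      have h2 : E1 = ww V cf z := Subgroup.eq_of_le_of_card_ge hE1W (by omega)
      rw [← h2]; exact h1
  set X0 := kk V cf y ⊓ qq V cf z with hX0
  have hX0q : X0 ≤ qq V cf z := inf_le_right
  have c2 := cstep X0 w1 hX0q hw1
  have c3 := cstep (X0 ⊓ centralizer {w1}) w2 (inf_le_left.trans hX0q) hw2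
  have c4 : Nat.card (X0 ⊓ centralizer {w1} ⊓ centralizer {w2} : Subgroup G) ≤ 8 := by
    rw [← hE]
    refine Subgroup.card_le_of_le fun k hkx => hKK ?_
    obtain ⟨h12, h3⟩ := mem_inf.mp hkx
    obtain ⟨h1, h2⟩ := mem_inf.mp h12
    have hky : k ∈ kk V cf y := (mem_inf.mp h1).1
    refine mem_inf.mpr ⟨?_, hky⟩
    have h4 : ww V cf z ≤ centralizer ({k} : Set G) := by
      refine hgen _ ?_ ?_ ?_
      · intro e he
        rw [mem_centralizer_singleton_iff]
        exact mem_centralizer_iff.mp hky e (Fam.jj_le hy hy1 he)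
      · rw [mem_centralizer_singleton_iff] at h2 ⊢
        exact h2.symm
      · rw [mem_centralizer_singleton_iff] at h3 ⊢
        exact h3.symm
    rw [mem_centralizer_iff]
    intro w hw
    exact mem_centralizer_singleton_iff.mp (h4 hw)
  have c5 : Nat.card (kk V cf y) ≤ 64 := by omega
  -- conjugate
  obtain ⟨g, hg, rfl, -⟩ := h.point hy hy1
  have c6 : cj g (kk V cf z) ≤ kk V cf (g * z * g⁻¹) := by
    intro x hx
    have := h.conj_kk hg hz hz1 (mem_cj.mp hx)
    have e : g * (g⁻¹ * x * g) * g⁻¹ = x := by group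
    rwa [e] at this
  have c7 := Subgroup.card_le_of_le c6
  rw [card_cj] at c7
  omega

end MRep

end Cfsg.Agent.Omega.NO3S.Fit
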