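import Cfsg.Agent.Omega.NO3S.Fit.Fix
import Cfsg.Agent.Omega.NO3S.Fit.MTri.Fin

/-!
# NO-3S, `q = 2`, `n = 1` (helper311's text #13963), section 5: `|W_z| = 8` (M12 types) is impossible

`Fam.ntri` : a family with `|W_z| = 8` is a structure `MTri.NTri V (ww V cf) cf`; `Fam.false_of_card_eight` : `False`, if `G`
is simple and the conjugates of `V` in `C_G(z)` commute.
-/

set_option autoImplicit false
set_option linter.unusedSectionVars false

namespace Cfsg.Agent.Omega.NO3S.Fit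

open Subgroup Cfsg Cfsg.Agent.ZN Cfsg.Agent.MinSimple.Geo Cfsg.Agent.Omega.CaseL
open Cfsg.Agent.ZN.Block (conj_mem_of_normalizer conj_mem_of_normalizer' le_normalizer_of_forall
  mem_normalizer_of card_mul_relIndex' mul_mem_of_relIndex_two)
open Cfsg.Agent.Classification.TitsFin.Tri (Pt kst)

universe u

variable {G : Type u} [Group G]

namespace Fam

variable {T V : Subgroup G} {z : G} {cf : G → Subgroup G}

section MT

variable [Finite G] (h : Fam T V z cf)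

include h

theorem card_ww {p : G} (hp : p ∈ V) (hp1 : p ≠ 1) : Nat.card (ww V cf p) = Nat.card (ww V cf z) := by
  obtain ⟨g, hg, rfl⟩ := h.ln.trans p hp hp1
  rw [← h.cj_ww hg h.ln.z_mem h.ln.z_ne, card_cj]

/-- `cf z` has characteristic 2 -/
theorem char2_cf : cf z ⊓ centralizer (o2 (cf z) : Set G) ≤ o2 (cf z) := by
  have hz2 : z ^ 2 = 1 := by rw [pow_two]; exact h.ln.zz
  have hc := MinSimple.Basic.char2_centralizer h.ln.charTwo hz2 h.ln.z_ne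
  have h1 : o2 (centralizer ({z} : Set G)) ≤ cf z := h.ln.o2_le_T.trans h.T_le_cf
  have hle : cf z ≤ centralizer ({z} : Set G) := h.le z h.ln.z_mem h.ln.z_ne
  have h2 : o2 (centralizer ({z} : Set G)) ≤ o2 (cf z) :=
    Block.le_o2 (Block.o2_isPGroup _) h1 (hle.trans (Block.le_normalizer_o2 _))
  rintro c ⟨hc1, hc2⟩
  refine h2 (hc ⟨hle hc1, ?_⟩)
  exact centralizer_le h2 hc2

/-- every normal 2-subgroup `≠ 1` of `N_G(V) ∩ C_G(z)` contains `z` -/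
theorem soc_z {X : Subgroup G} (_ : X ≤ normalizer (V : Set G) ⊓ centralizer ({z} : Set G)) (hp : IsPGroup 2 X)
    (hX1 : X ≠ ⊥) (hn : normalizer (V : Set G) ⊓ centralizer ({z} : Set G) ≤ normalizer (X : Set G)) : z ∈ X := by
  have h1 : T ≤ normalizer (X : Set G) := fun t ht => hn ⟨h.ln.T_norm ht, h.ln.T_le ht⟩
  exact h.ln.z_mem_of_le (h.le_T hp h1) h1 hX1

end MT

section three

variable [Finite G] (h : Fam T V z cf)

include h

theorem exists_notMem_V (h8 : Nat.card (ww V cf z) = 8) {p : G} (hp : p ∈ V) (hp1 : p ≠ 1) :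
    V.relIndex (ww V cf p) = 2 := by
  have h1 := card_mul_relIndex' (h.V_le (p := p))
  rw [h.ln.card_V, h.card_ww hp hp1, h8] at h1
  omega

/-- `I = V` -/
theorem jj_eq (h8 : Nat.card (ww V cf z) = 8) : jj V cf ≤ V := by
  have hz := h.ln.z_mem
  have hz1 := h.ln.z_ne
  intro u hu
  by_contra huV
  obtain ⟨y, hy, hy1, hyz⟩ := h.ln.exists_y
  obtain ⟨a, ha, b, hb, hab⟩ := h.nc' hz hz1 hy hy1 hyz
  apply hab
  -- `a ∈ W_y`
  have hle : ww V cf z ≤ ww V cf y := by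
    intro a ha
    by_cases haV : a ∈ V
    · exact h.V_le haV
    have h1 := mul_mem_of_relIndex_two (h.exists_notMem_V h8 hz hz1) ha (jj_le hz hz1 hu) haV huV
    have e : a = (a * u) * u⁻¹ := by group
    rw [e]
    exact mul_mem (h.V_le h1) (inv_mem (jj_le hy hy1 hu))
  exact h.comm hy hy1 a (hle ha) b hb

/-- the commutators -/
theorem comm_const (h8 : Nat.card (ww V cf z) = 8) {p q : G} (hp : p ∈ V) (hp1 : p ≠ 1) (hq : q ∈ V) (hq1 : q ≠ 1)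
    (hqp : q ≠ p) : ∃ v ∈ V, v ≠ 1 ∧ ∀ a ∈ ww V cf p, a ∉ V → ∀ b ∈ ww V cf q, b ∉ V →
      a * b * a⁻¹ * b⁻¹ = v := by
  obtain ⟨a, ha, b, hb, hab⟩ := h.nc' hp hp1 hq hq1 hqp
  have hcV : ∀ x ∈ ww V cf p, ∀ v ∈ V, v * x = x * v := fun x hx v hv => h.V_comm hv (h.ww_le_cent hp hp1 hx)
  have hcV' : ∀ x ∈ ww V cf q, ∀ v ∈ V, v * x = x * v := fun x hx v hv => h.V_comm hv (h.ww_le_cent hq hq1 hx)
  have haV : a ∉ V := fun haV => hab (hcV' b hb a haV)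
  have hbV : b ∉ V := fun hbV => hab (hcV a ha b hbV).symm
  have hv : a * b * a⁻¹ * b⁻¹ ∈ V := h.jj_eq h8 (h.comm_mem_jj hp hp1 hq hq1 hqp ha hb)
  refine ⟨a * b * a⁻¹ * b⁻¹, hv, fun e => hab ?_, ?_⟩
  · have : a * b = (a * b * a⁻¹ * b⁻¹) * (b * a) := by group
    rw [this, e, one_mul]
  intro a' ha' haV' b' hb' hbV'
  have h1 := mul_mem_of_relIndex_two (h.exists_notMem_V h8 hp hp1) ha' ha haV' haV
  have h2 := mul_mem_of_relIndex_two (h.exists_notMem_V h8 hq hq1) hb' hb hbV' hbV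
  have hai := h.inv_ww hp hp1 ha
  have hbi := h.inv_ww hq hq1 hb
  set v := a' * a with hv1
  set w := b' * b with hw1
  have ea : a' = v * a := by
    calc a' = a' * a * a⁻¹ := by group
      _ = v * a := by rw [hai]
  have eb : b' = w * b := by
    calc b' = b' * b * b⁻¹ := by group
      _ = w * b := by rw [hbi]
  have c1 := hcV a ha w h2
  have c2 := hcV' b hb v h1
  have c3 := hcV' b hb w h2
  have c4 := hcV a ha v h1
  have c5 := h.ln.comm h1 h2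
  rw [ea, eb]
  calc v * a * (w * b) * (v * a)⁻¹ * (w * b)⁻¹ = v * (a * w) * b * a⁻¹ * (v⁻¹ * b⁻¹) * w⁻¹ := by group
    _ = v * (w * a) * b * a⁻¹ * (b * v)⁻¹ * w⁻¹ := by rw [← c1]; group
    _ = v * w * (a * b * a⁻¹ * b⁻¹) * v⁻¹ * w⁻¹ := by rw [← c2]; group
    _ = (a * b * a⁻¹ * b⁻¹) * (v * w) * v⁻¹ * w⁻¹ := by rw [h.ln.comm (mul_mem h1 h2) hv]
    _ = (a * b * a⁻¹ * b⁻¹) * (w * v) * v⁻¹ * w⁻¹ := by rw [c5]
    _ = a * b * a⁻¹ * b⁻¹ := by group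

/-- (A1): `[W_z ∖ V, W_y ∖ V] = z y` -/
theorem comm_eq8 (h8 : Nat.card (ww V cf z) = 8) {p q : G} (hp : p ∈ V) (hp1 : p ≠ 1) (hq : q ∈ V) (hq1 : q ≠ 1)
    (hqp : q ≠ p) {a b : G} (ha : a ∈ ww V cf p) (haV : a ∉ V) (hb : b ∈ ww V cf q) (hbV : b ∉ V) :
    a * b * a⁻¹ * b⁻¹ = p * q := by
  obtain ⟨v, hv, hv1, hall⟩ := h.comm_const h8 hp hp1 hq hq1 hqp
  rw [hall a ha haV b hb hbV]
  obtain ⟨g, hg, g1, g2⟩ := h.trans2 hp hp1 hq hq1 hqp hq hq1 hp hp1 (Ne.symm hqp)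
  have hgV : ∀ x, x ∉ V → g * x * g⁻¹ ∉ V := by
    intro x hx e
    apply hx
    have := h.conj_pt' hg e
    have e' : g⁻¹ * (g * x * g⁻¹) * g = x := by group
    rwa [e'] at this
  have h1 := h.conj_ww hg hp hp1 ha
  have h2 := h.conj_ww hg hq hq1 hb
  rw [g1] at h1
  rw [g2] at h2
  have h3 := hall _ h2 (hgV b hbV) _ h1 (hgV a haV)
  have h4 : g * v * g⁻¹ = v := by
    have h5 : g * v * g⁻¹ = v⁻¹ := by
      calc g * v * g⁻¹ = g * (a * b * a⁻¹ * b⁻¹) * g⁻¹ := by rw [hall a ha haV b hb hbV]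
        _ = (g * b * g⁻¹ * (g * a * g⁻¹) * (g * b * g⁻¹)⁻¹ * (g * a * g⁻¹)⁻¹)⁻¹ := by group
        _ = v⁻¹ := by rw [h3]
    rw [h5, h.ln.inv_eq hv]
  rcases h.ln.four hp hq hp1 hq1 (Ne.symm hqp) hv with e | e | e | e
  · exact absurd e hv1
  · rw [e, g1] at h4; exact absurd h4 hqp
  · rw [e, g2] at h4; exact absurd h4.symm hqp
  · exact e

theorem three_z (h8 : Nat.card (ww V cf z) = 8) :
    ∃ f ∈ cf z, (∃ n : ℕ, f ^ 3 ^ n = 1) ∧ f ∉ kst (cf z) (ww V cf z) z := by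
  have hz := h.ln.z_mem
  have hz1 := h.ln.z_ne
  obtain ⟨y, hy, hy1, hyz⟩ := h.ln.exists_y
  -- some `c` moves `V`
  obtain ⟨c, hc, hcV⟩ : ∃ c ∈ cf z, c * y * c⁻¹ ∉ V := by
    by_contra hcon
    push Not at hcon
    have hle : ww V cf z ≤ V := by
      refine wf_le fun c hc x hx => ?_
      rw [mem_cj] at hx
      have hcz : c * z * c⁻¹ = z := by rw [h.cf_comm hz hz1 hc, mul_inv_cancel_right]
      have e : x = c * (c⁻¹ * x * c) * c⁻¹ := by group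
      rw [e]
      rcases h.ln.four hz hy hz1 hy1 (Ne.symm hyz) hx with e1 | e1 | e1 | e1
      · rw [e1]; simp
      · rw [e1, hcz]; exact hz
      · rw [e1]; exact hcon c hc
      · rw [e1]
        have : c * (z * y) * c⁻¹ = (c * z * c⁻¹) * (c * y * c⁻¹) := by group
        rw [this, hcz]
        exact mul_mem hz (hcon c hc)
    have h1 := card_le_of_le hle
    rw [h8, h.ln.card_V] at h1
    omega
  have hcz := h.cf_comm hz hz1 hc
  have hczc : c * z * c⁻¹ = z := by rw [hcz, mul_inv_cancel_right]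
  have hczc' : c⁻¹ * z * c = z := by rw [mul_assoc, ← hcz, inv_mul_cancel_left]
  have hyW : y ∈ ww V cf z := h.V_le hy
  set w0 := c * y * c⁻¹ with hw0
  have hw0W : w0 ∈ ww V cf z := conj_mem_wf hc hyW
  set w1 := c⁻¹ * y * c with hw1
  have hw1W : w1 ∈ ww V cf z := by
    have := conj_mem_wf (inv_mem hc) hyW
    rwa [inv_inv] at this
  have hw1V : w1 ∉ V := by
    intro e
    -- `y = c w1 c⁻¹`
    have e1 : y = c * w1 * c⁻¹ := by rw [hw1]; group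
    rcases h.ln.four hz hy hz1 hy1 (Ne.symm hyz) e with e2 | e2 | e2 | e2
    · rw [e2] at e1; simp at e1; exact hy1 e1
    · rw [e2, hczc] at e1; exact hyz e1
    · apply hcV
      rw [e2] at e1
      rw [hw0, ← e1]; exact hy
    · apply hcV
      rw [e2] at e1
      have e3 : c * (z * y) * c⁻¹ = z * w0 := by
        calc c * (z * y) * c⁻¹ = (c * z * c⁻¹) * (c * y * c⁻¹) := by group
          _ = z * w0 := by rw [hczc]
      rw [e3] at e1
      have e4 : w0 = z⁻¹ * y := by rw [e1]; group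
      rw [e4]; exact mul_mem (inv_mem hz) hy
  -- `b ∈ W_y ∖ V`
  obtain ⟨b, hb, hbV⟩ : ∃ b ∈ ww V cf y, b ∉ V := by
    by_contra hcon
    push Not at hcon
    have h1 := card_le_of_le (show ww V cf y ≤ V from hcon)
    rw [h.card_ww hy hy1, h8, h.ln.card_V] at h1
    omega
  have hbz : b ∈ cf z := h.ww_le_cf' hy hy1 hz hz1 hb
  have hbc := h.ww_le_cent hy hy1 hb
  have hbV' : ∀ v ∈ V, b * v * b⁻¹ = v := fun v hv => by
    rw [← h.V_comm hv hbc, mul_inv_cancel_right]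
  have hbw : ∀ w ∈ ww V cf z, w ∉ V → b * w * b⁻¹ = (z * y) * w := by
    intro w hw hwV
    have h1 := h.comm_eq8 h8 hz hz1 hy hy1 hyz hw hwV hb hbV
    have hvi : (z * y)⁻¹ = z * y := h.ln.inv_eq (mul_mem hz hy)
    calc b * w * b⁻¹ = (w * b * w⁻¹ * b⁻¹)⁻¹ * w := by group
      _ = (z * y) * w := by rw [h1, hvi]
  have hcom := h.comm hz hz1
  have hsq := h.sqz
  have hyy := hsq y hyW
  have hzW : z ∈ ww V cf z := h.V_le hz
  have hzz := h.ln.zz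
  -- `b' = c b c⁻¹`
  have k1 : ∀ x : G, c * b * c⁻¹ * x * (c * b * c⁻¹)⁻¹ = c * (b * (c⁻¹ * x * c) * b⁻¹) * c⁻¹ := fun x => by group
  have b1 : c * b * c⁻¹ * y * (c * b * c⁻¹)⁻¹ = z * w0 * y := by
    rw [k1, ← hw1, hbw w1 hw1W hw1V]
    calc c * (z * y * w1) * c⁻¹ = (c * z * c⁻¹) * (c * y * c⁻¹) * (c * w1 * c⁻¹) := by group
      _ = z * w0 * y := by rw [hczc, ← hw0, hw1]; group
  have b2 : c * b * c⁻¹ * w0 * (c * b * c⁻¹)⁻¹ = w0 := by
    rw [k1]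
    have e : c⁻¹ * w0 * c = y := by rw [hw0]; group
    rw [e, hbV' y hy]
  have b3 : c * b * c⁻¹ * z * (c * b * c⁻¹)⁻¹ = z := by
    rw [k1, hczc', hbV' z hz, hczc]
  set f0 := b * (c * b * c⁻¹) with hf0
  have hf0C : f0 ∈ cf z := mul_mem hbz (mul_mem (mul_mem hc hbz) (inv_mem hc))
  have k2 : ∀ x : G, f0 * x * f0⁻¹ = b * (c * b * c⁻¹ * x * (c * b * c⁻¹)⁻¹) * b⁻¹ := fun x => by
    rw [hf0]; group
  have f1 : f0 * y * f0⁻¹ = w0 := by
    rw [k2, b1]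
    calc b * (z * w0 * y) * b⁻¹ = (b * z * b⁻¹) * (b * w0 * b⁻¹) * (b * y * b⁻¹) := by group
      _ = z * (z * y * w0) * y := by rw [hbV' z hz, hbV' y hy, hbw w0 hw0W hcV]
      _ = (z * z) * (y * w0) * y := by group
      _ = (w0 * y) * y := by rw [hzz, one_mul, hcom y hyW w0 hw0W]
      _ = w0 := by rw [mul_assoc, hyy, mul_one]
  have f2 : f0 * w0 * f0⁻¹ = z * y * w0 := by rw [k2, b2, hbw w0 hw0W hcV]
  have f3 : f0 * z * f0⁻¹ = z := by rw [k2, b3, hbV' z hz]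
  have hw00 := hsq w0 hw0W
  have f4 : f0 * (z * y * w0) * f0⁻¹ = y := by
    calc f0 * (z * y * w0) * f0⁻¹ = (f0 * z * f0⁻¹) * (f0 * y * f0⁻¹) * (f0 * w0 * f0⁻¹) := by group
      _ = z * w0 * (z * y * w0) := by rw [f1, f2, f3]
      _ = z * (w0 * z) * y * w0 := by group
      _ = z * (z * w0) * y * w0 := by rw [hcom w0 hw0W z hzW]
      _ = (z * z) * (w0 * y) * w0 := by group
      _ = (y * w0) * w0 := by rw [hzz, one_mul, hcom w0 hw0W y hyW]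
      _ = y := by rw [mul_assoc, hw00, mul_one]
  have k3 : ∀ x : G, f0 ^ 3 * x * (f0 ^ 3)⁻¹ = f0 * (f0 * (f0 * x * f0⁻¹) * f0⁻¹) * f0⁻¹ := fun x => by
    rw [pow_succ, pow_two]; group
  -- `f0³` centralises `W_z`
  have hcub : ∀ w ∈ ww V cf z, f0 ^ 3 * w * (f0 ^ 3)⁻¹ = w := by
    have g1 : f0 ^ 3 * y * (f0 ^ 3)⁻¹ = y := by rw [k3, f1, f2, f4]
    have g2 : f0 ^ 3 * w0 * (f0 ^ 3)⁻¹ = w0 := by rw [k3, f2, f4, f1]
    have g3 : f0 ^ 3 * z * (f0 ^ 3)⁻¹ = z := by rw [k3, f3, f3, f3]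
    have g4 : ∀ v ∈ V, f0 ^ 3 * v * (f0 ^ 3)⁻¹ = v := by
      intro v hv
      rcases h.ln.four hz hy hz1 hy1 (Ne.symm hyz) hv with e | e | e | e
      · rw [e]; group
      · rw [e, g3]
      · rw [e, g1]
      · rw [e]
        calc f0 ^ 3 * (z * y) * (f0 ^ 3)⁻¹ = (f0 ^ 3 * z * (f0 ^ 3)⁻¹) * (f0 ^ 3 * y * (f0 ^ 3)⁻¹) := by group
          _ = z * y := by rw [g3, g1]
    intro w hw
    by_cases hwV : w ∈ V
    · exact g4 w hwV
    have h1 := mul_mem_of_relIndex_two (h.exists_notMem_V h8 hz hz1) hw hw0W hwV hcV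
    have e : w = (w * w0) * w0 := by rw [mul_assoc, hw00, mul_one]
    calc f0 ^ 3 * w * (f0 ^ 3)⁻¹ = f0 ^ 3 * ((w * w0) * w0) * (f0 ^ 3)⁻¹ := by rw [← e]
      _ = (f0 ^ 3 * (w * w0) * (f0 ^ 3)⁻¹) * (f0 ^ 3 * w0 * (f0 ^ 3)⁻¹) := by group
      _ = w := by rw [g4 _ h1, g2, ← e]
  have hcubK : f0 ^ 3 ∈ kst (cf z) (ww V cf z) z := by
    refine ⟨pow_mem hf0C 3, h.cf_comm hz hz1 (pow_mem hf0C 3), fun w hw => ?_, fun w hw => ?_⟩
    · rw [hcub w hw, mul_inv_cancel]; exact one_mem _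
    · have h1 := hcub w hw
      have e : (f0 ^ 3)⁻¹ * w * f0 ^ 3 = w := by
        calc (f0 ^ 3)⁻¹ * w * f0 ^ 3 = (f0 ^ 3)⁻¹ * (f0 ^ 3 * w * (f0 ^ 3)⁻¹) * f0 ^ 3 := by rw [h1]
          _ = w := by group
      rw [e, mul_inv_cancel]; exact one_mem _
  have hf0K : f0 ∉ kst (cf z) (ww V cf z) z := by
    intro hK
    have h1 := hK.2.2.1 y hyW
    rw [f1] at h1
    apply hcV
    have e : w0 = (w0 * y⁻¹) * y := by group
    rw [e]
    refine mul_mem ?_ hy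
    have : zpowers z ≤ V := by rw [zpowers_le]; exact hz
    exact this h1
  -- the 3-part
  have hpos : orderOf f0 ≠ 0 := (orderOf_pos f0).ne'
  obtain ⟨k, m, hm, hkm⟩ := Nat.exists_eq_pow_mul_and_not_dvd hpos 3 (by norm_num)
  refine ⟨f0 ^ m, pow_mem hf0C m, ⟨k, ?_⟩, fun hK => hf0K ?_⟩
  · rw [← pow_mul, mul_comm, ← hkm, pow_orderOf_eq_one]
  · have hcop : Nat.Coprime 3 m := (Nat.Prime.coprime_iff_not_dvd (by norm_num)).mpr hm
    have hb := Nat.gcd_eq_gcd_ab 3 m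
    rw [hcop.gcd_eq_one] at hb
    have e : f0 = (f0 ^ 3) ^ (Nat.gcdA 3 m) * (f0 ^ m) ^ (Nat.gcdB 3 m) := by
      have h1 : f0 ^ ((1 : ℕ) : ℤ) = f0 := by simp
      conv_lhs => rw [← h1, hb, zpow_add, zpow_mul, zpow_mul]
      simp [zpow_natCast]
    rw [e]
    exact mul_mem (zpow_mem hcubK _) (zpow_mem hK _)

/-- `|W_z| = 8`: the structure `NTri` -/
theorem ntri (h8 : Nat.card (ww V cf z) = 8) : MTri.NTri V (ww V cf) cf where
  cardV := h.ln.card_V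
  sqV := h.ln.sq
  cardU := fun p hp => by rw [h.card_ww hp.1 hp.2, h8]
  sqU := fun p hp => h.sq hp.1 hp.2
  V_le := fun _ _ => h.V_le
  C_le := fun p hp => h.le p hp.1 hp.2
  C_norm := fun _ _ => h.cf_norm
  le_C := fun p hp => h.ge p hp.1 hp.2
  sym := fun p q p' q' hp hq hpq hp' hq' hpq' =>
    h.trans2 hp.1 hp.2 hq.1 hq.2 (Ne.symm hpq) hp'.1 hp'.2 hq'.1 hq'.2 (Ne.symm hpq')
  conjU := fun n hn p hp => h.cj_ww hn hp.1 hp.2
  conjC := fun n hn p hp => h.cj_cf n hn p hp.1 hp.2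
  three := fun p hp => by
    obtain ⟨g, hg, rfl, h'⟩ := h.point hp.1 hp.2
    refine h'.three_z ?_
    rw [h.card_ww hp.1 hp.2, h8]
  nc := fun p q hp hq hpq => h.nc' hp.1 hp.2 hq.1 hq.2 (Ne.symm hpq)
  nl := fun R hR hN hC => h.nl hR hN (hC z ⟨h.ln.z_mem, h.ln.z_ne⟩)
  char2 := fun p hp => by
    obtain ⟨g, hg, rfl, h'⟩ := h.point hp.1 hp.2
    exact h'.char2_cf
  soc := fun p hp X hX h2 hX1 hn => by
    obtain ⟨g, hg, rfl, h'⟩ := h.point hp.1 hp.2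
    exact h'.soc_z hX h2 hX1 hn

/-- **Section 5**: `|W_z| = 8` is impossible. -/
theorem false_of_card_eight (hs : IsSimpleGroup G) (h8 : Nat.card (ww V cf z) = 8)
    (hfull : ∀ c ∈ centralizer ({z} : Set G), ∀ v ∈ V, ∀ w ∈ V, c * v * c⁻¹ * w = w * (c * v * c⁻¹)) : False := by
  have : Fact (Nat.Prime 2) := ⟨Nat.prime_two⟩
  have hN := h.ntri h8
  have hp : Pt V z := ⟨h.ln.z_mem, h.ln.z_ne⟩
  obtain ⟨y, hy, hy1, hyz⟩ := h.ln.exists_y
  -- `N_G(V) ∩ C_G(z)` is a 2-group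
  have h2 : IsPGroup 2 ↥(normalizer (V : Set G) ⊓ centralizer ({z} : Set G)) := by
    rintro ⟨n, hn1, hn2⟩
    have hnz : n * z * n⁻¹ = z := by
      rw [mem_centralizer_singleton_iff.mp hn2, mul_inv_cancel_right]
    have hnn : n * n ∈ centralizer (V : Set G) := by
      rcases hN.fix_or_swap (hN.tr hp (⟨hy, hy1⟩ : Pt V y) (Ne.symm hyz)) hn1 hnz with ⟨e, -, -⟩ | ⟨e1, e2⟩
      · exact mul_mem e e
      · refine h.mem_centralizer_of h.ln.z_mem h.ln.z_ne hy hy1 hyz ?_ ?_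
        · have := h.ln.z_comm hn2
          rw [mul_assoc, this, ← mul_assoc, this, mul_assoc]
        · have e3 : n * n * y * (n * n)⁻¹ = y := by
            calc n * n * y * (n * n)⁻¹ = n * (n * y * n⁻¹) * n⁻¹ := by group
              _ = y := by rw [e1, e2]
          exact mul_inv_eq_iff_eq_mul.mp e3
    obtain ⟨k, hk⟩ := hN.isPGroup_centV' hp ⟨n * n, hnn⟩
    refine ⟨k + 1, Subtype.ext ?_⟩
    have hk' : (n * n) ^ 2 ^ k = 1 := congrArg Subtype.val hk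
    change n ^ 2 ^ (k + 1) = 1
    rw [pow_succ', pow_mul, pow_two, hk']
  have hTle : T ≤ normalizer (V : Set G) ⊓ centralizer ({z} : Set G) := le_inf h.ln.T_norm h.ln.T_le
  let P : Sylow 2 G := ⟨T, h.ln.two, fun {Q} hQ hTQ => le_antisymm (h.T_max hQ hTQ) hTQ⟩
  exact hN.false_of_simple hs h.ln.charTwo hp P (le_antisymm hTle (h.T_max h2 hTle)) hfull

end three

end Fam

end Cfsg.Agent.Omega.NO3S.Fit
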