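import Cfsg.Agent.Omega.NO3S.Fit.Base

/-!
# NO-3S, `q = 2`, `n = 1` (helper311's text #13963): base facts of a family (section 0)

* `Fam.point` : every point of `V` is as good as `z`;
* `Fam.sq`, `Fam.comm`, `Fam.ww_le_cent`, `Fam.cent_norm`, `Fam.comm_mem`;
* `Fam.qq_cases`, `Fam.exists_mover`, `Fam.move` : (F1) at every point;
* `Fam.mem_jj` : `I` is the intersection of any two of the `W_p`;
* `Fam.w1_eq` : `W_x ∩ Q_y = W_x ∩ Q_{xy}`.
-/

set_option autoImplicit false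
set_option linter.unusedSectionVars false

namespace Cfsg.Agent.Omega.NO3S.Fit

open Subgroup Cfsg Cfsg.Agent.ZN Cfsg.Agent.MinSimple.Geo Cfsg.Agent.Omega.CaseL
open Cfsg.Agent.ZN.Block (conj_mem_of_normalizer conj_mem_of_normalizer' le_normalizer_of_forall
  mem_normalizer_of)

universe u

variable {G : Type u} [Group G]

/-- conjugation of `qf` -/
theorem conj_mem_qf {V C : Subgroup G} {x c : G} (g : G) (hc : c ∈ qf V C x) :
    g * c * g⁻¹ ∈ qf (cj g V) (cj g C) (g * x * g⁻¹) := by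
  obtain ⟨h1, h2, h3⟩ := hc
  refine ⟨conj_mem_cj h1, ?_, fun w hw => ?_⟩
  · calc g * c * g⁻¹ * (g * x * g⁻¹) = g * (c * x) * g⁻¹ := by group
      _ = g * (x * c) * g⁻¹ := by rw [h2]
      _ = g * x * g⁻¹ * (g * c * g⁻¹) := by group
  · rw [← cj_wf, mem_cj] at hw
    obtain ⟨n, hn⟩ := mem_zpowers_iff.mp (h3 _ hw)
    rw [mem_zpowers_iff]
    refine ⟨n, ?_⟩
    rw [conj_zpow, hn]
    group

theorem cj_qf (V C : Subgroup G) (g x : G) : cj g (qf V C x) = qf (cj g V) (cj g C) (g * x * g⁻¹) := by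
  ext c
  rw [mem_cj]
  constructor
  · intro hc
    have := conj_mem_qf g hc
    have e : g * (g⁻¹ * c * g) * g⁻¹ = c := by group
    rwa [e] at this
  · intro hc
    have := conj_mem_qf g⁻¹ hc
    have e1 : g⁻¹ * (g * x * g⁻¹) * g⁻¹⁻¹ = x := by group
    have e2 : ∀ A : Subgroup G, cj g⁻¹ (cj g A) = A := fun A => by rw [cj_cj, inv_mul_cancel, cj_one]
    rwa [e1, e2, e2, inv_inv] at this

namespace Fam

variable {T V : Subgroup G} {z : G} {cf : G → Subgroup G}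

theorem conj_pt (_ : Fam T V z cf) {g p : G} (hg : g ∈ normalizer (V : Set G)) (hp : p ∈ V) :
    g * p * g⁻¹ ∈ V := (mem_normalizer_iff.mp hg p).mp hp

theorem conj_pt' (_ : Fam T V z cf) {g p : G} (hg : g ∈ normalizer (V : Set G)) (hp : p ∈ V) :
    g⁻¹ * p * g ∈ V := (mem_normalizer_iff''.mp hg p).mp hp

theorem conj_ne {g p : G} (hp1 : p ≠ 1) : g * p * g⁻¹ ≠ 1 := fun e => hp1 (conj_eq_one_iff.mp e)

theorem conj_ne' {g p : G} (hp1 : p ≠ 1) : g⁻¹ * p * g ≠ 1 := fun e => hp1 (by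
  have : p = g * (g⁻¹ * p * g) * g⁻¹ := by group
  rw [this, e]; group)

theorem cj_ww (h : Fam T V z cf) {g p : G} (hg : g ∈ normalizer (V : Set G)) (hp : p ∈ V) (hp1 : p ≠ 1) :
    cj g (ww V cf p) = ww V cf (g * p * g⁻¹) := by
  unfold ww
  rw [cj_wf, cj_eq_of_mem_normalizer hg, h.cj_cf g hg p hp hp1]

theorem conj_ww (h : Fam T V z cf) {g p a : G} (hg : g ∈ normalizer (V : Set G)) (hp : p ∈ V) (hp1 : p ≠ 1)
    (ha : a ∈ ww V cf p) : g * a * g⁻¹ ∈ ww V cf (g * p * g⁻¹) := by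
  rw [← h.cj_ww hg hp hp1]; exact conj_mem_cj ha

theorem cj_qq (h : Fam T V z cf) {g p : G} (hg : g ∈ normalizer (V : Set G)) (hp : p ∈ V) (hp1 : p ≠ 1) :
    cj g (qq V cf p) = qq V cf (g * p * g⁻¹) := by
  unfold qq
  rw [cj_qf, cj_eq_of_mem_normalizer hg, h.cj_cf g hg p hp hp1]

theorem conj_qq (h : Fam T V z cf) {g p a : G} (hg : g ∈ normalizer (V : Set G)) (hp : p ∈ V) (hp1 : p ≠ 1)
    (ha : a ∈ qq V cf p) : g * a * g⁻¹ ∈ qq V cf (g * p * g⁻¹) := by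
  rw [← h.cj_qq hg hp hp1]; exact conj_mem_cj ha

theorem conj_kk (h : Fam T V z cf) {g p a : G} (hg : g ∈ normalizer (V : Set G)) (hp : p ∈ V) (hp1 : p ≠ 1)
    (ha : a ∈ kk V cf p) : g * a * g⁻¹ ∈ kk V cf (g * p * g⁻¹) := by
  rw [kk, ← h.cj_ww hg hp hp1, mem_centralizer_iff]
  intro w hw
  have h1 := mem_centralizer_iff.mp ha _ (mem_cj.mp hw)
  calc w * (g * a * g⁻¹) = g * (g⁻¹ * w * g * a) * g⁻¹ := by group
    _ = g * (a * (g⁻¹ * w * g)) * g⁻¹ := by rw [h1]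
    _ = g * a * g⁻¹ * w := by group

theorem conj_cf (h : Fam T V z cf) {g p a : G} (hg : g ∈ normalizer (V : Set G)) (hp : p ∈ V) (hp1 : p ≠ 1)
    (ha : a ∈ cf p) : g * a * g⁻¹ ∈ cf (g * p * g⁻¹) := by
  rw [← h.cj_cf g hg p hp hp1]; exact conj_mem_cj ha

/-- conjugation by `N_G(V)` -/
theorem conj (h : Fam T V z cf) {g : G} (hg : g ∈ normalizer (V : Set G)) :
    Fam (cj g T) V (g * z * g⁻¹) cf where
  ln := by
    have := h.ln.conj g
    rwa [cj_eq_of_mem_normalizer hg] at this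
  le := h.le
  ge := h.ge
  cj_cf := h.cj_cf
  ab := by
    rw [← h.cj_ww hg h.ln.z_mem h.ln.z_ne]
    intro a ha b hb
    have := h.ab _ (mem_cj.mp ha) _ (mem_cj.mp hb)
    calc a * b = g * ((g⁻¹ * a * g) * (g⁻¹ * b * g)) * g⁻¹ := by group
      _ = g * ((g⁻¹ * b * g) * (g⁻¹ * a * g)) * g⁻¹ := by rw [this]
      _ = b * a := by group
  nc := by
    obtain ⟨y, hy, hy1, hyz, a, ha, b, hb, hab⟩ := h.nc
    refine ⟨g * y * g⁻¹, h.conj_pt hg hy, conj_ne hy1, ?_, g * a * g⁻¹, ?_, g * b * g⁻¹, ?_, ?_⟩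
    · intro e
      exact hyz (by simpa using e)
    · exact h.conj_ww hg h.ln.z_mem h.ln.z_ne ha
    · exact h.conj_ww hg hy hy1 hb
    · intro e
      apply hab
      calc a * b = g⁻¹ * ((g * a * g⁻¹) * (g * b * g⁻¹)) * g := by group
        _ = g⁻¹ * ((g * b * g⁻¹) * (g * a * g⁻¹)) * g := by rw [e]
        _ = b * a := by group
  f1 := by
    obtain ⟨q, hq, hq1, hq2⟩ := h.f1
    refine ⟨g * q * g⁻¹, conj_mem_cj hq, h.conj_qq hg h.ln.z_mem h.ln.z_ne hq1, ?_⟩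
    intro e
    apply hq2
    rw [mem_centralizer_iff] at e ⊢
    intro v hv
    have := e _ (h.conj_pt hg hv)
    calc v * q = g⁻¹ * ((g * v * g⁻¹) * (g * q * g⁻¹)) * g := by group
      _ = g⁻¹ * ((g * q * g⁻¹) * (g * v * g⁻¹)) * g := by rw [this]
      _ = q * v := by group

/-- every point of `V` is as good as `z` -/
theorem point (h : Fam T V z cf) {p : G} (hp : p ∈ V) (hp1 : p ≠ 1) :
    ∃ g ∈ normalizer (V : Set G), g * z * g⁻¹ = p ∧ Fam (cj g T) V p cf := by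
  obtain ⟨g, hg, rfl⟩ := h.ln.trans p hp hp1
  exact ⟨g, hg, rfl, h.conj hg⟩

theorem T_le_cf (h : Fam T V z cf) : T ≤ cf z :=
  fun _ ht => h.ge z h.ln.z_mem h.ln.z_ne ⟨h.ln.T_norm ht, h.ln.T_le ht⟩

/-! ### all points of `V` -/

section points

variable {p q : G}

theorem V_comm (_ : Fam T V z cf) {v c : G} (hv : v ∈ V) (hc : c ∈ centralizer (V : Set G)) :
    v * c = c * v := mem_centralizer_iff.mp hc v hv

theorem V_le_centralizer (h : Fam T V z cf) : V ≤ centralizer (V : Set G) := by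
  intro v hv
  rw [mem_centralizer_iff]
  intro w hw
  exact h.ln.comm hw hv

theorem cent_le_cs (_ : Fam T V z cf) (hp : p ∈ V) :
    centralizer (V : Set G) ≤ centralizer ({p} : Set G) := by
  intro c hc
  rw [mem_centralizer_singleton_iff]
  exact (mem_centralizer_iff.mp hc p hp).symm

theorem cent_le_cf (h : Fam T V z cf) (hp : p ∈ V) (hp1 : p ≠ 1) : centralizer (V : Set G) ≤ cf p :=
  fun _ hc => h.ge p hp hp1 ⟨centralizer_le_normalizer _ hc, h.cent_le_cs hp hc⟩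

theorem V_le_cf (h : Fam T V z cf) (hp : p ∈ V) (hp1 : p ≠ 1) : V ≤ cf p :=
  h.V_le_centralizer.trans (h.cent_le_cf hp hp1)

theorem V_le (_ : Fam T V z cf) : V ≤ ww V cf p := V_le_wf V _

theorem cf_norm (_ : Fam T V z cf) : cf p ≤ normalizer ((ww V cf p : Subgroup G) : Set G) :=
  le_normalizer_wf V _

theorem cf_comm (h : Fam T V z cf) (hp : p ∈ V) (hp1 : p ≠ 1) {c : G} (hc : c ∈ cf p) : c * p = p * c :=
  mem_centralizer_singleton_iff.mp (h.le p hp hp1 hc)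

theorem ww_le_cf (h : Fam T V z cf) (hp : p ∈ V) (hp1 : p ≠ 1) : ww V cf p ≤ cf p := by
  refine wf_le fun c hc x hx => ?_
  rw [mem_cj] at hx
  have := mul_mem (mul_mem hc (h.V_le_cf hp hp1 hx)) (inv_mem hc)
  have e : c * (c⁻¹ * x * c) * c⁻¹ = x := by group
  rwa [e] at this

theorem sqz (h : Fam T V z cf) : ∀ a ∈ ww V cf z, a * a = 1 := by
  let S : Subgroup G :=
    { carrier := {a | a ∈ ww V cf z ∧ a * a = 1}
      mul_mem' := by
        rintro a b ⟨ha, ha1⟩ ⟨hb, hb1⟩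
        refine ⟨mul_mem ha hb, ?_⟩
        calc a * b * (a * b) = a * (b * a) * b := by group
          _ = a * (a * b) * b := by rw [h.ab b hb a ha]
          _ = (a * a) * (b * b) := by group
          _ = 1 := by rw [ha1, hb1, mul_one]
      one_mem' := ⟨one_mem _, one_mul 1⟩
      inv_mem' := by
        rintro a ⟨ha, ha1⟩
        refine ⟨inv_mem ha, ?_⟩
        rw [inv_eq_self ha1]; exact ha1 }
  have hle : ww V cf z ≤ S := by
    refine wf_le fun c hc => ?_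
    intro x hx
    refine ⟨cj_le_wf hc hx, ?_⟩
    rw [mem_cj] at hx
    have := h.ln.sq _ hx
    calc x * x = c * (c⁻¹ * x * c * (c⁻¹ * x * c)) * c⁻¹ := by group
      _ = 1 := by rw [this]; group
  intro a ha
  exact (hle ha).2

theorem sq (h : Fam T V z cf) (hp : p ∈ V) (hp1 : p ≠ 1) : ∀ a ∈ ww V cf p, a * a = 1 := by
  obtain ⟨g, -, -, hg⟩ := h.point hp hp1
  exact hg.sqz

theorem comm (h : Fam T V z cf) (hp : p ∈ V) (hp1 : p ≠ 1) :
    ∀ a ∈ ww V cf p, ∀ b ∈ ww V cf p, a * b = b * a := by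
  obtain ⟨g, -, -, hg⟩ := h.point hp hp1
  exact hg.ab

theorem inv_ww (h : Fam T V z cf) (hp : p ∈ V) (hp1 : p ≠ 1) {a : G} (ha : a ∈ ww V cf p) : a⁻¹ = a :=
  inv_eq_self (h.sq hp hp1 a ha)

theorem ww_le_cent (h : Fam T V z cf) (hp : p ∈ V) (hp1 : p ≠ 1) :
    ww V cf p ≤ centralizer (V : Set G) := by
  intro a ha
  rw [mem_centralizer_iff]
  intro v hv
  exact h.comm hp hp1 v (h.V_le hv) a ha

/-- `W_p ≤ C_q` for all points -/
theorem ww_le_cf' (h : Fam T V z cf) (hp : p ∈ V) (hp1 : p ≠ 1) (hq : q ∈ V) (hq1 : q ≠ 1) :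
    ww V cf p ≤ cf q := (h.ww_le_cent hp hp1).trans (h.cent_le_cf hq hq1)

/-- `C_G(V)` normalizes `W_p` -/
theorem cent_norm (h : Fam T V z cf) (hp : p ∈ V) (hp1 : p ≠ 1) :
    centralizer (V : Set G) ≤ normalizer ((ww V cf p : Subgroup G) : Set G) :=
  (h.cent_le_cf hp hp1).trans h.cf_norm

/-- `[W_p, W_q] ≤ W_p ∩ W_q` -/
theorem comm_mem (h : Fam T V z cf) (hp : p ∈ V) (hp1 : p ≠ 1) (hq : q ∈ V) (hq1 : q ≠ 1) {a b : G}
    (ha : a ∈ ww V cf p) (hb : b ∈ ww V cf q) :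
    a * b * a⁻¹ * b⁻¹ ∈ ww V cf p ∧ a * b * a⁻¹ * b⁻¹ ∈ ww V cf q := by
  constructor
  · have e : a * b * a⁻¹ * b⁻¹ = a * (b * a⁻¹ * b⁻¹) := by group
    rw [e]
    exact mul_mem ha (conj_mem_of_normalizer (h.cent_norm hp hp1) (h.ww_le_cent hq hq1 hb) (inv_mem ha))
  · exact mul_mem (conj_mem_of_normalizer (h.cent_norm hq hq1) (h.ww_le_cent hp hp1 ha) hb) (inv_mem hb)

theorem mul_ne_one (h : Fam T V z cf) (hq : q ∈ V) (hpq : p ≠ q) : p * q ≠ 1 := fun e =>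
  hpq (by rw [mul_eq_one_iff_eq_inv.mp e, h.ln.inv_eq hq])

theorem exists_q (h : Fam T V z cf) (hp : p ∈ V) (hp1 : p ≠ 1) : ∃ q ∈ V, q ≠ 1 ∧ q ≠ p := by
  obtain ⟨g, -, -, hg⟩ := h.point hp hp1
  exact hg.ln.exists_y

theorem mem_centralizer_of (h : Fam T V z cf) (hp : p ∈ V) (hp1 : p ≠ 1) (hq : q ∈ V) (hq1 : q ≠ 1)
    (hqp : q ≠ p) {g : G} (h1 : g * p = p * g) (h2 : g * q = q * g) :
    g ∈ centralizer (V : Set G) := by
  obtain ⟨g, -, -, hg⟩ := h.point hp hp1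
  exact hg.ln.mem_centralizer_V hq hq1 hqp h1 h2

theorem kk_le_cent (h : Fam T V z cf) : kk V cf p ≤ centralizer (V : Set G) :=
  centralizer_le (h.V_le)

theorem kk_le_qq (h : Fam T V z cf) (hp : p ∈ V) (hp1 : p ≠ 1) : kk V cf p ≤ qq V cf p := by
  intro k hk
  refine ⟨h.cent_le_cf hp hp1 (h.kk_le_cent hk), (h.V_comm hp (h.kk_le_cent hk)).symm, fun w hw => ?_⟩
  have := mem_centralizer_iff.mp hk w hw
  have e : k * w * k⁻¹ * w⁻¹ = 1 := by rw [← this]; group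
  rw [e]; exact one_mem _

theorem qq_le_cf (_ : Fam T V z cf) : qq V cf p ≤ cf p := fun _ h => h.1

theorem V_le_kk (h : Fam T V z cf) (hp : p ∈ V) (hp1 : p ≠ 1) : V ≤ kk V cf p := by
  intro v hv
  rw [mem_centralizer_iff]
  intro w hw
  exact (h.V_comm hv (h.ww_le_cent hp hp1 hw)).symm

theorem ww_le_kk (h : Fam T V z cf) (hp : p ∈ V) (hp1 : p ≠ 1) : ww V cf p ≤ kk V cf p := by
  intro v hv
  rw [mem_centralizer_iff]
  intro w hw
  exact h.comm hp hp1 w hw v hv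

/-- `C_p` normalizes `Q_p` -/
theorem cf_norm_qq (h : Fam T V z cf) (hp : p ∈ V) (hp1 : p ≠ 1) :
    cf p ≤ normalizer ((qq V cf p : Subgroup G) : Set G) := by
  refine le_normalizer_of_forall fun c hc k hk => ?_
  obtain ⟨h1, h2, h3⟩ := hk
  have hcp := h.cf_comm hp hp1 hc
  refine ⟨mul_mem (mul_mem hc h1) (inv_mem hc), ?_, fun w hw => ?_⟩
  · exact mul_comm_of (mul_comm_of hcp h2) (inv_comm_of hcp)
  · have hw' : c⁻¹ * w * c ∈ ww V cf p := by
      have := conj_mem_wf (inv_mem hc) hw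
      rwa [inv_inv] at this
    obtain ⟨n, hn⟩ := mem_zpowers_iff.mp (h3 _ hw')
    rw [mem_zpowers_iff]
    refine ⟨n, ?_⟩
    have e : c * k * c⁻¹ * w * (c * k * c⁻¹)⁻¹ * w⁻¹ =
        c * (k * (c⁻¹ * w * c) * k⁻¹ * (c⁻¹ * w * c)⁻¹) * c⁻¹ := by group
    rw [e, ← hn]
    have hc2 : Commute c (p ^ n) := (show Commute c p from hcp).zpow_right n
    rw [hc2.eq]; group

/-- `C_p` normalizes `K_p` -/
theorem cf_norm_kk (h : Fam T V z cf) :
    cf p ≤ normalizer ((kk V cf p : Subgroup G) : Set G) :=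
  h.cf_norm.trans (normalizer_le_normalizer_centralizer _)

/-- elements of `Q_p` act on `W_p` by multiplication with `1` or `p` -/
theorem qq_cases (h : Fam T V z cf) (hp : p ∈ V) {k w : G} (hk : k ∈ qq V cf p) (hw : w ∈ ww V cf p) :
    k * w * k⁻¹ = w ∨ k * w * k⁻¹ = p * w := by
  rcases (mem_zpowers_iff_of_mul_self (h.ln.sq p hp)).mp (hk.2.2 w hw) with e | e
  · left
    calc k * w * k⁻¹ = (k * w * k⁻¹ * w⁻¹) * w := by group
      _ = w := by rw [e, one_mul]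
  · right
    calc k * w * k⁻¹ = (k * w * k⁻¹ * w⁻¹) * w := by group
      _ = p * w := by rw [e]

theorem qq_p (_ : Fam T V z cf) {k : G} (hk : k ∈ qq V cf p) : k * p = p * k := hk.2.1

/-- membership in `Q_p` -/
theorem mem_qq_of (h : Fam T V z cf) (hp : p ∈ V) (hp1 : p ≠ 1) {k : G} (hk : k ∈ cf p)
    (h1 : ∀ w ∈ ww V cf p, k * w * k⁻¹ = w ∨ k * w * k⁻¹ = p * w) : k ∈ qq V cf p := by
  refine ⟨hk, h.cf_comm hp hp1 hk, fun w hw => ?_⟩
  rcases h1 w hw with e | e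
  · rw [e, mul_inv_cancel]; exact one_mem _
  · rw [e, mul_assoc, mul_inv_cancel, mul_one]; exact mem_zpowers _

/-- `Q_p` normalizes `V` -/
theorem qq_le_normalizer (h : Fam T V z cf) (hp : p ∈ V) : qq V cf p ≤ normalizer (V : Set G) := by
  refine le_normalizer_of_forall fun k hk v hv => ?_
  rcases h.qq_cases hp hk (h.V_le hv) with e | e
  · rw [e]; exact hv
  · rw [e]; exact mul_mem hp hv

/-- (F1) at every point -/
theorem exists_mover (h : Fam T V z cf) (hp : p ∈ V) (hp1 : p ≠ 1) :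
    ∃ k ∈ qq V cf p, k ∉ centralizer (V : Set G) := by
  obtain ⟨g, -, -, hg⟩ := h.point hp hp1
  obtain ⟨q, -, hq, hq1⟩ := hg.f1
  exact ⟨q, hq, hq1⟩

/-- an element which moves `V` and centralizes `p` moves `q ≠ p` to `p q` -/
theorem move_of (h : Fam T V z cf) (hp : p ∈ V) (hp1 : p ≠ 1) (hq : q ∈ V) (hq1 : q ≠ 1) (hqp : q ≠ p)
    {k : G} (hkV : k ∈ normalizer (V : Set G)) (hkp : k * p = p * k)
    (hk1 : k ∉ centralizer (V : Set G)) : k * q * k⁻¹ = p * q := by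
  obtain ⟨g, -, -, hg⟩ := h.point hp hp1
  rcases hg.ln.conj_cases hp hq hp1 hkp hkV with e | e
  · exfalso
    exact hk1 (h.mem_centralizer_of hp hp1 hq hq1 hqp hkp (comm_of_conj_eq e))
  · exact e

/-- a mover of `Q_p` moves the points `q ≠ p` to `p q` -/
theorem move (h : Fam T V z cf) (hp : p ∈ V) (hp1 : p ≠ 1) (hq : q ∈ V) (hq1 : q ≠ 1) (hqp : q ≠ p)
    {k : G} (hk : k ∈ qq V cf p) (hk1 : k ∉ centralizer (V : Set G)) : k * q * k⁻¹ = p * q :=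
  h.move_of hp hp1 hq hq1 hqp (h.qq_le_normalizer hp hk) (h.qq_p hk) hk1

/-- two elements of `N(V) ∩ C(p)` which move `V` differ by an element of `C_G(V)` -/
theorem coset_of (h : Fam T V z cf) (hp : p ∈ V) (hp1 : p ≠ 1) {k k' : G}
    (hkV : k ∈ normalizer (V : Set G)) (hkp : k * p = p * k) (hk1 : k ∉ centralizer (V : Set G))
    (hkV' : k' ∈ normalizer (V : Set G)) (hkp' : k' * p = p * k') (hk1' : k' ∉ centralizer (V : Set G)) :
    k' * k⁻¹ ∈ centralizer (V : Set G) := by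
  obtain ⟨q, hq, hq1, hqp⟩ := h.exists_q hp hp1
  refine h.mem_centralizer_of hp hp1 (mul_mem hp hq) (h.mul_ne_one hq (Ne.symm hqp)) ?_ ?_ ?_
  · intro e'
    exact hq1 (by simpa using e')
  · exact mul_comm_of hkp' (inv_comm_of hkp)
  · refine comm_of_conj_eq ?_
    have e1 := h.move_of hp hp1 hq hq1 hqp hkV hkp hk1
    have e2 := h.move_of hp hp1 hq hq1 hqp hkV' hkp' hk1'
    calc k' * k⁻¹ * (p * q) * (k' * k⁻¹)⁻¹ = k' * (k⁻¹ * (p * q) * k) * k'⁻¹ := by group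
      _ = k' * (k⁻¹ * (k * q * k⁻¹) * k) * k'⁻¹ := by rw [e1]
      _ = k' * q * k'⁻¹ := by group
      _ = p * q := e2

/-- `N(V) ∩ C(p) = C_G(V) Q_p` -/
theorem norm_eq (h : Fam T V z cf) (hp : p ∈ V) (hp1 : p ≠ 1) {c : G} (hc : c ∈ normalizer (V : Set G))
    (hcp : c * p = p * c) : ∃ d ∈ centralizer (V : Set G), ∃ k ∈ qq V cf p, c = d * k := by
  by_cases hcV : c ∈ centralizer (V : Set G)
  · exact ⟨c, hcV, 1, one_mem _, by simp⟩
  obtain ⟨k, hk, hk1⟩ := h.exists_mover hp hp1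
  exact ⟨c * k⁻¹, h.coset_of hp hp1 (h.qq_le_normalizer hp hk) (h.qq_p hk) hk1 hc hcp hcV, k, hk,
    by group⟩

end points

/-! ### `I = jj V cf` -/

theorem jj_le {p : G} (hp : p ∈ V) (hp1 : p ≠ 1) : jj V cf ≤ ww V cf p := fun _ hu => hu p hp hp1

theorem normalizer_le_normalizer_jj (h : Fam T V z cf) :
    normalizer (V : Set G) ≤ normalizer ((jj V cf : Subgroup G) : Set G) := by
  refine le_normalizer_of_forall fun g hg u hu => ?_
  intro p hp hp1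
  have := h.conj_ww hg (h.conj_pt' hg hp) (conj_ne' hp1) (hu _ (h.conj_pt' hg hp) (conj_ne' hp1))
  have e : g * (g⁻¹ * p * g) * g⁻¹ = p := by group
  rwa [e] at this

theorem V_le_jj (h : Fam T V z cf) : V ≤ jj V cf := fun _ hv _ _ _ => h.V_le hv

theorem jj_le_cent (h : Fam T V z cf) : jj V cf ≤ centralizer (V : Set G) :=
  (jj_le h.ln.z_mem h.ln.z_ne).trans (h.ww_le_cent h.ln.z_mem h.ln.z_ne)

/-- `I` is the intersection of any two of the `W_p`. -/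
theorem mem_jj (h : Fam T V z cf) {p q u : G} (hp : p ∈ V) (hp1 : p ≠ 1) (hq : q ∈ V) (hq1 : q ≠ 1)
    (hqp : q ≠ p) (h1 : u ∈ ww V cf p) (h2 : u ∈ ww V cf q) : u ∈ jj V cf := by
  intro r hr hr1
  rcases h.ln.four hp hq hp1 hq1 (Ne.symm hqp) hr with e | e | e | e
  · exact absurd e hr1
  · rw [e]; exact h1
  · rw [e]; exact h2
  · obtain ⟨k, hk, hk1⟩ := h.exists_mover hp hp1
    have e1 := h.move hp hp1 hq hq1 hqp hk hk1
    have h3 := h.conj_ww (h.qq_le_normalizer hp hk) hq hq1 h2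
    rw [e1, ← e] at h3
    rcases h.qq_cases hp hk h1 with e2 | e2
    · rwa [e2] at h3
    · rw [e2] at h3
      have h4 := mul_mem (h.V_le hp) h3
      rwa [← mul_assoc, h.ln.sq p hp, one_mul] at h4

theorem comm_mem_jj (h : Fam T V z cf) {p q a b : G} (hp : p ∈ V) (hp1 : p ≠ 1) (hq : q ∈ V) (hq1 : q ≠ 1)
    (hqp : q ≠ p) (ha : a ∈ ww V cf p) (hb : b ∈ ww V cf q) : a * b * a⁻¹ * b⁻¹ ∈ jj V cf :=
  h.mem_jj hp hp1 hq hq1 hqp (h.comm_mem hp hp1 hq hq1 ha hb).1 (h.comm_mem hp hp1 hq hq1 ha hb).2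

/-- `W_p^q = W_{pq}` modulo `Q_p`: the images of `W_q` and of `W_{pq}` in `C_p/Q_p` are the same -/
theorem ww_mod (h : Fam T V z cf) {p q b : G} (hp : p ∈ V) (hp1 : p ≠ 1) (hq : q ∈ V) (hq1 : q ≠ 1)
    (hqp : q ≠ p) (hb : b ∈ ww V cf q) : ∃ b' ∈ ww V cf (p * q), ∃ k ∈ qq V cf p, b = b' * k := by
  obtain ⟨k, hk, hk1⟩ := h.exists_mover hp hp1
  have e1 := h.move hp hp1 hq hq1 hqp hk hk1
  have h3 := h.conj_ww (h.qq_le_normalizer hp hk) hq hq1 hb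
  rw [e1] at h3
  have hbc := h.ww_le_cf' hq hq1 hp hp1 hb
  refine ⟨_, h3, (k * b * k⁻¹)⁻¹ * b, ?_, by group⟩
  have e2 : (k * b * k⁻¹)⁻¹ * b = k * (b⁻¹ * k⁻¹ * b) := by group
  rw [e2]
  exact mul_mem hk (conj_mem_of_normalizer' (h.cf_norm_qq hp hp1) hbc (inv_mem hk))

/-- `W_x ∩ Q_y = W_x ∩ Q_{xy}` -/
theorem w1_le (h : Fam T V z cf) {p q b : G} (hp : p ∈ V) (hp1 : p ≠ 1) (hq : q ∈ V) (hq1 : q ≠ 1)
    (hqp : q ≠ p) (hb : b ∈ ww V cf p) (hb1 : b ∈ qq V cf q) : b ∈ qq V cf (p * q) := by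
  obtain ⟨k, hk, hk1⟩ := h.exists_mover hp hp1
  have e1 := h.move hp hp1 hq hq1 hqp hk hk1
  have h3 := h.conj_qq (h.qq_le_normalizer hp hk) hq hq1 hb1
  rw [e1] at h3
  have hs1 : p * q ≠ 1 := h.mul_ne_one hq (Ne.symm hqp)
  have hs : p * q ∈ V := mul_mem hp hq
  rcases h.qq_cases hp hk hb with e2 | e2
  · rwa [e2] at h3
  · rw [e2] at h3
    have h4 := mul_mem (h.kk_le_qq hs hs1 (h.V_le_kk hs hs1 hp)) h3
    rwa [← mul_assoc, h.ln.sq p hp, one_mul] at h4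

/-- `[W_x ∩ Q_y, W_y ∩ Q_x] = 1` -/
theorem w1_comm (h : Fam T V z cf) {p q a b : G} (hp : p ∈ V) (hq : q ∈ V)
    (hqp : q ≠ p) (ha : a ∈ ww V cf p) (ha1 : a ∈ qq V cf q) (hb : b ∈ ww V cf q) (hb1 : b ∈ qq V cf p) :
    a * b = b * a := by
  rcases h.qq_cases hq ha1 hb with e | e
  · exact comm_of_conj_eq e
  rcases h.qq_cases hp hb1 ha with e' | e'
  · exact (comm_of_conj_eq e').symm
  exfalso
  -- `[a, b] = q` and `[b, a] = p`
  have e1 : a * b * a⁻¹ * b⁻¹ = q := by rw [e, mul_assoc, mul_inv_cancel, mul_one]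
  have e2 : b * a * b⁻¹ * a⁻¹ = p := by rw [e', mul_assoc, mul_inv_cancel, mul_one]
  have e3 : q⁻¹ = p := by rw [← e1, ← e2]; group
  rw [h.ln.inv_eq hq] at e3
  exact hqp e3

end Fam

end Cfsg.Agent.Omega.NO3S.Fit
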