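import Cfsg.Agent.Omega.NO3S.Fit.Kbig

/-!
# Text #13963 (helper311), (3.4): `k ≥ 2` is impossible if `A` is not trivial on `F(H)`

* `Fam.exists_kb` : the transvection basis, from the module part;
* `Fam.one1_of_nilpotent`, `Fam.one1_of_pgroup` : if the image `A` of `W_y` in `H = C_z / Q_z` does not centralise a normal
  nilpotent subgroup of odd order (a normal `p`-subgroup, `p ≠ 2`) of `H`, then `k = 1` (`One1 V cf`).
-/

set_option autoImplicit false
set_option linter.unusedSectionVars false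

namespace Cfsg.Agent.Omega.NO3S.Fit

open Subgroup Cfsg Cfsg.Agent.ZN Cfsg.Agent.MinSimple.Geo Cfsg.Agent.Omega.CaseL
open Cfsg.Agent.ZN.Block (conj_mem_of_normalizer conj_mem_of_normalizer' le_normalizer_of_forall
  mem_normalizer_of)

universe u

variable {G : Type u} [Group G]

namespace Fam

variable {T V : Subgroup G} {z : G} {cf : G → Subgroup G} {M H : Type u} [AddCommGroup M] [Group H]
  [DistribMulAction H M]

section Setup

variable [Finite G] (h : Fam T V z cf) (R : MRep V cf z M H) {y : G} (hy : y ∈ V) (hy1 : y ≠ 1) (hyz : y ≠ z)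
include h hy hy1 hyz

theorem img_norm {x : H} (hx : x • R.pi y = R.pi y) : ∀ c ∈ R.img (ww V cf y), x * c * x⁻¹ ∈ R.img (ww V cf y) := by
  have hW := h.ww_le_cf' hy hy1 h.ln.z_mem h.ln.z_ne
  intro c hc
  obtain ⟨g, hg, rfl⟩ := (R.mem_img hW).mp hc
  obtain ⟨g', hg', e, -⟩ := R.norm_A h hy hy1 hy hy1 hyz hx hg
  rw [e]
  exact (R.mem_img hW).mpr ⟨g', hg', rfl⟩

theorem img_quad : ∀ a ∈ R.img (ww V cf y), ∀ b ∈ R.img (ww V cf y), ∀ m : M, a • (b • m - m) = b • m - m := by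
  have hW := h.ww_le_cf' hy hy1 h.ln.z_mem h.ln.z_ne
  intro a ha b hb m
  obtain ⟨g, hg, rfl⟩ := (R.mem_img hW).mp ha
  obtain ⟨g', hg', rfl⟩ := (R.mem_img hW).mp hb
  obtain ⟨w, hw, rfl⟩ := R.pi_surj m
  exact R.quad h hy hy1 hyz hg hg' hw

omit hyz in
theorem img_sq : ∀ a ∈ R.img (ww V cf y), a * a = 1 := by
  have hW := h.ww_le_cf' hy hy1 h.ln.z_mem h.ln.z_ne
  intro a ha
  obtain ⟨g, hg, rfl⟩ := (R.mem_img hW).mp ha
  exact R.sq_A h hy hy1 hg

/-- LEMMA FIX for `[M,A]` -/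
theorem img_fix : ∀ k ∈ Abs.brs M (R.img (ww V cf y)), k ≠ 0 → (∀ t ∈ R.img T, t • k = k) → k = R.pi y := by
  have hz := h.ln.z_mem
  have hz1 := h.ln.z_ne
  have hW := h.ww_le_cf' hy hy1 hz hz1
  have hjz : jj V cf ≤ ww V cf z := jj_le hz hz1
  let B : AddSubgroup M :=
    { carrier := {m | ∃ f ∈ jj V cf, R.pi f = m}
      zero_mem' := ⟨1, one_mem _, R.pi_one h⟩
      add_mem' := by
        rintro _ _ ⟨f, hf, rfl⟩ ⟨g, hg, rfl⟩
        exact ⟨f * g, mul_mem hf hg, R.pi_mul f (hjz hf) g (hjz hg)⟩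
      neg_mem' := by
        rintro _ ⟨f, hf, rfl⟩
        exact ⟨f⁻¹, inv_mem hf, R.pi_inv h (hjz hf)⟩ }
  have hB : Abs.brs M (R.img (ww V cf y)) ≤ B := by
    refine Abs.brs_le fun a ha => ?_
    obtain ⟨g, hg, rfl⟩ := (R.mem_img hW).mp ha
    rintro _ ⟨m, rfl⟩
    obtain ⟨w, hw, rfl⟩ := R.pi_surj m
    rw [R.comm_eq h (hW hg) hw]
    exact ⟨_, h.comm_mem_jj hy hy1 hz hz1 (Ne.symm hyz) hg hw, rfl⟩
  intro k hk hk0 hkT
  obtain ⟨f, hf, rfl⟩ := hB hk
  exact (R.fixI h hy hy1 hyz hf hkT).resolve_left hk0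

omit hyz in
/-- (CP) -/
theorem img_cp (hyz : y ≠ z) {x : H} (hx : x • R.pi y = R.pi y) (hodd : Odd (orderOf x)) {a : H}
    (ha : a ∈ R.img (ww V cf y)) (hi : a * x * a⁻¹ = x⁻¹) : x = 1 := by
  have h1 := h.img_norm R hy hy1 hyz hx a ha
  have h2 : x * x ∈ R.img (ww V cf y) := by
    have h3 := mul_mem h1 (inv_mem ha)
    have h4 : x = a * x⁻¹ * a⁻¹ := (Abs.inv_symm hi).symm
    have h5 : x * a * x⁻¹ * a⁻¹ = x * x := by
      calc x * a * x⁻¹ * a⁻¹ = x * (a * x⁻¹ * a⁻¹) := by group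
        _ = x * x := by rw [← h4]
    rwa [h5] at h3
  have h3 := h.img_sq R hy hy1 _ h2
  have h4 : x ^ 4 = 1 := by rw [← h3]; simp only [pow_succ, pow_zero, one_mul, mul_assoc]
  have h5 : orderOf x ∣ 4 := orderOf_dvd_of_pow_eq_one h4
  have h6 : (orderOf x).Coprime 4 := by
    have : Nat.Coprime (orderOf x) (2 ^ 2) := Nat.Coprime.pow_right 2 (Nat.coprime_two_right.mpr hodd)
    exact this
  exact orderOf_eq_one_iff.mp (Nat.eq_one_of_dvd_coprimes h6 dvd_rfl h5)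

/-- `W_z ∩ Q_y` modulo `⟨z⟩` -/
def m1 (h : Fam T V z cf) (R : MRep V cf z M H) (y : G) : AddSubgroup M where
  carrier := {m | ∃ w ∈ ww V cf z, w ∈ qq V cf y ∧ R.pi w = m}
  zero_mem' := ⟨1, one_mem _, one_mem _, R.pi_one h⟩
  add_mem' := by
    rintro _ _ ⟨f, hf, hf', rfl⟩ ⟨g, hg, hg', rfl⟩
    exact ⟨f * g, mul_mem hf hg, mul_mem hf' hg', R.pi_mul f hf g hg⟩
  neg_mem' := by
    rintro _ ⟨f, hf, hf', rfl⟩
    exact ⟨f⁻¹, inv_mem hf, inv_mem hf', R.pi_inv h hf⟩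

omit hyz in
theorem m1_br : ∀ m ∈ m1 h R y, ∀ a ∈ R.img (ww V cf y), a • m = m ∨ a • m = m + R.pi y := by
  have hW := h.ww_le_cf' hy hy1 h.ln.z_mem h.ln.z_ne
  rintro _ ⟨w, hw, hwy, rfl⟩ a ha
  obtain ⟨g, hg, rfl⟩ := (R.mem_img hW).mp ha
  rcases R.br_one h hy hy1 hg hw hwy with e | e
  · exact Or.inl (sub_eq_zero.mp e)
  · right
    rw [← e]; abel

/-- `|M : M1| ≤ |A|` -/
theorem m1_index [Finite M] [Finite H] : (m1 h R y).index ≤ Nat.card (R.img (ww V cf y)) := by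
  classical
  have hz := h.ln.z_mem
  have hz1 := h.ln.z_ne
  have hW := h.ww_le_cf' hy hy1 hz hz1
  obtain ⟨g, hg, e1, e2⟩ := h.trans2 hz hz1 hy hy1 hyz hy hy1 hz hz1 (Ne.symm hyz)
  choose w hw hwm using R.pi_surj
  have hgw : ∀ {a : G}, a ∈ ww V cf z → g * a * g⁻¹ ∈ ww V cf y := by
    intro a ha
    have := h.conj_ww hg hz hz1 ha
    rwa [e1] at this
  have hphiy : R.phi y = 1 := (R.phi_ker y (h.V_le_cf hz hz1 hy)).mpr
    (h.kk_le_qq hz hz1 (h.V_le_kk hz hz1 hy))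
  have hadd : ∀ m m' : M, R.phi (g * w (m + m') * g⁻¹) = R.phi (g * w m * g⁻¹) * R.phi (g * w m' * g⁻¹) := by
    intro m m'
    rw [← R.phi_mul _ (hW (hgw (hw m))) _ (hW (hgw (hw m')))]
    have e : R.pi (w (m + m')) = R.pi (w m * w m') := by rw [R.pi_mul _ (hw m) _ (hw m'), hwm, hwm, hwm]
    rcases (R.pi_eq h (hw _) (mul_mem (hw m) (hw m'))).mp e with e3 | e3
    · rw [e3]; congr 1; group
    · have e4 : g * w (m + m') * g⁻¹ = y * (g * (w m * w m') * g⁻¹) := by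
        rw [e3, ← e1]; group
      rw [e4, R.phi_mul y (h.V_le_cf hz hz1 hy) _ (hW (hgw (mul_mem (hw m) (hw m')))), hphiy, one_mul]
      congr 1; group
  let ψ : M →+ Additive (R.img (ww V cf y)) := AddMonoidHom.mk'
    (fun m => Additive.ofMul ⟨R.phi (g * w m * g⁻¹), (R.mem_img hW).mpr ⟨_, hgw (hw m), rfl⟩⟩)
    (fun m m' => congrArg Additive.ofMul (Subtype.ext (hadd m m')))
  have hker : ψ.ker ≤ m1 h R y := by
    intro m hm
    have h1 : R.phi (g * w m * g⁻¹) = 1 := congrArg (fun a : Additive (R.img (ww V cf y)) => (a.toMul : H)) hm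
    refine ⟨w m, hw m, ?_, hwm m⟩
    have h2 := (R.phi_ker _ (hW (hgw (hw m)))).mp h1
    have h3 := h.conj_qq (inv_mem hg) hz hz1 h2
    have e3 : g⁻¹ * z * g⁻¹⁻¹ = y := by rw [← e2]; group
    have e4 : g⁻¹ * (g * w m * g⁻¹) * g⁻¹⁻¹ = w m := by group
    rwa [e3, e4] at h3
  calc (m1 h R y).index ≤ ψ.ker.index := AddSubgroup.index_antitone hker
    _ = Nat.card ψ.range := AddSubgroup.index_ker ψ
    _ ≤ Nat.card (Additive (R.img (ww V cf y))) := Nat.card_le_card_of_injective _ Subtype.val_injective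
    _ = Nat.card (R.img (ww V cf y)) := rfl

/-- `k ≥ 2` -/
theorem img_card (hk : ¬ One1 V cf) [Finite H] : 2 < Nat.card (R.img (ww V cf y)) := by
  classical
  have hz := h.ln.z_mem
  have hz1 := h.ln.z_ne
  have hW := h.ww_le_cf' hy hy1 hz hz1
  by_contra hcon
  apply hk
  refine h.one1_of hy hy1 hz hz1 (Ne.symm hyz) fun w hw w' hw' hwz hwz' => ?_
  by_contra hne
  have h1 : R.phi w ≠ 1 := R.phi_ne_one (hW hw) hwz
  have h1' : R.phi w' ≠ 1 := R.phi_ne_one (hW hw') hwz'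
  have h2 : R.phi w ≠ R.phi w' := by
    intro e
    apply hne
    rw [← R.phi_ker _ (mul_mem (hW hw) (hW hw')), R.phi_mul _ (hW hw) _ (hW hw'), ← e]
    exact R.sq_A h hy hy1 hw
  have h3 : (({1, R.phi w, R.phi w'} : Finset H) : Set H) ⊆ (R.img (ww V cf y) : Set H) := by
    intro x hx
    simp only [Finset.coe_insert, Finset.coe_singleton, Set.mem_insert_iff, Set.mem_singleton_iff] at hx
    rcases hx with rfl | rfl | rfl
    · exact one_mem _
    · exact (R.mem_img hW).mpr ⟨w, hw, rfl⟩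
    · exact (R.mem_img hW).mpr ⟨w', hw', rfl⟩
  have h4 := Set.ncard_le_ncard h3 (Set.toFinite _)
  rw [Set.ncard_coe_finset] at h4
  have h5 : ({1, R.phi w, R.phi w'} : Finset H).card = 3 := by
    rw [Finset.card_insert_of_notMem, Finset.card_insert_of_notMem, Finset.card_singleton]
    · simpa using h2
    · simp [Ne.symm h1, Ne.symm h1']
  have h6 : Set.ncard (R.img (ww V cf y) : Set H) = Nat.card (R.img (ww V cf y)) :=
    (Nat.card_coe_set_eq _).symm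
  omega

end Setup

/-- **(3.4), the transvection basis** -/
theorem exists_kb [Finite G] [Finite M] [Finite H] [FaithfulSMul H M] (h : Fam T V z cf) (R : MRep V cf z M H)
    {y : G} (hy : y ∈ V) (hy1 : y ≠ 1) (hyz : y ≠ z) {F : Subgroup H} (hFn : F.Normal)
    (hnil : Group.IsNilpotent F) (hF : Odd (Nat.card F))
    (hne : ∃ w ∈ ww V cf y, ∃ f ∈ F, R.phi w * f ≠ f * R.phi w) (hk : ¬ One1 V cf) :
    ∃ (n : ℕ) (b : Fin n → M) (w : Fin n → G), 2 ≤ n ∧ Even n ∧ KB V cf z y n R.pi b w := by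
  classical
  have hz := h.ln.z_mem
  have hz1 := h.ln.z_ne
  have hW := h.ww_le_cf' hy hy1 hz hz1
  have two := R.two h
  set A := R.img (ww V cf y) with hA
  have hmemA : ∀ {x : H}, x ∈ A ↔ ∃ g ∈ ww V cf y, R.phi g = x := R.mem_img hW
  have hsq : ∀ a ∈ A, a * a = 1 := h.img_sq R hy hy1
  have hq : ∀ a ∈ A, ∀ b ∈ A, ∀ m : M, a • (b • m - m) = b • m - m := h.img_quad R hy hy1 hyz
  have hAF : ∀ a ∈ A, ∀ f ∈ F, a * f * a⁻¹ ∈ F := fun a _ f hf => hFn.conj_mem f hf a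
  have hAF' : A ≤ normalizer (F : Set H) := by
    rw [normalizer_eq_top_iff.mpr hFn]; exact le_top
  have hT2 := R.img_T_two h
  have hTA : ∀ t ∈ R.img T, ∀ c ∈ A, t * c * t⁻¹ ∈ A := fun t ht =>
    h.img_norm R hy hy1 hyz (R.img_T_fix h hy hy1 hyz ht)
  have FIX := h.img_fix R hy hy1 hyz
  have hfaith := (Abs.faithful_on_F two hq hF hAF hT2 hTA (fun t _ f hf => hFn.conj_mem f hf t) FIX (by
    obtain ⟨w, hw, f, hf, e⟩ := hne
    exact ⟨R.phi w, hmemA.mpr ⟨w, hw, rfl⟩, f, hf, e⟩)).2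
  have hCP : ∀ x ∈ F, x • R.pi y = R.pi y → ∀ a ∈ A, a * x * a⁻¹ = x⁻¹ → x = 1 := by
    intro x hx hxv a ha hi
    refine h.img_cp R hy hy1 hyz hxv ?_ ha hi
    refine Odd.of_dvd_nat hF ?_
    have := orderOf_dvd_natCard (⟨x, hx⟩ : F)
    rwa [Subgroup.orderOf_mk] at this
  obtain ⟨n, a, b, m, hn, B, hM1⟩ := Abs.exists_tvb two hsq hq hnil hF hAF' hfaith
    (h.img_card R hy hy1 hyz hk) hCP (m1 h R y) (h.m1_index R hy hy1 hyz) (h.m1_br R hy hy1)
  have hpc : ∀ v ∈ ww V cf z, ∀ g ∈ ww V cf y, R.pi (cm v g) = R.phi g • R.pi v - R.pi v := by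
    intro v hv g hg
    rw [R.comm_eq h (hW hg) hv]
    congr 1
    exact (h.cm_symm hz hz1 hy hy1 hyz hv hg).symm
  -- `W_z ∩ Q_y` centralises `W_y`
  have hC : ∀ v ∈ ww V cf z, v ∈ qq V cf y → ∀ g ∈ ww V cf y, v * g = g * v := by
    intro v hv hvy g hg
    have h1 : R.pi v ∈ m1 h R y := ⟨v, hv, hvy, rfl⟩
    have h2 := (hM1 _).mp h1 _ (hmemA.mpr ⟨g, hg, rfl⟩)
    have h3 : R.pi (cm v g) = 0 := by rw [hpc v hv g hg, h2, sub_self]
    have hm := h.cm_mem hz hz1 hy hy1 hyz hv hg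
    rcases h.qq_cases hy hvy hg with e | e
    · exact comm_of_conj_eq e
    · exfalso
      have e1 : cm v g = y := by unfold cm; rw [e, mul_assoc, mul_inv_cancel, mul_one]
      rw [e1] at h3
      exact R.v0_ne h hy hy1 hyz h3
  -- the same for `(y, z)`
  have hC' : ∀ g ∈ ww V cf y, g ∈ qq V cf z → ∀ v ∈ ww V cf z, v * g = g * v := by
    intro g hg hgz v hv
    obtain ⟨k, hkN, e1, e2⟩ := h.trans2 hz hz1 hy hy1 hyz hy hy1 hz hz1 (Ne.symm hyz)
    have h1 := h.conj_ww hkN hy hy1 hg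
    have h2 := h.conj_qq hkN hz hz1 hgz
    have h3 := h.conj_ww hkN hz hz1 hv
    rw [e2] at h1
    rw [e1] at h2 h3
    have h4 := hC _ h1 h2 _ h3
    calc v * g = k⁻¹ * ((k * v * k⁻¹) * (k * g * k⁻¹)) * k := by group
      _ = k⁻¹ * ((k * g * k⁻¹) * (k * v * k⁻¹)) * k := by rw [h4]
      _ = g * v := by group
  -- `π v ∈ M1` implies `v ∈ C(W_y)`
  have hM1' : ∀ v ∈ ww V cf z, (∀ c ∈ A, c • R.pi v = R.pi v) → ∀ g ∈ ww V cf y, v * g = g * v := by
    intro v hv hfix g hg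
    obtain ⟨v', hv', hv'y, e⟩ := (hM1 (R.pi v)).mpr hfix
    have h1 := hC v' hv' hv'y g hg
    rcases (R.pi_eq h hv' hv).mp e with e1 | e1
    · rw [← e1]; exact h1
    · have h2 : v = z * v' := by rw [e1, ← mul_assoc, h.ln.zz, one_mul]
      rw [h2]
      exact mul_comm_of (h.V_comm hz (h.ww_le_cent hy hy1 hg)) h1
  choose w hw hwm using fun i => R.pi_surj (m i)
  refine ⟨n, b, w, hn, B.even hq two hT2 hTA FIX hn, ⟨two, R.pi_mul, R.pi_ker, hw, ?_, ?_, B.ind, ?_, ?_, ?_, ?_, ?_⟩⟩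
  · intro i g hg
    rw [hpc _ (hw i) g hg, hwm]
    rcases (B.all hq two (hmemA.mpr ⟨g, hg, rfl⟩) i).1 with e | e
    · left; rw [e, sub_self]
    · right; rw [e]; abel
  · intro i
    obtain ⟨g, hg, e⟩ := hmemA.mp (B.mem i)
    refine ⟨g, hg, ?_⟩
    rw [hpc _ (hw i) g hg, hwm, e, B.dual, add_sub_cancel_left]
    exact B.ne_zero i
  · exact B.sum_eq hq two hTA FIX (by omega)
  · intro g hg h1 v hv
    have h2 : R.phi g = 1 := by
      refine B.eq_one (hmemA.mpr ⟨g, hg, rfl⟩) fun j => ?_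
      have := h1 j
      rw [hpc _ (hw j) g hg, hwm] at this
      exact sub_eq_zero.mp this
    exact hC' g hg ((R.phi_ker g (hW hg)).mp h2) v hv
  · intro i v hv h1
    have h2 : ∀ j, j ≠ i → a j • R.pi v = R.pi v := by
      intro j hji
      obtain ⟨g, hg, e⟩ := hmemA.mp (B.mem j)
      rcases B.tv j (R.pi v) with e1 | e1
      · exact e1
      exfalso
      have h3 := h1 g hg
      rw [hpc v hv g hg, e, e1, add_sub_cancel_left] at h3
      rcases h3 with e2 | e2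
      · exact B.ne_zero j e2
      · exact hji (B.inj two e2)
    rcases B.tv i (R.pi v) with e | e
    · left
      refine hM1' v hv (B.fix_of fun j => ?_)
      by_cases hji : j = i
      · rw [hji]; exact e
      · exact h2 j hji
    · right
      refine hM1' _ (mul_mem hv (hw i)) (B.fix_of fun j => ?_)
      rw [R.pi_mul v hv _ (hw i), hwm, smul_add]
      by_cases hji : j = i
      · rw [hji, e, B.dual]
        calc R.pi v + b i + (m i + b i) = R.pi v + m i + (b i + b i) := by abel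
          _ = R.pi v + m i := by rw [two, add_zero]
      · rw [h2 j hji, B.dual' j i hji]
  · intro c hc i u hu e
    have hcc := h.cent_le_cf hz hz1 hc
    obtain ⟨j, hj⟩ := B.smul_cen hq two (h.img_norm R hy hy1 hyz (R.cent_v0 h hy hc)) i
    refine ⟨j, ?_⟩
    rw [← R.act c hcc u (jj_le hz hz1 hu), e, hj]
  · intro i j
    obtain ⟨t, ht, e⟩ := B.trans hq two hTA FIX i j
    obtain ⟨d, hd, e1⟩ := R.stab h hy hy1 hyz (R.img_T_fix h hy hy1 hyz ht)
    refine ⟨d, hd, fun u hu e2 => ?_⟩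
    rw [← R.act d (h.cent_le_cf hz hz1 hd) u (jj_le hz hz1 hu), e2, e1, e]

/-- **(3.4)**: `k = 1` if `A` does not centralise a normal nilpotent subgroup of odd order of `H` -/
theorem one1_of_nilpotent [Finite G] [Finite M] [Finite H] [FaithfulSMul H M] (h : Fam T V z cf)
    (R : MRep V cf z M H) {y : G} (hy : y ∈ V) (hy1 : y ≠ 1) (hyz : y ≠ z) {F : Subgroup H} (hFn : F.Normal)
    (hnil : Group.IsNilpotent F) (hF : Odd (Nat.card F))
    (hne : ∃ w ∈ ww V cf y, ∃ f ∈ F, R.phi w * f ≠ f * R.phi w) : One1 V cf := by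
  by_contra hk
  obtain ⟨n, b, w, hn, heven, K⟩ := h.exists_kb R hy hy1 hyz hFn hnil hF hne hk
  exact K.false_of h h.ln.z_mem h.ln.z_ne hy hy1 hyz hn heven

/-- **(3.4)**: `k = 1` if `A` does not centralise a normal `p`-subgroup of `H`, `p ≠ 2` -/
theorem one1_of_pgroup [Finite G] [Finite M] [Finite H] [FaithfulSMul H M] (h : Fam T V z cf)
    (R : MRep V cf z M H) {y : G} (hy : y ∈ V) (hy1 : y ≠ 1) (hyz : y ≠ z) {p : ℕ} (hp : p.Prime) (hp2 : p ≠ 2)
    {F : Subgroup H} (hFn : F.Normal) (hF : IsPGroup p F)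
    (hne : ∃ w ∈ ww V cf y, ∃ f ∈ F, R.phi w * f ≠ f * R.phi w) : One1 V cf := by
  have : Fact p.Prime := ⟨hp⟩
  refine h.one1_of_nilpotent R hy hy1 hyz hFn hF.isNilpotent ?_ hne
  obtain ⟨k, hk⟩ := IsPGroup.iff_card.mp hF
  rw [hk]
  exact (hp.odd_of_ne_two hp2).pow

end Fam

end Cfsg.Agent.Omega.NO3S.Fit
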