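import Cfsg.Agent.Omega.NO3S.Fit.Rep

/-!
# NO-3S, `q = 2`, `n = 1` (helper311's text #13963): from nilpotent normal subgroups of `H` to normal `p`-subgroups

`Fam.exists_pgroup_of_not_cen` : `N` a nilpotent normal subgroup of `H` which is not centralized by the image `A` of `W_y`:
`A` does not centralize some normal `p`-subgroup of `H`, `p ≠ 2`.
-/

set_option autoImplicit false
set_option linter.unusedSectionVars false

namespace Cfsg.Agent.Omega.NO3S.Fit

open Subgroup Cfsg Cfsg.Agent.ZN Cfsg.Agent.MinSimple.Geo Cfsg.Agent.Omega.CaseL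
open Cfsg.Agent.ZN.Block (conj_mem_of_normalizer conj_mem_of_normalizer' le_normalizer_of_forall
  mem_normalizer_of)

universe u

variable {G : Type u} [Group G]

namespace Fam

variable {T V : Subgroup G} {z : G} {cf : G → Subgroup G} {M H : Type u} [AddCommGroup M] [Group H]
  [DistribMulAction H M]

/-- a normal 2-subgroup of `H` is trivial -/
theorem eq_bot_of_two [Finite G] (h : Fam T V z cf) (R : MRep V cf z M H) {F : Subgroup H} (hF : F.Normal)
    (h2 : IsPGroup 2 F) : F = ⊥ := by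
  have hpow : ∀ c ∈ cf z, ∀ k : ℕ, R.phi (c ^ k) = R.phi c ^ k := by
    intro c hc k
    exact map_pow R.hom ⟨c, hc⟩ k
  have hle : R.pre F ≤ qq V cf z := by
    refine h.o2h (R.pre_le F) ?_ ?_
    · refine le_normalizer_of_forall fun c hc n hn => ?_
      obtain ⟨h1, h3⟩ := R.mem_pre.mp hn
      refine R.mem_pre.mpr ⟨mul_mem (mul_mem hc h1) (inv_mem hc), ?_⟩
      rw [R.phi_mul _ (mul_mem hc h1) _ (inv_mem hc), R.phi_mul c hc n h1, R.phi_inv hc]
      exact hF.conj_mem _ h3 _
    · intro n hn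
      obtain ⟨h1, h3⟩ := R.mem_pre.mp hn
      obtain ⟨k, hk⟩ := h2 ⟨_, h3⟩
      refine ⟨k, ?_⟩
      rw [← R.phi_ker _ (pow_mem h1 _), hpow n h1]
      exact congrArg Subtype.val hk
  rw [eq_bot_iff]
  intro f hf
  obtain ⟨c, hc, rfl⟩ := R.phi_surj f
  rw [mem_bot]
  exact (R.phi_ker c hc).mpr (hle (R.mem_pre.mpr ⟨hc, hf⟩))

/-- **(d)** -/
theorem exists_pgroup_of_not_cen [Finite G] (h : Fam T V z cf) (R : MRep V cf z M H) {y : G} {N : Subgroup H}
    (hN : N.Normal) (hnil : Group.IsNilpotent N)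
    (hne : ∃ w ∈ ww V cf y, ∃ n ∈ N, R.phi w * n ≠ n * R.phi w) :
    ∃ p, p.Prime ∧ p ≠ 2 ∧ ∃ F : Subgroup H, F.Normal ∧ IsPGroup p F ∧
      ∃ w ∈ ww V cf y, ∃ f ∈ F, R.phi w * f ≠ f * R.phi w := by
  classical
  have hfinH : Finite H := by
    have : Function.Surjective R.hom := R.hom_surj h
    exact Finite.of_surjective _ this
  obtain ⟨w, hw, n, hn, hne⟩ := hne
  set a := R.phi w with ha
  let K : Subgroup N := (centralizer ({a} : Set H)).subgroupOf N
  have hK : ∀ x : N, x ∈ K ↔ a * x = x * a := by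
    intro x
    rw [mem_subgroupOf, mem_centralizer_singleton_iff]
    exact ⟨fun e => e.symm, fun e => e.symm⟩
  obtain ⟨p, hp, hpK⟩ : ∃ p, p.Prime ∧ p ∣ K.index := by
    by_contra hcon
    push Not at hcon
    have h1 : K.index = 1 := by
      by_contra h2
      obtain ⟨p, hp, hd⟩ := Nat.exists_prime_and_dvd h2
      exact hcon p hp hd
    have h2 : (⟨n, hn⟩ : N) ∈ K := by
      rw [index_eq_one.mp h1]; exact mem_top _
    exact hne ((hK _).mp h2)
  have : Fact p.Prime := ⟨hp⟩
  obtain ⟨P⟩ : Nonempty (Sylow p N) := inferInstance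
  have hPn : (P : Subgroup N).Normal := by
    have := (Group.isNilpotent_of_finite_tfae (G := N)).out 0 3
    exact (this.mp hnil) p ⟨hp⟩ P
  have hPK : ¬ (P : Subgroup N) ≤ K := by
    intro hle
    exact P.not_dvd_index (hpK.trans (index_dvd_of_le hle))
  have hPc : (P : Subgroup N).Characteristic := P.characteristic_of_normal hPn
  set F : Subgroup H := (P : Subgroup N).map N.subtype with hF
  have hFn : F.Normal := ConjAct.normal_of_characteristic_of_normal
  have hFp : IsPGroup p F := P.isPGroup'.map _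
  obtain ⟨x, hx, hxK⟩ := SetLike.not_le_iff_exists.mp hPK
  have hxF : (x : H) ∈ F := ⟨x, hx, rfl⟩
  have hxa : a * (x : H) ≠ x * a := fun e => hxK ((hK x).mpr e)
  refine ⟨p, hp, ?_, F, hFn, hFp, w, hw, x, hxF, hxa⟩
  rintro rfl
  have h1 := h.eq_bot_of_two R hFn hFp
  rw [h1, mem_bot] at hxF
  rw [hxF, mul_one, one_mul] at hxa
  exact hxa rfl

end Fam

end Cfsg.Agent.Omega.NO3S.Fit
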