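import Cfsg.Agent.Omega.NO3S.Fit.GlueNine
import Cfsg.Agent.Omega.NO3S.Fit.KbigEnd
import Cfsg.Agent.Omega.NO3S.Fit.Nilp

/-!
# NO-3S, `q = 2`, `n = 1` (helper311's text #13963): the main theorem

`Fam` for the FULL family (`cf p = C_G(p)`), `G` simple; the image of `W_y` does not centralise some nilpotent normal subgroup of
`H = C_G(z)/Q_z`. Then `G` is known (it is the Tits group). The kill of the type T9 (section 4) is the hypothesis `NineDead`.
-/

set_option autoImplicit false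
set_option linter.unusedSectionVars false

namespace Cfsg.Agent.Omega.NO3S.Fit

open Subgroup Cfsg Cfsg.Agent.ZN Cfsg.Agent.MinSimple.Geo Cfsg.Agent.Omega.CaseL

universe u

/-- **the type T9 is impossible** (#13963, section 4) -/
def NineDead : Prop :=
  ∀ (G : Type u) [Group G] [Finite G] (T V : Subgroup G) (z : G) (cf : G → Subgroup G), Fam T V z cf →
    ∀ (M H : Type u) [AddCommGroup M] [Finite M] [Group H] [Finite H] [DistribMulAction H M] [FaithfulSMul H M]
      (R : MRep V cf z M H) (y : G), y ∈ V → y ≠ 1 → y ≠ z → ∀ (a d1 d2 : H) (b1 b2 : M),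
      Abs.NineA (R.pi y) a d1 d2 b1 b2 → (∀ u ∈ ww V cf y, u ∉ qq V cf z → R.phi u = a) →
      (∀ g ∈ normalizer ((jj V cf : Subgroup G) : Set G), g ∈ normalizer (V : Set G)) → False

/-- (3.6) for the subfamily of `H1` -/
def Sub36 : Prop :=
  ∀ (G : Type u) [Group G] [Finite G] (T V : Subgroup G) (z : G) (cf : G → Subgroup G), Fam T V z cf →
    cf z = centralizer ({z} : Set G) →
    ∀ (M H : Type u) [AddCommGroup M] [Finite M] [Group H] [Finite H] [DistribMulAction H M] [FaithfulSMul H M]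
      (R : MRep V cf z M H) (y : G), y ∈ V → y ≠ 1 → y ≠ z → ∀ w ∈ ww V cf y,
      (∀ x : H, x • R.pi y ∈ Abs.br M (R.phi w) → x • R.pi y = R.pi y) → Nat.card (Abs.br M (R.phi w)) = 4 →
      ∀ K : Subgroup H, (∀ x : H, x • R.pi y = R.pi y → x ∈ K) → Fam T V z (subf V z (R.pre K)) →
      (∀ m ∈ spn K (R.pi y), R.phi w • m = m → m ∈ Abs.br M (R.phi w)) →
      ∀ g ∈ normalizer ((jj V (subf V z (R.pre K)) : Subgroup G) : Set G), g ∈ normalizer (V : Set G)

variable {G : Type u} [Group G] {T V : Subgroup G} {z : G}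
variable {M H : Type u} [AddCommGroup M] [Group H] [DistribMulAction H M]

/-- **the main theorem**, `F` a normal `p`-subgroup of `H`, `p` odd -/
theorem Fam.known_of_pgroup (h9 : NineDead.{u}) (h36 : Sub36.{u}) [Finite G] [Finite M] [Finite H]
    [FaithfulSMul H M] (h : Fam T V z cfull) (R : MRep V cfull z M H) {y : G} (hy : y ∈ V) (hy1 : y ≠ 1)
    (hyz : y ≠ z) {p : ℕ} (hp : p.Prime) (hp2 : p ≠ 2) {F : Subgroup H} (hFn : F.Normal)
    (hF : IsPGroup p F) (hne : ∃ w ∈ ww V cfull y, ∃ f ∈ F, R.phi w * f ≠ f * R.phi w)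
    (hs : IsSimpleGroup G) : IsKnownSimple' G := by
  have hk : One1 V cfull := h.one1_of_pgroup R hy hy1 hyz hp hp2 hFn hF hne
  obtain ⟨w, hw, f, hf, hwf⟩ := hne
  have hwz : w ∉ qq V cfull z := by
    intro e
    apply hwf
    rw [(R.phi_ker w (h.ww_le_cf' hy hy1 h.ln.z_mem h.ln.z_ne hw)).mpr e, one_mul, mul_one]
  have ctx := h.ctx hk R hy hy1 hyz hw hwz
  have hfull : ∀ c ∈ centralizer ({z} : Set G), ∀ v ∈ V, ∀ w ∈ V, c * v * c⁻¹ * w = w * (c * v * c⁻¹) := by
    intro c hc v hv w' hw'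
    exact h.ab _ (cj_le_wf hc (conj_mem_cj hv)) _ (h.V_le hw')
  rcases ctx.main' hp hp2 hF ⟨f, hf, fun e => hwf e.symm⟩ with ⟨-, d, -, K⟩ | ⟨h4, hm, ⟨d, hC, K⟩ |
    ⟨H1, d1, d2, b1, b2, K⟩⟩
  · exact (h.m12_false hk R hy hy1 hyz hw K hs hfull).elim
  · exact h.five_glue hk R hy hy1 hyz hw hwz h4 hp hFn hF hC K hs
  · exfalso
    obtain ⟨h', M', H', i1, i2, i3, i4, i5, i6, R', a', d1', d2', b1', b2', hN, hu⟩ :=
      h.nine_data hk R hy hy1 hyz hw hwz K
    refine h9 G T V z _ h' M' H' R' y hy hy1 hyz a' d1' d2' b1' b2' hN hu ?_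
    refine h36 G T V z _ h rfl M H R y hy hy1 hyz w hw (fun x hx => hm x hx) h4 H1 K.stab_le h' ?_
    intro m hm' e
    rw [spn_eq_sp] at hm'
    exact K.fixed ctx hm' e

/-- **the main theorem** -/
theorem Fam.known_of_nilpotent (h9 : NineDead.{u}) (h36 : Sub36.{u}) [Finite G] [Finite M] [Finite H]
    [FaithfulSMul H M] (h : Fam T V z cfull) (R : MRep V cfull z M H) {y : G} (hy : y ∈ V) (hy1 : y ≠ 1)
    (hyz : y ≠ z) {N : Subgroup H} (hN : N.Normal) (hnil : Group.IsNilpotent N)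
    (hne : ∃ w ∈ ww V cfull y, ∃ f ∈ N, R.phi w * f ≠ f * R.phi w) (hs : IsSimpleGroup G) :
    IsKnownSimple' G := by
  obtain ⟨p, hp, hp2, F, hFn, hF, hne'⟩ := h.exists_pgroup_of_not_cen R hN hnil hne
  exact h.known_of_pgroup h9 h36 R hy hy1 hyz hp hp2 hFn hF hne' hs

end Cfsg.Agent.Omega.NO3S.Fit
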