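import Cfsg.Agent.Omega.NO3S.Fit.FinMain
import Cfsg.Agent.Omega.NO3S.TwoOne.Main

/-!
# NO-3S, `q = 2`, `n = 1` (helper311's text #13963): the leaf `FitP` of `TwoOneFin`
-/

set_option autoImplicit false

namespace Cfsg.Agent.Omega.NO3S.Fit

open Subgroup Cfsg Cfsg.Agent.Omega.MinPar Cfsg.Agent.Omega.Frame Cfsg.Agent.Omega.FrameNOFF
open Cfsg.Agent.ZN (zl zc o2)

universe u

/-- the leaf `FitP`, from the kill of T9 and (3.6) -/
theorem fitP_of (h9 : NineDead.{u}) (h36 : Sub36.{u}) (K : Cls.{u}) : TwoOne.FitP K := by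
  intro G _ _ _ S P hyp z ho M H _ _ _ _ _ _ R hR
  right
  have hex : ∃ N : Subgroup H, N.Normal ∧ Group.IsNilpotent N ∧ ∃ y ∈ zl (S : Subgroup G) P, y ≠ 1 ∧ y ≠ z ∧
      ¬ R.img (ww (zl (S : Subgroup G) P) TwoOne.cg y) ≤ centralizer (N : Set H) := by
    by_contra hcon
    apply hR
    intro N hN hnil y hy hy1 hyz
    by_contra hle
    exact hcon ⟨N, hN, hnil, y, hy, hy1, hyz, hle⟩
  obtain ⟨N, hN, hnil, y, hy, hy1, hyz, hne⟩ := hex
  have h : Fam (S : Subgroup G) (zl (S : Subgroup G) P) z TwoOne.cg := ho.fam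
  have hne' : ∃ w ∈ ww (zl (S : Subgroup G) P) TwoOne.cg y, ∃ f ∈ N, R.phi w * f ≠ f * R.phi w := by
    by_contra hcon
    push Not at hcon
    apply hne
    intro x hx
    obtain ⟨w, hw, rfl⟩ := (R.mem_img (h.ww_le_cf' hy hy1 h.ln.z_mem h.ln.z_ne)).mp hx
    rw [mem_centralizer_iff]
    intro f hf
    exact (hcon w hw f hf).symm
  exact Fam.known_of_nilpotent h9 h36 h R hy hy1 hyz hN hnil hne' hyp.ctx.simple

end Cfsg.Agent.Omega.NO3S.Fit
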