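import Cfsg.Agent.Omega.NO3S.Fit.FourR

/-!
# Text #13963 (helper311), section 4: (4.5)

* `Dat.kk_inf` : `K_z ∩ K_y = I`;
* `Dat.inK_iff` : `K_z¹ = W_z`;
* `Dat.card_jj` : `|I| = 8`.
-/

set_option autoImplicit false
set_option linter.unusedSectionVars false

namespace Cfsg.Agent.Omega.NO3S.Fit

open Subgroup Cfsg Cfsg.Agent.ZN Cfsg.Agent.MinSimple.Geo Cfsg.Agent.Omega.CaseL
open Cfsg.Agent.Omega.NO3S.Fit.PlaneForm (cm cm_eq_one cm_inv)
open Cfsg.Agent.ZN.Block (conj_mem_of_normalizer conj_mem_of_normalizer' le_normalizer_of_forall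
  mem_normalizer_of)

universe u

variable {G : Type u} [Group G]

namespace Dat

variable {T V : Subgroup G} {z : G} {cf : G → Subgroup G} {y : G} [Finite G] (D : Dat T V z cf y)
include D

/-- `K_p ∩ K_q` is the same for all pairs of points -/
theorem D_R' {p d : G} (hp : p ∈ V) (hp1 : p ≠ 1) :
    (∃ e ∈ jj V cf, d * e ∈ RR V cf p) ↔ ∃ e ∈ jj V cf, d * e ∈ RR V cf z := by
  by_cases hpz : p = z
  · rw [hpz]
  · obtain ⟨T1, D1⟩ := D.at hp hp1 D.hz D.hz1 (Ne.symm hpz)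
    obtain ⟨T2, D2⟩ := D.at D.hz D.hz1 hp hp1 hpz
    rw [← D1.D_R, ← D2.D_R, and_comm]

theorem p_R {p : G} (hp : p ∈ V) (hp1 : p ≠ 1) : p ∈ RR V cf p := by
  have h := D.fam
  refine ⟨h.V_le_kk hp hp1 hp, rfl, fun x hx => ?_⟩
  rw [cm_eq_one.mpr (h.cf_comm hp hp1 (h.XX_le_cf hp hp1 hx)).symm]
  exact one_mem _

theorem W_R' {p w : G} (hp : p ∈ V) (hp1 : p ≠ 1) (hw : w ∈ ww V cf p) (hwR : w ∈ RR V cf p) :
    w = 1 ∨ w = p := by
  obtain ⟨q, hq, hq1, hqp⟩ := D.fam.exists_q hp hp1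
  obtain ⟨T', D'⟩ := D.at hp hp1 hq hq1 hqp
  exact D'.W_R hw hwR

/-- elements of `V` outside `⟨p⟩` differ by elements of `⟨p⟩` -/
theorem V_two {p u v : G} (hp : p ∈ V) (hp1 : p ≠ 1) (hu : u ∈ V) (hv : v ∈ V) (hu' : ¬ (u = 1 ∨ u = p))
    (hv' : ¬ (v = 1 ∨ v = p)) : u * v = 1 ∨ u * v = p := by
  have h := D.fam
  push Not at hu' hv'
  have huu := h.ln.sq u hu
  rcases h.ln.four hp hu hp1 hu'.1 (Ne.symm hu'.2) hv with e | e | e | e
  · exact absurd e hv'.1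
  · exact absurd e hv'.2
  · left; rw [e, huu]
  · right
    rw [e, h.ln.comm hp hu, ← mul_assoc, huu, one_mul]

/-- the shift lemma -/
theorem shift {p d u : G} (hp : p ∈ V) (hp1 : p ≠ 1) (hd : ∃ v ∈ V, d * v ∈ RR V cf p) (hu : u ∈ V) :
    ((u = 1 ∨ u = p) → (d * u ∈ RR V cf p ↔ d ∈ RR V cf p)) ∧
      (¬ (u = 1 ∨ u = p) → (d * u ∈ RR V cf p ↔ d ∉ RR V cf p)) := by
  have h := D.fam
  have hpR := D.p_R hp hp1
  have hin : ∀ {u : G}, (u = 1 ∨ u = p) → u ∈ RR V cf p := by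
    rintro u (e | e) <;> rw [e]
    · exact one_mem _
    · exact hpR
  refine ⟨fun hu' => ?_, fun hu' => ?_⟩
  · exact Subgroup.mul_mem_cancel_right _ (hin hu')
  · constructor
    · intro h1 h2
      have h3 : u ∈ RR V cf p := (Subgroup.mul_mem_cancel_left _ h2).mp h1
      exact hu' (D.W_R' hp hp1 (h.V_le hu) h3)
    · intro h1
      obtain ⟨v, hv, hvR⟩ := hd
      have hv' : ¬ (v = 1 ∨ v = p) := by
        intro e
        exact h1 ((Subgroup.mul_mem_cancel_right _ (hin e)).mp hvR)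
      have h2 := hin (D.V_two hp hp1 hv hu hv' hu')
      have e : d * u = (d * v) * (v * u) := by
        have hvv := h.ln.sq v hv
        calc d * u = d * (v * v) * u := by rw [hvv, mul_one]
          _ = (d * v) * (v * u) := by group
      rw [e]
      exact mul_mem hvR h2

/-- `R_x ∩ R_y ∩ R_s = 1` -/
theorem inf_R {r : G} (hr : ∀ p ∈ V, p ≠ 1 → r ∈ RR V cf p) : r = 1 := by
  have h := D.fam
  have hz := D.hz
  have hz1 := D.hz1
  let R0 : Subgroup G :=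
    { carrier := {r | ∀ p ∈ V, p ≠ 1 → r ∈ RR V cf p}
      one_mem' := fun _ _ _ => one_mem _
      mul_mem' := fun ha hb p hp hp1 => mul_mem (ha p hp hp1) (hb p hp hp1)
      inv_mem' := fun ha p hp hp1 => inv_mem (ha p hp hp1) }
  have hb : R0 = ⊥ := by
    have hV : normalizer (V : Set G) ≤ normalizer (R0 : Set G) := by
      refine le_normalizer_of_forall fun g hg r hr p hp hp1 => ?_
      have h1 := h.conj_RR hg (h.conj_pt' hg hp) (Fam.conj_ne' hp1) (hr _ (h.conj_pt' hg hp) (Fam.conj_ne' hp1))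
      have e : g * (g⁻¹ * p * g) * g⁻¹ = p := by group
      rwa [e] at h1
    refine h.nl ?_ hV ?_
    · refine D.two.to_le fun r hr => ?_
      exact h.kk_le_cent (hr z hz hz1).1
    · refine le_normalizer_of_forall fun c hc r hr => ?_
      obtain ⟨x, hx, n, hn, -, rfl⟩ := D.gen hc
      have h1 : n * r * n⁻¹ ∈ R0 := conj_mem_of_normalizer hV hn hr
      have h2 := D.R_cent (h1 z hz hz1) hx
      have e : x * n * r * (x * n)⁻¹ = n * r * n⁻¹ := by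
        calc x * n * r * (x * n)⁻¹ = x * (n * r * n⁻¹) * x⁻¹ := by group
          _ = n * r * n⁻¹ := by rw [← h2]; group
      rw [e]
      exact h1
  have h1 : r ∈ R0 := hr
  rw [hb] at h1
  exact mem_bot.mp h1

theorem sq_of {d : G} (hd : ∃ e ∈ jj V cf, d * e ∈ RR V cf z) : d * d = 1 := by
  obtain ⟨h1, h2⟩ := D.D_R.mpr hd
  exact D.inK_sq (D.inK_of h1 h2)

/-- an involution in `C_G(T)` -/
theorem soc_of {f : G} (hf : f * f = 1) (hc : ∀ t ∈ T, t * f * t⁻¹ = f) : f = 1 ∨ f = z := by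
  have h := D.fam
  have hfT : f ∈ T := by
    have h1 : zpowers f ≤ T := by
      refine h.le_T (isPGroup_zpowers hf) (le_normalizer_of_forall fun t ht x hx => ?_)
      obtain ⟨n, rfl⟩ := mem_zpowers_iff.mp hx
      rw [← conj_zpow, hc t ht]
      exact zpow_mem (mem_zpowers _) n
    exact h1 (mem_zpowers f)
  exact h.ln.soc f hfT hf fun s hs => comm_of_conj_eq (hc s hs)

/-- the three points -/
theorem cases3 {Pr : G → Prop} (h1 : Pr z) (h2 : Pr y) (h3 : Pr (z * y)) : ∀ p ∈ V, p ≠ 1 → Pr p := by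
  intro p hp hp1
  rcases D.fam.ln.four D.hz D.hy D.hz1 D.hy1 (Ne.symm D.hyz) hp with e | e | e | e
  · exact absurd e hp1
  · rwa [e]
  · rwa [e]
  · rwa [e]

theorem hs : z * y ∈ V := mul_mem D.hz D.hy

theorem hs1 : z * y ≠ 1 := D.fam.mul_ne_one D.hy (Ne.symm D.hyz)

/-- no element of `∩ R_p V` is outside all `R_p` -/
theorem no_odd {f : G} (hD : ∃ e ∈ jj V cf, f * e ∈ RR V cf z)
    (hV : ∀ p ∈ V, p ≠ 1 → ∃ v ∈ V, f * v ∈ RR V cf p) (hn : ∀ p ∈ V, p ≠ 1 → f ∉ RR V cf p) : False := by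
  have h := D.fam
  have hz := D.hz
  have hz1 := D.hz1
  have hc : ∀ t ∈ T, t * f * t⁻¹ = f := by
    intro t ht
    have htV := h.ln.T_norm ht
    have key : ∀ p ∈ V, p ≠ 1 → (t * f * t⁻¹) * f⁻¹ ∈ RR V cf p := by
      intro p hp hp1
      -- `f v ∈ R_p`, `f' v' ∈ R_p`
      obtain ⟨v, hv, hvR⟩ := hV p hp hp1
      have hp' := h.conj_pt' htV hp
      have hp1' : t⁻¹ * p * t ≠ 1 := Fam.conj_ne' hp1
      have ep : t * (t⁻¹ * p * t) * t⁻¹ = p := by group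
      obtain ⟨v', hv', hvR'⟩ := hV _ hp' hp1'
      have h1 := h.conj_RR htV hp' hp1' hvR'
      rw [ep] at h1
      have e1 : t * (f * v') * t⁻¹ = (t * f * t⁻¹) * (t * v' * t⁻¹) := by group
      rw [e1] at h1
      have hpR := D.p_R hp hp1
      have hin : ∀ {u : G}, (u = 1 ∨ u = p) → u ∈ RR V cf p := by
        rintro u (e | e) <;> rw [e]
        · exact one_mem _
        · exact hpR
      have hnv : ¬ (v = 1 ∨ v = p) := fun e =>
        hn p hp hp1 ((Subgroup.mul_mem_cancel_right _ (hin e)).mp hvR)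
      have hnv' : ¬ (t * v' * t⁻¹ = 1 ∨ t * v' * t⁻¹ = p) := by
        intro e
        have h2 := (Subgroup.mul_mem_cancel_right _ (hin e)).mp h1
        have h3 := h.conj_RR (inv_mem htV) hp hp1 h2
        have e2 : t⁻¹ * (t * f * t⁻¹) * t⁻¹⁻¹ = f := by group
        have e3 : t⁻¹ * p * t⁻¹⁻¹ = t⁻¹ * p * t := by rw [inv_inv]
        rw [e2, e3] at h3
        exact hn _ hp' hp1' h3
      have h4 := hin (D.V_two hp hp1 (h.conj_pt htV hv') hv hnv' hnv)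
      set v'' := t * v' * t⁻¹ with hv''
      have hvv'' : v''⁻¹ = v'' := h.ln.inv_eq (h.conj_pt htV hv')
      have e5 : (t * f * t⁻¹) * f⁻¹ = ((t * f * t⁻¹) * v'') * (v'' * v) * (f * v)⁻¹ := by
        calc (t * f * t⁻¹) * f⁻¹ = (t * f * t⁻¹) * (v'' * v''⁻¹) * (v * v⁻¹) * f⁻¹ := by group
          _ = ((t * f * t⁻¹) * v'') * (v'' * v) * (f * v)⁻¹ := by rw [hvv'']; group
      rw [e5]
      exact mul_mem (mul_mem h1 h4) (inv_mem hvR)
    have := D.inf_R key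
    exact mul_inv_eq_one.mp this
  rcases D.soc_of (D.sq_of hD) hc with e | e
  · exact hn z hz hz1 (by rw [e]; exact one_mem _)
  · exact hn z hz hz1 (by rw [e]; exact D.p_R hz hz1)

/-- `∩ R_p V = V` -/
theorem claim1 {d : G} (hD : ∃ e ∈ jj V cf, d * e ∈ RR V cf z)
    (hV : ∀ p ∈ V, p ≠ 1 → ∃ v ∈ V, d * v ∈ RR V cf p) : d ∈ V := by
  classical
  have h := D.fam
  have hz := D.hz
  have hz1 := D.hz1
  have hy := D.hy
  have hy1 := D.hy1
  have hs := D.hs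
  have hs1 := D.hs1
  have hyz := D.hyz
  -- `u ∈ V`: the element `d u`
  have hDu : ∀ u ∈ V, ∃ e ∈ jj V cf, (d * u) * e ∈ RR V cf z := by
    intro u hu
    obtain ⟨e, he, heR⟩ := hD
    refine ⟨u⁻¹ * e, mul_mem (inv_mem (h.V_le_jj hu)) he, ?_⟩
    have : d * u * (u⁻¹ * e) = d * e := by group
    rwa [this]
  have hVu : ∀ u ∈ V, ∀ p ∈ V, p ≠ 1 → ∃ v ∈ V, (d * u) * v ∈ RR V cf p := by
    intro u hu p hp hp1
    obtain ⟨v, hv, hvR⟩ := hV p hp hp1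
    refine ⟨u⁻¹ * v, mul_mem (inv_mem hu) hv, ?_⟩
    have : d * u * (u⁻¹ * v) = d * v := by group
    rwa [this]
  have one : ∀ u ∈ V, (∀ p ∈ V, p ≠ 1 → d * u ∈ RR V cf p) → d ∈ V := by
    intro u hu hu'
    have := D.inf_R hu'
    have e : d = u⁻¹ := eq_inv_of_mul_eq_one_left this
    rw [e]; exact inv_mem hu
  have zero : ∀ u ∈ V, ¬ (∀ p ∈ V, p ≠ 1 → d * u ∉ RR V cf p) := fun u hu hu' =>
    D.no_odd (hDu u hu) (hVu u hu) hu'
  have ney : z ≠ z * y := fun e => hy1 (by simpa using e)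
  have nez : y ≠ z * y := fun e => hz1 (by simpa using e)
  have sz := fun u (hu : u ∈ V) => D.shift hz hz1 (hV z hz hz1) hu
  have sy := fun u (hu : u ∈ V) => D.shift hy hy1 (hV y hy hy1) hu
  have ss := fun u (hu : u ∈ V) => D.shift hs hs1 (hV _ hs hs1) hu
  -- the effect of `z`, `y`, `z y`
  have zz := (sz z hz).1 (Or.inr rfl)
  have zy := (sy z hz).2 (by push Not; exact ⟨hz1, Ne.symm hyz⟩)
  have zs := (ss z hz).2 (by push Not; exact ⟨hz1, ney⟩)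
  have yz := (sz y hy).2 (by push Not; exact ⟨hy1, hyz⟩)
  have yy := (sy y hy).1 (Or.inr rfl)
  have ys := (ss y hy).2 (by push Not; exact ⟨hy1, nez⟩)
  have xz := (sz _ hs).2 (by push Not; exact ⟨hs1, Ne.symm ney⟩)
  have xy := (sy _ hs).2 (by push Not; exact ⟨hs1, Ne.symm nez⟩)
  have xs := (ss _ hs).1 (Or.inr rfl)
  have one1 : (∀ p ∈ V, p ≠ 1 → d ∈ RR V cf p) → d ∈ V := fun hh => one 1 (one_mem _) (by rwa [mul_one])
  have zero1 : ¬ (∀ p ∈ V, p ≠ 1 → d ∉ RR V cf p) := fun hh => zero 1 (one_mem _) (by rwa [mul_one])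
  by_cases a1 : d ∈ RR V cf z <;> by_cases a2 : d ∈ RR V cf y <;> by_cases a3 : d ∈ RR V cf (z * y)
  · exact one1 (D.cases3 a1 a2 a3)
  · -- F at `s`
    exfalso
    exact zero _ hs (D.cases3 (fun e => xz.mp e a1) (fun e => xy.mp e a2) (fun e => a3 (xs.mp e)))
  · exfalso
    exact zero _ hy (D.cases3 (fun e => yz.mp e a1) (fun e => a2 (yy.mp e)) (fun e => ys.mp e a3))
  · exact one _ hz (D.cases3 (zz.mpr a1) (zy.mpr a2) (zs.mpr a3))
  · exfalso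
    exact zero _ hz (D.cases3 (fun e => a1 (zz.mp e)) (fun e => zy.mp e a2) (fun e => zs.mp e a3))
  · exact one _ hy (D.cases3 (yz.mpr a1) (yy.mpr a2) (ys.mpr a3))
  · exact one _ hs (D.cases3 (xz.mpr a1) (xy.mpr a2) (xs.mpr a3))
  · exact absurd (D.cases3 a1 a2 a3) zero1

/-- membership of products in `R_p V` -/
theorem RV_mul {p a b : G} (hp : p ∈ V) (hp1 : p ≠ 1) (ha : a ∈ RR V cf p) {v : G} (hv : v ∈ V)
    (hb : b ∈ RR V cf p) : ∃ u ∈ V, (a * v * b⁻¹) * u ∈ RR V cf p := by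
  have h := D.fam
  refine ⟨v⁻¹, inv_mem hv, ?_⟩
  have hbV := h.kk_le_cent hb.1
  have e : v * b⁻¹ = b⁻¹ * v := by
    have := h.V_comm hv hbV
    rw [mul_inv_eq_iff_eq_mul, mul_assoc, this, inv_mul_cancel_left]
  have : a * v * b⁻¹ * v⁻¹ = a * b⁻¹ := by rw [mul_assoc a v, e]; group
  rw [this]
  exact mul_mem ha (inv_mem hb)

/-- two points out of three -/
theorem claim2 {τ : G} (hD : ∃ e ∈ jj V cf, τ * e ∈ RR V cf z) (h1 : ∃ v ∈ V, τ * v ∈ RR V cf y)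
    (h2 : ∃ v ∈ V, τ * v ∈ RR V cf (z * y)) : ∃ v ∈ V, τ * v ∈ RR V cf z := by
  by_contra hcon
  have h := D.fam
  have hz := D.hz
  have hz1 := D.hz1
  have hy := D.hy
  have hy1 := D.hy1
  have hs := D.hs
  have hs1 := D.hs1
  have hyz := D.hyz
  have ney : z ≠ z * y := fun e => hy1 (by simpa using e)
  have nez : y ≠ z * y := fun e => hz1 (by simpa using e)
  -- `t ∈ R_y ∩ R_s`
  obtain ⟨u, hu, huy, hus⟩ : ∃ u ∈ V, τ * u ∈ RR V cf y ∧ τ * u ∈ RR V cf (z * y) := by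
    obtain ⟨u, hu, huy⟩ := h1
    by_cases hus : τ * u ∈ RR V cf (z * y)
    · exact ⟨u, hu, huy, hus⟩
    · have h2' : ∃ v ∈ V, (τ * u) * v ∈ RR V cf (z * y) := by
        obtain ⟨v, hv, hvR⟩ := h2
        refine ⟨u⁻¹ * v, mul_mem (inv_mem hu) hv, ?_⟩
        have : τ * u * (u⁻¹ * v) = τ * v := by group
        rwa [this]
      have h3 := (D.shift hs hs1 h2' hy).2 (by push Not; exact ⟨hy1, nez⟩)
      refine ⟨u * y, mul_mem hu hy, ?_, ?_⟩
      · rw [← mul_assoc]; exact mul_mem huy (D.p_R hy hy1)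
      · rw [← mul_assoc]; exact h3.mpr hus
  set t := τ * u with ht
  have htz : ¬ ∃ v ∈ V, t * v ∈ RR V cf z := by
    rintro ⟨v, hv, hvR⟩
    refine hcon ⟨u * v, mul_mem hu hv, ?_⟩
    rwa [← mul_assoc]
  have hDt : ∀ t : G, t ∈ RR V cf y → ∃ e ∈ jj V cf, t * e ∈ RR V cf z := fun t ht =>
    (D.D_R' hy hy1).mp ⟨1, one_mem _, by rwa [mul_one]⟩
  have hjj2 : ∀ e ∈ jj V cf, e⁻¹ = e := fun e he => h.inv_ww hz hz1 (Fam.jj_le hz hz1 he)
  -- `t` is fixed by `T`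
  have hc : ∀ g ∈ T, g * t * g⁻¹ = t := by
    intro g hg
    have hgV := h.ln.T_norm hg
    have hgz := h.ln.z_comm (h.ln.T_le hg)
    have egz : g * z * g⁻¹ = z := conj_eq_of_comm hgz
    have esplit : g * (z * y) * g⁻¹ = z * (g * y * g⁻¹) := by
      calc g * (z * y) * g⁻¹ = (g * z * g⁻¹) * (g * y * g⁻¹) := by group
        _ = z * (g * y * g⁻¹) := by rw [egz]
    obtain ⟨hty, hts⟩ : g * t * g⁻¹ ∈ RR V cf y ∧ g * t * g⁻¹ ∈ RR V cf (z * y) := by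
      have c1 := h.conj_RR hgV hy hy1 huy
      have c2 := h.conj_RR hgV hs hs1 hus
      rw [esplit] at c2
      rcases h.ln.conj_cases hz hy hz1 hgz hgV with e | e
      · rw [e] at c1 c2
        exact ⟨c1, c2⟩
      · rw [e] at c1 c2
        have e2 : z * (z * y) = y := by rw [← mul_assoc, h.ln.zz, one_mul]
        rw [e2] at c2
        exact ⟨c2, c1⟩
    have htz' : ¬ ∃ v ∈ V, (g * t * g⁻¹) * v ∈ RR V cf z := by
      rintro ⟨v, hv, hvR⟩
      apply htz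
      have c3 := h.conj_RR (inv_mem hgV) hz hz1 hvR
      have e3 : g⁻¹ * z * g⁻¹⁻¹ = z := by
        rw [inv_inv]
        calc g⁻¹ * z * g = g⁻¹ * (g * z * g⁻¹) * g := by rw [egz]
          _ = z := by group
      have e4 : g⁻¹ * (g * t * g⁻¹ * v) * g⁻¹⁻¹ = t * (g⁻¹ * v * g) := by group
      rw [e3, e4] at c3
      exact ⟨_, h.conj_pt' hgV hv, c3⟩
    set t' := g * t * g⁻¹ with ht'
    obtain ⟨e, he, heR⟩ := hDt t huy
    obtain ⟨e', he', heR'⟩ := hDt t' hty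
    have heV : e ∉ V := fun hV => htz ⟨e, hV, heR⟩
    have heV' : e' ∉ V := fun hV => htz' ⟨e', hV, heR'⟩
    have hee := D.jj_mul he' he heV' heV
    have e5 : t' * t⁻¹ = (t' * e') * (e' * e) * (t * e)⁻¹ := by
      calc t' * t⁻¹ = t' * (e' * e'⁻¹) * (e * e⁻¹) * t⁻¹ := by group
        _ = (t' * e') * (e' * e) * (t * e)⁻¹ := by rw [hjj2 e' he']; group
    have hRyV : ∃ v ∈ V, (t' * t⁻¹) * v ∈ RR V cf z := by
      rw [e5]
      exact D.RV_mul hz hz1 heR' hee heR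
    have hty' : t' * t⁻¹ ∈ RR V cf y := mul_mem hty (inv_mem huy)
    have hts' : t' * t⁻¹ ∈ RR V cf (z * y) := mul_mem hts (inv_mem hus)
    have h6 : t' * t⁻¹ ∈ V := D.claim1 (hDt _ hty')
      (D.cases3 hRyV ⟨1, one_mem _, by rwa [mul_one]⟩ ⟨1, one_mem _, by rwa [mul_one]⟩)
    have h7 := D.W_R' hy hy1 (h.V_le h6) hty'
    have h8 := D.W_R' hs hs1 (h.V_le h6) hts'
    have h9 : t' * t⁻¹ = 1 := by
      rcases h7 with e7 | e7
      · exact e7
      · rcases h8 with e8 | e8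
        · exact e8
        · exact absurd (e7.symm.trans e8) nez
    exact mul_inv_eq_one.mp h9
  apply htz
  rcases D.soc_of (D.sq_of (hDt t huy)) hc with e | e
  · exact ⟨1, one_mem _, by rw [e, one_mul]; exact one_mem _⟩
  · exact ⟨1, one_mem _, by rw [e, mul_one]; exact D.p_R hz hz1⟩

/-- the flip lemma -/
theorem flip {p τ e : G} (hp : p ∈ V) (hp1 : p ≠ 1) (hD : ∃ e ∈ jj V cf, τ * e ∈ RR V cf z)
    (he : e ∈ jj V cf) (heV : e ∉ V) :
    (∃ v ∈ V, (τ * e) * v ∈ RR V cf p) ↔ ¬ ∃ v ∈ V, τ * v ∈ RR V cf p := by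
  have h := D.fam
  have hz := D.hz
  have hz1 := D.hz1
  have hjj2 : ∀ e ∈ jj V cf, e⁻¹ = e := fun e he => h.inv_ww hz hz1 (Fam.jj_le hz hz1 he)
  constructor
  · rintro ⟨v, hv, hvR⟩ ⟨u, hu, huR⟩
    have h1 : (τ * u)⁻¹ * (τ * e * v) ∈ RR V cf p := mul_mem (inv_mem huR) hvR
    have e1 : (τ * u)⁻¹ * (τ * e * v) = u⁻¹ * e * v := by group
    rw [e1] at h1
    have h2 : u⁻¹ * e * v ∈ jj V cf := mul_mem (mul_mem (inv_mem (h.V_le_jj hu)) he) (h.V_le_jj hv)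
    have h3 : u⁻¹ * e * v ∈ V := by
      rcases D.W_R' hp hp1 (Fam.jj_le hp hp1 h2) h1 with e2 | e2 <;> rw [e2]
      · exact one_mem _
      · exact hp
    apply heV
    have := mul_mem (mul_mem hu h3) (inv_mem hv)
    have e4 : u * (u⁻¹ * e * v) * v⁻¹ = e := by group
    rwa [e4] at this
  · intro hn
    obtain ⟨e', he', heR'⟩ := (D.D_R' hp hp1).mpr hD
    have heV' : e' ∉ V := fun hV => hn ⟨e', hV, heR'⟩
    refine ⟨e * e', D.jj_mul he he' heV heV', ?_⟩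
    have : τ * e * (e * e') = τ * e' := by
      calc τ * e * (e * e') = τ * (e * e) * e' := by group
        _ = τ * e' := by rw [mul_eq_one_iff_inv_eq.mpr (hjj2 e he), mul_one]
    rwa [this]

/-- **(4.5)** `K_z ∩ K_y = I` -/
theorem kk_inf : kk V cf z ⊓ kk V cf y = jj V cf := by
  classical
  have h := D.fam
  have hz := D.hz
  have hz1 := D.hz1
  have hy := D.hy
  have hy1 := D.hy1
  have hs := D.hs
  have hs1 := D.hs1
  have hyz := D.hyz
  have ney : z ≠ z * y := fun e => hy1 (by simpa using e)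
  have nez : y ≠ z * y := fun e => hz1 (by simpa using e)
  refine le_antisymm ?_ fun e he => mem_inf.mpr ⟨h.ww_le_kk hz hz1 (Fam.jj_le hz hz1 he),
    h.ww_le_kk hy hy1 (Fam.jj_le hy hy1 he)⟩
  rintro τ ⟨hτ1, hτ2⟩
  have hD : ∃ e ∈ jj V cf, τ * e ∈ RR V cf z := D.D_R.mp ⟨hτ1, hτ2⟩
  obtain ⟨e, he, heV⟩ := D.exists_jj
  have hDe : ∃ e' ∈ jj V cf, (τ * e) * e' ∈ RR V cf z := by
    obtain ⟨e', he', heR'⟩ := hD
    refine ⟨e⁻¹ * e', mul_mem (inv_mem he) he', ?_⟩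
    have : τ * e * (e⁻¹ * e') = τ * e' := by group
    rwa [this]
  obtain ⟨T1, D1⟩ := D.at hy hy1 hz hz1 (Ne.symm hyz)
  obtain ⟨T2, D2⟩ := D.at hs hs1 hz hz1 ney
  have eyz : y * z = z * y := h.ln.comm hy hz
  have esz : (z * y) * z = y := by
    rw [mul_assoc, eyz, ← mul_assoc, h.ln.zz, one_mul]
  -- two out of three
  have c1 : ∀ τ, (∃ e ∈ jj V cf, τ * e ∈ RR V cf z) → (∃ v ∈ V, τ * v ∈ RR V cf y) →
      (∃ v ∈ V, τ * v ∈ RR V cf (z * y)) → ∃ v ∈ V, τ * v ∈ RR V cf z := fun τ a b c => D.claim2 a b c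
  have c2 : ∀ τ, (∃ e ∈ jj V cf, τ * e ∈ RR V cf z) → (∃ v ∈ V, τ * v ∈ RR V cf z) →
      (∃ v ∈ V, τ * v ∈ RR V cf (z * y)) → ∃ v ∈ V, τ * v ∈ RR V cf y := by
    intro τ a b c
    exact D1.claim2 ((D.D_R' hy hy1).mpr a) b (by rw [eyz]; exact c)
  have c3 : ∀ τ, (∃ e ∈ jj V cf, τ * e ∈ RR V cf z) → (∃ v ∈ V, τ * v ∈ RR V cf z) →
      (∃ v ∈ V, τ * v ∈ RR V cf y) → ∃ v ∈ V, τ * v ∈ RR V cf (z * y) := by
    intro τ a b c
    exact D2.claim2 ((D.D_R' hs hs1).mpr a) b (by rw [esz]; exact c)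
  have f1 := D.flip hz hz1 hD he heV
  have f2 := D.flip hy hy1 hD he heV
  have f3 := D.flip hs hs1 hD he heV
  have all : ∀ τ, (∃ e ∈ jj V cf, τ * e ∈ RR V cf z) → (∃ v ∈ V, τ * v ∈ RR V cf z) →
      (∃ v ∈ V, τ * v ∈ RR V cf y) → (∃ v ∈ V, τ * v ∈ RR V cf (z * y)) → τ ∈ V :=
    fun τ a b c d => D.claim1 a (D.cases3 b c d)
  have fin : τ * e ∈ V → τ ∈ jj V cf := by
    intro hV
    have := mul_mem (h.V_le_jj hV) (inv_mem he)
    rwa [mul_inv_cancel_right] at this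
  by_cases b1 : ∃ v ∈ V, τ * v ∈ RR V cf z <;> by_cases b2 : ∃ v ∈ V, τ * v ∈ RR V cf y <;>
    by_cases b3 : ∃ v ∈ V, τ * v ∈ RR V cf (z * y)
  · exact h.V_le_jj (all τ hD b1 b2 b3)
  · exact absurd (c3 τ hD b1 b2) b3
  · exact absurd (c2 τ hD b1 b3) b2
  · exact absurd b1 (f1.mp (c1 _ hDe (f2.mpr b2) (f3.mpr b3)))
  · exact absurd (c1 τ hD b2 b3) b1
  · exact absurd b2 (f2.mp (c2 _ hDe (f1.mpr b1) (f3.mpr b3)))
  · exact absurd b3 (f3.mp (c3 _ hDe (f1.mpr b1) (f2.mpr b2)))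
  · exact fin (all _ hDe (f1.mpr b1) (f2.mpr b2) (f3.mpr b3))

/-- `K_p ∩ K_q = I` for all pairs of points -/
theorem kk_inf' : ∀ p ∈ V, p ≠ 1 → ∀ q ∈ V, q ≠ 1 → q ≠ p → kk V cf p ⊓ kk V cf q = jj V cf := by
  intro p hp hp1 q hq hq1 hqp
  obtain ⟨T', D'⟩ := D.at hp hp1 hq hq1 hqp
  exact D'.kk_inf

/-- `K_z¹ = W_z` -/
theorem inK_iff {k : G} : InK V cf z k ↔ k ∈ ww V cf z := by
  have h := D.fam
  have hz := D.hz
  have hz1 := D.hz1
  constructor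
  · intro hk
    obtain ⟨w, hw, h1, h2⟩ := D.inK_dec hk
    have h3 : k * w ∈ jj V cf := by rw [← D.kk_inf]; exact mem_inf.mpr ⟨h1, h2⟩
    have := mul_mem (Fam.jj_le hz hz1 h3) (inv_mem hw)
    rwa [mul_inv_cancel_right] at this
  · intro hk
    exact ⟨h.ww_le_kk hz hz1 hk, fun o ho => h.cm_qq hz hz1 hk (h.OO_le_qq hz hz1 ho)⟩

/-- `|I| = 8` -/
theorem card_jj : Nat.card (jj V cf) = 8 := by
  have h := D.fam
  have hz := D.hz
  have hz1 := D.hz1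
  obtain ⟨e, he, heV⟩ := D.exists_jj
  have hee : e * e = 1 := h.sqz e (Fam.jj_le hz hz1 he)
  have h1 : V.relIndex (jj V cf) = 2 := by
    rw [relIndex, index_eq_two_iff]
    refine ⟨⟨e, he⟩, fun b => ?_⟩
    rw [mem_subgroupOf, mem_subgroupOf]
    by_cases hb : (b : G) ∈ V
    · right
      refine ⟨hb, fun hbe => heV ?_⟩
      have := mul_mem (inv_mem hb) hbe
      simpa using this
    · left
      exact ⟨D.jj_mul b.2 he hb heV, hb⟩
  have h2 := Cfsg.Agent.ZN.Block.card_mul_relIndex' (h.V_le_jj)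
  rw [h1, h.ln.card_V] at h2
  omega

end Dat

end Cfsg.Agent.Omega.NO3S.Fit
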