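import Cfsg.Agent.Omega.NO3S.Fit.FourEnd
import Cfsg.Agent.Omega.NO3S.Fit.AbsTransfer

/-!
# Text #13963 (helper311), section 4: the shape T9

`NineA ⟹ Shp ⟹ Dat`.
-/

set_option autoImplicit false
set_option linter.unusedSectionVars false

namespace Cfsg.Agent.Omega.NO3S.Fit

open Subgroup Cfsg Cfsg.Agent.ZN Cfsg.Agent.MinSimple.Geo Cfsg.Agent.Omega.CaseL
open Cfsg.Agent.Omega.NO3S.Fit.PlaneForm (cm cm_eq_one cm_inv)
open Cfsg.Agent.Omega.NO3S.Fit.Abs (NineA)
open Cfsg.Agent.ZN.Block (conj_mem_of_normalizer conj_mem_of_normalizer' le_normalizer_of_forall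
  mem_normalizer_of)

universe u

variable {G : Type u} [Group G]

section abs

variable {M H : Type*} [AddCommGroup M] [Group H] [DistribMulAction H M] {v0 : M} {a d1 d2 : H} {b1 b2 : M}

namespace Nine9

/-- the block of `d1` -/
def blkN (M : Type*) [AddCommGroup M] [DistribMulAction H M] (d1 d2 : H) : AddSubgroup M where
  carrier := {m | m + d1 • m + d1 • d1 • m = 0 ∧ d2 • m = m}
  zero_mem' := by simp
  add_mem' := by
    rintro m n ⟨h1, h2⟩ ⟨h3, h4⟩
    refine ⟨?_, by rw [smul_add, h2, h4]⟩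
    have e : m + n + d1 • (m + n) + d1 • d1 • (m + n) =
        (m + d1 • m + d1 • d1 • m) + (n + d1 • n + d1 • d1 • n) := by
      rw [smul_add, smul_add]; abel
    rw [e, h1, h3, add_zero]
  neg_mem' := by
    rintro m ⟨h1, h2⟩
    refine ⟨?_, by rw [smul_neg, h2]⟩
    have e : -m + d1 • (-m) + d1 • d1 • (-m) = -(m + d1 • m + d1 • d1 • m) := by
      rw [smul_neg, smul_neg]; abel
    rw [e, h1, neg_zero]

theorem smul_mem_blkN (c1 : d1 ^ 3 = 1) (comm : d1 * d2 = d2 * d1) {m : M} (hm : m ∈ blkN M d1 d2) :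
    d1 • m ∈ blkN M d1 d2 := by
  obtain ⟨h1, h2⟩ := hm
  refine ⟨?_, ?_⟩
  · have e : d1 • m + d1 • d1 • m + d1 • d1 • d1 • m = d1 • (m + d1 • m + d1 • d1 • m) := by
      rw [smul_add, smul_add]
    rw [e, h1, smul_zero]
  · rw [← mul_smul, ← comm, mul_smul, h2]

theorem pow_smul_mem_blkN (c1 : d1 ^ 3 = 1) (comm : d1 * d2 = d2 * d1) {m : M} (hm : m ∈ blkN M d1 d2) (i : ℕ) :
    d1 ^ i • m ∈ blkN M d1 d2 := by
  induction i with
  | zero => simpa using hm
  | succ i ih =>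
    rw [pow_succ', mul_smul]
    exact smul_mem_blkN c1 comm ih

theorem pow_smul_fix {g : H} {m : M} (h : g • m = m) (i : ℕ) : g ^ i • m = m := by
  induction i with
  | zero => simp
  | succ i ih => rw [pow_succ, mul_smul, h, ih]

variable (N : NineA v0 a d1 d2 b1 b2)
include N

theorem fd (two : ∀ m : M, m + m = 0) (span : AddSubgroup.closure (Set.range fun x : H => x • v0) = ⊤) {m : M}
    (hm : (d1 * d2) • m = m) : m = 0 := by
  have hb1 : b1 ∈ blkN M d1 d2 := ⟨N.s1, N.f2⟩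
  have hb2 : b2 ∈ blkN M d2 d1 := ⟨N.s2, N.f1⟩
  have key : ∀ m : M, ∃ m1 ∈ blkN M d1 d2, ∃ m2 ∈ blkN M d2 d1, m = m1 + m2 := by
    intro m
    have hm : m ∈ AddSubgroup.closure (Set.range fun x : H => x • v0) := by rw [span]; trivial
    induction hm using AddSubgroup.closure_induction with
    | mem m hm =>
      obtain ⟨x, rfl⟩ := hm
      obtain ⟨i, j, h0, h1, rfl⟩ := N.gen x
      have e1 : d1 ^ i • d2 ^ j • b1 = d1 ^ i • b1 := by rw [pow_smul_fix N.f2]
      have e2 : d1 ^ i • d2 ^ j • b2 = d2 ^ j • b2 := by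
        have hc : Commute (d1 ^ i) (d2 ^ j) := (show Commute d1 d2 from N.comm).pow_pow i j
        rw [← mul_smul, hc.eq, mul_smul, pow_smul_fix N.f1]
      refine ⟨_, pow_smul_mem_blkN N.c1 N.comm hb1 i, _, pow_smul_mem_blkN N.c2 N.comm.symm hb2 j, ?_⟩
      change (d1 ^ i * d2 ^ j * h0) • v0 = _
      rw [mul_smul, h1, mul_smul, N.vb, smul_add, smul_add, e1, e2]
    | zero => exact ⟨0, zero_mem _, 0, zero_mem _, by simp⟩
    | add m n _ _ hm hn =>
      obtain ⟨m1, h1, m2, h2, rfl⟩ := hm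
      obtain ⟨n1, h3, n2, h4, rfl⟩ := hn
      exact ⟨m1 + n1, add_mem h1 h3, m2 + n2, add_mem h2 h4, by abel⟩
    | neg m _ hm =>
      obtain ⟨m1, h1, m2, h2, rfl⟩ := hm
      exact ⟨-m1, neg_mem h1, -m2, neg_mem h2, by abel⟩
  have fix1 : ∀ m ∈ blkN M d1 d2, d1 • m = m → m = 0 := by
    intro m hm e
    have h1 := hm.1
    rw [e, e, two, zero_add] at h1
    exact h1
  have fix2 : ∀ m ∈ blkN M d2 d1, d2 • m = m → m = 0 := by
    intro m hm e
    have h1 := hm.1
    rw [e, e, two, zero_add] at h1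
    exact h1
  obtain ⟨m1, h1, m2, h2, rfl⟩ := key m
  have e1 : (d1 * d2) • (m1 + m2) = d1 • m1 + d2 • m2 := by
    rw [smul_add, mul_smul, h1.2]
    congr 1
    rw [N.comm, mul_smul, h2.2]
  rw [e1] at hm
  -- `u := d1 m1 + m1 = d2 m2 + m2`
  have e2 : d1 • m1 + m1 = d2 • m2 + m2 := by
    calc d1 • m1 + m1 = (d1 • m1 + d2 • m2) + (d2 • m2 + m1) := by
          have : (d1 • m1 + d2 • m2) + (d2 • m2 + m1) = d1 • m1 + m1 + (d2 • m2 + d2 • m2) := by abel
          rw [this, two, add_zero]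
      _ = (m1 + m2) + (d2 • m2 + m1) := by rw [hm]
      _ = d2 • m2 + m2 + (m1 + m1) := by abel
      _ = d2 • m2 + m2 := by rw [two, add_zero]
  have u1 : d1 • m1 + m1 ∈ blkN M d1 d2 := add_mem (smul_mem_blkN N.c1 N.comm h1) h1
  have u2 : d1 • m1 + m1 ∈ blkN M d2 d1 := by
    rw [e2]; exact add_mem (smul_mem_blkN N.c2 N.comm.symm h2) h2
  have u0 : d1 • m1 + m1 = 0 := fix1 _ u1 u2.2
  have eqs : ∀ a b : M, a + b = 0 → a = b := by
    intro a b h
    calc a = a + (b + b) := by rw [two, add_zero]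
      _ = (a + b) + b := by abel
      _ = b := by rw [h, zero_add]
  have g1 : m1 = 0 := fix1 _ h1 (eqs _ _ u0)
  have g2 : m2 = 0 := fix2 _ h2 (eqs _ _ (by rw [← e2]; exact u0))
  rw [g1, g2, add_zero]

/-- an element which fixes `v0` and commutes with `d1`, `d2` is trivial -/
theorem eq_one [FaithfulSMul H M] (span : AddSubgroup.closure (Set.range fun x : H => x • v0) = ⊤) {g : H}
    (hg : g • v0 = v0) (h1 : g * d1 = d1 * g) (h2 : g * d2 = d2 * g) : g = 1 := by
  refine FaithfulSMul.eq_of_smul_eq_smul (α := M) fun m => ?_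
  rw [one_smul]
  have hm : m ∈ AddSubgroup.closure (Set.range fun x : H => x • v0) := by rw [span]; trivial
  induction hm using AddSubgroup.closure_induction with
  | mem m hm =>
    obtain ⟨x, rfl⟩ := hm
    obtain ⟨i, j, h0, h3, rfl⟩ := N.gen x
    have hc : Commute g (d1 ^ i * d2 ^ j) :=
      ((show Commute g d1 from h1).pow_right i).mul_right ((show Commute g d2 from h2).pow_right j)
    change g • (d1 ^ i * d2 ^ j * h0) • v0 = (d1 ^ i * d2 ^ j * h0) • v0
    rw [mul_smul _ h0, h3, ← mul_smul, hc.eq, mul_smul, hg]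
  | zero => exact smul_zero _
  | add m n _ _ hm hn => rw [smul_add, hm, hn]
  | neg m _ hm => rw [smul_neg, hm]

theorem comm_of_inv {g d : H} (h : g * d * g⁻¹ = d ∨ g * d * g⁻¹ = d⁻¹) : (g * g) * d = d * (g * g) := by
  have h1 : g * g * d * (g * g)⁻¹ = d := by
    have e : g * g * d * (g * g)⁻¹ = g * (g * d * g⁻¹) * g⁻¹ := by group
    rw [e]
    rcases h with e1 | e1
    · rw [e1, e1]
    · rw [e1]
      have e2 : g * d⁻¹ * g⁻¹ = (g * d * g⁻¹)⁻¹ := by group
      rw [e2, e1, inv_inv]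
  exact mul_inv_eq_iff_eq_mul.mp h1

theorem two_pow [FaithfulSMul H M] (two : ∀ m : M, m + m = 0) (ne : v0 ≠ 0)
    (span : AddSubgroup.closure (Set.range fun x : H => x • v0) = ⊤) {h0 : H} (h : h0 • v0 = v0) :
    h0 ^ 2 ^ 2 = 1 := by
  have first : ∀ g : H, g • v0 = v0 → (g • b1 = b1) → g * g = 1 := by
    intro g hg hgb
    rcases N.st g hg with ⟨-, -, c, d⟩ | ⟨c, -⟩
    · refine eq_one N span ?_ (comm_of_inv N c) (comm_of_inv N d)
      rw [mul_smul, hg, hg]
    · exfalso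
      rw [hgb] at c
      apply ne
      rw [N.vb, c, two]
  have h2 : (h0 * h0) • v0 = v0 := by rw [mul_smul, h, h]
  have h3 : (h0 * h0) • b1 = b1 := by
    rw [mul_smul]
    rcases N.st h0 h with ⟨c, -⟩ | ⟨c, d, -⟩
    · rw [c, c]
    · rw [c, d]
  have h4 := first _ h2 h3
  have e : h0 ^ 2 ^ 2 = (h0 * h0) * (h0 * h0) := by
    simp only [pow_succ, pow_zero, one_mul, Nat.reduceMul, mul_assoc]
  rw [e, h4]

end Nine9

end abs

section shp

variable {T V : Subgroup G} {z : G} {cf : G → Subgroup G} {M H : Type u} [AddCommGroup M] [Group H]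
  [DistribMulAction H M] {R : MRep V cf z M H} {y a : G} {d1 d2 : H} {b1 b2 : M}

/-- **T9 has the common shape.** -/
theorem shp_of_nine [Finite G] [FaithfulSMul H M] (h : Fam T V z cf) (hk : Fam.One1 V cf) (hy : y ∈ V)
    (hy1 : y ≠ 1) (hyz : y ≠ z) (ha : a ∈ ww V cf y) (haQ : a ∉ qq V cf z)
    (N : NineA (R.pi y) (R.phi a) d1 d2 b1 b2) : Shp R y (closure {d1, d2}) (d1 * d2) := by
  have hz := h.ln.z_mem
  have hz1 := h.ln.z_ne
  have two := R.two h
  have span := R.span h hy hy1 hyz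
  have ne := R.v0_ne h hy hy1 hyz
  have hfin : Finite H := Finite.of_surjective R.hom (R.hom_surj (T := T) h)
  have hac := h.ww_le_cf' hy hy1 hz hz1 ha
  have hd1 : d1 ∈ closure ({d1, d2} : Set H) := subset_closure (by simp)
  have hd2 : d2 ∈ closure ({d1, d2} : Set H) := subset_closure (by simp)
  have hcom : ∀ p ∈ closure ({d1, d2} : Set H), ∃ i j : ℕ, p = d1 ^ i * d2 ^ j := by
    have hinv : ∀ d : H, d ^ 3 = 1 → ∀ i : ℕ, (d ^ i)⁻¹ = d ^ (2 * i) := by
      intro d hd i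
      refine inv_eq_of_mul_eq_one_right ?_
      rw [← pow_add, show i + 2 * i = 3 * i by ring, pow_mul, hd, one_pow]
    have hc : ∀ i j : ℕ, d1 ^ i * d2 ^ j = d2 ^ j * d1 ^ i := fun i j =>
      ((show Commute d1 d2 from N.comm).pow_pow i j).eq
    intro p hp
    induction hp using closure_induction with
    | mem x hx =>
      rcases hx with rfl | hx
      · exact ⟨1, 0, by simp⟩
      · rw [Set.mem_singleton_iff] at hx
        exact ⟨0, 1, by simp [hx]⟩
    | one => exact ⟨0, 0, by simp⟩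
    | mul x x' _ _ hx hx' =>
      obtain ⟨i, j, rfl⟩ := hx
      obtain ⟨i', j', rfl⟩ := hx'
      refine ⟨i + i', j + j', ?_⟩
      calc d1 ^ i * d2 ^ j * (d1 ^ i' * d2 ^ j') = d1 ^ i * (d2 ^ j * d1 ^ i') * d2 ^ j' := by group
        _ = d1 ^ i * (d1 ^ i' * d2 ^ j) * d2 ^ j' := by rw [hc i' j]
        _ = d1 ^ (i + i') * d2 ^ (j + j') := by rw [pow_add, pow_add]; group
    | inv x _ hx =>
      obtain ⟨i, j, rfl⟩ := hx
      refine ⟨2 * i, 2 * j, ?_⟩
      rw [mul_inv_rev, hinv d2 N.c2, hinv d1 N.c1, hc]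
  have habel : ∀ p ∈ closure ({d1, d2} : Set H), ∀ q ∈ closure ({d1, d2} : Set H), p * q = q * p := by
    intro p hp q hq
    obtain ⟨i, j, rfl⟩ := hcom p hp
    obtain ⟨i', j', rfl⟩ := hcom q hq
    have hd : Commute d1 d2 := N.comm
    have : Commute (d1 ^ i * d2 ^ j) (d1 ^ i' * d2 ^ j') := by
      refine Commute.mul_right ?_ ?_
      · exact Commute.mul_left ((Commute.refl d1).pow_pow i i') (hd.symm.pow_pow j i')
      · exact Commute.mul_left (hd.pow_pow i j') ((Commute.refl d2).pow_pow j j')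
    exact this.eq
  have hcube : ∀ p ∈ closure ({d1, d2} : Set H), p ^ 3 = 1 := by
    intro p hp
    obtain ⟨i, j, rfl⟩ := hcom p hp
    have hd : Commute (d1 ^ i) (d2 ^ j) := (show Commute d1 d2 from N.comm).pow_pow i j
    rw [hd.mul_pow, ← pow_mul, ← pow_mul, mul_comm i, mul_comm j, pow_mul, pow_mul, N.c1, N.c2, one_pow, one_pow,
      one_mul]
  have hnor0 : ∀ h0 : H, h0 • R.pi y = R.pi y → ∀ p ∈ closure ({d1, d2} : Set H),
      h0 * p * h0⁻¹ ∈ closure ({d1, d2} : Set H) := by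
    intro h0 hh p hp
    have h1 : h0 * d1 * h0⁻¹ ∈ closure ({d1, d2} : Set H) ∧ h0 * d2 * h0⁻¹ ∈ closure ({d1, d2} : Set H) := by
      rcases N.st h0 hh with ⟨-, -, c, d⟩ | ⟨-, -, c, d⟩
      · constructor
        · rcases c with e | e <;> rw [e]
          · exact hd1
          · exact inv_mem hd1
        · rcases d with e | e <;> rw [e]
          · exact hd2
          · exact inv_mem hd2
      · constructor
        · rcases c with e | e <;> rw [e]
          · exact hd2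
          · exact inv_mem hd2
        · rcases d with e | e <;> rw [e]
          · exact hd1
          · exact inv_mem hd1
    obtain ⟨i, j, rfl⟩ := hcom p hp
    have e : h0 * (d1 ^ i * d2 ^ j) * h0⁻¹ = (h0 * d1 * h0⁻¹) ^ i * (h0 * d2 * h0⁻¹) ^ j := by
      rw [conj_pow, conj_pow]; group
    rw [e]
    exact mul_mem (pow_mem h1.1 _) (pow_mem h1.2 _)
  have hinvP : ∀ p ∈ closure ({d1, d2} : Set H), R.phi a * p * (R.phi a)⁻¹ = p⁻¹ := by
    intro p hp
    have hq1 : ∀ q ∈ closure ({d1, d2} : Set H), R.phi a * q * (R.phi a)⁻¹ = q⁻¹ := by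
      intro q hq
      induction hq using closure_induction with
      | mem x hx =>
        rcases hx with rfl | hx
        · exact N.inv1
        · rw [Set.mem_singleton_iff] at hx
          rw [hx]; exact N.inv2
      | one => group
      | mul x x' hx0 hx0' hx hx' =>
        have e : R.phi a * (x * x') * (R.phi a)⁻¹ = (R.phi a * x * (R.phi a)⁻¹) * (R.phi a * x' * (R.phi a)⁻¹) := by
          group
        rw [e, hx, hx', ← mul_inv_rev, habel x' hx0' x hx0]
      | inv x _ hx =>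
        have e : R.phi a * x⁻¹ * (R.phi a)⁻¹ = (R.phi a * x * (R.phi a)⁻¹)⁻¹ := by group
        rw [e, hx]
    exact hq1 p hp
  refine
    { card := N.card, dP := mul_mem hd1 hd2, fd := fun m hm => Nine9.fd N two span hm, odd := ?_, nor := ?_
      inv := ?_, gen := ?_, two := fun h0 hh => ⟨2, Nine9.two_pow N two ne span hh⟩ }
  · have hfact : Fact (Nat.Prime 3) := ⟨Nat.prime_three⟩
    have hp : IsPGroup 3 (closure ({d1, d2} : Set H)) := by
      rintro ⟨p, hp⟩
      refine ⟨1, Subtype.ext ?_⟩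
      change p ^ 3 ^ 1 = 1
      rw [pow_one]
      exact hcube p hp
    obtain ⟨n, hn⟩ := IsPGroup.iff_card.mp hp
    rw [hn]
    exact Odd.pow (by decide)
  · intro x p hp
    obtain ⟨i, j, h0, h1, rfl⟩ := N.gen x
    have h2 := hnor0 h0 h1 p hp
    have h3 : d1 ^ i * d2 ^ j ∈ closure ({d1, d2} : Set H) := mul_mem (pow_mem hd1 _) (pow_mem hd2 _)
    have e : d1 ^ i * d2 ^ j * h0 * p * (d1 ^ i * d2 ^ j * h0)⁻¹ =
        (d1 ^ i * d2 ^ j) * (h0 * p * h0⁻¹) * (d1 ^ i * d2 ^ j)⁻¹ := by group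
    rw [e]
    exact mul_mem (mul_mem h3 h2) (inv_mem h3)
  · intro a' ha' haQ' p hp
    have hac' := h.ww_le_cf' hy hy1 hz hz1 ha'
    have h1 := hk y hy hy1 z hz hz1 (Ne.symm hyz) a' ha' a ha haQ' haQ
    have h2 : R.phi a' = R.phi a := by
      rw [R.phi_eq hac' hac, h.inv_ww hy hy1 ha]
      exact h1
    rw [h2]
    exact hinvP p hp
  · intro x
    obtain ⟨i, j, h0, h1, rfl⟩ := N.gen x
    exact ⟨d1 ^ i * d2 ^ j, mul_mem (pow_mem hd1 _) (pow_mem hd2 _), h0, h1, rfl⟩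

/-- **T9 gives `Dat`.** -/
theorem dat_of_nine [Finite G] [FaithfulSMul H M] (h : Fam T V z cf) (hk : Fam.One1 V cf) (hy : y ∈ V)
    (hy1 : y ≠ 1) (hyz : y ≠ z) (ha : a ∈ ww V cf y) (haQ : a ∉ qq V cf z)
    (N : NineA (R.pi y) (R.phi a) d1 d2 b1 b2) : Dat T V z cf y :=
  ⟨h, hy, hy1, hyz, M, H, _, _, _, ‹_›, R, _, _, shp_of_nine h hk hy hy1 hyz ha haQ N⟩

end shp

end Cfsg.Agent.Omega.NO3S.Fit
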