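import Cfsg.Agent.Omega.NO3S.Fit.NineCore
import Cfsg.Agent.Omega.NO3S.Fit.AbsTransfer
import Cfsg.Agent.Omega.NO3S.Fit.Sub

/-!
# NO-3S, `q = 2`, `n = 1` (helper311's text #13963): (4.6), T9 is impossible

`Fam.nine_false` : from `Abs.NineA`, `C_G(V)` a 2-group, `K_z ∩ K_y ≤ jj V cf` and `N_G(jj V cf) ≤ N_G(V)`.
-/

set_option autoImplicit false
set_option linter.unusedSectionVars false

namespace Cfsg.Agent.Omega.NO3S.Fit

open Subgroup Cfsg Cfsg.Agent.ZN Cfsg.Agent.MinSimple.Geo Cfsg.Agent.Omega.CaseL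
open Cfsg.Agent.Omega.NO3S.Fit.Abs (br fx)
open Cfsg.Agent.ZN.Block (conj_mem_of_normalizer conj_mem_of_normalizer' le_normalizer_of_forall
  mem_normalizer_of)

universe u

namespace Abs.NineA

variable {H M : Type*} [Group H] [AddCommGroup M] [DistribMulAction H M] {v0 : M} {a d1 d2 : H} {b1 b2 : M}

theorem symm (N : NineA v0 a d1 d2 b1 b2) : NineA v0 a d2 d1 b2 b1 where
  card := N.card
  vb := by rw [N.vb, add_comm]
  f1 := N.f2
  f2 := N.f1
  s1 := N.s2
  s2 := N.s1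
  n1 := N.n2
  n2 := N.n1
  comm := N.comm.symm
  c1 := N.c2
  c2 := N.c1
  inv1 := N.inv2
  inv2 := N.inv1
  fa1 := N.fa2
  fa2 := N.fa1
  gen := by
    intro x
    obtain ⟨i, j, h0, hh, e⟩ := N.gen x
    refine ⟨j, i, h0, hh, ?_⟩
    rw [e]
    have : Commute d1 d2 := N.comm
    rw [(this.pow_pow i j).eq]
  st := by
    intro h0 hh
    rcases N.st h0 hh with ⟨e1, e2, e3, e4⟩ | ⟨e1, e2, e3, e4⟩
    · exact Or.inl ⟨e2, e1, e4, e3⟩
    · exact Or.inr ⟨e2, e1, e4, e3⟩
  sw := by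
    obtain ⟨h0, hh, e1, e2⟩ := N.sw
    exact ⟨h0, hh, e2, e1⟩

theorem odd1 (N : NineA v0 a d1 d2 b1 b2) : Odd (orderOf d1) :=
  Odd.of_dvd_nat (by decide : Odd 3) (orderOf_dvd_of_pow_eq_one N.c1)

theorem b1_ne (N : NineA v0 a d1 d2 b1 b2) : b1 ≠ 0 := by
  intro e
  apply N.n1
  rw [e, smul_zero]

theorem b1_mem (N : NineA v0 a d1 d2 b1 b2) (two : ∀ m : M, m + m = 0) : b1 ∈ br M d1 := by
  refine ⟨d1 • b1, ?_⟩
  have h1 := N.s1
  have h2 : b1 = -(d1 • b1 + d1 • d1 • b1) := by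
    rw [← add_eq_zero_iff_eq_neg, ← add_assoc]; exact h1
  rw [neg_eq two] at h2
  rw [sub_eq two, add_comm]
  exact h2.symm

theorem card_mul {x : H} [Finite M] : Nat.card (fx M x) * Nat.card (br M x) = Nat.card M := by
  let f : M →+ M :=
    { toFun := fun m => x • m - m
      map_zero' := by simp
      map_add' := fun m n => by rw [smul_add]; abel }
  have h1 : Nat.card f.ker * Nat.card f.range = Nat.card M := by
    rw [← AddSubgroup.index_ker, AddSubgroup.card_mul_index]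
  have h2 : f.ker = fx M x := by
    ext m
    rw [AddMonoidHom.mem_ker, mem_fx]
    exact sub_eq_zero
  have h3 : f.range = br M x := by
    ext m
    rw [AddMonoidHom.mem_range, mem_br]
    rfl
  rw [← h2, ← h3]; exact h1

theorem three_le [Finite M] {N : AddSubgroup M} {u v : M} (hu : u ∈ N) (hv : v ∈ N) (hu0 : u ≠ 0)
    (hv0 : v ≠ 0) (huv : u ≠ v) : 3 ≤ Nat.card N := by
  classical
  have h1 : (({0, u, v} : Finset M) : Set M) ⊆ (N : Set M) := by
    intro y hy
    simp only [Finset.coe_insert, Finset.coe_singleton, Set.mem_insert_iff, Set.mem_singleton_iff] at hy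
    rcases hy with rfl | rfl | rfl
    · exact zero_mem _
    · exact hu
    · exact hv
  have h2 := Set.ncard_le_ncard h1 (Set.toFinite _)
  rw [Set.ncard_coe_finset] at h2
  have h3 : Set.ncard (N : Set M) = Nat.card N := (Nat.card_coe_set_eq _).symm
  have h4 : ({0, u, v} : Finset M).card = 3 := by
    rw [Finset.card_insert_of_notMem, Finset.card_insert_of_notMem, Finset.card_singleton]
    · simpa using huv
    · simp [hu0.symm, hv0.symm]
  omega

theorem card1 (N : NineA v0 a d1 d2 b1 b2) (two : ∀ m : M, m + m = 0) :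
    Nat.card (br M d1) = 4 ∧ Nat.card (fx M d1) = 4 := by
  have hfin : Finite M := Nat.finite_of_card_ne_zero (by rw [N.card]; decide)
  have h1 := card_mul (M := M) (x := d1)
  rw [N.card] at h1
  have h2 : 3 ≤ Nat.card (br M d1) := by
    refine three_le (N.b1_mem two) (smul_mem_br_self (N.b1_mem two)) N.b1_ne ?_ (fun e => N.n1 e.symm)
    intro e
    exact N.b1_ne ((smul_eq_zero_iff_eq d1).mp e)
  have h3 : 3 ≤ Nat.card (fx M d1) := by
    refine three_le (u := b2) (v := d2 • b2) N.f1 ?_ N.symm.b1_ne ?_ (fun e => N.n2 e.symm)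
    · rw [mem_fx, ← mul_smul, N.comm, mul_smul, N.f1]
    · intro e
      exact N.symm.b1_ne ((smul_eq_zero_iff_eq d2).mp e)
  obtain ⟨k, hk⟩ := exists_card_two_pow two (br M d1)
  obtain ⟨l, hl⟩ := exists_card_two_pow two (fx M d1)
  rw [hk, hl, ← pow_add] at h1
  rw [hk] at h2
  rw [hl] at h3
  have h4 : l + k = 4 := Nat.pow_right_injective (le_refl 2) (by simpa using h1)
  have h5 : 2 ≤ k := by
    by_contra hcon
    have : 2 ^ k ≤ 2 ^ 1 := Nat.pow_le_pow_right (by norm_num) (by omega)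
    omega
  have h6 : 2 ≤ l := by
    by_contra hcon
    have : 2 ^ l ≤ 2 ^ 1 := Nat.pow_le_pow_right (by norm_num) (by omega)
    omega
  have h7 : k = 2 := by omega
  have h8 : l = 2 := by omega
  rw [hk, hl, h7, h8]
  norm_num

theorem cases1 (N : NineA v0 a d1 d2 b1 b2) (two : ∀ m : M, m + m = 0) {m : M} (hm : m ∈ br M d1) :
    m = 0 ∨ m = b1 ∨ m = d1 • b1 ∨ m = d1 ^ 2 • b1 :=
  nat_cases two N.odd1 (N.card1 two).1 (N.b1_mem two) N.b1_ne hm

/-- `C_M(d1) = [M, d2]` -/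
theorem fx1 (N : NineA v0 a d1 d2 b1 b2) (two : ∀ m : M, m + m = 0) : br M d2 = fx M d1 := by
  have hfin : Finite M := Nat.finite_of_card_ne_zero (by rw [N.card]; decide)
  refine AddSubgroup.eq_of_le_of_card_ge ?_ (by rw [(N.card1 two).2, (N.symm.card1 two).1])
  have key : ∀ j : ℕ, d1 • d2 ^ j • b2 = d2 ^ j • b2 := by
    intro j
    have : Commute d1 d2 := N.comm
    rw [← mul_smul, (this.pow_right j).eq, mul_smul, N.f1]
  intro m hm
  rw [mem_fx]
  rcases N.symm.cases1 two hm with rfl | rfl | rfl | rfl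
  · exact smul_zero _
  · exact N.f1
  · simpa using key 1
  · exact key 2

theorem exists_dec (N : NineA v0 a d1 d2 b1 b2) (two : ∀ m : M, m + m = 0) (m : M) :
    ∃ m1 ∈ br M d1, ∃ m2 ∈ br M d2, m = m1 + m2 := by
  obtain ⟨d, hd, c, hc, rfl⟩ := exists_decomp two N.odd1 m
  exact ⟨d, hd, c, by rw [N.fx1 two]; exact hc, rfl⟩

theorem inv_sm (N : NineA v0 a d1 d2 b1 b2) : a • d1 • b1 = d1 • d1 • b1 := by
  have h1 := inv_smul_of_inv N.inv1 N.fa1
  rw [h1, inv_smul_eq_iff, ← mul_smul, ← mul_smul]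
  have : d1 * d1 * d1 = 1 := by
    have := N.c1
    rw [pow_succ, pow_two] at this
    exact this
  rw [this, one_smul]

/-- `a (d1 b1) - d1 b1 = b1` -/
theorem comm_b1 (N : NineA v0 a d1 d2 b1 b2) (two : ∀ m : M, m + m = 0) : a • d1 • b1 - d1 • b1 = b1 := by
  rw [N.inv_sm]
  have h1 := N.s1
  have h2 : b1 = -(d1 • b1 + d1 • d1 • b1) := by
    rw [← add_eq_zero_iff_eq_neg, ← add_assoc]; exact h1
  rw [neg_eq two] at h2
  rw [sub_eq two, add_comm]
  exact h2.symm

theorem fix_br1 (N : NineA v0 a d1 d2 b1 b2) (two : ∀ m : M, m + m = 0) {m : M} (hm : m ∈ br M d1)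
    (ha : a • m = m) : m = 0 ∨ m = b1 := by
  have hne : ¬ (a • d1 • b1 = d1 • b1) := by
    intro e
    have := N.comm_b1 two
    rw [e, sub_self] at this
    exact N.b1_ne this.symm
  rcases N.cases1 two hm with e | e | e | e
  · exact Or.inl e
  · exact Or.inr e
  · exfalso
    rw [e] at ha
    exact hne ha
  · exfalso
    rw [e, pow_two, mul_smul, ← N.inv_sm] at ha
    -- `a (a d1 b1) = a d1 b1`
    exact hne (smul_left_cancel a ha)

/-- `C_M(a) = {0, b1, b2, v0}` -/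
theorem fix_a (N : NineA v0 a d1 d2 b1 b2) (two : ∀ m : M, m + m = 0) {m : M} (ha : a • m = m) :
    m = 0 ∨ m = b1 ∨ m = b2 ∨ m = v0 := by
  obtain ⟨m1, h1, m2, h2, rfl⟩ := N.exists_dec two m
  have h1' : a • m1 ∈ br M d1 := smul_mem_br_of_inv N.inv1 h1
  have h2' : a • m2 ∈ br M d2 := smul_mem_br_of_inv N.inv2 h2
  have h3 : a • m1 - m1 = m2 - a • m2 := by
    rw [smul_add] at ha
    calc a • m1 - m1 = (a • m1 + a • m2) - m1 - a • m2 := by abel
      _ = m2 - a • m2 := by rw [ha]; abel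
  have h4 : a • m1 - m1 ∈ br M d1 := sub_mem h1' h1
  have h5 : a • m1 - m1 ∈ fx M d1 := by
    rw [← N.fx1 two, h3]; exact sub_mem h2 h2'
  have h6 := br_inf_fx two N.odd1 h4 h5
  rw [h6] at h3
  have e1 : a • m1 = m1 := sub_eq_zero.mp h6
  have e2 : a • m2 = m2 := (sub_eq_zero.mp h3.symm).symm
  rcases N.fix_br1 two h1 e1 with e | e <;> rcases N.symm.fix_br1 two h2 e2 with e' | e'
  · left; rw [e, e', add_zero]
  · right; right; left; rw [e, e', zero_add]
  · right; left; rw [e, e', add_zero]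
  · right; right; right; rw [e, e', N.vb]

/-- an `H`-invariant subgroup `≠ 0` contains `v0` -/
theorem irr (N : NineA v0 a d1 d2 b1 b2) (two : ∀ m : M, m + m = 0) {X : AddSubgroup M}
    (hX : ∀ x : H, ∀ m ∈ X, x • m ∈ X) {m : M} (hm : m ∈ X) (hm0 : m ≠ 0) : v0 ∈ X := by
  have key : ∀ {d1 d2 : H} {b1 b2 : M}, NineA v0 a d1 d2 b1 b2 → ∀ n ∈ X, n ∈ br M d1 → n ≠ 0 → v0 ∈ X := by
    intro d1 d2 b1 b2 N n hn hnb hn0
    have hb1 : b1 ∈ X := by
      have hc : d1 * (d1 * d1) = 1 := by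
        have := N.c1
        rw [pow_succ, pow_two] at this
        rw [← mul_assoc]; exact this
      rcases N.cases1 two hnb with e | e | e | e
      · exact absurd e hn0
      · rw [← e]; exact hn
      · have h1 := hX (d1 * d1) n hn
        rw [e, ← mul_smul, mul_assoc, hc, one_smul] at h1
        exact h1
      · have h1 := hX d1 n hn
        rw [e, pow_two, ← mul_smul, hc, one_smul] at h1
        exact h1
    obtain ⟨h0, -, e1, -⟩ := N.sw
    have hb2 : b2 ∈ X := by rw [← e1]; exact hX h0 _ hb1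
    rw [N.vb]; exact add_mem hb1 hb2
  obtain ⟨m1, h1, m2, h2, rfl⟩ := N.exists_dec two m
  by_cases hm1 : m1 = 0
  · rw [hm1, zero_add] at hm hm0
    exact key N.symm m2 hm h2 hm0
  · refine key N (d1 • (m1 + m2) - (m1 + m2)) (sub_mem (hX d1 _ hm) hm) ⟨_, rfl⟩ ?_
    intro e
    apply hm1
    refine br_inf_fx two N.odd1 h1 ?_
    have h3 : d1 • m2 = m2 := by
      have : m2 ∈ fx M d1 := by rw [← N.fx1 two]; exact h2
      exact this
    rw [smul_add, h3] at e
    have : d1 • m1 - m1 = 0 := by rw [← e]; abel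
    exact sub_eq_zero.mp this

end Abs.NineA

variable {G : Type u} [Group G]

namespace Fam

variable {T V : Subgroup G} {z : G} {cf : G → Subgroup G} {M H : Type u} [AddCommGroup M] [Group H]
  [DistribMulAction H M]

/-- **(4.6): T9 is impossible** -/
theorem nine_false [Finite G] (h : Fam T V z cf) (R : MRep V cf z M H) {y : G} (hy : y ∈ V) (hy1 : y ≠ 1)
    (hyz : y ≠ z) (hk : One1 V cf) {a : G} (ha : a ∈ ww V cf y) (haQ : a ∉ qq V cf z) {d1 d2 : H} {b1 b2 : M}
    (N : Abs.NineA (R.pi y) (R.phi a) d1 d2 b1 b2) (hCV : IsPGroup 2 (centralizer (V : Set G)))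
    (hKK : kk V cf z ⊓ kk V cf y ≤ jj V cf)
    (h36 : ∀ g ∈ normalizer ((jj V cf : Subgroup G) : Set G), g ∈ normalizer (V : Set G)) : False := by
  have hz := h.ln.z_mem
  have hz1 := h.ln.z_ne
  have hzy := Ne.symm hyz
  have two := R.two h
  have hac := h.ww_le_cf' hy hy1 hz hz1 ha
  have hyW := h.V_le (p := z) hy
  -- `u`
  obtain ⟨w1, hw1, hw1m⟩ := R.pi_surj (d1 • b1)
  set u := a * w1 * a⁻¹ * w1⁻¹ with hu
  have huj : u ∈ jj V cf := h.comm_mem_jj hy hy1 hz hz1 hzy ha hw1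
  have huz := Fam.jj_le (cf := cf) hz hz1 huj
  have hpu : R.pi u = b1 := by
    rw [hu, ← R.comm_eq h hac hw1, hw1m, N.comm_b1 two]
  have hpyu : R.pi (y * u) = b2 := by
    rw [R.pi_mul y hyW u huz, hpu, N.vb, add_comm b1, add_assoc, two, add_zero]
  have hpV : ∀ v ∈ V, R.pi v = 0 ∨ R.pi v = R.pi y := by
    intro v hv
    rcases h.ln.four hz hy hz1 hy1 hzy hv with e | e | e | e
    · left; rw [e, R.pi_one h]
    · left; rw [e, R.pi_z h]
    · right; rw [e]
    · right; rw [e, R.pi_mul z h.z_mem_ww y hyW, R.pi_z h, zero_add]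
  have hb1v : b1 ≠ R.pi y := by
    intro e
    rw [N.vb, left_eq_add] at e
    exact N.symm.b1_ne e
  have hb2v : b2 ≠ R.pi y := by
    intro e
    rw [N.vb, right_eq_add] at e
    exact N.b1_ne e
  have huV : u ∉ V := by
    intro hV
    rcases hpV u hV with e | e
    · rw [hpu] at e; exact N.b1_ne e
    · rw [hpu] at e; exact hb1v e
  have hVof : ∀ w ∈ ww V cf z, R.pi w = 0 ∨ R.pi w = R.pi y → w ∈ V := by
    rintro w hw (e | e)
    · rcases (R.pi_ker w hw).mp e with e | e <;> rw [e]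
      · exact one_mem _
      · exact hz
    · rcases (R.pi_eq h hw hyW).mp e with e | e <;> rw [e]
      · exact hy
      · exact mul_mem hz hy
  have huinv : u⁻¹ = u := h.inv_ww hz hz1 huz
  have hjj : ∀ e ∈ jj V cf, e ∈ V ∨ e * u⁻¹ ∈ V := by
    intro e he
    have hez := Fam.jj_le (cf := cf) hz hz1 he
    have h1 : R.phi a • R.pi e = R.pi e := by
      rw [R.act a hac e hez, conj_eq_of_comm (h.comm hy hy1 a ha e (Fam.jj_le hy hy1 he))]
    rcases N.fix_a two h1 with e1 | e1 | e1 | e1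
    · exact Or.inl (hVof e hez (Or.inl e1))
    · right
      rw [huinv]
      exact hVof _ (mul_mem hez huz) (Or.inl (by rw [R.pi_mul e hez u huz, e1, hpu, two]))
    · right
      rw [huinv]
      refine hVof _ (mul_mem hez huz) (Or.inr ?_)
      rw [R.pi_mul e hez u huz, e1, hpu, N.vb, add_comm]
    · exact Or.inl (hVof e hez (Or.inr e1))
  -- `f`
  obtain ⟨f', hf', hfd'⟩ := R.phi_surj d2
  have hpow : ∀ c ∈ cf z, ∀ k : ℕ, R.phi (c ^ k) = R.phi c ^ k := by
    intro c hc k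
    exact map_pow R.hom ⟨c, hc⟩ k
  set f := f' ^ 4 with hfd
  have hf : f ∈ cf z := pow_mem hf' 4
  have hphif : R.phi f = d2 := by
    rw [hfd, hpow f' hf', hfd', pow_succ, N.c2, one_mul]
  have hfu : f * u = u * f := by
    have h1 : f' * u * f'⁻¹ = u ∨ f' * u * f'⁻¹ = z * u := by
      have h2 := R.act f' hf' u huz
      rw [hfd', hpu, N.f2, ← hpu] at h2
      exact (R.pi_eq h (conj_mem_wf hf' huz) huz).mp h2.symm
    have h2 : (f' * f') * u = u * (f' * f') := by
      rcases h1 with e | e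
      · have := comm_of_conj_eq e
        rw [mul_assoc, this, ← mul_assoc, this, mul_assoc]
      · refine comm_of_conj_eq ?_
        have hfz : f' * z * f'⁻¹ = z := conj_eq_of_comm (h.cf_comm hz hz1 hf')
        calc f' * f' * u * (f' * f')⁻¹ = f' * (f' * u * f'⁻¹) * f'⁻¹ := by group
          _ = f' * (z * u) * f'⁻¹ := by rw [e]
          _ = (f' * z * f'⁻¹) * (f' * u * f'⁻¹) := by group
          _ = (z * z) * u := by rw [hfz, e, mul_assoc]
          _ = u := by rw [h.ln.zz, one_mul]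
    have h3 : f = (f' * f') * (f' * f') := by
      rw [hfd]; simp only [pow_succ, pow_zero, one_mul, mul_assoc]
    rw [h3]
    exact mul_comm_of h2 h2
  set y2 := f * y * f⁻¹ with hy2
  have hy2W : y2 ∈ ww V cf z := conj_mem_wf hf hyW
  have hpy2 : R.pi y2 = b1 + d2 • b2 := by
    rw [hy2, ← R.act f hf y hyW, hphif, N.vb, smul_add, N.f2]
  have hy3W : f * y2 * f⁻¹ ∈ ww V cf z := conj_mem_wf hf hy2W
  have hpy3 : R.pi (f * y2 * f⁻¹) = b1 + d2 • d2 • b2 := by
    rw [← R.act f hf y2 hy2W, hphif, hpy2, smul_add, N.f2]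
  have hprod : y * y2 * (f * y2 * f⁻¹) = u ∨ y * y2 * (f * y2 * f⁻¹) = z * u := by
    refine (R.pi_eq h (mul_mem (mul_mem hyW hy2W) hy3W) huz).mp ?_
    rw [R.pi_mul _ (mul_mem hyW hy2W) _ hy3W, R.pi_mul y hyW _ hy2W, hpy2, hpy3, hpu, N.vb]
    have h1 : b1 + b2 + (b1 + d2 • b2) + (b1 + d2 • d2 • b2) =
        b1 + (b1 + b1) + (b2 + d2 • b2 + d2 • d2 • b2) := by abel
    rw [h1, two, N.s2, add_zero, add_zero]
  have hphib : ∀ b ∈ ww V cf y, b ∉ qq V cf z → R.phi b = R.phi a := by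
    intro b hb hbQ
    have h1 := hk y hy hy1 z hz hz1 hzy b hb a ha hbQ haQ
    rw [R.phi_eq (h.ww_le_cf' hy hy1 hz hz1 hb) hac, h.inv_ww hy hy1 ha]
    exact h1
  have hcmb : ∀ b ∈ ww V cf y, b ∉ qq V cf z → R.pi (y2 * b * y2⁻¹ * b⁻¹) = b2 := by
    intro b hb hbQ
    have hbc := h.ww_le_cf' hy hy1 hz hz1 hb
    have h1 := R.comm_eq h hbc hy2W
    rw [hphib b hb hbQ, hpy2, smul_add, N.fa1] at h1
    have h2 : b1 + R.phi a • d2 • b2 - (b1 + d2 • b2) = R.phi a • d2 • b2 - d2 • b2 := by abel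
    rw [h2, N.symm.comm_b1 two] at h1
    have h3 : y2 * b * y2⁻¹ * b⁻¹ = (b * y2 * b⁻¹ * y2⁻¹)⁻¹ := by group
    have h4 : b * y2 * b⁻¹ * y2⁻¹ ∈ ww V cf z := mul_mem (conj_mem_wf hbc hy2W) (inv_mem hy2W)
    rw [h3, R.pi_inv h h4, ← h1, Abs.neg_eq two]
  have hcmW : ∀ b ∈ ww V cf y, y2 * b * y2⁻¹ * b⁻¹ ∈ ww V cf z := by
    intro b hb
    exact (h.comm_mem hz hz1 hy hy1 hy2W hb).1
  have hP1 : ∀ b ∈ ww V cf y, b ∉ qq V cf z → y2 * b * y2⁻¹ * b⁻¹ = y * u ∨
      y2 * b * y2⁻¹ * b⁻¹ = z * (y * u) := by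
    intro b hb hbQ
    refine (R.pi_eq h (hcmW b hb) (mul_mem hyW huz)).mp ?_
    rw [hcmb b hb hbQ, hpyu]
  have hP2 : y2 ∉ qq V cf y := by
    intro hq
    have h1 := hcmb a ha haQ
    rcases h.qq_cases hy hq ha with e | e
    · rw [e, mul_inv_cancel, R.pi_one h] at h1
      exact N.symm.b1_ne h1.symm
    · rw [e, mul_assoc, mul_inv_cancel, mul_one] at h1
      exact hb2v h1.symm
  -- `Q_z` separates
  let X : AddSubgroup M :=
    { carrier := {m | ∃ w ∈ ww V cf z, R.pi w = m ∧ ∀ q ∈ qq V cf z, q * w = w * q}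
      zero_mem' := ⟨1, one_mem _, R.pi_one h, fun q _ => by rw [mul_one, one_mul]⟩
      add_mem' := by
        rintro _ _ ⟨w, hw, rfl, h1⟩ ⟨w', hw', rfl, h2⟩
        exact ⟨w * w', mul_mem hw hw', R.pi_mul w hw w' hw', fun q hq => comm_mul_of (h1 q hq) (h2 q hq)⟩
      neg_mem' := by
        rintro _ ⟨w, hw, rfl, h1⟩
        exact ⟨w⁻¹, inv_mem hw, R.pi_inv h hw, fun q hq => (inv_comm_of (h1 q hq).symm).symm⟩ }
  have hXinv : ∀ x : H, ∀ m ∈ X, x • m ∈ X := by
    rintro x _ ⟨w, hw, rfl, h1⟩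
    obtain ⟨c, hc, rfl⟩ := R.phi_surj x
    refine ⟨c * w * c⁻¹, conj_mem_wf hc hw, (R.act c hc w hw).symm, fun q hq => ?_⟩
    have h2 := h1 _ (conj_mem_of_normalizer' (h.cf_norm_qq hz hz1) hc hq)
    calc q * (c * w * c⁻¹) = c * ((c⁻¹ * q * c) * w) * c⁻¹ := by group
      _ = c * (w * (c⁻¹ * q * c)) * c⁻¹ := by rw [h2]
      _ = c * w * c⁻¹ * q := by group
  have hX0 : ∀ w ∈ ww V cf z, (∀ q ∈ qq V cf z, q * w = w * q) → R.pi w = 0 := by
    intro w hw hc
    by_contra hne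
    obtain ⟨w', hw', e, h1⟩ := N.irr two hXinv ⟨w, hw, rfl, hc⟩ hne
    obtain ⟨k, hk, hk1⟩ := h.exists_mover hz hz1
    have h2 := h.move hz hz1 hy hy1 hyz hk hk1
    have h3 : k * y = y * k := by
      rcases (R.pi_eq h hyW hw').mp e.symm with e1 | e1
      · rw [e1]; exact h1 k hk
      · rw [e1]
        exact comm_mul_of (h.qq_p hk) (h1 k hk)
    rw [conj_eq_of_comm h3] at h2
    exact hz1 (by simpa using h2.symm)
  have hsep : ∀ w ∈ ww V cf z, R.pi w ≠ 0 → ∃ q ∈ qq V cf z, q * w * q⁻¹ = z * w := by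
    intro w hw hne
    by_contra hcon
    push Not at hcon
    exact hne (hX0 w hw fun q hq => comm_of_conj_eq ((h.qq_cases hz hq hw).resolve_right (hcon q hq)))
  have hdual : ∀ w ∈ ww V cf z, w = 1 ∨ w = z ∨ w = u ∨ w = z * u ∨
      ∃ q ∈ qq V cf z, q * u = u * q ∧ q * w * q⁻¹ = z * w := by
    intro w hw
    by_cases h0 : R.pi w = 0
    · rcases (R.pi_ker w hw).mp h0 with e | e
      · exact Or.inl e
      · exact Or.inr (Or.inl e)
    by_cases h1 : R.pi w = R.pi u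
    · rcases (R.pi_eq h hw huz).mp h1 with e | e
      · exact Or.inr (Or.inr (Or.inl e))
      · exact Or.inr (Or.inr (Or.inr (Or.inl e)))
    right; right; right; right
    have hwu : w * u ∈ ww V cf z := mul_mem hw huz
    have h2 : R.pi (w * u) ≠ 0 := by
      rw [R.pi_mul w hw u huz]
      intro e
      apply h1
      have := eq_neg_of_add_eq_zero_left e
      rwa [Abs.neg_eq two] at this
    obtain ⟨q1, hq1, e1⟩ := hsep w hw h0
    obtain ⟨q2, hq2, e2⟩ := hsep (w * u) hwu h2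
    have e2' : (q2 * w * q2⁻¹) * (q2 * u * q2⁻¹) = z * (w * u) := by rw [← e2]; group
    rcases h.qq_cases hz hq1 huz with f1 | f1
    · exact ⟨q1, hq1, comm_of_conj_eq f1, e1⟩
    rcases h.qq_cases hz hq2 huz with f2 | f2
    · refine ⟨q2, hq2, comm_of_conj_eq f2, ?_⟩
      rw [f2] at e2'
      have e2'' : q2 * w * q2⁻¹ * u = z * w * u := by rw [e2', mul_assoc]
      exact mul_right_cancel e2''
    · -- `q1 q2`
      have hzu : z * u = u * z := h.comm hz hz1 z h.z_mem_ww u huz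
      have e3 : q2 * w * q2⁻¹ = w := by
        rcases h.qq_cases hz hq2 hw with e | e
        · exact e
        · exfalso
          rw [e, f2] at e2'
          have hzw : w * z = z * w := h.comm hz hz1 w hw z h.z_mem_ww
          have : z * w * (z * u) = w * u := by
            calc z * w * (z * u) = z * (w * z) * u := by group
              _ = (z * z) * w * u := by rw [hzw]; group
              _ = w * u := by rw [h.ln.zz, one_mul]
          rw [this] at e2'
          exact hz1 (by simpa using e2'.symm)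
      have hq1z : q1 * z * q1⁻¹ = z := conj_eq_of_comm (h.qq_p hq1)
      refine ⟨q1 * q2, mul_mem hq1 hq2, comm_of_conj_eq ?_, ?_⟩
      · calc q1 * q2 * u * (q1 * q2)⁻¹ = q1 * (q2 * u * q2⁻¹) * q1⁻¹ := by group
          _ = q1 * (z * u) * q1⁻¹ := by rw [f2]
          _ = (q1 * z * q1⁻¹) * (q1 * u * q1⁻¹) := by group
          _ = (z * z) * u := by rw [hq1z, f1, mul_assoc]
          _ = u := by rw [h.ln.zz, one_mul]
      · calc q1 * q2 * w * (q1 * q2)⁻¹ = q1 * (q2 * w * q2⁻¹) * q1⁻¹ := by group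
          _ = z * w := by rw [e3, e1]
  exact h.nine_core hy hy1 hyz huj huV hjj hf hfu hprod hP1 hP2 hdual hCV hKK h36

end Fam

end Cfsg.Agent.Omega.NO3S.Fit
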