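import Cfsg.Agent.Omega.NO3S.Fit.FinMain
import Cfsg.Agent.Omega.NO3S.Fit.NineDat
import Cfsg.Agent.Omega.NO3S.Fit.NineEnd
import Cfsg.Agent.Omega.NO3S.Fit.FourEnd

/-!
# NO-3S, `q = 2`, `n = 1` (helper311's text #13963), section 4: the type T9 is impossible

`nineDead : NineDead` : the hypothesis `NineDead` of `Fit/FinMain.lean` is a theorem.
-/

set_option autoImplicit false

namespace Cfsg.Agent.Omega.NO3S.Fit

open Subgroup Cfsg Cfsg.Agent.ZN Cfsg.Agent.MinSimple.Geo Cfsg.Agent.Omega.CaseL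

universe u

/-- **the type T9 is impossible** (#13963, section 4) -/
theorem nineDead : NineDead.{u} := by
  intro G _ _ T V z cf h M H _ _ _ _ _ _ R y hy hy1 hyz a d1 d2 b1 b2 N hu h36
  have hz := h.ln.z_mem
  have hz1 := h.ln.z_ne
  have hk : Fam.One1 V cf := by
    refine h.one1_of hy hy1 hz hz1 (Ne.symm hyz) fun w hw w' hw' hwQ hwQ' => ?_
    have hwc := h.ww_le_cf' hy hy1 hz hz1 hw
    have hwc' := h.ww_le_cf' hy hy1 hz hz1 hw'
    have hwwc := h.ww_le_cf' hy hy1 hz hz1 (mul_mem hw hw')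
    by_contra hcon
    have e1 := hu w hw hwQ
    have e2 := hu w' hw' hwQ'
    have e3 := hu (w * w') (mul_mem hw hw') hcon
    rw [R.phi_mul w hwc w' hwc', e1, e2] at e3
    apply hwQ
    rw [← R.phi_ker w hwc, e1]
    exact mul_eq_left.mp e3
  obtain ⟨u, hu1, hu2⟩ := h.exists_not_qq hy hy1 hz hz1 (Ne.symm hyz)
  have N' : Abs.NineA (R.pi y) (R.phi u) d1 d2 b1 b2 := by
    rw [hu u hu1 hu2]; exact N
  have D := dat_of_nine h hk hy hy1 hyz hu1 hu2 N'
  exact h.nine_false R hy hy1 hyz hk hu1 hu2 N' D.two D.kk_inf.le h36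

end Cfsg.Agent.Omega.NO3S.Fit
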