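import Cfsg.Agent.Omega.NO3S.Fit.FinMain

/-!
# NO-3S, `q = 2`, `n = 1` (helper311's text #13963): (3.6) for the subfamily of `H1`

`Fam.h36` : if the full stabilizer of `v0` is the only part of `H` which maps `v0` into `[M, a]` (of order 4), and if `C_{M1}(a)` lies
in `[M, a]` for the span `M1` of the `K`-orbit of `v0`, then `N_G(I') ≤ N_G(V)`, `I' = jj` of the subfamily of `K`.
-/

set_option autoImplicit false
set_option linter.unusedSectionVars false

namespace Cfsg.Agent.Omega.NO3S.Fit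

open Subgroup Cfsg Cfsg.Agent.ZN Cfsg.Agent.MinSimple.Geo Cfsg.Agent.Omega.CaseL
open Cfsg.Agent.ZN.Block (conj_mem_of_normalizer conj_mem_of_normalizer' le_normalizer_of_forall
  mem_normalizer_of)

universe u

variable {G : Type u} [Group G] {T V : Subgroup G} {z : G} {cf : G → Subgroup G}
variable {M H : Type u} [AddCommGroup M] [Group H] [DistribMulAction H M]

/-- the image in `M` of the intersection `I'` of the subfamily lies in `[M, a]` -/
theorem Fam.pi_jj_mem_br [Finite G] (h : Fam T V z cf) (R : MRep V cf z M H) {y : G} (hy : y ∈ V)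
    (hy1 : y ≠ 1) (hyz : y ≠ z) {w : G} (hw : w ∈ ww V cf y) {K : Subgroup H}
    (hK : ∀ x : H, x • R.pi y = R.pi y → x ∈ K)
    (hD : ∀ m ∈ spn K (R.pi y), R.phi w • m = m → m ∈ Abs.br M (R.phi w)) {e : G}
    (he : e ∈ jj V (subf V z (R.pre K))) : e ∈ ww V cf z ∧ R.pi e ∈ Abs.br M (R.phi w) := by
  have hz := h.ln.z_mem
  have hz1 := h.ln.z_ne
  have hC := R.le_pre h hy hy1 hyz hK
  have h1 : e ∈ wf V (R.pre K) := by
    have := he z hz hz1
    rwa [Fam.ww_subf hC] at this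
  obtain ⟨h2, h3⟩ := (R.mem_wf_pre h hy hy1 hyz K).mp h1
  have h4 : e ∈ ww V cf y := h.ww_subf_le hC (R.pre_le K) hy hy1 (he y hy hy1)
  refine ⟨h2, hD _ h3 ?_⟩
  rw [R.act w (h.ww_le_cf' hy hy1 hz hz1 hw) e h2, conj_eq_of_comm (h.comm hy hy1 w hw e h4)]

/-- **(3.6) for the subfamily of `K`** -/
theorem Fam.h36 [Finite G] (h : Fam T V z cf) (hcf : cf z = centralizer ({z} : Set G))
    (R : MRep V cf z M H) {y : G} (hy : y ∈ V) (hy1 : y ≠ 1) (hyz : y ≠ z) {w : G} (hw : w ∈ ww V cf y)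
    (hm : ∀ x : H, x • R.pi y ∈ Abs.br M (R.phi w) → x • R.pi y = R.pi y)
    (h4 : Nat.card (Abs.br M (R.phi w)) = 4) {K : Subgroup H}
    (hK : ∀ x : H, x • R.pi y = R.pi y → x ∈ K) (h' : Fam T V z (subf V z (R.pre K)))
    (hD : ∀ m ∈ spn K (R.pi y), R.phi w • m = m → m ∈ Abs.br M (R.phi w)) :
    ∀ g ∈ normalizer ((jj V (subf V z (R.pre K)) : Subgroup G) : Set G), g ∈ normalizer (V : Set G) := by
  have hz := h.ln.z_mem
  have hz1 := h.ln.z_ne
  have hbr : ∀ e ∈ jj V (subf V z (R.pre K)), e ∈ ww V cf z ∧ R.pi e ∈ Abs.br M (R.phi w) :=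
    fun e he => h.pi_jj_mem_br R hy hy1 hyz hw hK hD he
  intro g hg
  have hVJ : ∀ v ∈ V, g * v * g⁻¹ ∈ jj V (subf V z (R.pre K)) := fun v hv =>
    conj_mem_of_normalizer (le_refl _) hg (h'.V_le_jj hv)
  -- `V` meets `V^g`
  obtain ⟨q, hq, hq1, hp⟩ : ∃ q ∈ V, q ≠ 1 ∧ g * q * g⁻¹ ∈ V := by
    by_contra hcon
    push Not at hcon
    have : Finite (Abs.br M (R.phi w)) := Nat.finite_of_card_ne_zero (by omega)
    let f : V → Abs.br M (R.phi w) := fun v => ⟨R.pi (g * v * g⁻¹), (hbr _ (hVJ v v.2)).2⟩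
    have hinj : Function.Injective f := by
      intro a b hab
      have e1 : R.pi (g * a * g⁻¹) = R.pi (g * b * g⁻¹) := congrArg Subtype.val hab
      rw [R.pi_eq h (hbr _ (hVJ a a.2)).1 (hbr _ (hVJ b b.2)).1] at e1
      have e2 : g * ((a : G) * (b : G)⁻¹) * g⁻¹ ∈ V := by
        rcases e1 with e1 | e1
        · have e3 : g * ((a : G) * (b : G)⁻¹) * g⁻¹ = (g * a * g⁻¹) * (g * b * g⁻¹)⁻¹ := by group
          rw [e3, e1, mul_inv_cancel]; exact one_mem _
        · have e3 : g * ((a : G) * (b : G)⁻¹) * g⁻¹ = (g * a * g⁻¹) * (g * b * g⁻¹)⁻¹ := by group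
          rw [e3, e1, mul_assoc, mul_inv_cancel, mul_one]; exact hz
      by_contra hne
      refine hcon _ (mul_mem a.2 (inv_mem b.2)) ?_ e2
      intro e3
      exact hne (Subtype.ext (mul_inv_eq_one.mp e3))
    have hcard : Nat.card V = Nat.card (Abs.br M (R.phi w)) := by
      rw [h4]; exact h.ln.card_V
    have hsurj : Function.Surjective f :=
      ((Nat.bijective_iff_injective_and_card f).mpr ⟨hinj, hcard⟩).2
    obtain ⟨v, hv⟩ := hsurj ⟨R.pi y, (hbr _ (h'.V_le_jj hy)).2⟩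
    have e1 : R.pi (g * v * g⁻¹) = R.pi y := congrArg Subtype.val hv
    have hv1 : (v : G) ≠ 1 := by
      intro e2
      rw [e2] at e1
      have e3 : g * 1 * g⁻¹ = 1 := by group
      rw [e3, R.pi_one h] at e1
      exact R.v0_ne h hy hy1 hyz e1.symm
    refine hcon v v.2 hv1 ?_
    rcases (R.pi_eq h (hbr _ (hVJ v v.2)).1 (h.V_le hy)).mp e1 with e2 | e2
    · rw [e2]; exact hy
    · rw [e2]; exact mul_mem hz hy
  set p := g * q * g⁻¹ with hpd
  have hp1 : p ≠ 1 := Fam.conj_ne hq1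
  obtain ⟨m, hmN, em⟩ := h.ln.trans p hp hp1
  obtain ⟨n, hnN, en⟩ := h.ln.trans q hq hq1
  have hNJ := h'.normalizer_le_normalizer_jj
  set c := m⁻¹ * g * n with hc
  have hcz : c * z * c⁻¹ = z := by
    calc c * z * c⁻¹ = m⁻¹ * (g * (n * z * n⁻¹) * g⁻¹) * m := by rw [hc]; group
      _ = m⁻¹ * p * m := by rw [en]
      _ = z := by rw [← em]; group
  have hcJ : c ∈ normalizer ((jj V (subf V z (R.pre K)) : Subgroup G) : Set G) :=
    mul_mem (mul_mem (inv_mem (hNJ hmN)) hg) (hNJ hnN)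
  have hccf : c ∈ cf z := by
    rw [hcf, mem_centralizer_singleton_iff]
    exact comm_of_conj_eq hcz
  have h5 : R.phi c • R.pi y ∈ Abs.br M (R.phi w) := by
    rw [R.act c hccf y (h.V_le hy)]
    exact (hbr _ (conj_mem_of_normalizer (le_refl _) hcJ (h'.V_le_jj hy))).2
  have h6 : c ∈ normalizer (V : Set G) := (R.smul_v0_iff h hy hy1 hyz hccf).mp (hm _ h5)
  have e : g = m * c * n⁻¹ := by rw [hc]; group
  rw [e]
  exact mul_mem (mul_mem hmN h6) (inv_mem hnN)

/-- `Sub36` of FinMain.lean -/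
theorem sub36 : Sub36.{u} := by
  intro G _ _ T V z cf h hcf M H _ _ _ _ _ _ R y hy hy1 hyz w hw hm h4 K hK h' hD
  exact h.h36 hcf R hy hy1 hyz hw hm h4 hK h' hD

end Cfsg.Agent.Omega.NO3S.Fit
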