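import Cfsg.Agent.Omega.NO3S.Fit.FinP
import Cfsg.Agent.Omega.NO3S.Fit.NineDead
import Cfsg.Agent.Omega.NO3S.Fit.Nsix

/-!
# NO-3S, `q = 2`, `n = 1` (helper311's text #13963): the node `FitP`
-/

set_option autoImplicit false

namespace Cfsg.Agent.Omega.NO3S.Fit

open Cfsg Cfsg.Agent.Omega.MinPar Cfsg.Agent.Omega.Frame Cfsg.Agent.Omega.FrameNOFF

universe u

/-- **`FitP` holds** -/
theorem fitP (K : Cls.{u}) : TwoOne.FitP K := fitP_of nineDead sub36 K

end Cfsg.Agent.Omega.NO3S.Fit
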