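import Cfsg.Agent.Omega.NO3S.Fit.Char
import Cfsg.Agent.Omega.NO3S.Fit.KCard
import Cfsg.Agent.Omega.TitsAmal.TriTen

/-!
# NO-3S, `q = 2`, `n = 1` (helper311's text #13963), section 4 for the type `T5`

A family of the type `T5` (`|M| = 16`, `H = ⟨d⟩ Stab(v0)`, `d` of order 5) is a configuration `TitsAmal.Tri`, with the
absence of `N_G(V)`-fixed involutions (`Fam.no_fix`) in place of `C p = C_G(p)`.

* `MRep.tri_five` : `Tri V (ww V cf) cf`;
* `MRep.card_kk_five` : `|K_z| ≤ 64` (in fact 32 or 64);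
* `MRep.kk_inf_five`, `MRep.card_jj_five` : `K_z ∩ K_y = E`, `|E| = 8`.
-/

set_option autoImplicit false
set_option linter.unusedSectionVars false

namespace Cfsg.Agent.Omega.NO3S.Fit

open Subgroup Cfsg Cfsg.Agent.ZN Cfsg.Agent.MinSimple.Geo Cfsg.Agent.Omega.CaseL
open Cfsg.Agent.Omega.TitsAmal.Tri (Pt kst cj_kst)
open Cfsg.Agent.Omega.TitsAmal (Tri)
open Cfsg.Agent.ZN.Block (conj_mem_of_normalizer conj_mem_of_normalizer' le_normalizer_of_forall
  mem_normalizer_of)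

universe u

namespace Abs

variable {H M : Type*} [Group H] [AddCommGroup M] [DistribMulAction H M]

/-- `|H|` is 10 or 20 -/
theorem card_ten_or_twenty [Finite M] [Finite H] [FaithfulSMul H M] (two : ∀ m : M, m + m = 0)
    (hM : Nat.card M = 16) {a d : H} (ha : a * a = 1) (ha1 : a ≠ 1) (hd : d ^ 5 = 1) (hd1 : d ≠ 1)
    {v0 : M} (hv0 : v0 ≠ 0) (gen : ∀ x : H, ∃ i : ℕ, ∃ h0 : H, h0 • v0 = v0 ∧ x = d ^ i * h0)
    (nd : ∀ h0 : H, h0 • v0 = v0 → ∃ i : ℕ, h0 * d * h0⁻¹ = d ^ i) :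
    Nat.card H = 10 ∨ Nat.card H = 20 := by
  classical
  have hod : orderOf d = 5 := by
    have h1 : orderOf d ∣ 5 := orderOf_dvd_of_pow_eq_one hd
    rcases (Nat.dvd_prime (by norm_num)).mp h1 with e | e
    · exact absurd (orderOf_eq_one_iff.mp e) hd1
    · exact e
  have hDn : (zpowers d).Normal := by
    refine ⟨fun x hx g => ?_⟩
    obtain ⟨n, rfl⟩ := mem_zpowers_iff.mp hx
    obtain ⟨i, h0, hh, rfl⟩ := gen g
    obtain ⟨j, hj⟩ := nd h0 hh
    have e : d ^ i * h0 * d ^ n * (d ^ i * h0)⁻¹ = d ^ i * (h0 * d * h0⁻¹) ^ n * (d ^ i)⁻¹ := by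
      rw [conj_zpow]; group
    rw [e, hj]
    exact mul_mem (mul_mem (pow_mem (mem_zpowers d) _) (zpow_mem (pow_mem (mem_zpowers d) _) _))
      (inv_mem (pow_mem (mem_zpowers d) _))
  let φ : H →* MulAut (zpowers d) := MulAut.conjNormal
  have hker : φ.ker = zpowers d := by
    ext x
    rw [MonoidHom.mem_ker]
    constructor
    · intro hx
      have h1 : x * d * x⁻¹ = d := by
        have := congrArg (fun f : MulAut (zpowers d) => ((f ⟨d, mem_zpowers d⟩ : zpowers d) : H)) hx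
        simpa [φ] using this
      obtain ⟨i, h0, hh, rfl⟩ := gen x
      have h2 : h0 * d = d * h0 := by
        have h3 : d ^ i * h0 * d = d * (d ^ i * h0) := mul_inv_eq_iff_eq_mul.mp h1
        have h4 : d ^ i * (h0 * d) = d ^ i * (d * h0) := by
          rw [← mul_assoc, h3, ← mul_assoc, ← mul_assoc, ← pow_succ, ← pow_succ']
        exact mul_left_cancel h4
      rw [cent_semireg two hd hd1 hM h2 hh hv0, mul_one]
      exact pow_mem (mem_zpowers d) _
    · intro hx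
      obtain ⟨n, rfl⟩ := mem_zpowers_iff.mp hx
      ext ⟨y, hy⟩
      obtain ⟨m, rfl⟩ := mem_zpowers_iff.mp hy
      change d ^ n * d ^ m * (d ^ n)⁻¹ = d ^ m
      rw [← zpow_add, add_comm, zpow_add, mul_inv_cancel_right]
  have h1 : Nat.card φ.range ∣ 4 := by
    have h2 : Nat.card (MulAut (zpowers d)) = 4 := by
      rw [IsCyclic.card_mulAut, Nat.card_zpowers, hod]; decide
    rw [← h2]
    exact Subgroup.card_subgroup_dvd_card _
  have h3 := φ.ker.card_mul_index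
  rw [index_ker, hker, Nat.card_zpowers, hod] at h3
  have h4 : 2 ∣ Nat.card H := by
    have h5 : orderOf a = 2 := orderOf_eq_prime (by rw [pow_two]; exact ha) ha1
    rw [← h5]; exact orderOf_dvd_natCard a
  have h6 := Nat.le_of_dvd (by norm_num) h1
  have h7 : 0 < Nat.card φ.range := Nat.card_pos
  interval_cases h8 : Nat.card φ.range
  · omega
  · left; omega
  · omega
  · right; omega

end Abs

variable {G : Type u} [Group G] {T V : Subgroup G} {z : G} {cf : G → Subgroup G}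
variable {M H : Type u} [AddCommGroup M] [Group H] [DistribMulAction H M]

/-- `Q_p` as `kst` -/
theorem Fam.kst_eq (_ : Fam T V z cf) (p : G) :
    kst (cf p) (ww V cf p) p = qq V cf p := by
  ext c
  constructor
  · rintro ⟨h0, h1, h2, -⟩
    exact ⟨h0, h1, h2⟩
  · intro hc
    have hci := inv_mem hc
    refine ⟨hc.1, hc.2.1, hc.2.2, fun w hw => ?_⟩
    have := hci.2.2 w hw
    rwa [inv_inv] at this

namespace MRep

variable [Finite G] [Finite M] [Finite H] [FaithfulSMul H M] (R : MRep V cf z M H)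
    (h : Fam T V z cf) {y : G} (hy : y ∈ V) (hy1 : y ≠ 1) (hyz : y ≠ z)
    (card : Nat.card M = 16) {d : H} (d5 : d ^ 5 = 1) (fd : ∀ m : M, d • m = m → m = 0)
    (gen : ∀ x : H, ∃ i : ℕ, ∃ h0 : H, h0 • R.pi y = R.pi y ∧ x = d ^ i * h0)
    (nd : ∀ h0 : H, h0 • R.pi y = R.pi y → ∃ i : ℕ, h0 * d * h0⁻¹ = d ^ i)

include h

include R in
/-- `|C_z / Q_z| = |H|` -/
theorem relIndex_qq : (qq V cf z).relIndex (cf z) = Nat.card H := by
  have h1 : R.hom.ker = (qq V cf z).subgroupOf (cf z) := by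
    ext c
    rw [MonoidHom.mem_ker, mem_subgroupOf]
    exact R.phi_ker c c.2
  rw [relIndex, ← h1, index_ker, MonoidHom.range_eq_top.mpr (R.hom_surj h), Subgroup.card_top]

include hy hy1 hyz card d5 fd gen nd

theorem card_H_five : Nat.card H = 10 ∨ Nat.card H = 20 := by
  have hz := h.ln.z_mem
  have hz1 := h.ln.z_ne
  have hv0 : R.pi y ≠ 0 := R.v0_ne h hy hy1 hyz
  have hd1 : d ≠ 1 := by
    rintro rfl
    exact hv0 (fd _ (one_smul _ _))
  obtain ⟨w, hw, hwz⟩ := h.exists_not_qq hy hy1 hz hz1 (Ne.symm hyz)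
  have hwc := h.ww_le_cf' hy hy1 hz hz1 hw
  refine Abs.card_ten_or_twenty (R.two h) card (R.sq_A h hy hy1 hw) (fun e => hwz ((R.phi_ker w hwc).mp e))
    d5 hd1 hv0 gen nd

/-- **a family of the type `T5` is a configuration `Tri`** -/
theorem tri_five : Tri V (ww V cf) cf where
  cardV := h.ln.card_V
  sqV := h.ln.sq
  cardU p hp := by
    obtain ⟨g, hg, rfl, -⟩ := h.point hp.1 hp.2
    rw [← h.cj_ww hg h.ln.z_mem h.ln.z_ne, card_cj, R.card_ww h, card]
  sqU p hp := h.sq hp.1 hp.2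
  V_le p _ := h.V_le
  C_le p hp := h.le p hp.1 hp.2
  C_norm p _ := h.cf_norm
  le_C p hp := h.ge p hp.1 hp.2
  sym p q p' q' hp hq hpq hp' hq' hpq' :=
    h.trans2 hp.1 hp.2 hq.1 hq.2 (Ne.symm hpq) hp'.1 hp'.2 hq'.1 hq'.2 (Ne.symm hpq')
  conjU n hn p hp := h.cj_ww hn hp.1 hp.2
  conjC n hn p hp := h.cj_cf n hn p hp.1 hp.2
  idx p hp := by
    obtain ⟨g, hg, rfl, -⟩ := h.point hp.1 hp.2
    rw [h.kst_eq _, ← h.cj_qq hg h.ln.z_mem h.ln.z_ne, ← h.cj_cf g hg z h.ln.z_mem h.ln.z_ne,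
      relIndex_cj, R.relIndex_qq h]
    exact R.card_H_five h hy hy1 hyz card d5 fd gen nd
  nc p q hp hq hpq := h.nc' hp.1 hp.2 hq.1 hq.2 (Ne.symm hpq)
  nonloc p hp A hA h1 h2 := by
    obtain ⟨g, hg, rfl, h'⟩ := h.point hp.1 hp.2
    exact h'.nl hA h2 h1
  alt := Or.inl fun f _ hf2 hf => h.no_fix hf2 hf
  char2 p hp := h.char2 hp.1 hp.2

/-- **`|K_z| ≤ 64`** -/
theorem card_kk_five : Nat.card (kk V cf z) ≤ 64 := by
  have ht := R.tri_five h hy hy1 hyz card d5 fd gen nd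
  rcases Cfsg.Agent.Omega.TitsAmal.TriTen.card_K ht ⟨h.ln.z_mem, h.ln.z_ne⟩ with e | e
  · exact e.le.trans (by norm_num)
  · exact e.le

theorem kk_inf_five : kk V cf z ⊓ kk V cf y ≤ jj V cf := by
  have ht := R.tri_five h hy hy1 hyz card d5 fd gen nd
  have h1 := Cfsg.Agent.Omega.TitsAmal.TriTen.K_inf_K ht ⟨h.ln.z_mem, h.ln.z_ne⟩ ⟨hy, hy1⟩ (Ne.symm hyz)
  intro x hx
  have hx' : x ∈ ww V cf z ⊓ ww V cf y := by rw [← h1]; exact hx
  exact h.mem_jj h.ln.z_mem h.ln.z_ne hy hy1 hyz hx'.1 hx'.2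

theorem card_jj_five : Nat.card (jj V cf) = 8 := by
  have ht := R.tri_five h hy hy1 hyz card d5 fd gen nd
  have h1 := Cfsg.Agent.Omega.TitsAmal.TriAct.card_E ht ⟨h.ln.z_mem, h.ln.z_ne⟩ ⟨hy, hy1⟩ (Ne.symm hyz)
  have h2 : jj V cf = ww V cf z ⊓ ww V cf y := by
    refine le_antisymm (le_inf (Fam.jj_le h.ln.z_mem h.ln.z_ne) (Fam.jj_le hy hy1)) fun x hx => ?_
    exact h.mem_jj h.ln.z_mem h.ln.z_ne hy hy1 hyz hx.1 hx.2
  rw [h2]
  exact h1

end MRep

end Cfsg.Agent.Omega.NO3S.Fit
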