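import Cfsg.Agent.Omega.NO3S.Fit.Fam

/-!
# NO-3S, `q = 2`, `n = 1` (helper311's text #13963): sections 0 and 1 (LEMMA FIX)

* `Fam.T_max` : `T` is a Sylow 2-subgroup of `G`;
* `Fam.nl` (NL) : no 2-group `≠ 1` is normalized by `N_G(V)` and `cf z`;
* `Fam.soc0` (0.4) : `Ω₁ Z(C_T(V)) = V`;
* `Fam.exists_norm` : `N_{N_G(V)}(C_T(V))` is transitive on the ordered pairs of points;
* `Fam.fix` : LEMMA FIX;
* `Fam.four_of` (1.2), `Fam.no_fix` (1.3).
-/

set_option autoImplicit false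
set_option linter.unusedSectionVars false

namespace Cfsg.Agent.Omega.NO3S.Fit

open Subgroup Cfsg Cfsg.Agent.ZN Cfsg.Agent.MinSimple.Geo Cfsg.Agent.Omega.CaseL
open Cfsg.Agent.ZN.Block (conj_mem_of_normalizer conj_mem_of_normalizer' le_normalizer_of_forall
  mem_normalizer_of)

universe u

variable {G : Type u} [Group G]

namespace Fam

variable {T V : Subgroup G} {z : G} {cf : G → Subgroup G}

/-- two points can be moved to any two points -/
theorem trans2 (h : Fam T V z cf) {p q p' q' : G} (hp : p ∈ V) (hp1 : p ≠ 1) (hq : q ∈ V) (hq1 : q ≠ 1)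
    (hqp : q ≠ p) (hp' : p' ∈ V) (hp1' : p' ≠ 1) (hq' : q' ∈ V) (hq1' : q' ≠ 1)
    (hqp' : q' ≠ p') : ∃ g ∈ normalizer (V : Set G), g * p * g⁻¹ = p' ∧ g * q * g⁻¹ = q' := by
  obtain ⟨a, ha, ha1, -⟩ := h.point hp hp1
  obtain ⟨b, hb, hb1, -⟩ := h.point hp' hp1'
  set g := b * a⁻¹ with hg
  have hgV : g ∈ normalizer (V : Set G) := mul_mem hb (inv_mem ha)
  have hgp : g * p * g⁻¹ = p' := by
    rw [hg, ← ha1, ← hb1]; group
  have hgq := h.conj_pt hgV hq
  have hgq1 : g * q * g⁻¹ ≠ 1 := conj_ne hq1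
  have hgqp : g * q * g⁻¹ ≠ p' := by
    intro e
    rw [← hgp] at e
    exact hqp (by simpa using e)
  rcases h.ln.four hp' hq' hp1' hq1' (Ne.symm hqp') hgq with e | e | e | e
  · exact absurd e hgq1
  · exact absurd e hgqp
  · exact ⟨g, hgV, hgp, e⟩
  · obtain ⟨k, hk, hk1⟩ := h.exists_mover hp' hp1'
    have e1 := h.move hp' hp1' hq' hq1' hqp' hk hk1
    have hkp := conj_eq_of_comm (h.qq_p hk)
    refine ⟨k * g, mul_mem (h.qq_le_normalizer hp' hk) hgV, ?_, ?_⟩
    · calc k * g * p * (k * g)⁻¹ = k * (g * p * g⁻¹) * k⁻¹ := by group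
        _ = p' := by rw [hgp, hkp]
    · calc k * g * q * (k * g)⁻¹ = k * (g * q * g⁻¹) * k⁻¹ := by group
        _ = (k * p' * k⁻¹) * (k * q' * k⁻¹) := by rw [e]; group
        _ = p' * p' * q' := by rw [hkp, e1]; group
        _ = q' := by rw [h.ln.sq p' hp', one_mul]

/-- `[W_p, W_q] ≠ 1` for all pairs of points -/
theorem nc' (h : Fam T V z cf) {p q : G} (hp : p ∈ V) (hp1 : p ≠ 1) (hq : q ∈ V) (hq1 : q ≠ 1)
    (hqp : q ≠ p) : ∃ a ∈ ww V cf p, ∃ b ∈ ww V cf q, a * b ≠ b * a := by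
  obtain ⟨y, hy, hy1, hyz, a, ha, b, hb, hab⟩ := h.nc
  obtain ⟨g, hg, rfl, rfl⟩ := h.trans2 h.ln.z_mem h.ln.z_ne hy hy1 hyz hp hp1 hq hq1 hqp
  refine ⟨_, h.conj_ww hg h.ln.z_mem h.ln.z_ne ha, _, h.conj_ww hg hy hy1 hb, fun e => hab ?_⟩
  calc a * b = g⁻¹ * ((g * a * g⁻¹) * (g * b * g⁻¹)) * g := by group
    _ = g⁻¹ * ((g * b * g⁻¹) * (g * a * g⁻¹)) * g := by rw [e]
    _ = b * a := by group

section fin

variable [Finite G]

/-- a 2-group containing `T` is `T` -/
theorem T_max (h : Fam T V z cf) {P : Subgroup G} (hP : IsPGroup 2 P) (hT : T ≤ P) : P ≤ T := by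
  have : Fact (Nat.Prime 2) := ⟨Nat.prime_two⟩
  by_contra hne
  -- `N_P(T) > T`
  have hlt : T.subgroupOf P < ⊤ := by
    refine lt_of_le_of_ne le_top fun e => hne ?_
    exact subgroupOf_eq_top.mp e
  have : Group.IsNilpotent P := hP.isNilpotent
  have h1 := Group.normalizerCondition_of_isNilpotent (G := P) _ hlt
  obtain ⟨x, hx, hxT⟩ := SetLike.exists_of_lt h1
  have hxn : (x : G) ∈ normalizer (T : Set G) := by
    rw [mem_normalizer_iff] at hx ⊢
    intro t
    constructor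
    · intro ht
      have := (hx ⟨t, hT ht⟩).mp (mem_subgroupOf.mpr ht)
      exact mem_subgroupOf.mp this
    · intro ht
      have h2 : (x : G) * t * (x : G)⁻¹ ∈ P := hT ht
      have h3 : t ∈ P := by
        have := mul_mem (mul_mem (inv_mem x.2) h2) x.2
        have e : (x : G)⁻¹ * (x * t * (x : G)⁻¹) * x = t := by group
        rwa [e] at this
      have := (hx ⟨t, h3⟩).mpr (mem_subgroupOf.mpr ht)
      exact mem_subgroupOf.mp this
  -- `x` centralizes `z`
  have hxz : (x : G) * z = z * x := by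
    have hzT : z ∈ T := h.ln.V_le h.ln.z_mem
    have h2 : (x : G) * z * (x : G)⁻¹ ∈ T := (mem_normalizer_iff.mp hxn z).mp hzT
    have h3 : (x : G) * z * (x : G)⁻¹ * (x * z * (x : G)⁻¹) = 1 := by
      calc (x : G) * z * (x : G)⁻¹ * (x * z * (x : G)⁻¹) = x * (z * z) * (x : G)⁻¹ := by group
        _ = 1 := by rw [h.ln.zz]; group
    rcases h.ln.soc _ h2 h3 (fun s hs => by
      have hs' : (x : G)⁻¹ * s * x ∈ T := (mem_normalizer_iff''.mp hxn s).mp hs
      have := h.ln.z_comm (h.ln.T_le hs')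
      calc s * (x * z * (x : G)⁻¹) = x * ((x : G)⁻¹ * s * x * z) * (x : G)⁻¹ := by group
        _ = x * (z * ((x : G)⁻¹ * s * x)) * (x : G)⁻¹ := by rw [this]
        _ = x * z * (x : G)⁻¹ * s := by group) with e | e
    · exact absurd e (conj_ne h.ln.z_ne)
    · exact comm_of_conj_eq e
  have hxC : (x : G) ∈ centralizer ({z} : Set G) := mem_centralizer_singleton_iff.mpr hxz
  -- `⟨T, x⟩` is a 2-subgroup of `C_G(z)`
  have hle : T ⊔ zpowers (x : G) ≤ P := sup_le hT ((zpowers_le).mpr x.2)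
  have hle' : T ⊔ zpowers (x : G) ≤ centralizer ({z} : Set G) := sup_le h.ln.T_le ((zpowers_le).mpr hxC)
  obtain ⟨c, hc, hcT⟩ := exists_cj_le_of_sylow h.ln.T_le h.ln.two h.ln.T_syl hle' (hP.to_le hle)
  have h4 : Nat.card ↥(T ⊔ zpowers (x : G)) ≤ Nat.card T := by
    rw [← card_cj c]; exact card_le_of_le hcT
  have h5 : T = T ⊔ zpowers (x : G) := eq_of_le_of_card_ge le_sup_left h4
  apply hxT
  rw [mem_subgroupOf, h5]
  exact mem_sup_right (mem_zpowers _)

/-- a 2-subgroup normalized by `T` is in `T` -/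
theorem le_T (h : Fam T V z cf) {R : Subgroup G} (hR : IsPGroup 2 R) (hn : T ≤ normalizer (R : Set G)) :
    R ≤ T := by
  have h1 : IsPGroup 2 ↥(R ⊔ T) := hR.to_sup_of_normal_left' h.ln.two hn
  exact le_sup_left.trans (h.T_max h1 le_sup_right)

theorem two_ww (h : Fam T V z cf) {p : G} (hp : p ∈ V) (hp1 : p ≠ 1) : IsPGroup 2 (ww V cf p) := by
  intro a
  refine ⟨1, Subtype.ext ?_⟩
  have := h.sq hp hp1 a a.2
  simpa [pow_two] using this

theorem ww_le_T (h : Fam T V z cf) : ww V cf z ≤ T :=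
  h.le_T (h.two_ww h.ln.z_mem h.ln.z_ne) (h.T_le_cf.trans h.cf_norm)

/-- (NL) -/
theorem nl (h : Fam T V z cf) {R : Subgroup G} (hR : IsPGroup 2 R) (h1 : normalizer (V : Set G) ≤ normalizer (R : Set G))
    (h2 : cf z ≤ normalizer (R : Set G)) : R = ⊥ := by
  by_contra hne
  set L := normalizer (R : Set G) with hL
  have hTL : T ≤ L := h.ln.T_norm.trans h1
  have hloc : IsTwoLocal L := ⟨R, hR, hne, rfl⟩
  have ho2 : IsPGroup 2 (o2 L) := isPGroup_o2 L
  have hoT : o2 L ≤ T := h.le_T ho2 (hTL.trans (le_normalizer_o2 L))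
  have hzo : z ∈ o2 L := by
    refine inf_centralizer_o2_le h.ln.charTwo hloc ⟨hTL (h.ln.V_le h.ln.z_mem), ?_⟩
    exact mem_centralizer_iff.mpr fun t ht => h.ln.z_comm (h.ln.T_le (hoT ht))
  -- `U = Z(O₂(L))` contains all `L`-conjugates of `z`
  let U : Subgroup G := o2 L ⊓ centralizer ((o2 L : Subgroup G) : Set G)
  have hUn : L ≤ normalizer (U : Set G) := by
    refine le_normalizer_of_forall fun g hg u hu => ?_
    exact ⟨conj_mem_of_normalizer (le_normalizer_o2 L) hg hu.1,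
      conj_mem_of_normalizer ((le_normalizer_o2 L).trans (normalizer_le_normalizer_centralizer _)) hg hu.2⟩
  have hzU : z ∈ U := by
    refine ⟨hzo, ?_⟩
    exact mem_centralizer_iff.mpr fun t ht => h.ln.z_comm (h.ln.T_le (hoT ht))
  have hVU : V ≤ U := by
    intro v hv
    by_cases hv1 : v = 1
    · rw [hv1]; exact one_mem _
    obtain ⟨g, hg, rfl⟩ := h.ln.trans v hv hv1
    exact conj_mem_of_normalizer hUn (h1 hg) hzU
  have hWU : ww V cf z ≤ U := by
    refine wf_le fun c hc x hx => ?_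
    rw [mem_cj] at hx
    have := conj_mem_of_normalizer hUn (h2 hc) (hVU hx)
    have e : c * (c⁻¹ * x * c) * c⁻¹ = x := by group
    rwa [e] at this
  obtain ⟨y, hy, hy1, hyz, a, ha, b, hb, hab⟩ := h.nc
  obtain ⟨g, hg, hgy⟩ := h.ln.trans y hy hy1
  have hbU : b ∈ U := by
    rw [← hgy, ← h.cj_ww hg h.ln.z_mem h.ln.z_ne, mem_cj] at hb
    have := conj_mem_of_normalizer hUn (h1 hg) (hWU hb)
    have e : g * (g⁻¹ * b * g) * g⁻¹ = b := by group
    rwa [e] at this
  exact hab ((mem_centralizer_iff.mp hbU.2 a (hWU ha).1))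

/-- the elements of `T` which centralize `V` form a subgroup of index 2, a mover in `T` squares into it -/
theorem exists_mover_T (h : Fam T V z cf) : ∃ q ∈ T, q ∈ qq V cf z ∧ q ∉ centralizer (V : Set G) ∧
    ∀ t ∈ T, t ∉ centralizer (V : Set G) → t * q⁻¹ ∈ centralizer (V : Set G) := by
  obtain ⟨q, hq, hq1, hq2⟩ := h.f1
  refine ⟨q, hq, hq1, hq2, fun t ht ht1 => ?_⟩
  exact h.coset_of h.ln.z_mem h.ln.z_ne (h.ln.T_norm hq) (h.ln.z_comm (h.ln.T_le hq)) hq2 (h.ln.T_norm ht)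
    (h.ln.z_comm (h.ln.T_le ht)) ht1

/-- (0.4): `Ω₁ Z(C_T(V)) = V` -/
theorem soc0 (h : Fam T V z cf) {f : G} (hf : f ∈ T) (hfV : f ∈ centralizer (V : Set G)) (hf2 : f * f = 1)
    (hc : ∀ t ∈ T, t ∈ centralizer (V : Set G) → t * f = f * t) : f ∈ V := by
  obtain ⟨q, hq, hq1, hq2, hq3⟩ := h.exists_mover_T
  have hz := h.ln.z_mem
  have hz1 := h.ln.z_ne
  -- `f f^q` is fixed by `T`
  have hcoset : ∀ t ∈ T, t ∉ centralizer (V : Set G) → t * f * t⁻¹ = q * f * q⁻¹ := by
    intro t ht ht1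
    have h1 := hq3 t ht ht1
    have h2 := hc _ (mul_mem ht (inv_mem hq)) h1
    -- `t = d q`
    have hqf : q * f * q⁻¹ ∈ T := mul_mem (mul_mem hq hf) (inv_mem hq)
    have h3 : ∀ d ∈ T, d ∈ centralizer (V : Set G) → d * (q * f * q⁻¹) = (q * f * q⁻¹) * d := by
      intro d hd hd1
      have hd' : q⁻¹ * d * q ∈ T := mul_mem (mul_mem (inv_mem hq) hd) hq
      have hd1' : q⁻¹ * d * q ∈ centralizer (V : Set G) :=
        conj_mem_of_normalizer' (normalizer_le_normalizer_centralizer V) (h.ln.T_norm hq) hd1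
      have := hc _ hd' hd1'
      calc d * (q * f * q⁻¹) = q * (q⁻¹ * d * q * f) * q⁻¹ := by group
        _ = q * (f * (q⁻¹ * d * q)) * q⁻¹ := by rw [this]
        _ = (q * f * q⁻¹) * d := by group
    have h4 := h3 _ (mul_mem ht (inv_mem hq)) h1
    calc t * f * t⁻¹ = (t * q⁻¹) * (q * f * q⁻¹) * (t * q⁻¹)⁻¹ := by group
      _ = q * f * q⁻¹ := by rw [h4]; group
  have hfq : q * f * q⁻¹ * f = f * (q * f * q⁻¹) := by
    refine hc _ (mul_mem (mul_mem hq hf) (inv_mem hq)) ?_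
    exact conj_mem_of_normalizer (normalizer_le_normalizer_centralizer V) (h.ln.T_norm hq) hfV
  have hqq : q * (q * f * q⁻¹) * q⁻¹ = f := by
    have h5 : q * q ∈ centralizer (V : Set G) := by
      have := h.coset_of hz hz1 (inv_mem (h.ln.T_norm hq)) (inv_comm_of (h.ln.z_comm (h.ln.T_le hq)))
        (fun e => hq2 (by simpa using inv_mem e)) (h.ln.T_norm hq)
        (h.ln.z_comm (h.ln.T_le hq)) hq2
      rwa [inv_inv] at this
    have h6 := hc _ (mul_mem hq hq) h5
    calc q * (q * f * q⁻¹) * q⁻¹ = (q * q) * f * (q * q)⁻¹ := by group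
      _ = f := by rw [h6]; group
  have key : ∀ g : G, g ∈ T → g ∈ centralizer (V : Set G) → g * g = 1 →
      (∀ t ∈ T, t ∈ centralizer (V : Set G) → t * g = g * t) →
      q * g * q⁻¹ = g → g = 1 ∨ g = z := by
    intro g hg hgV hg2 hgc hgq
    refine h.ln.soc g hg hg2 fun t ht => ?_
    by_cases ht1 : t ∈ centralizer (V : Set G)
    · exact hgc t ht ht1
    · have h7 := hgc _ (mul_mem ht (inv_mem hq)) (hq3 t ht ht1)
      have h8 := mul_comm_of h7 (comm_of_conj_eq hgq)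
      simpa using h8
  -- `g := f f^q`
  have hgf := key (f * (q * f * q⁻¹)) (mul_mem hf (mul_mem (mul_mem hq hf) (inv_mem hq)))
    (mul_mem hfV (conj_mem_of_normalizer (normalizer_le_normalizer_centralizer V) (h.ln.T_norm hq) hfV))
    (by
      calc f * (q * f * q⁻¹) * (f * (q * f * q⁻¹)) = f * (q * f * q⁻¹ * f) * (q * f * q⁻¹) := by group
        _ = f * (f * (q * f * q⁻¹)) * (q * f * q⁻¹) := by rw [hfq]
        _ = (f * f) * (q * (f * f) * q⁻¹) := by group
        _ = 1 := by rw [hf2]; group)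
    (fun t ht ht1 => comm_mul_of (hc t ht ht1) (by
      have hd' : q⁻¹ * t * q ∈ T := mul_mem (mul_mem (inv_mem hq) ht) hq
      have hd1' : q⁻¹ * t * q ∈ centralizer (V : Set G) :=
        conj_mem_of_normalizer' (normalizer_le_normalizer_centralizer V) (h.ln.T_norm hq) ht1
      have := hc _ hd' hd1'
      calc t * (q * f * q⁻¹) = q * (q⁻¹ * t * q * f) * q⁻¹ := by group
        _ = q * (f * (q⁻¹ * t * q)) * q⁻¹ := by rw [this]
        _ = (q * f * q⁻¹) * t := by group))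
    (by
      calc q * (f * (q * f * q⁻¹)) * q⁻¹ = (q * f * q⁻¹) * (q * (q * f * q⁻¹) * q⁻¹) := by group
        _ = f * (q * f * q⁻¹) := by rw [hqq, hfq])
  rcases hgf with e | e
  · -- `f^q = f`
    have h9 : q * f * q⁻¹ = f := by
      have : q * f * q⁻¹ = f⁻¹ := (inv_eq_of_mul_eq_one_right e).symm
      rw [this, inv_eq_self hf2]
    rcases key f hf hfV hf2 hc h9 with e1 | e1
    · rw [e1]; exact one_mem _
    · rw [e1]; exact hz
  · obtain ⟨y, hy, hy1, hyz⟩ := h.ln.exists_y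
    have e1 := h.move hz hz1 hy hy1 hyz hq1 hq2
    have hfy : f * y = y * f := (h.V_comm hy hfV).symm
    have hyT := h.ln.V_le hy
    have h10 : q * (f * y) * q⁻¹ = f * y := by
      have e2 : q * f * q⁻¹ = f * z := by
        calc q * f * q⁻¹ = (f * f) * (q * f * q⁻¹) := by rw [hf2, one_mul]
          _ = f * (f * (q * f * q⁻¹)) := by group
          _ = f * z := by rw [e]
      calc q * (f * y) * q⁻¹ = (q * f * q⁻¹) * (q * y * q⁻¹) := by group
        _ = f * (z * z) * y := by rw [e1, e2]; group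
        _ = f * y := by rw [h.ln.zz, mul_one]
    have hyV := h.V_le_centralizer hy
    rcases key (f * y) (mul_mem hf hyT) (mul_mem hfV hyV)
      (by
        calc f * y * (f * y) = f * (y * f) * y := by group
          _ = (f * f) * (y * y) := by rw [← hfy]; group
          _ = 1 := by rw [hf2, h.ln.sq y hy, one_mul])
      (fun t ht ht1 => comm_mul_of (hc t ht ht1) (h.V_comm hy ht1).symm) h10 with e1 | e1
    · have : f = y⁻¹ := mul_eq_one_iff_eq_inv.mp e1
      rw [this]; exact inv_mem hy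
    · have : f = z * y⁻¹ := by rw [← e1]; group
      rw [this]; exact mul_mem hz (inv_mem hy)

/-- Frattini: `C_T(V)` is normalized by elements of `N_G(V)` which induce everything on `V` -/
theorem frat (h : Fam T V z cf) {g : G} (hg : g ∈ normalizer (V : Set G)) :
    ∃ c ∈ centralizer (V : Set G), ∀ t ∈ T, t ∈ centralizer (V : Set G) →
      (c * g) * t * (c * g)⁻¹ ∈ T := by
  have : Fact (Nat.Prime 2) := ⟨Nat.prime_two⟩
  set T0 := T ⊓ centralizer (V : Set G) with hT0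
  set C := centralizer (V : Set G) with hC
  have hCn : normalizer (V : Set G) ≤ normalizer (C : Set G) := normalizer_le_normalizer_centralizer V
  -- `T0` is a Sylow 2-subgroup of `C`
  have h2 : IsPGroup 2 T0 := h.ln.two.to_le inf_le_left
  obtain ⟨Q, hQ⟩ := (h2.comap_of_injective C.subtype C.subtype_injective : IsPGroup 2 (T0.subgroupOf C)).exists_le_sylow
  have hmax : ∀ P : Subgroup G, IsPGroup 2 P → P ≤ C → Nat.card P ≤ Nat.card T0 := by
    intro P hP hPC
    -- conjugate `P` into `T` inside `N_G(V)`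
    obtain ⟨c, hc, hcT⟩ := exists_cj_le_of_sylow h.ln.T_norm h.ln.two h.ln.T_syl'
      (hPC.trans (centralizer_le_normalizer _)) hP
    have h3 : cj c P ≤ T0 := by
      refine le_inf hcT ?_
      intro x hx
      rw [mem_cj] at hx
      have := conj_mem_of_normalizer hCn hc (hPC hx)
      have e : c * (c⁻¹ * x * c) * c⁻¹ = x := by group
      rwa [e] at this
    rw [← card_cj c]
    exact card_le_of_le h3
  have hQ' : ¬ 2 ∣ T0.relIndex C := by
    -- `Q = T0`
    have h4 : Nat.card (Q : Subgroup C) ≤ Nat.card T0 := by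
      have h5 := hmax ((Q : Subgroup C).map C.subtype) (Q.isPGroup'.map _) (map_subtype_le _)
      rwa [card_map_of_injective C.subtype_injective] at h5
    have h6 : Nat.card (T0.subgroupOf C) = Nat.card T0 :=
      Nat.card_congr (subgroupOfEquivOfLe (inf_le_right : T0 ≤ C)).toEquiv
    have h7 : T0.subgroupOf C = (Q : Subgroup C) := eq_of_le_of_card_ge hQ (by rw [h6]; exact h4)
    rw [relIndex, h7]
    exact Q.not_dvd_index
  have hg0 : cj g T0 ≤ C := by
    intro x hx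
    rw [mem_cj] at hx
    have := conj_mem_of_normalizer hCn hg hx.2
    have e : g * (g⁻¹ * x * g) * g⁻¹ = x := by group
    rwa [e] at this
  obtain ⟨c, hc, hcT⟩ := exists_cj_le_of_sylow (inf_le_right : T0 ≤ C) h2 hQ' hg0 (h2.map _)
  refine ⟨c, hc, fun t ht ht1 => ?_⟩
  rw [cj_cj] at hcT
  exact (hcT (conj_mem_cj (⟨ht, ht1⟩ : t ∈ T0))).1

/-- LEMMA FIX, the part which is symmetric in the points: `F_p = {f ∈ I : [f, C_T(V)] ≤ ⟨p⟩}` does not depend on `p`. -/
theorem fix_aux (h : Fam T V z cf) {f : G} (hf : f ∈ jj V cf)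
    (hT : ∀ t ∈ T, t ∈ centralizer (V : Set G) → t * f * t⁻¹ = f ∨ t * f * t⁻¹ = z * f) :
    ∀ t ∈ T, t ∈ centralizer (V : Set G) → t * f * t⁻¹ = f := by
  classical
  have hz := h.ln.z_mem
  have hz1 := h.ln.z_ne
  obtain ⟨y, hy, hy1, hyz⟩ := h.ln.exists_y
  obtain ⟨q, hq, hq1, hq2⟩ := h.f1
  set s := z * y with hs
  have hsV : s ∈ V := mul_mem hz hy
  have hs1 : s ≠ 1 := h.mul_ne_one hy (Ne.symm hyz)
  have hys : y ≠ s := fun e => hz1 (by rw [hs] at e; simpa using e.symm)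
  have hsz : s ≠ z := fun e => hy1 (by rw [hs] at e; simpa using e)
  -- `F p`
  let F : G → Set G := fun p => {f | f ∈ jj V cf ∧
    ∀ t ∈ T, t ∈ centralizer (V : Set G) → t * f * t⁻¹ = f ∨ t * f * t⁻¹ = p * f}
  -- conjugation by an element normalizing `C_T(V)`
  have hconj : ∀ g ∈ normalizer (V : Set G), (∀ t ∈ T, t ∈ centralizer (V : Set G) → g * t * g⁻¹ ∈ T) →
      ∀ p f, f ∈ F p → g * f * g⁻¹ ∈ F (g * p * g⁻¹) := by
    intro g hg hgT p f hf
    refine ⟨conj_mem_of_normalizer h.normalizer_le_normalizer_jj hg hf.1, fun t ht ht1 => ?_⟩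
    -- `g⁻¹ t g ∈ C_T(V)` (finiteness)
    have hfin : ∀ t ∈ T, t ∈ centralizer (V : Set G) → g⁻¹ * t * g ∈ T ∧ g⁻¹ * t * g ∈ centralizer (V : Set G) := by
      have hle : cj g (T ⊓ centralizer (V : Set G)) ≤ T ⊓ centralizer (V : Set G) := by
        intro x hx
        rw [mem_cj] at hx
        have h1 := hgT _ hx.1 hx.2
        have h2 := conj_mem_of_normalizer (normalizer_le_normalizer_centralizer V) hg hx.2
        have e : g * (g⁻¹ * x * g) * g⁻¹ = x := by group
        rw [e] at h1 h2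
        exact ⟨h1, h2⟩
      have heq : cj g (T ⊓ centralizer (V : Set G)) = T ⊓ centralizer (V : Set G) :=
        eq_of_le_of_card_ge hle (by rw [card_cj])
      intro t ht ht1
      have : t ∈ cj g (T ⊓ centralizer (V : Set G)) := by rw [heq]; exact ⟨ht, ht1⟩
      exact mem_cj.mp this
    obtain ⟨h1, h2⟩ := hfin t ht ht1
    rcases hf.2 _ h1 h2 with e | e
    · left
      calc t * (g * f * g⁻¹) * t⁻¹ = g * ((g⁻¹ * t * g) * f * (g⁻¹ * t * g)⁻¹) * g⁻¹ := by group
        _ = g * f * g⁻¹ := by rw [e]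
    · right
      calc t * (g * f * g⁻¹) * t⁻¹ = g * ((g⁻¹ * t * g) * f * (g⁻¹ * t * g)⁻¹) * g⁻¹ := by group
        _ = g * p * g⁻¹ * (g * f * g⁻¹) := by rw [e]; group
  -- `F p` contains `V` and is closed under multiplication by `V`
  have hmulV : ∀ p v f, v ∈ V → f ∈ F p → v * f ∈ F p := by
    intro p v f hv hf
    refine ⟨mul_mem (h.V_le_jj hv) hf.1, fun t ht ht1 => ?_⟩
    have hvt := h.V_comm hv ht1
    have hvt' : t * v * t⁻¹ = v := conj_eq_of_comm hvt.symm
    rcases hf.2 t ht ht1 with e | e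
    · left
      calc t * (v * f) * t⁻¹ = (t * v * t⁻¹) * (t * f * t⁻¹) := by group
        _ = v * f := by rw [hvt', e]
    · right
      have h1 : t * f * t⁻¹ ∈ jj V cf := by
        have := conj_mem_of_normalizer h.normalizer_le_normalizer_jj (h.ln.T_norm ht) hf.1
        exact this
      have hpv : v * p = p * v := by
        have hpj : p ∈ jj V cf := by
          have h3 : p = (t * f * t⁻¹) * f⁻¹ := by rw [e]; group
          rw [h3]; exact mul_mem h1 (inv_mem hf.1)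
        exact mem_centralizer_iff.mp (h.jj_le_cent hpj) v hv
      calc t * (v * f) * t⁻¹ = (t * v * t⁻¹) * (t * f * t⁻¹) := by group
        _ = v * p * f := by rw [hvt', e]; group
        _ = p * (v * f) := by rw [hpv]; group
  -- `F y = F s`
  have hqT : ∀ t ∈ T, t ∈ centralizer (V : Set G) → q * t * q⁻¹ ∈ T := fun t ht _ =>
    mul_mem (mul_mem hq ht) (inv_mem hq)
  have hqV := h.ln.T_norm hq
  have hqf : ∀ p p', p ∈ V → p ≠ 1 → p ≠ z → p' = z * p → ∀ f ∈ F p, f ∈ F p' := by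
    intro p p' hp hp1 hpz e f hf
    have h1 := hconj q hqV hqT p f hf
    rw [h.move hz hz1 hp hp1 hpz hq1 hq2, ← e] at h1
    rcases h.qq_cases hz hq1 (jj_le hz hz1 hf.1) with e1 | e1
    · rwa [e1] at h1
    · rw [e1] at h1
      have h2 := hmulV p' z _ hz h1
      rwa [← mul_assoc, h.ln.zz, one_mul] at h2
  have hFys : ∀ f, f ∈ F y ↔ f ∈ F s := fun f =>
    ⟨hqf y s hy hy1 hyz hs f, hqf s y hsV hs1 hsz (by
      rw [hs, ← mul_assoc, h.ln.zz, one_mul]) f⟩
  -- rotate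
  obtain ⟨g, hg, hg1, hg2⟩ := h.trans2 hz hz1 hy hy1 hyz hy hy1 hsV hs1 (Ne.symm hys)
  obtain ⟨c, hc, hcT⟩ := h.frat hg
  set r := c * g with hr
  have hrV : r ∈ normalizer (V : Set G) := mul_mem (centralizer_le_normalizer _ hc) hg
  have hrz : r * z * r⁻¹ = y := by
    calc r * z * r⁻¹ = c * (g * z * g⁻¹) * c⁻¹ := by rw [hr]; group
      _ = y := by rw [hg1]; exact conj_eq_of_comm (h.V_comm hy hc).symm
  have hry : r * y * r⁻¹ = s := by
    calc r * y * r⁻¹ = c * (g * y * g⁻¹) * c⁻¹ := by rw [hr]; group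
      _ = s := by rw [hg2]; exact conj_eq_of_comm (h.V_comm hsV hc).symm
  -- `F z ⊆ F y`
  have hzy : ∀ f ∈ F z, f ∈ F y := by
    intro f hf
    have h1 := hconj r hrV hcT z f hf
    rw [hrz] at h1
    -- `r f r⁻¹ ∈ F y = F s`; pull back by `r`: need `F s = r F y r⁻¹`, cardinality
    have h2 : (fun f => r * f * r⁻¹) '' F y ⊆ F s := by
      rintro _ ⟨f, hf, rfl⟩
      have := hconj r hrV hcT y f hf
      rwa [hry] at this
    have h3 : F s = F y := by ext f; exact (hFys f).symm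
    have h4 : (fun f => r * f * r⁻¹) '' F y = F s := by
      refine Set.eq_of_subset_of_ncard_le h2 ?_ (Set.toFinite _)
      rw [Set.ncard_image_of_injective _ (fun a b e => by simpa using e), h3]
    have h5 : r * f * r⁻¹ ∈ F s := (hFys _).mp h1
    rw [← h4] at h5
    obtain ⟨f', hf', e⟩ := h5
    have : f' = f := by simpa using e
    rw [← this]; exact hf'
  intro t ht ht1
  have hfz : f ∈ F z := ⟨hf, hT⟩
  rcases (hzy f hfz).2 t ht ht1 with e | e
  · exact e
  rcases hT t ht ht1 with e' | e'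
  · exact e'
  exfalso
  rw [e] at e'
  exact hyz (mul_right_cancel e')

/-- **LEMMA FIX** (1): `f ∈ I`, `[f, C_T(V)] ≤ ⟨z⟩` implies `f ∈ V`. -/
theorem fix (h : Fam T V z cf) {f : G} (hf : f ∈ jj V cf)
    (hT : ∀ t ∈ T, t ∈ centralizer (V : Set G) → t * f * t⁻¹ = f ∨ t * f * t⁻¹ = z * f) : f ∈ V := by
  have hz := h.ln.z_mem
  have hz1 := h.ln.z_ne
  refine h.soc0 (h.ww_le_T (jj_le hz hz1 hf)) (h.jj_le_cent hf) (h.sqz f (jj_le hz hz1 hf)) ?_
  intro t ht ht1
  exact comm_of_conj_eq (h.fix_aux hf hT t ht ht1)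

/-- (1.2): if `V < U ≤ I`, `|U / V| = 2`, `U` normal in `N_G(V)`, then for `u ∈ U - V` and `v ∈ V` some element of `C_G(V)`
moves `u` to `v u`. -/
theorem four_of (h : Fam T V z cf) {U : Subgroup G} (hU : U ≤ jj V cf)
    (hn : normalizer (V : Set G) ≤ normalizer (U : Set G)) {u : G} (hu : u ∈ U) (huV : u ∉ V)
    (hc : ∀ w ∈ U, w ∈ V ∨ w * u⁻¹ ∈ V) {v : G} (hv : v ∈ V) :
    ∃ c ∈ centralizer (V : Set G), c * u * c⁻¹ = v * u := by
  have hz := h.ln.z_mem
  have hz1 := h.ln.z_ne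
  by_cases hv1 : v = 1
  · exact ⟨1, one_mem _, by rw [hv1]; group⟩
  -- some element of `C_T(V)` moves `u`
  have huj := hU hu
  obtain ⟨t, htV, ht⟩ : ∃ t ∈ centralizer (V : Set G), t * u * t⁻¹ ≠ u := by
    by_contra hcon
    push Not at hcon
    exact huV (h.soc0 (h.ww_le_T (jj_le hz hz1 huj)) (h.jj_le_cent huj) (h.sqz u (jj_le hz hz1 huj))
      fun t _ ht1 => comm_of_conj_eq (hcon t ht1))
  have hnV : ∀ g ∈ normalizer (V : Set G), g * u * g⁻¹ ∉ V := by
    intro g hg e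
    apply huV
    have := h.conj_pt' hg e
    have e' : g⁻¹ * (g * u * g⁻¹) * g = u := by group
    rwa [e'] at this
  set w := t * u * t⁻¹ * u⁻¹ with hw
  have hwV : w ∈ V := by
    have h1 := conj_mem_of_normalizer hn (centralizer_le_normalizer _ htV) hu
    rcases hc _ h1 with e | e
    · exact absurd e (hnV t (centralizer_le_normalizer _ htV))
    · exact e
  have hw1 : w ≠ 1 := fun e => ht (by rw [hw] at e; exact mul_inv_eq_one.mp e)
  -- move `w` to `v`
  obtain ⟨a, ha, ha1, -⟩ := h.point hwV hw1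
  obtain ⟨b, hb, hb1, -⟩ := h.point hv hv1
  set g := b * a⁻¹ with hg
  have hgV : g ∈ normalizer (V : Set G) := mul_mem hb (inv_mem ha)
  have hgw : g * w * g⁻¹ = v := by
    rw [hg, ← ha1, ← hb1]; group
  refine ⟨g * t * g⁻¹, conj_mem_of_normalizer (normalizer_le_normalizer_centralizer V) hgV htV, ?_⟩
  -- `g⁻¹ u g = v' u`
  have h2 : g⁻¹ * u * g ∈ U := conj_mem_of_normalizer' hn hgV hu
  have h3 : g⁻¹ * u * g * u⁻¹ ∈ V := by
    rcases hc _ h2 with e | e
    · exfalso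
      apply huV
      have := h.conj_pt hgV e
      have e' : g * (g⁻¹ * u * g) * g⁻¹ = u := by group
      rwa [e'] at this
    · exact e
  set v' := g⁻¹ * u * g * u⁻¹ with hv'
  have e1 : g⁻¹ * u * g = v' * u := by rw [hv']; group
  have e2 : t * u * t⁻¹ = w * u := by rw [hw]; group
  have e3 : t * v' * t⁻¹ = v' := conj_eq_of_comm (h.V_comm h3 htV).symm
  have e4 : v' * w = w * v' := h.ln.comm h3 hwV
  calc g * t * g⁻¹ * u * (g * t * g⁻¹)⁻¹ = g * (t * (g⁻¹ * u * g) * t⁻¹) * g⁻¹ := by group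
    _ = g * ((t * v' * t⁻¹) * (t * u * t⁻¹)) * g⁻¹ := by rw [e1]; group
    _ = g * (v' * w * u) * g⁻¹ := by rw [e3, e2]; group
    _ = g * (w * (v' * u)) * g⁻¹ := by rw [e4]; group
    _ = (g * w * g⁻¹) * (g * (v' * u) * g⁻¹) := by group
    _ = v * u := by rw [hgw, ← e1]; group

/-- (1.3), for involutions -/
theorem no_fix (h : Fam T V z cf) {f : G} (hf2 : f * f = 1) (hf : ∀ g ∈ normalizer (V : Set G), g * f = f * g) :
    f = 1 := by
  by_contra hf1
  have h1 : IsPGroup 2 (zpowers f) := isPGroup_zpowers hf2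
  have h2 : zpowers f ≤ T := by
    refine h.le_T h1 ?_
    refine le_normalizer_of_forall fun t ht x hx => ?_
    obtain ⟨n, rfl⟩ := mem_zpowers_iff.mp hx
    have : Commute t (f ^ n) := (show Commute t f from hf t (h.ln.T_norm ht)).zpow_right n
    rw [this.eq, mul_inv_cancel_right]
    exact zpow_mem (mem_zpowers _) n
  rcases h.ln.soc f (h2 (mem_zpowers f)) hf2 (fun s hs => hf s (h.ln.T_norm hs)) with e | e
  · exact hf1 e
  · obtain ⟨y, hy, hy1, hyz⟩ := h.ln.exists_y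
    obtain ⟨g, hg, hgy⟩ := h.ln.trans y hy hy1
    apply hyz
    rw [← hgy, ← e]
    exact conj_eq_of_comm (hf g hg)

end fin

end Fam

end Cfsg.Agent.Omega.NO3S.Fit
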