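import Cfsg.Agent.Omega.NO3S.Fit.Plane
import Cfsg.Agent.Omega.NO3S.Fit.Sub
import Cfsg.Agent.Omega.NO3S.Fit.AbsNat

/-!
# Text #13963 (helper311), section 4: the common shape of T5 and T9, module facts

`Shp R y P d`: `|M| = 16`, `P ⊴ H` has odd order and is inverted by the image of `W_y`, `C_M(d) = 0` for some
`d ∈ P`, `H = P · Stab(v0)` and `Stab(v0)` is a 2-group.
-/

set_option autoImplicit false
set_option linter.unusedSectionVars false

namespace Cfsg.Agent.Omega.NO3S.Fit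

open Subgroup Cfsg Cfsg.Agent.ZN Cfsg.Agent.MinSimple.Geo Cfsg.Agent.Omega.CaseL
open Cfsg.Agent.Omega.NO3S.Fit.PlaneForm (cm cm_eq_one cm_inv)
open Cfsg.Agent.Omega.NO3S.Fit.Abs (br fx cx)
open Cfsg.Agent.ZN.Block (conj_mem_of_normalizer conj_mem_of_normalizer' le_normalizer_of_forall
  mem_normalizer_of)

universe u

variable {G : Type u} [Group G]

/-- the common shape of T5 and T9 -/
structure Shp {V : Subgroup G} {cf : G → Subgroup G} {z : G} {M H : Type u} [AddCommGroup M] [Group H]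
    [DistribMulAction H M] (R : MRep V cf z M H) (y : G) (P : Subgroup H) (d : H) : Prop where
  card : Nat.card M = 16
  dP : d ∈ P
  fd : ∀ m : M, d • m = m → m = 0
  odd : Odd (Nat.card P)
  nor : ∀ x : H, ∀ p ∈ P, x * p * x⁻¹ ∈ P
  inv : ∀ a ∈ ww V cf y, a ∉ qq V cf z → ∀ p ∈ P, R.phi a * p * (R.phi a)⁻¹ = p⁻¹
  gen : ∀ x : H, ∃ p ∈ P, ∃ h0 : H, h0 • R.pi y = R.pi y ∧ x = p * h0
  two : ∀ h0 : H, h0 • R.pi y = R.pi y → ∃ k : ℕ, h0 ^ 2 ^ k = 1

/-! ### Conjugation by `N_G(V)` -/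

section conj

variable {T V : Subgroup G} {z : G} {cf : G → Subgroup G}

theorem Fam.mem_ww_conj (h : Fam T V z cf) {g p x : G} (hg : g ∈ normalizer (V : Set G)) (hp : p ∈ V)
    (hp1 : p ≠ 1) : x ∈ ww V cf (g * p * g⁻¹) ↔ g⁻¹ * x * g ∈ ww V cf p := by
  rw [← h.cj_ww hg hp hp1, mem_cj]

theorem Fam.mem_cf_conj (h : Fam T V z cf) {g p x : G} (hg : g ∈ normalizer (V : Set G)) (hp : p ∈ V)
    (hp1 : p ≠ 1) : x ∈ cf (g * p * g⁻¹) ↔ g⁻¹ * x * g ∈ cf p := by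
  rw [← h.cj_cf g hg p hp hp1, mem_cj]

theorem Fam.mem_qq_conj (h : Fam T V z cf) {g p x : G} (hg : g ∈ normalizer (V : Set G)) (hp : p ∈ V)
    (hp1 : p ≠ 1) : x ∈ qq V cf (g * p * g⁻¹) ↔ g⁻¹ * x * g ∈ qq V cf p := by
  rw [← h.cj_qq hg hp hp1, mem_cj]

/-- the module at `g z g⁻¹` -/
def MRep.cjr {M H : Type u} [AddCommGroup M] [Group H] [DistribMulAction H M] (R : MRep V cf z M H)
    (h : Fam T V z cf) {g : G} (hg : g ∈ normalizer (V : Set G)) : MRep V cf (g * z * g⁻¹) M H where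
  pi x := R.pi (g⁻¹ * x * g)
  phi x := R.phi (g⁻¹ * x * g)
  pi_mul := by
    intro a ha b hb
    rw [h.mem_ww_conj hg h.ln.z_mem h.ln.z_ne] at ha hb
    rw [← R.pi_mul _ ha _ hb]
    congr 1; group
  pi_surj := by
    intro m
    obtain ⟨w, hw, rfl⟩ := R.pi_surj m
    refine ⟨g * w * g⁻¹, ?_, ?_⟩
    · rw [h.mem_ww_conj hg h.ln.z_mem h.ln.z_ne]
      have : g⁻¹ * (g * w * g⁻¹) * g = w := by group
      rwa [this]
    · congr 1; group
  pi_ker := by
    intro w hw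
    rw [h.mem_ww_conj hg h.ln.z_mem h.ln.z_ne] at hw
    rw [R.pi_ker _ hw]
    constructor
    · rintro (e | e)
      · left
        have : w = g * (g⁻¹ * w * g) * g⁻¹ := by group
        rw [this, e]; group
      · right
        rw [← e]; group
    · rintro (e | e)
      · left; rw [e]; group
      · right; rw [e]; group
  phi_mul := by
    intro a ha b hb
    rw [h.mem_cf_conj hg h.ln.z_mem h.ln.z_ne] at ha hb
    rw [← R.phi_mul _ ha _ hb]
    congr 1; group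
  phi_surj := by
    intro x
    obtain ⟨w, hw, rfl⟩ := R.phi_surj x
    refine ⟨g * w * g⁻¹, ?_, ?_⟩
    · rw [h.mem_cf_conj hg h.ln.z_mem h.ln.z_ne]
      have : g⁻¹ * (g * w * g⁻¹) * g = w := by group
      rwa [this]
    · congr 1; group
  phi_ker := by
    intro c hc
    rw [h.mem_cf_conj hg h.ln.z_mem h.ln.z_ne] at hc
    rw [h.mem_qq_conj hg h.ln.z_mem h.ln.z_ne, R.phi_ker _ hc]
  act := by
    intro c hc w hw
    rw [h.mem_cf_conj hg h.ln.z_mem h.ln.z_ne] at hc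
    rw [h.mem_ww_conj hg h.ln.z_mem h.ln.z_ne] at hw
    rw [R.act _ hc _ hw]
    congr 1; group

theorem MRep.cjr_pi {M H : Type u} [AddCommGroup M] [Group H] [DistribMulAction H M] (R : MRep V cf z M H)
    (h : Fam T V z cf) {g : G} (hg : g ∈ normalizer (V : Set G)) (x : G) :
    (R.cjr h hg).pi x = R.pi (g⁻¹ * x * g) := rfl

theorem MRep.cjr_phi {M H : Type u} [AddCommGroup M] [Group H] [DistribMulAction H M] (R : MRep V cf z M H)
    (h : Fam T V z cf) {g : G} (hg : g ∈ normalizer (V : Set G)) (x : G) :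
    (R.cjr h hg).phi x = R.phi (g⁻¹ * x * g) := rfl

theorem Shp.cjs {M H : Type u} [AddCommGroup M] [Group H] [DistribMulAction H M] {R : MRep V cf z M H}
    {y : G} {P : Subgroup H} {d : H} (S : Shp R y P d) (h : Fam T V z cf) (hy : y ∈ V) (hy1 : y ≠ 1) {g : G}
    (hg : g ∈ normalizer (V : Set G)) : Shp (R.cjr h hg) (g * y * g⁻¹) P d := by
  have e : g⁻¹ * (g * y * g⁻¹) * g = y := by group
  refine
    { card := S.card, dP := S.dP, fd := S.fd, odd := S.odd, nor := S.nor, inv := ?_, gen := ?_, two := ?_ }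
  · intro a ha haQ p hp
    rw [h.mem_ww_conj hg hy hy1] at ha
    rw [h.mem_qq_conj hg h.ln.z_mem h.ln.z_ne] at haQ
    exact S.inv _ ha haQ p hp
  · intro x
    obtain ⟨p, hp, h0, h1, h2⟩ := S.gen x
    refine ⟨p, hp, h0, ?_, h2⟩
    rw [R.cjr_pi h hg, e]
    exact h1
  · intro h0 h1
    rw [R.cjr_pi h hg, e] at h1
    exact S.two h0 h1

/-- the situation of section 4 -/
structure Dat (T V : Subgroup G) (z : G) (cf : G → Subgroup G) (y : G) : Prop where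
  fam : Fam T V z cf
  hy : y ∈ V
  hy1 : y ≠ 1
  hyz : y ≠ z
  shp : ∃ (M H : Type u) (_ : AddCommGroup M) (_ : Group H) (_ : DistribMulAction H M)
    (_ : FaithfulSMul H M) (R : MRep V cf z M H) (P : Subgroup H) (d : H), Shp R y P d

/-- the same at every pair of points -/
theorem Dat.at {y : G} (D : Dat T V z cf y) {p q : G} (hp : p ∈ V) (hp1 : p ≠ 1) (hq : q ∈ V) (hq1 : q ≠ 1)
    (hqp : q ≠ p) : ∃ T', Dat T' V p cf q := by
  have h := D.fam
  obtain ⟨g, hg, e1, e2⟩ := h.trans2 h.ln.z_mem h.ln.z_ne D.hy D.hy1 D.hyz hp hp1 hq hq1 hqp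
  obtain ⟨M, H, _, _, _, _, R, P, d, S⟩ := D.shp
  subst e1
  subst e2
  exact ⟨cj g T, h.conj hg, hq, hq1, hqp, M, H, _, _, _, ‹_›, R.cjr h hg, P, d, S.cjs h D.hy D.hy1 hg⟩

end conj

/-! ### Module facts -/

section module

variable {T V : Subgroup G} {z : G} {cf : G → Subgroup G} {M H : Type u} [AddCommGroup M] [Group H]
  [DistribMulAction H M] {R : MRep V cf z M H} {y : G} {P : Subgroup H} {d : H}

namespace Shp

theorem finM (S : Shp R y P d) : Finite M := Nat.finite_of_card_ne_zero (by rw [S.card]; decide)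

theorem odd_of (S : Shp R y P d) {p : H} (hp : p ∈ P) : Odd (orderOf p) := by
  have h1 : orderOf p ∣ Nat.card P := by
    have := orderOf_dvd_natCard (⟨p, hp⟩ : P)
    rwa [Subgroup.orderOf_mk] at this
  exact S.odd.of_dvd_nat h1

variable [Finite G] (S : Shp R y P d) (h : Fam T V z cf) (hy : y ∈ V) (hy1 : y ≠ 1) (hyz : y ≠ z)
include S h hy hy1 hyz

/-- `k = 1` -/
theorem one1 [FaithfulSMul H M] : Fam.One1 V cf := by
  have hz := h.ln.z_mem
  have hz1 := h.ln.z_ne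
  refine h.one1_of hy hy1 hz hz1 (Ne.symm hyz) fun w hw w' hw' hwQ hwQ' => ?_
  have hwc := h.ww_le_cf' hy hy1 hz hz1 hw
  have hwc' := h.ww_le_cf' hy hy1 hz hz1 hw'
  have hww : w * w' ∈ ww V cf y := mul_mem hw hw'
  have hwwc := h.ww_le_cf' hy hy1 hz hz1 hww
  have two := R.two h
  rw [← R.phi_ker _ hwwc]
  have hcd : R.phi (w * w') * d = d * R.phi (w * w') := by
    have e1 := S.inv w hw hwQ d S.dP
    have e2 := S.inv w' hw' hwQ' d S.dP
    rw [R.phi_mul w hwc w' hwc']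
    have e3 : R.phi w * R.phi w' * d * (R.phi w * R.phi w')⁻¹ = d := by
      calc R.phi w * R.phi w' * d * (R.phi w * R.phi w')⁻¹ =
            R.phi w * (R.phi w' * d * (R.phi w')⁻¹) * (R.phi w)⁻¹ := by group
        _ = (R.phi w * d * (R.phi w)⁻¹)⁻¹ := by rw [e2]; group
        _ = d := by rw [e1, inv_inv]
    exact mul_inv_eq_iff_eq_mul.mp e3
  have hdo := S.odd_of S.dP
  refine FaithfulSMul.eq_of_smul_eq_smul (α := M) fun m => ?_
  rw [one_smul]
  -- `n := c m - m` is fixed by `w`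
  have hq : ∀ m : M, R.phi w • (R.phi (w * w') • m - m) = R.phi (w * w') • m - m := by
    intro m
    obtain ⟨v, hv, rfl⟩ := R.pi_surj m
    exact R.quad h hy hy1 hyz hw hww hv
  set n := R.phi (w * w') • m - m with hn
  have h1 : d • n = R.phi (w * w') • (d • m) - d • m := by
    rw [hn, smul_sub, ← mul_smul, ← hcd, mul_smul]
  have h2 := hq (d • m)
  rw [← h1] at h2
  have h3 : R.phi w • d • n = d⁻¹ • n := Abs.inv_smul_of_inv (S.inv w hw hwQ d S.dP) (hq m)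
  have h4 : d • d • n = n := by
    rw [← h2, h3, smul_inv_smul]
  have h5 := S.fd n (Abs.fix_of_sq hdo h4)
  exact sub_eq_zero.mp h5

theorem br_top : br M d = ⊤ := by
  have h1 := Abs.sup_br_fx (M := M) (R.two h) (S.odd_of S.dP)
  have h2 : fx M d = ⊥ := by
    rw [eq_bot_iff]
    intro m hm
    rw [AddSubgroup.mem_bot]
    exact S.fd m hm
  rwa [h2, sup_bot_eq] at h1

section a

variable {a : G} (ha : a ∈ ww V cf y) (haQ : a ∉ qq V cf z)
include ha haQ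

theorem aa : R.phi a * R.phi a = 1 := R.sq_A h hy hy1 ha

theorem card_fx : Nat.card (fx M (R.phi a)) = 4 := by
  have := S.finM
  have h1 := (Abs.card_br_eq (M := M) (R.two h) (S.aa h hy hy1 hyz ha haQ) (S.odd_of S.dP) (S.inv a ha haQ d S.dP)).1
  have h2 : cx M (R.phi a) d = fx M (R.phi a) := by
    unfold cx
    rw [S.br_top h hy hy1 hyz, top_inf_eq]
  rw [h2, S.br_top h hy hy1 hyz] at h1
  have h3 : Nat.card (⊤ : AddSubgroup M) = 16 := by
    rw [← S.card]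
    exact Nat.card_congr AddSubgroup.topEquiv.toEquiv
  rw [h3] at h1
  nlinarith

/-- `C_M(a) ≤ [M, a]` -/
theorem exists_of_fx {m : M} (hm : R.phi a • m = m) : ∃ n : M, R.phi a • n - n = m := by
  have := S.finM
  have h2 : m ∈ cx M (R.phi a) d := by
    refine ⟨?_, hm⟩
    rw [S.br_top h hy hy1 hyz]
    trivial
  obtain ⟨n, -, e⟩ := Abs.cx_le_br (M := M) (R.two h) (S.aa h hy hy1 hyz ha haQ) (S.odd_of S.dP) (S.inv a ha haQ d S.dP) h2
  exact ⟨n, e⟩

/-- (F2) -/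
theorem mem_jj_of {w : G} (hw : w ∈ ww V cf z) (hwa : cm w a = 1 ∨ cm w a = z) : w ∈ jj V cf := by
  have hz := h.ln.z_mem
  have hz1 := h.ln.z_ne
  have hac := h.ww_le_cf' hy hy1 hz hz1 ha
  have h1 : R.phi a • R.pi w = R.pi w := by
    rw [← sub_eq_zero, R.comm_eq h hac hw]
    change R.pi (cm a w) = 0
    rw [← cm_inv]
    rcases hwa with e | e
    · rw [e, inv_one, R.pi_one h]
    · rw [e, h.ln.inv_eq hz, R.pi_z h]
  obtain ⟨n, hn⟩ := S.exists_of_fx h hy hy1 hyz ha haQ h1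
  obtain ⟨v, hv, rfl⟩ := R.pi_surj n
  rw [R.comm_eq h hac hv] at hn
  have h2 : a * v * a⁻¹ * v⁻¹ ∈ jj V cf := h.comm_mem_jj hy hy1 hz hz1 (Ne.symm hyz) ha hv
  rcases (R.pi_eq h (Fam.jj_le hz hz1 h2) hw).mp hn with e | e
  · rw [← e]; exact h2
  · have e2 : w = z * (a * v * a⁻¹ * v⁻¹) := by rw [e, ← mul_assoc, h.ln.zz, one_mul]
    rw [e2]
    exact mul_mem (h.V_le_jj hz) h2

theorem fx_of_jj {u : G} (hu : u ∈ jj V cf) : R.phi a • R.pi u = R.pi u := by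
  have hz := h.ln.z_mem
  have hz1 := h.ln.z_ne
  rw [R.act a (h.ww_le_cf' hy hy1 hz hz1 ha) u (Fam.jj_le hz hz1 hu),
    conj_eq_of_comm (h.comm hy hy1 a ha u (Fam.jj_le hy hy1 hu))]

theorem mem_jj_of_fx {w : G} (hw : w ∈ ww V cf z) (hwa : R.phi a • R.pi w = R.pi w) : w ∈ jj V cf := by
  have hz := h.ln.z_mem
  have hz1 := h.ln.z_ne
  refine S.mem_jj_of h hy hy1 hyz ha haQ hw ?_
  have h1 : R.pi (a * w * a⁻¹ * w⁻¹) = 0 := by
    rw [← R.comm_eq h (h.ww_le_cf' hy hy1 hz hz1 ha) hw, hwa, sub_self]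
  have h2 : a * w * a⁻¹ * w⁻¹ ∈ ww V cf z := (h.comm_mem hy hy1 hz hz1 ha hw).2
  rw [← cm_inv]
  rcases (R.pi_ker _ h2).mp h1 with e | e
  · left
    change (a * w * a⁻¹ * w⁻¹)⁻¹ = 1
    rw [e, inv_one]
  · right
    change (a * w * a⁻¹ * w⁻¹)⁻¹ = z
    rw [e, h.ln.inv_eq hz]

theorem pi_V {v : G} (hv : v ∈ V) : R.pi v = 0 ∨ R.pi v = R.pi y := by
  rcases h.ln.four h.ln.z_mem hy h.ln.z_ne hy1 (Ne.symm hyz) hv with e | e | e | e <;> rw [e]
  · left; rw [R.pi_one h]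
  · left; rw [R.pi_z h]
  · right; rfl
  · right; rw [R.pi_mul z h.z_mem_ww y (h.V_le hy), R.pi_z h, zero_add]

theorem mem_V_of_pi {w : G} (hw : w ∈ ww V cf z) (e : R.pi w = 0 ∨ R.pi w = R.pi y) : w ∈ V := by
  rcases e with e | e
  · rcases (R.pi_ker w hw).mp e with e | e <;> rw [e]
    · exact one_mem _
    · exact h.ln.z_mem
  · rcases (R.pi_eq h hw (h.V_le hy)).mp e with e | e <;> rw [e]
    · exact hy
    · exact mul_mem h.ln.z_mem hy

/-- (F3) -/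
theorem exists_jj : ∃ e ∈ jj V cf, e ∉ V := by
  obtain ⟨m, hm, hm0, hmy⟩ := Abs.exists_ne_ne_of_card (S.card_fx h hy hy1 hyz ha haQ) (u := R.pi y)
  obtain ⟨w, hw, rfl⟩ := R.pi_surj m
  refine ⟨w, S.mem_jj_of_fx h hy hy1 hyz ha haQ hw hm, fun hV => ?_⟩
  rcases S.pi_V h hy hy1 hyz ha haQ hV with e | e
  · exact hm0 e
  · exact hmy e

/-- (F3) -/
theorem jj_mul {u v : G} (hu : u ∈ jj V cf) (hv : v ∈ jj V cf) (huV : u ∉ V) (hvV : v ∉ V) : u * v ∈ V := by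
  have hz := h.ln.z_mem
  have hz1 := h.ln.z_ne
  have two := R.two h
  have huW := Fam.jj_le hz hz1 hu
  have hvW := Fam.jj_le hz hz1 hv
  have hv0 : R.pi y ≠ 0 := R.v0_ne h hy hy1 hyz
  have hu1 : R.pi u ≠ 0 ∧ R.pi u ≠ R.pi y :=
    ⟨fun e => huV (S.mem_V_of_pi h hy hy1 hyz ha haQ huW (Or.inl e)),
      fun e => huV (S.mem_V_of_pi h hy hy1 hyz ha haQ huW (Or.inr e))⟩
  have hv1 : R.pi v ≠ 0 ∧ R.pi v ≠ R.pi y :=
    ⟨fun e => hvV (S.mem_V_of_pi h hy hy1 hyz ha haQ hvW (Or.inl e)),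
      fun e => hvV (S.mem_V_of_pi h hy hy1 hyz ha haQ hvW (Or.inr e))⟩
  refine S.mem_V_of_pi h hy hy1 hyz ha haQ (mul_mem huW hvW) ?_
  rw [R.pi_mul u huW v hvW]
  rcases Abs.mem_four (S.card_fx h hy hy1 hyz ha haQ) two (S.fx_of_jj h hy hy1 hyz ha haQ (h.V_le_jj hy))
    (S.fx_of_jj h hy hy1 hyz ha haQ hu) hv0 hu1.1 (Ne.symm hu1.2)
    (S.fx_of_jj h hy hy1 hyz ha haQ hv) with e | e | e | e
  · exact absurd e hv1.1
  · exact absurd e hv1.2
  · left; rw [e, two]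
  · right
    rw [e, add_comm (R.pi y), ← add_assoc, two, zero_add]

/-- some `w ∈ W_z` with `[w, a] ∉ V` -/
theorem exists_w0 : ∃ w ∈ ww V cf z, cm w a ∉ V := by
  have hz := h.ln.z_mem
  have hz1 := h.ln.z_ne
  have hac := h.ww_le_cf' hy hy1 hz hz1 ha
  obtain ⟨e, he, heV⟩ := S.exists_jj h hy hy1 hyz ha haQ
  obtain ⟨n, hn⟩ := S.exists_of_fx h hy hy1 hyz ha haQ (S.fx_of_jj h hy hy1 hyz ha haQ he)
  obtain ⟨v, hv, rfl⟩ := R.pi_surj n
  rw [R.comm_eq h hac hv] at hn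
  refine ⟨v, hv, fun hV => heV ?_⟩
  rw [← cm_inv, inv_mem_iff] at hV
  have h2 : cm a v ∈ ww V cf z := (h.comm_mem hy hy1 hz hz1 ha hv).2
  rcases (R.pi_eq h h2 (Fam.jj_le hz hz1 he)).mp hn with e1 | e1
  · rw [← e1]; exact hV
  · have e2 : e = z * cm a v := by rw [e1, ← mul_assoc, h.ln.zz, one_mul]
    rw [e2]
    exact mul_mem hz hV

end a

end Shp

end module

end Cfsg.Agent.Omega.NO3S.Fit
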