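import Cfsg.Agent.Omega.NO3S.Fit.FourSev

/-!
# Text #13963 (helper311), section 4: the facts of the module in the language of the group

For `D : Dat T V z cf y`.
-/

set_option autoImplicit false
set_option linter.unusedSectionVars false

namespace Cfsg.Agent.Omega.NO3S.Fit

open Subgroup Cfsg Cfsg.Agent.ZN Cfsg.Agent.MinSimple.Geo Cfsg.Agent.Omega.CaseL
open Cfsg.Agent.Omega.NO3S.Fit.PlaneForm (cm cm_eq_one cm_inv)
open Cfsg.Agent.Omega.NO3S.Fit.Abs (br fx cx)
open Cfsg.Agent.ZN.Block (conj_mem_of_normalizer conj_mem_of_normalizer' le_normalizer_of_forall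
  mem_normalizer_of)

universe u

/-! ### Duality -/

/-- A set of functionals without common zeros, closed under addition, is everything. -/
theorem dual_full {M : Type*} [AddCommGroup M] [Finite M] (two : ∀ m : M, m + m = 0)
    (Φ : AddSubgroup (M →+ ZMod 2)) (hΦ : ∀ m : M, (∀ f ∈ Φ, f m = 0) → m = 0) (g : M →+ ZMod 2) : g ∈ Φ := by
  let _ : Module (ZMod 2) M := AddCommGroup.zmodModule (n := 2) fun x => by
    rw [two_nsmul]; exact two x
  have hfin : Module.Finite (ZMod 2) M := Module.Finite.of_finite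
  let W : Submodule (ZMod 2) (Module.Dual (ZMod 2) M) :=
    { carrier := {f | (f : M →+ ZMod 2) ∈ Φ}
      add_mem' := fun {a b} ha hb => by
        have ha' : (a : M →+ ZMod 2) ∈ Φ := ha
        have hb' : (b : M →+ ZMod 2) ∈ Φ := hb
        have := add_mem ha' hb'
        exact this
      zero_mem' := by
        have : (0 : M →+ ZMod 2) ∈ Φ := zero_mem Φ
        exact this
      smul_mem' := by
        intro c f hf
        have hc : c = 0 ∨ c = 1 := by
          revert c; decide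
        rcases hc with rfl | rfl
        · rw [zero_smul]
          exact zero_mem Φ
        · rw [one_smul]
          exact hf }
  have h1 : W.dualCoannihilator = ⊥ := by
    rw [eq_bot_iff]
    intro m hm
    rw [Submodule.mem_dualCoannihilator] at hm
    rw [Submodule.mem_bot]
    refine hΦ m fun f hf => ?_
    exact hm (f.toZModLinearMap 2) hf
  have h2 : W = ⊤ := by
    rw [← Subspace.dualCoannihilator_dualAnnihilator_eq (W := W), h1, Submodule.dualAnnihilator_bot]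
  have h3 : g.toZModLinearMap 2 ∈ W := by rw [h2]; trivial
  exact h3

variable {G : Type u} [Group G]

section fam

variable {T V : Subgroup G} {z : G} {cf : G → Subgroup G}

/-- `[q, w] ∈ {1, p}` for `q ∈ Q_p`, `w ∈ W_p` -/
theorem Fam.cm_qw (h : Fam T V z cf) {p w k : G} (hp : p ∈ V) (hw : w ∈ ww V cf p)
    (hk : k ∈ qq V cf p) : cm k w = 1 ∨ cm k w = p := by
  rcases h.qq_cases hp hk hw with e1 | e1
  · exact Or.inl (cm_eq_one.mpr (comm_of_conj_eq e1))
  · right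
    unfold cm
    rw [e1, mul_assoc, mul_inv_cancel, mul_one]

/-- `Q_p / K_p` is abelian. -/
theorem Fam.cm_qq_kk (h : Fam T V z cf) {p q q' : G} (hp : p ∈ V) (hp1 : p ≠ 1) (hq : q ∈ qq V cf p)
    (hq' : q' ∈ qq V cf p) : cm q q' ∈ kk V cf p := by
  rw [mem_centralizer_iff]
  intro w hw
  have hpq := h.qq_p hq
  have hpq' := h.qq_p hq'
  have hpi : p * p = 1 := h.ln.sq p hp
  have key : ∀ k ∈ qq V cf p, ∀ v ∈ ww V cf p, k * v * k⁻¹ = v ∨ k * v * k⁻¹ = p * v :=
    fun k hk v hv => h.qq_cases hp hk hv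
  have hconj : ∀ k : G, k * p = p * k → ∀ v, k * (p * v) * k⁻¹ = p * (k * v * k⁻¹) := by
    intro k hk v
    rw [← mul_assoc, hk]; group
  have h3 : ∀ v ∈ ww V cf p, q * q' * v * (q * q')⁻¹ = q' * q * v * (q' * q)⁻¹ := by
    intro w hw
    have h1 : q * (q' * w * q'⁻¹) * q⁻¹ = q' * (q * w * q⁻¹) * q'⁻¹ := by
      rcases key q hq w hw with e | e <;> rcases key q' hq' w hw with e' | e'
      · rw [e, e', e]
      · rw [e, e', hconj q hpq, e]
      · rw [e, hconj q' hpq', e', e]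
      · rw [e, e', hconj q hpq, e, hconj q' hpq', e']
    have e1 : q * q' * w * (q * q')⁻¹ = q * (q' * w * q'⁻¹) * q⁻¹ := by group
    have e2 : q' * q * w * (q' * q)⁻¹ = q' * (q * w * q⁻¹) * q'⁻¹ := by group
    rw [e1, e2, h1]
  have e3 : cm q q' = q * q' * (q' * q)⁻¹ := by unfold cm; group
  rw [e3]
  have hw' : (q' * q)⁻¹ * w * (q' * q) ∈ ww V cf p :=
    conj_mem_of_normalizer' h.cf_norm (mul_mem hq'.1 hq.1) hw
  have h4 := h3 _ hw'
  set v := (q' * q)⁻¹ * w * (q' * q) with hv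
  have h5 : q' * q * v * (q' * q)⁻¹ = w := by rw [hv]; group
  rw [h5] at h4
  calc w * (q * q' * (q' * q)⁻¹) = (q * q' * v * (q * q')⁻¹) * (q * q' * (q' * q)⁻¹) := by rw [h4]
    _ = q * q' * v * (q' * q)⁻¹ := by group
    _ = q * q' * (q' * q)⁻¹ * (q' * q * v * (q' * q)⁻¹) := by group
    _ = q * q' * (q' * q)⁻¹ * w := by rw [h5]

end fam

section module

variable {T V : Subgroup G} {z : G} {cf : G → Subgroup G} {M H : Type u} [AddCommGroup M] [Group H]
  [DistribMulAction H M] {R : MRep V cf z M H} {y : G} {P : Subgroup H} {d : H}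

open Classical in
/-- the functional of `q ∈ Q_z` -/
noncomputable def MRep.fn (R : MRep V cf z M H) (h : Fam T V z cf) {q : G} (hq : q ∈ qq V cf z) : M →+ ZMod 2 where
  toFun m := if ∃ w ∈ ww V cf z, R.pi w = m ∧ cm q w = z then 1 else 0
  map_zero' := by
    rw [if_neg]
    rintro ⟨w, hw, hw0, hwz⟩
    rcases (R.pi_ker w hw).mp hw0 with e | e
    · rw [e] at hwz
      apply h.ln.z_ne
      rw [← hwz]; unfold cm; group
    · rw [e, cm_eq_one.mpr (h.qq_p hq)] at hwz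
      exact h.ln.z_ne hwz.symm
  map_add' := by
    have key : ∀ w ∈ ww V cf z, (∃ w' ∈ ww V cf z, R.pi w' = R.pi w ∧ cm q w' = z) ↔ cm q w = z := by
      intro w hw
      refine ⟨?_, fun e => ⟨w, hw, rfl, e⟩⟩
      rintro ⟨w', hw', e1, e2⟩
      rcases (R.pi_eq h hw' hw).mp e1 with e | e
      · rwa [e] at e2
      · rw [e, cm_mul_right, cm_eq_one.mpr (h.qq_p hq), one_mul] at e2
        have h1 : z * cm q w = cm q w * z := by
          rcases h.cm_qw h.ln.z_mem hw hq with e3 | e3 <;> rw [e3]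
          rw [mul_one, one_mul]
        rwa [h1, mul_inv_cancel_right] at e2
    intro m m'
    obtain ⟨w, hw, rfl⟩ := R.pi_surj m
    obtain ⟨w', hw', rfl⟩ := R.pi_surj m'
    rw [← R.pi_mul w hw w' hw']
    simp only [key w hw, key w' hw', key _ (mul_mem hw hw')]
    have e0 : cm q (w * w') = cm q w * cm q w' := by
      rw [cm_mul_right]
      congr 1
      rcases h.cm_qw h.ln.z_mem hw' hq with e3 | e3
      · rw [e3]; group
      · rw [e3, h.ab w hw z h.z_mem_ww, mul_inv_cancel_right]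
    rw [e0]
    have hz1 : (1 : G) ≠ z := Ne.symm h.ln.z_ne
    rcases h.cm_qw h.ln.z_mem hw hq with e1 | e1 <;> rcases h.cm_qw h.ln.z_mem hw' hq with e2 | e2 <;>
      rw [e1, e2]
    · simp [hz1]
    · simp [hz1]
    · simp [hz1]
    · have hzz : z * z ≠ z := by rw [h.ln.zz]; exact hz1
      simp only [hzz, if_true, if_false]
      decide

theorem MRep.fn_pi (R : MRep V cf z M H) (h : Fam T V z cf) {q : G} (hq : q ∈ qq V cf z) {w : G}
    (hw : w ∈ ww V cf z) : R.fn h hq (R.pi w) = 0 ↔ cm q w = 1 := by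
  classical
  have key : (∃ w' ∈ ww V cf z, R.pi w' = R.pi w ∧ cm q w' = z) ↔ cm q w = z := by
    refine ⟨?_, fun e => ⟨w, hw, rfl, e⟩⟩
    rintro ⟨w', hw', e1, e2⟩
    rcases (R.pi_eq h hw' hw).mp e1 with e | e
    · rwa [e] at e2
    · rw [e, cm_mul_right, cm_eq_one.mpr (h.qq_p hq), one_mul] at e2
      have h1 : z * cm q w = cm q w * z := by
        rcases h.cm_qw h.ln.z_mem hw hq with e3 | e3 <;> rw [e3]
        rw [mul_one, one_mul]
      rwa [h1, mul_inv_cancel_right] at e2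
  have e0 : R.fn h hq (R.pi w) = if cm q w = z then 1 else 0 := by
    change (if ∃ w' ∈ ww V cf z, R.pi w' = R.pi w ∧ cm q w' = z then (1 : ZMod 2) else 0) = _
    simp only [key]
  rw [e0]
  rcases h.cm_qw h.ln.z_mem hw hq with e | e
  · have hz1 : (1 : G) ≠ z := Ne.symm h.ln.z_ne
    simp [e, hz1]
  · simp [e, h.ln.z_ne]

theorem zmod2_cases (x y : ZMod 2) (h : x = 0 ↔ y = 0) : x = y := by
  revert x y; decide

theorem MRep.fn_mul (R : MRep V cf z M H) (h : Fam T V z cf) {q q' : G} (hq : q ∈ qq V cf z)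
    (hq' : q' ∈ qq V cf z) : R.fn h (mul_mem hq hq') = R.fn h hq + R.fn h hq' := by
  ext m
  obtain ⟨w, hw, rfl⟩ := R.pi_surj m
  apply zmod2_cases
  rw [R.fn_pi h _ hw]
  have e0 : cm (q * q') w = cm q' w * cm q w := by
    rw [cm_mul_left]
    congr 1
    rcases h.cm_qw h.ln.z_mem hw hq' with e3 | e3
    · rw [e3]; group
    · rw [e3, h.qq_p hq, mul_inv_cancel_right]
  have a1 := R.fn_pi h hq hw
  have a2 := R.fn_pi h hq' hw
  rw [AddMonoidHom.add_apply, e0]
  have hz1 : (1 : G) ≠ z := Ne.symm h.ln.z_ne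
  rcases h.cm_qw h.ln.z_mem hw hq with e1 | e1 <;> rcases h.cm_qw h.ln.z_mem hw hq' with e2 | e2
  · rw [a1.mpr e1, a2.mpr e2, e1, e2]; simp
  · have b2 : R.fn h hq' (R.pi w) ≠ 0 := fun e => h.ln.z_ne (e2.symm.trans (a2.mp e))
    rw [a1.mpr e1, e1, e2, zero_add, mul_one]
    exact ⟨fun e => absurd e h.ln.z_ne, fun e => absurd e b2⟩
  · have b1 : R.fn h hq (R.pi w) ≠ 0 := fun e => h.ln.z_ne (e1.symm.trans (a1.mp e))
    rw [a2.mpr e2, e1, e2, add_zero, one_mul]
    exact ⟨fun e => absurd e h.ln.z_ne, fun e => absurd e b1⟩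
  · have b1 : R.fn h hq (R.pi w) ≠ 0 := fun e => h.ln.z_ne (e1.symm.trans (a1.mp e))
    have b2 : R.fn h hq' (R.pi w) ≠ 0 := fun e => h.ln.z_ne (e2.symm.trans (a2.mp e))
    rw [e1, e2, h.ln.zz]
    have : ∀ x y : ZMod 2, x ≠ 0 → y ≠ 0 → x + y = 0 := by decide
    exact ⟨fun _ => this _ _ b1 b2, fun _ => rfl⟩

namespace Shp

variable [Finite G] (S : Shp R y P d) (h : Fam T V z cf) (hy : y ∈ V) (hy1 : y ≠ 1) (hyz : y ≠ z)
include S h hy hy1 hyz

/-- `Q_z = O_z K_z` -/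
theorem qq_eq [FaithfulSMul H M] {q : G} (hq : q ∈ qq V cf z) : ∃ o ∈ OO V cf z, o⁻¹ * q ∈ kk V cf z := by
  have hz := h.ln.z_mem
  have hz1 := h.ln.z_ne
  have hfM := S.finM
  have two := R.two h
  have hOQ := h.OO_le_qq hz hz1
  let Φ : AddSubgroup (M →+ ZMod 2) :=
    { carrier := {f | ∃ o, ∃ ho : o ∈ OO V cf z, R.fn h (hOQ ho) = f}
      add_mem' := by
        rintro _ _ ⟨o, ho, rfl⟩ ⟨o', ho', rfl⟩
        exact ⟨o * o', mul_mem ho ho', R.fn_mul h _ _⟩
      zero_mem' := by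
        refine ⟨1, one_mem _, ?_⟩
        ext m
        obtain ⟨w, hw, rfl⟩ := R.pi_surj m
        rw [(R.fn_pi h _ hw).mpr (by unfold cm; group)]
        rfl
      neg_mem' := by
        rintro _ ⟨o, ho, rfl⟩
        refine ⟨o, ho, ?_⟩
        ext m
        rw [AddMonoidHom.neg_apply]
        generalize R.fn h (hOQ ho) m = x
        revert x; decide }
  have h1 : R.fn h hq ∈ Φ := by
    refine dual_full two Φ (fun m hm => ?_) _
    obtain ⟨w, hw, rfl⟩ := R.pi_surj m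
    refine (R.pi_ker w hw).mpr (S.ann h hy hy1 hyz hw fun o ho => ?_)
    exact cm_eq_one.mp ((R.fn_pi h (hOQ ho) hw).mp (hm _ ⟨o, ho, rfl⟩))
  obtain ⟨o, ho, e⟩ := h1
  refine ⟨o, ho, ?_⟩
  rw [mem_centralizer_iff]
  intro w hw
  have e1 : R.fn h (hOQ ho) (R.pi w) = R.fn h hq (R.pi w) := by rw [e]
  have e2 : cm o w = 1 ↔ cm q w = 1 := by
    rw [← R.fn_pi h (hOQ ho) hw, ← R.fn_pi h hq hw, e1]
  have e3 : o * w * o⁻¹ = q * w * q⁻¹ := by
    have f1 : ∀ x w : G, x * w * x⁻¹ = cm x w * w := by intro x w; unfold cm; group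
    rw [f1, f1]
    congr 1
    rcases h.cm_qw hz hw (hOQ ho) with e4 | e4 <;> rcases h.cm_qw hz hw hq with e5 | e5
    · rw [e4, e5]
    · exact absurd (e5.symm.trans (e2.mp e4)) hz1
    · exact absurd (e4.symm.trans (e2.mpr e5)) hz1
    · rw [e4, e5]
  calc w * (o⁻¹ * q) = o⁻¹ * (o * w * o⁻¹) * q := by group
    _ = o⁻¹ * (q * w * q⁻¹) * q := by rw [e3]
    _ = o⁻¹ * q * w := by group

/-- `O_z` induces the full dual (pairs) -/
theorem dual2 [FaithfulSMul H M] {w v : G} (hw : w ∈ ww V cf z) (hv : v ∈ ww V cf z) (hw1 : w ≠ 1)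
    (hwz : w ≠ z) (hwv : w ≠ v) (hwv' : w ≠ z * v) : ∃ o ∈ OO V cf z, cm o v = 1 ∧ cm o w = z := by
  have hz := h.ln.z_mem
  have hz1 := h.ln.z_ne
  have hOQ := h.OO_le_qq hz hz1
  have ex : ∀ w ∈ ww V cf z, w ≠ 1 → w ≠ z → ∃ o ∈ OO V cf z, cm o w = z := by
    intro w hw hw1 hwz
    by_contra hcon
    push Not at hcon
    rcases S.ann h hy hy1 hyz hw (fun o ho => cm_eq_one.mp ((h.cm_qw hz hw (hOQ ho)).resolve_right (hcon o ho)))
      with e | e
    · exact hw1 e
    · exact hwz e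
  have mulR : ∀ o ∈ OO V cf z, ∀ a ∈ ww V cf z, ∀ b ∈ ww V cf z, cm o (a * b) = cm o a * cm o b := by
    intro o ho a ha b hb
    rw [cm_mul_right]
    congr 1
    rcases h.cm_qw hz hb (hOQ ho) with e3 | e3
    · rw [e3]; group
    · rw [e3, h.ab a ha z h.z_mem_ww, mul_inv_cancel_right]
  have mulL : ∀ o ∈ OO V cf z, ∀ o' ∈ OO V cf z, ∀ b ∈ ww V cf z, cm (o * o') b = cm o' b * cm o b := by
    intro o ho o' ho' b hb
    rw [cm_mul_left]
    congr 1
    rcases h.cm_qw hz hb (hOQ ho') with e3 | e3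
    · rw [e3]; group
    · rw [e3, h.qq_p (hOQ ho), mul_inv_cancel_right]
  obtain ⟨o1, ho1, e1⟩ := ex w hw hw1 hwz
  rcases h.cm_qw hz hv (hOQ ho1) with e2 | e2
  · exact ⟨o1, ho1, e2, e1⟩
  have hvv := h.sqz v hv
  have hwv1 : w * v ≠ 1 := by
    intro e
    apply hwv
    rw [mul_eq_one_iff_eq_inv.mp e, inv_eq_self hvv]
  have hwvz : w * v ≠ z := by
    intro e
    apply hwv'
    rw [← e, mul_assoc, hvv, mul_one]
  obtain ⟨o2, ho2, e3⟩ := ex (w * v) (mul_mem hw hv) hwv1 hwvz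
  rw [mulR o2 ho2 w hw v hv] at e3
  rcases h.cm_qw hz hv (hOQ ho2) with e4 | e4
  · rw [e4, mul_one] at e3
    exact ⟨o2, ho2, e4, e3⟩
  · have e5 : cm o2 w = 1 := by
      rw [e4] at e3
      exact mul_eq_right.mp e3
    refine ⟨o1 * o2, mul_mem ho1 ho2, ?_, ?_⟩
    · rw [mulL o1 ho1 o2 ho2 v hv, e4, e2, h.ln.zz]
    · rw [mulL o1 ho1 o2 ho2 w hw, e5, e1, one_mul]

end Shp

end module

end Cfsg.Agent.Omega.NO3S.Fit
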