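import Cfsg.Agent.Omega.NO3S.Fit.FourTwo

/-!
# Text #13963 (helper311), section 4: (4.2), (4.3)

* `Dat.com_KX` : `[K_z, X_z] ≤ W_z`;
* `Dat.com_KKX` : `[K_z, K_z ∩ X_z] ≤ ⟨z⟩`;
* `InK V cf z` : the subgroup `K_z¹`; `Dat.inK_of` : `K_z ∩ K_y ≤ K_z¹`; `Dat.inK_dec` : `K_z¹ = W_z (K_z ∩ K_y)`;
* `Dat.inK_sq` : `K_z¹` has exponent 2.
-/

set_option autoImplicit false
set_option linter.unusedSectionVars false

namespace Cfsg.Agent.Omega.NO3S.Fit

open Subgroup Cfsg Cfsg.Agent.ZN Cfsg.Agent.MinSimple.Geo Cfsg.Agent.Omega.CaseL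
open Cfsg.Agent.Omega.NO3S.Fit.PlaneForm (cm cm_eq_one cm_inv)
open Cfsg.Agent.ZN.Block (conj_mem_of_normalizer conj_mem_of_normalizer' le_normalizer_of_forall
  mem_normalizer_of)

universe u

variable {G : Type u} [Group G]

/-- `K_p¹` -/
def InK (V : Subgroup G) (cf : G → Subgroup G) (p k : G) : Prop :=
  k ∈ kk V cf p ∧ ∀ o ∈ OO V cf p, cm k o = 1 ∨ cm k o = p

theorem Fam.inK_conj {T V : Subgroup G} {z : G} {cf : G → Subgroup G} (h : Fam T V z cf) {g p k : G}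
    (hg : g ∈ normalizer (V : Set G)) (hp : p ∈ V) (hp1 : p ≠ 1) (hk : InK V cf p k) :
    InK V cf (g * p * g⁻¹) (g * k * g⁻¹) := by
  refine ⟨h.conj_kk hg hp hp1 hk.1, fun o ho => ?_⟩
  have h1 : g⁻¹ * o * g ∈ OO V cf p := by
    have := h.conj_OO (inv_mem hg) (h.conj_pt hg hp) (conj_ne hp1) ho
    have e1 : g⁻¹ * (g * p * g⁻¹) * g⁻¹⁻¹ = p := by group
    rwa [e1, inv_inv] at this
  have e : cm (g * k * g⁻¹) o = g * cm k (g⁻¹ * o * g) * g⁻¹ := by unfold cm; group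
  rw [e]
  rcases hk.2 _ h1 with e1 | e1 <;> rw [e1]
  · left; group
  · right; rfl

theorem Fam.inK_conj' {T V : Subgroup G} {z : G} {cf : G → Subgroup G} (h : Fam T V z cf) {c p k : G}
    (hp : p ∈ V) (hp1 : p ≠ 1) (hc : c ∈ cf p) (hk : InK V cf p k) : InK V cf p (c * k * c⁻¹) := by
  refine ⟨conj_mem_of_normalizer h.cf_norm_kk hc hk.1, fun o ho => ?_⟩
  have h1 : c⁻¹ * o * c ∈ OO V cf p := conj_mem_of_normalizer' h.cf_norm_OO hc ho
  have e : cm (c * k * c⁻¹) o = c * cm k (c⁻¹ * o * c) * c⁻¹ := by unfold cm; group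
  rw [e]
  rcases hk.2 _ h1 with e1 | e1 <;> rw [e1]
  · left; group
  · right; rw [h.cf_comm hp hp1 hc]; group

namespace Dat

variable {T V : Subgroup G} {z : G} {cf : G → Subgroup G} {y : G} [Finite G] (D : Dat T V z cf y)
include D

/-- an element of `W_p` which centralises `W_q` is in `I` -/
theorem jj_of_cent {p q w : G} (hp : p ∈ V) (hp1 : p ≠ 1) (hq : q ∈ V) (hq1 : q ≠ 1) (hqp : q ≠ p)
    (hw : w ∈ ww V cf p) (hc : w ∈ kk V cf q) : w ∈ jj V cf := by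
  obtain ⟨T', D'⟩ := D.at hp hp1 hq hq1 hqp
  exact D'.jj_of hw fun g hg => Or.inl (cm_eq_one.mpr (mem_centralizer_iff.mp hc g hg).symm)

theorem mem_Z {x : G} : x ∈ zpowers z ↔ x = 1 ∨ x = z := mem_zpowers_iff_of_mul_self D.fam.ln.zz

theorem conj_Z {c x : G} (hc : c ∈ cf z) (hx : x ∈ zpowers z) : c * x * c⁻¹ ∈ zpowers z := by
  rw [D.mem_Z] at hx ⊢
  rcases hx with e | e <;> rw [e]
  · left; group
  · right; rw [D.fam.cf_comm D.hz D.hz1 hc]; group

/-- `[K_z, X_z] ≤ W_z` -/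
theorem com_KX {k x : G} (hk : k ∈ kk V cf z) (hx : x ∈ XX V cf z) : cm k x ∈ ww V cf z := by
  have h := D.fam
  have hz := D.hz
  have hz1 := D.hz1
  have key : ∀ k ∈ kk V cf z, ∀ q ∈ V, q ≠ 1 → ∀ g ∈ ww V cf q, cm k g ∈ ww V cf z := by
    intro k hk q hq hq1 g hg
    by_cases hqz : q = z
    · rw [hqz] at hg
      rw [cm_eq_one.mpr (mem_centralizer_iff.mp hk g hg).symm]
      exact one_mem _
    · have hkV := h.kk_le_cent hk
      have h1 : cm k g ∈ ww V cf q :=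
        mul_mem (conj_mem_of_normalizer (h.cent_norm hq hq1) hkV hg) (inv_mem hg)
      have h2 : cm k g ∈ kk V cf z := by
        have e : cm k g = k * (g * k⁻¹ * g⁻¹) := by unfold cm; group
        rw [e]
        exact mul_mem hk (conj_mem_of_normalizer h.cf_norm_kk (h.ww_le_cf' hq hq1 hz hz1 hg) (inv_mem hk))
      exact Fam.jj_le hz hz1 (D.jj_of_cent hq hq1 hz hz1 (Ne.symm hqz) h1 h2)
  induction hx using closure_induction with
  | mem x hx =>
    obtain ⟨c, hc, q, hq, hq1, g, hg, rfl⟩ := hx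
    have e : cm k (c * g * c⁻¹) = c * cm (c⁻¹ * k * c) g * c⁻¹ := by unfold cm; group
    rw [e]
    exact conj_mem_wf hc (key _ (conj_mem_of_normalizer' h.cf_norm_kk hc hk) q hq hq1 g hg)
  | one => rw [cm_eq_one.mpr (by rw [mul_one, one_mul])]; exact one_mem _
  | mul a b ha' _ ha hb =>
    rw [cm_mul_right]
    exact mul_mem ha (conj_mem_wf (h.XX_le_cf hz hz1 ha') hb)
  | inv a ha' ha =>
    have e : cm k a⁻¹ = a⁻¹ * (cm k a)⁻¹ * a⁻¹⁻¹ := by unfold cm; group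
    rw [e]
    exact conj_mem_wf (inv_mem (h.XX_le_cf hz hz1 ha')) (inv_mem ha)

theorem com_XK {k x : G} (hk : k ∈ kk V cf z) (hx : x ∈ XX V cf z) : cm x k ∈ ww V cf z := by
  rw [← cm_inv]
  exact inv_mem (D.com_KX hk hx)

theorem KW {k w : G} (hk : k ∈ kk V cf z) (hw : w ∈ ww V cf z) : k * w = w * k :=
  (mem_centralizer_iff.mp hk w hw).symm

/-- `[K_z, K_z ∩ X_z] ≤ ⟨z⟩` -/
theorem com_KKX {k l : G} (hk : k ∈ kk V cf z) (hl : l ∈ kk V cf z) (hlX : l ∈ XX V cf z) :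
    cm k l = 1 ∨ cm k l = z := by
  have h := D.fam
  have hz := D.hz
  have hz1 := D.hz1
  obtain ⟨t, ht, -, htf, -⟩ := D.tt
  have hu := D.com_KX hk hlX
  refine htf _ hu (Or.inl ?_)
  have h1 := D.com_XK hk ht
  have h2 := D.com_XK hl ht
  have e1 : t * cm k l * t⁻¹ = cm (cm t k * k) (cm t l * l) := by
    rw [conj_cm']
    congr 1 <;> (unfold cm; group)
  have e2 : cm (cm t k * k) (cm t l * l) = cm k l := by
    rw [cm_mul_left, cm_mul_right (cm t k)]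
    have f1 : cm (cm t k) (cm t l) = 1 := cm_eq_one.mpr (h.ab _ h1 _ h2)
    have f2 : cm (cm t k) l = 1 := cm_eq_one.mpr (D.KW hl h1).symm
    have f3 : cm k (cm t l) = 1 := cm_eq_one.mpr (D.KW hk h2)
    rw [f1, f2, cm_mul_right, f3, one_mul, h.ab _ h2 _ hu, mul_inv_cancel_right, h.ab _ h1 _ hu,
      mul_inv_cancel_right]
    group
  rw [e2] at e1
  exact cm_eq_one.mpr (comm_of_conj_eq e1)

/-- `K_z ∩ K_y ≤ K_z¹` -/
theorem inK_of {d : G} (hd : d ∈ kk V cf z) (hdy : d ∈ kk V cf y) : InK V cf z d := by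
  have h := D.fam
  have hz := D.hz
  have hz1 := D.hz1
  refine ⟨hd, ?_⟩
  have key : ∀ q ∈ V, q ≠ 1 → ∀ g ∈ ww V cf q, g ∈ qq V cf z → cm d g ∈ zpowers z := by
    intro q hq hq1 g hg hgQ
    rcases h.ln.four hz D.hy hz1 D.hy1 (Ne.symm D.hyz) hq with e | e | e | e
    · exact absurd e hq1
    · rw [e] at hg
      rw [cm_eq_one.mpr (D.KW hd hg)]; exact one_mem _
    · rw [e] at hg
      rw [cm_eq_one.mpr (mem_centralizer_iff.mp hdy g hg).symm]; exact one_mem _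
    · obtain ⟨m, hm, hm1⟩ := h.exists_mover hz hz1
      have hmy := h.move hz hz1 D.hy D.hy1 D.hyz hm hm1
      have hmV := h.qq_le_normalizer hz hm
      have hg' : m⁻¹ * g * m ∈ ww V cf y := by
        rw [← h.mem_ww_conj hmV D.hy D.hy1, hmy, ← e]; exact hg
      have hgQ' : m⁻¹ * g * m ∈ qq V cf z := mul_mem (mul_mem (inv_mem hm) hgQ) hm
      have hκK : cm m (m⁻¹ * g * m) ∈ kk V cf z := h.cm_qq_kk hz hz1 hm hgQ'
      have hκX : cm m (m⁻¹ * g * m) ∈ XX V cf z :=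
        mul_mem (mem_XX hm.1 D.hy D.hy1 hg') (inv_mem (mem_XX' D.hy D.hy1 hg'))
      have e1 : g = cm m (m⁻¹ * g * m) * (m⁻¹ * g * m) := by unfold cm; group
      have e2 : cm d (m⁻¹ * g * m) = 1 := cm_eq_one.mpr (mem_centralizer_iff.mp hdy _ hg').symm
      rw [e1, cm_mul_right, e2, mul_one, mul_inv_cancel, mul_one, D.mem_Z]
      exact D.com_KKX hd hκK hκX
  intro o ho
  rw [← D.mem_Z]
  induction ho using closure_induction with
  | mem x hx =>
    obtain ⟨c, hc, q, hq, hq1, g, hg, hgQ, rfl⟩ := hx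
    obtain ⟨x, hx, n, hn, hnz, rfl⟩ := D.gen hc
    have hxc := h.XX_le_cf hz hz1 hx
    have hnc := h.ge z hz hz1 ⟨hn, mem_centralizer_singleton_iff.mpr hnz⟩
    have hg1 := h.conj_ww hn hq hq1 hg
    have hg2 : n * g * n⁻¹ ∈ qq V cf z := conj_mem_of_normalizer (h.cf_norm_qq hz hz1) hnc hgQ
    have h1 := key _ (h.conj_pt hn hq) (Fam.conj_ne hq1) _ hg1 hg2
    set g' := n * g * n⁻¹ with hg'
    have hu : cm x⁻¹ d ∈ ww V cf z := D.com_XK hd (inv_mem hx)
    have e : cm d (x * n * g * (x * n)⁻¹) = x * cm (cm x⁻¹ d * d) g' * x⁻¹ := by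
      rw [hg']; unfold cm; group
    rw [e]
    refine D.conj_Z hxc ?_
    rw [cm_mul_left]
    refine mul_mem (D.conj_Z (h.ww_le_cf hz hz1 hu) h1) ?_
    rw [D.mem_Z]
    exact h.cm_qq hz hz1 hu hg2
  | one => rw [cm_eq_one.mpr (by rw [mul_one, one_mul])]; exact one_mem _
  | mul a b ha' _ ha hb =>
    rw [cm_mul_right]
    exact mul_mem ha (D.conj_Z (h.OO_le_qq hz hz1 ha').1 hb)
  | inv a ha' ha =>
    have e : cm d a⁻¹ = a⁻¹ * (cm d a)⁻¹ * a⁻¹⁻¹ := by unfold cm; group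
    rw [e]
    exact D.conj_Z (inv_mem (h.OO_le_qq hz hz1 ha').1) (inv_mem ha)

/-- `[K_z¹, Q_z ∩ X_z] ≤ ⟨z⟩` -/
theorem inK_QX {k q : G} (hk : InK V cf z k) (hq : q ∈ qq V cf z) (hqX : q ∈ XX V cf z) :
    cm k q = 1 ∨ cm k q = z := by
  have h := D.fam
  have hz := D.hz
  have hz1 := D.hz1
  obtain ⟨o, ho, hoq⟩ := D.qqe hq
  have hoX := OO_le_XX V cf z ho
  have h1 := D.com_KKX hk.1 hoq (mul_mem (inv_mem hoX) hqX)
  have e : q = o * (o⁻¹ * q) := by group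
  rw [e, ← D.mem_Z, cm_mul_right]
  refine mul_mem (D.mem_Z.mpr (hk.2 o ho)) (D.conj_Z (h.OO_le_qq hz hz1 ho).1 (D.mem_Z.mpr h1))

/-- `K_z¹ = W_z (K_z ∩ K_y)` -/
theorem inK_dec {k : G} (hk : InK V cf z k) : ∃ w ∈ ww V cf z, k * w ∈ kk V cf z ∧ k * w ∈ kk V cf y := by
  have h := D.fam
  have hz := D.hz
  have hz1 := D.hz1
  have hkV := h.kk_le_cent hk.1
  obtain ⟨T', D'⟩ := D.at D.hy D.hy1 hz hz1 (Ne.symm D.hyz)
  obtain ⟨b, hb, hbQ⟩ := D'.exists_a
  obtain ⟨a, ha, haQ⟩ := D.exists_a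
  -- `k v ∈ Q_y`
  obtain ⟨v, hv, hvQ⟩ : ∃ v ∈ ww V cf z, k * v ∈ qq V cf y := by
    have := D'.sev hb hbQ hkV (fun e he => D.KW hk.1 (Fam.jj_le hz hz1 he))
      (fun w hw hwQ => hk.2 w (mem_OO' D.hy D.hy1 hw hwQ))
    rcases this with e | e
    · exact ⟨1, one_mem _, by rwa [mul_one]⟩
    · exact ⟨b, hb, e⟩
  set l := k * v with hl
  have hlK : l ∈ kk V cf z := mul_mem hk.1 (h.ww_le_kk hz hz1 hv)
  have hyW : ∀ g ∈ ww V cf y, g * y = y * g := fun g hg => h.comm D.hy D.hy1 g hg y (h.V_le D.hy)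
  have hlg : ∀ g ∈ ww V cf y, g ∈ qq V cf z → cm l g = 1 := by
    intro g hg hgQ
    have h1 : cm l g ∈ zpowers z := by
      rw [hl, cm_mul_left]
      have h2 : cm v g ∈ zpowers z := D.mem_Z.mpr (h.cm_qq hz hz1 hv hgQ)
      have h3 : cm k g ∈ zpowers z := D.mem_Z.mpr (hk.2 g (mem_OO' D.hy D.hy1 hg hgQ))
      exact mul_mem (D.conj_Z (h.cent_le_cf hz hz1 hkV) h2) h3
    rcases h.cm_qw D.hy hg hvQ with e | e
    · exact e
    · rcases D.mem_Z.mp h1 with e' | e'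
      · exact e'
      · exact absurd (e.symm.trans e') D.hyz
  have fin : ∀ l ∈ kk V cf z, (∀ g ∈ ww V cf y, g ∈ qq V cf z → cm l g = 1) → cm l a = 1 → l ∈ kk V cf y := by
    intro l _ h1 h2
    rw [mem_centralizer_iff]
    intro g hg
    refine (cm_eq_one.mp ?_).symm
    by_cases hgQ : g ∈ qq V cf z
    · exact h1 g hg hgQ
    · have h3 := D.one1 y D.hy D.hy1 z hz hz1 (Ne.symm D.hyz) g hg a ha hgQ haQ
      have e1 : g = g * a * a := by rw [mul_assoc, h.sq D.hy D.hy1 a ha, mul_one]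
      rw [e1, cm_mul_right, h1 _ (mul_mem hg ha) h3, h2]
      group
  rcases h.cm_qw D.hy ha hvQ with e | e
  · exact ⟨v, hv, hlK, fin l hlK hlg e⟩
  · obtain ⟨w1, hw1, hw1Q, hw1a⟩ := D.exists_w1
    have hl1 : l * w1 ∈ kk V cf z := mul_mem hlK (h.ww_le_kk hz hz1 hw1)
    have hly : l * y = y * l := (h.V_comm D.hy (h.kk_le_cent hlK)).symm
    refine ⟨v * w1, mul_mem hv hw1, ?_, ?_⟩
    · rw [← mul_assoc]; exact hl1
    · rw [← mul_assoc]
      refine fin _ hl1 (fun g hg hgQ => ?_) ?_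
      · rw [cm_mul_left, hlg g hg hgQ]
        have e1 : cm w1 g = 1 := by
          rcases h.cm_qq hz hz1 hw1 hgQ with e1 | e1
          · exact e1
          · rcases h.cm_qw D.hy hg hw1Q with e2 | e2
            · exact e2
            · exact absurd (e2.symm.trans e1) D.hyz
        rw [e1]; group
      · rw [cm_mul_left, e, hw1a a ha haQ, hly, mul_inv_cancel_right, h.ln.sq y D.hy]

/-- squares of elements of `K_z¹` -/
theorem inK_sq' {k : G} (hk : InK V cf z k) : ∃ d ∈ kk V cf z, d ∈ kk V cf y ∧ k * k = d * d := by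
  obtain ⟨w, hw, h1, h2⟩ := D.inK_dec hk
  refine ⟨k * w, h1, h2, ?_⟩
  have hkw := D.KW hk.1 hw
  calc k * k = k * k * (w * w) := by rw [D.fam.sqz w hw, mul_one]
    _ = k * (k * w) * w := by group
    _ = k * (w * k) * w := by rw [hkw]
    _ = (k * w) * (k * w) := by group

end Dat

/-- the group generated by the squares of `K_p¹` -/
def FF1 (V : Subgroup G) (cf : G → Subgroup G) (p : G) : Subgroup G :=
  closure {x | ∃ k, InK V cf p k ∧ x = k * k}

namespace Dat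

variable {T V : Subgroup G} {z : G} {cf : G → Subgroup G} {y : G} [Finite G] (D : Dat T V z cf y)
include D

theorem FF1_le {p q : G} (hp : p ∈ V) (hp1 : p ≠ 1) (hq : q ∈ V) (hq1 : q ≠ 1) : FF1 V cf p ≤ FF1 V cf q := by
  by_cases hqp : q = p
  · rw [hqp]
  refine closure_le _ |>.mpr ?_
  rintro x ⟨k, hk, rfl⟩
  obtain ⟨T', D'⟩ := D.at hp hp1 hq hq1 hqp
  obtain ⟨T'', D''⟩ := D.at hq hq1 hp hp1 (Ne.symm hqp)
  obtain ⟨d, hd, hdq, e⟩ := D'.inK_sq' hk
  rw [e]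
  exact subset_closure ⟨d, D''.inK_of hdq hd, rfl⟩

/-- `K_z¹` has exponent 2. -/
theorem inK_sq {k : G} (hk : InK V cf z k) : k * k = 1 := by
  have h := D.fam
  have hz := D.hz
  have hz1 := D.hz1
  have hb : FF1 V cf z = ⊥ := by
    refine h.nl ?_ ?_ ?_
    · refine D.two.to_le (closure_le _ |>.mpr ?_)
      rintro x ⟨k, hk, rfl⟩
      exact mul_mem (h.kk_le_cent hk.1) (h.kk_le_cent hk.1)
    · refine le_normalizer_of_forall fun g hg x hx => ?_
      have h1 : g * x * g⁻¹ ∈ FF1 V cf (g * z * g⁻¹) := by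
        induction hx using closure_induction with
        | mem x hx =>
          obtain ⟨k, hk, rfl⟩ := hx
          exact subset_closure ⟨g * k * g⁻¹, h.inK_conj hg hz hz1 hk, by group⟩
        | one => simp
        | mul a b _ _ ha hb =>
          have e : g * (a * b) * g⁻¹ = (g * a * g⁻¹) * (g * b * g⁻¹) := by group
          rw [e]
          exact mul_mem ha hb
        | inv a _ ha =>
          have e : g * a⁻¹ * g⁻¹ = (g * a * g⁻¹)⁻¹ := by group
          rw [e]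
          exact inv_mem ha
      exact D.FF1_le (h.conj_pt hg hz) (Fam.conj_ne hz1) hz hz1 h1
    · refine le_normalizer_of_forall fun g hg x hx => ?_
      induction hx using closure_induction with
      | mem x hx =>
        obtain ⟨k, hk, rfl⟩ := hx
        exact subset_closure ⟨g * k * g⁻¹, h.inK_conj' hz hz1 hg hk, by group⟩
      | one => simp
      | mul a b _ _ ha hb =>
        have e : g * (a * b) * g⁻¹ = (g * a * g⁻¹) * (g * b * g⁻¹) := by group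
        rw [e]
        exact mul_mem ha hb
      | inv a _ ha =>
        have e : g * a⁻¹ * g⁻¹ = (g * a * g⁻¹)⁻¹ := by group
        rw [e]
        exact inv_mem ha
  have h1 : k * k ∈ FF1 V cf z := subset_closure ⟨k, hk, rfl⟩
  rw [hb] at h1
  exact mem_bot.mp h1

end Dat

end Cfsg.Agent.Omega.NO3S.Fit
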