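import Cfsg.Agent.Omega.NO3S.Fit.FourBase

/-!
# Text #13963 (helper311), section 4: more module facts

* `Fam.ww_le_T'`;
* `Shp.mem_qq_iff` : for `w ∈ W_z`: `w ∈ Q_y ↔ [w, a] ∈ V`;
* `Shp.irr` : `M` is irreducible;
* `Shp.sseven` (S7) : an element of `C_G(V)` which centralises `I` and with `[W_z ∩ Q_y, k] ≤ ⟨y⟩` acts on `M` as
  `1` or `a`;
* `XX`, `OO`, `Shp.lift`, `Shp.gen_XX`, `Shp.ann`.
-/

set_option autoImplicit false
set_option linter.unusedSectionVars false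

namespace Cfsg.Agent.Omega.NO3S.Fit

open Subgroup Cfsg Cfsg.Agent.ZN Cfsg.Agent.MinSimple.Geo Cfsg.Agent.Omega.CaseL
open Cfsg.Agent.Omega.NO3S.Fit.PlaneForm (cm cm_eq_one cm_inv)
open Cfsg.Agent.Omega.NO3S.Fit.Abs (br fx cx)
open Cfsg.Agent.ZN.Block (conj_mem_of_normalizer conj_mem_of_normalizer' le_normalizer_of_forall
  mem_normalizer_of)

universe u

variable {G : Type u} [Group G]

/-- `X_p` -/
def XX (V : Subgroup G) (cf : G → Subgroup G) (p : G) : Subgroup G :=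
  closure {x | ∃ c ∈ cf p, ∃ q ∈ V, q ≠ 1 ∧ ∃ g ∈ ww V cf q, x = c * g * c⁻¹}

/-- `O_p` -/
def OO (V : Subgroup G) (cf : G → Subgroup G) (p : G) : Subgroup G :=
  closure {x | ∃ c ∈ cf p, ∃ q ∈ V, q ≠ 1 ∧ ∃ g ∈ ww V cf q, g ∈ qq V cf p ∧ x = c * g * c⁻¹}

section fam

variable {T V : Subgroup G} {z : G} {cf : G → Subgroup G}

theorem mem_XX {p c q g : G} (hc : c ∈ cf p) (hq : q ∈ V) (hq1 : q ≠ 1) (hg : g ∈ ww V cf q) :
    c * g * c⁻¹ ∈ XX V cf p := subset_closure ⟨c, hc, q, hq, hq1, g, hg, rfl⟩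

theorem mem_OO {p c q g : G} (hc : c ∈ cf p) (hq : q ∈ V) (hq1 : q ≠ 1) (hg : g ∈ ww V cf q)
    (hgQ : g ∈ qq V cf p) : c * g * c⁻¹ ∈ OO V cf p := subset_closure ⟨c, hc, q, hq, hq1, g, hg, hgQ, rfl⟩

theorem mem_XX' {p q g : G} (hq : q ∈ V) (hq1 : q ≠ 1) (hg : g ∈ ww V cf q) : g ∈ XX V cf p := by
  have := mem_XX (V := V) (cf := cf) (one_mem (cf p)) hq hq1 hg
  simpa using this

theorem mem_OO' {p q g : G} (hq : q ∈ V) (hq1 : q ≠ 1) (hg : g ∈ ww V cf q) (hgQ : g ∈ qq V cf p) :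
    g ∈ OO V cf p := by
  have := mem_OO (V := V) (cf := cf) (one_mem (cf p)) hq hq1 hg hgQ
  simpa using this

theorem OO_le_XX (V : Subgroup G) (cf : G → Subgroup G) (p : G) : OO V cf p ≤ XX V cf p := by
  refine closure_le _ |>.mpr ?_
  rintro x ⟨c, hc, q, hq, hq1, g, hg, -, rfl⟩
  exact mem_XX hc hq hq1 hg

namespace Fam

theorem XX_le_cf (h : Fam T V z cf) {p : G} (hp : p ∈ V) (hp1 : p ≠ 1) : XX V cf p ≤ cf p := by
  refine closure_le _ |>.mpr ?_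
  rintro x ⟨c, hc, q, hq, hq1, g, hg, rfl⟩
  exact mul_mem (mul_mem hc (h.ww_le_cf' hq hq1 hp hp1 hg)) (inv_mem hc)

theorem OO_le_qq (h : Fam T V z cf) {p : G} (hp : p ∈ V) (hp1 : p ≠ 1) : OO V cf p ≤ qq V cf p := by
  refine closure_le _ |>.mpr ?_
  rintro x ⟨c, hc, q, hq, hq1, g, hg, hgQ, rfl⟩
  exact conj_mem_of_normalizer (h.cf_norm_qq hp hp1) hc hgQ

theorem cf_norm_XX (_ : Fam T V z cf) {p : G} : cf p ≤ normalizer ((XX V cf p : Subgroup G) : Set G) := by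
  refine le_normalizer_of_forall fun c hc x hx => ?_
  induction hx using closure_induction with
  | mem x hx =>
    obtain ⟨c', hc', q, hq, hq1, g, hg, rfl⟩ := hx
    have e : c * (c' * g * c'⁻¹) * c⁻¹ = (c * c') * g * (c * c')⁻¹ := by group
    rw [e]
    exact mem_XX (mul_mem hc hc') hq hq1 hg
  | one => simp
  | mul a b _ _ ha hb =>
    have e : c * (a * b) * c⁻¹ = (c * a * c⁻¹) * (c * b * c⁻¹) := by group
    rw [e]
    exact mul_mem ha hb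
  | inv a _ ha =>
    have e : c * a⁻¹ * c⁻¹ = (c * a * c⁻¹)⁻¹ := by group
    rw [e]
    exact inv_mem ha

theorem cf_norm_OO (_ : Fam T V z cf) {p : G} : cf p ≤ normalizer ((OO V cf p : Subgroup G) : Set G) := by
  refine le_normalizer_of_forall fun c hc x hx => ?_
  induction hx using closure_induction with
  | mem x hx =>
    obtain ⟨c', hc', q, hq, hq1, g, hg, hgQ, rfl⟩ := hx
    have e : c * (c' * g * c'⁻¹) * c⁻¹ = (c * c') * g * (c * c')⁻¹ := by group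
    rw [e]
    exact mem_OO (mul_mem hc hc') hq hq1 hg hgQ
  | one => simp
  | mul a b _ _ ha hb =>
    have e : c * (a * b) * c⁻¹ = (c * a * c⁻¹) * (c * b * c⁻¹) := by group
    rw [e]
    exact mul_mem ha hb
  | inv a _ ha =>
    have e : c * a⁻¹ * c⁻¹ = (c * a * c⁻¹)⁻¹ := by group
    rw [e]
    exact inv_mem ha

theorem conj_XX (h : Fam T V z cf) {g p x : G} (hg : g ∈ normalizer (V : Set G)) (hp : p ∈ V) (hp1 : p ≠ 1)
    (hx : x ∈ XX V cf p) : g * x * g⁻¹ ∈ XX V cf (g * p * g⁻¹) := by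
  induction hx using closure_induction with
  | mem x hx =>
    obtain ⟨c', hc', q, hq, hq1, w, hw, rfl⟩ := hx
    have e : g * (c' * w * c'⁻¹) * g⁻¹ = (g * c' * g⁻¹) * (g * w * g⁻¹) * (g * c' * g⁻¹)⁻¹ := by group
    rw [e]
    exact mem_XX (h.conj_cf hg hp hp1 hc') (h.conj_pt hg hq) (conj_ne hq1) (h.conj_ww hg hq hq1 hw)
  | one => simp
  | mul a b _ _ ha hb =>
    have e : g * (a * b) * g⁻¹ = (g * a * g⁻¹) * (g * b * g⁻¹) := by group
    rw [e]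
    exact mul_mem ha hb
  | inv a _ ha =>
    have e : g * a⁻¹ * g⁻¹ = (g * a * g⁻¹)⁻¹ := by group
    rw [e]
    exact inv_mem ha

theorem conj_OO (h : Fam T V z cf) {g p x : G} (hg : g ∈ normalizer (V : Set G)) (hp : p ∈ V) (hp1 : p ≠ 1)
    (hx : x ∈ OO V cf p) : g * x * g⁻¹ ∈ OO V cf (g * p * g⁻¹) := by
  induction hx using closure_induction with
  | mem x hx =>
    obtain ⟨c', hc', q, hq, hq1, w, hw, hwQ, rfl⟩ := hx
    have e : g * (c' * w * c'⁻¹) * g⁻¹ = (g * c' * g⁻¹) * (g * w * g⁻¹) * (g * c' * g⁻¹)⁻¹ := by group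
    rw [e]
    exact mem_OO (h.conj_cf hg hp hp1 hc') (h.conj_pt hg hq) (conj_ne hq1) (h.conj_ww hg hq hq1 hw)
      (h.conj_qq hg hp hp1 hwQ)
  | one => simp
  | mul a b _ _ ha hb =>
    have e : g * (a * b) * g⁻¹ = (g * a * g⁻¹) * (g * b * g⁻¹) := by group
    rw [e]
    exact mul_mem ha hb
  | inv a _ ha =>
    have e : g * a⁻¹ * g⁻¹ = (g * a * g⁻¹)⁻¹ := by group
    rw [e]
    exact inv_mem ha

/-- all `W_p` are in `T` -/
theorem ww_le_T' [Finite G] (h : Fam T V z cf) {p : G} (hp : p ∈ V) (hp1 : p ≠ 1) : ww V cf p ≤ T := by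
  have hz := h.ln.z_mem
  have hz1 := h.ln.z_ne
  by_cases hpz : p = z
  · rw [hpz]; exact h.ww_le_T
  have hzp : z * p ∈ V := mul_mem hz hp
  have hzp1 : z * p ≠ 1 := h.mul_ne_one hp (Ne.symm hpz)
  refine le_trans le_sup_left (h.le_T (R := ww V cf p ⊔ ww V cf (z * p)) ?_ ?_)
  · exact (h.two_ww hp hp1).to_sup_of_normal_left' (h.two_ww hzp hzp1)
      ((h.ww_le_cent hzp hzp1).trans (h.cent_norm hp hp1))
  · intro t ht
    have htV := h.ln.T_norm ht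
    have htz := h.ln.z_comm (h.ln.T_le ht)
    rw [mem_normalizer_iff_cj]
    have e0 : cj t (ww V cf p ⊔ ww V cf (z * p)) = cj t (ww V cf p) ⊔ cj t (ww V cf (z * p)) := map_sup _ _ _
    have ez : t * z * t⁻¹ = z := conj_eq_of_comm htz
    have e1 : t * (z * p) * t⁻¹ = z * (t * p * t⁻¹) := by
      calc t * (z * p) * t⁻¹ = (t * z * t⁻¹) * (t * p * t⁻¹) := by group
        _ = z * (t * p * t⁻¹) := by rw [ez]
    rw [e0, h.cj_ww htV hp hp1, h.cj_ww htV hzp hzp1, e1]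
    rcases h.ln.conj_cases hz hp hz1 htz htV with e | e
    · rw [e]
    · rw [e]
      have : z * (z * p) = p := by rw [← mul_assoc, h.ln.zz, one_mul]
      rw [this, sup_comm]

/-- `[w, a] ∈ V` if and only if `w ∈ Q_y` -/
theorem mem_qq_iff (h : Fam T V z cf) (hk : One1 V cf) {y : G} (hy : y ∈ V) (hy1 : y ≠ 1) (hyz : y ≠ z)
    {a w0 : G} (ha : a ∈ ww V cf y) (hw0 : w0 ∈ ww V cf z) (hw0V : cm w0 a ∉ V) {w : G}
    (hw : w ∈ ww V cf z) : w ∈ qq V cf y ↔ cm w a ∈ V := by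
  have hz := h.ln.z_mem
  have hz1 := h.ln.z_ne
  have key : ∀ w ∈ qq V cf y, cm w a ∈ V := by
    intro w hwQ
    rcases h.cm_qq' hy hwQ ha with e | e <;> rw [e]
    · exact one_mem _
    · exact hy
  refine ⟨key w, fun hwV => ?_⟩
  by_contra hwQ
  have hw0Q : w0 ∉ qq V cf y := fun e => hw0V (key w0 e)
  have h1 := hk z hz hz1 y hy hy1 hyz w hw w0 hw0 hwQ hw0Q
  have h2 := key _ h1
  have h3 : cm w0 a ∈ ww V cf z := (h.comm_mem hz hz1 hy hy1 hw0 ha).1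
  rw [cm_mul_left, h.ab w hw _ h3, mul_inv_cancel_right] at h2
  apply hw0V
  have := mul_mem h2 (inv_mem hwV)
  rwa [mul_inv_cancel_right] at this

end Fam

end fam

section module

variable {T V : Subgroup G} {z : G} {cf : G → Subgroup G} {M H : Type u} [AddCommGroup M] [Group H]
  [DistribMulAction H M] {R : MRep V cf z M H} {y : G} {P : Subgroup H} {d : H}

namespace Shp

variable [Finite G] (S : Shp R y P d) (h : Fam T V z cf) (hy : y ∈ V) (hy1 : y ≠ 1) (hyz : y ≠ z)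
include S h hy hy1 hyz

/-- `M` is irreducible. -/
theorem irr (N : AddSubgroup M) (hN : ∀ x : H, ∀ n ∈ N, x • n ∈ N) {n0 : M} (hn0 : n0 ∈ N)
    (hn1 : n0 ≠ 0) (m : M) : m ∈ N := by
  have hz := h.ln.z_mem
  have hz1 := h.ln.z_ne
  have hfM := S.finM
  have two := R.two h
  have hfact : Fact (Nat.Prime 2) := ⟨Nat.prime_two⟩
  obtain ⟨a, ha, haQ⟩ := h.exists_not_qq hy hy1 hz hz1 (Ne.symm hyz)
  let _ : MulAction (R.img T) N :=
    { smul := fun x n => ⟨(x : H) • (n : M), hN x n n.2⟩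
      one_smul := fun n => Subtype.ext (one_smul H (n : M))
      mul_smul := fun x y n => Subtype.ext (mul_smul (x : H) (y : H) (n : M)) }
  have hsm : ∀ (x : R.img T) (n : N), ((x • n : N) : M) = (x : H) • (n : M) := fun _ _ => rfl
  have hp := R.img_T_two h
  have hdvd : 2 ∣ Nat.card N := by
    obtain ⟨k, hk⟩ := Abs.exists_card_two_pow two N
    rw [hk]
    refine dvd_pow_self 2 ?_
    rintro rfl
    rw [pow_zero] at hk
    have : Subsingleton N := (Nat.card_eq_one_iff_unique.mp hk).1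
    exact hn1 (congrArg Subtype.val (Subsingleton.elim (⟨n0, hn0⟩ : N) 0))
  have h0 : (0 : N) ∈ MulAction.fixedPoints (R.img T) N := fun x => Subtype.ext (by
    rw [hsm]; exact smul_zero _)
  obtain ⟨b, hb, hb0⟩ := hp.exists_fixed_point_of_prime_dvd_card_of_fixed_point N hdvd h0
  have hbT : ∀ x ∈ R.img T, x • (b : M) = b := fun x hx => by
    have := congrArg Subtype.val (hb ⟨x, hx⟩)
    rwa [hsm] at this
  have hb1 : (b : M) ≠ 0 := fun e => hb0 (Subtype.ext e.symm)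
  obtain ⟨w, hw, hwb⟩ := R.pi_surj (b : M)
  have haT : R.phi a ∈ R.img T := (R.mem_img h.T_le_cf).mpr ⟨a, h.ww_le_T' hy hy1 ha, rfl⟩
  have hwj : w ∈ jj V cf := S.mem_jj_of_fx h hy hy1 hyz ha haQ hw (by rw [hwb]; exact hbT _ haT)
  have hv0 : R.pi y ∈ N := by
    rcases R.fixI h hy hy1 hyz hwj (by rw [hwb]; exact hbT) with e | e
    · exact absurd (hwb.symm.trans e) hb1
    · rw [← e, hwb]; exact b.2
  have hm : m ∈ AddSubgroup.closure (Set.range fun x : H => x • R.pi y) := by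
    rw [R.span h hy hy1 hyz]; trivial
  refine (AddSubgroup.closure_le N).mpr ?_ hm
  rintro _ ⟨x, rfl⟩
  exact hN x _ hv0

/-- every element of `P` has a lift in `X_z` -/
theorem lift {p : H} (hp : p ∈ P) : ∃ t ∈ XX V cf z, R.phi t = p := by
  have hz := h.ln.z_mem
  have hz1 := h.ln.z_ne
  obtain ⟨a, ha, haQ⟩ := h.exists_not_qq hy hy1 hz hz1 (Ne.symm hyz)
  have hac := h.ww_le_cf' hy hy1 hz hz1 ha
  obtain ⟨k, hk⟩ := S.odd_of hp
  have hq : p ^ (k + 1) ∈ P := pow_mem hp _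
  have hqq : p ^ (k + 1) * p ^ (k + 1) = p := by
    rw [← pow_add, show k + 1 + (k + 1) = (2 * k + 1) + 1 by ring, pow_add, ← hk, pow_orderOf_eq_one, one_mul,
      pow_one]
  obtain ⟨c, hc, hcq⟩ := R.phi_surj (p ^ (k + 1))
  have hinv := S.inv a ha haQ _ (inv_mem hq)
  refine ⟨c * a * c⁻¹ * a⁻¹, mul_mem (mem_XX hc hy hy1 ha) (inv_mem (mem_XX' hy hy1 ha)), ?_⟩
  rw [R.phi_mul _ (mul_mem (mul_mem hc hac) (inv_mem hc)) _ (inv_mem hac),
    R.phi_mul _ (mul_mem hc hac) _ (inv_mem hc), R.phi_mul c hc a hac, R.phi_inv hc, R.phi_inv hac, hcq]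
  calc p ^ (k + 1) * R.phi a * (p ^ (k + 1))⁻¹ * (R.phi a)⁻¹ =
        p ^ (k + 1) * (R.phi a * (p ^ (k + 1))⁻¹ * (R.phi a)⁻¹) := by group
    _ = p ^ (k + 1) * p ^ (k + 1) := by rw [hinv, inv_inv]
    _ = p := hqq

/-- `C_z = X_z (N_G(V) ∩ C_G(z))` -/
theorem gen_XX {c : G} (hc : c ∈ cf z) : ∃ x ∈ XX V cf z, ∃ n ∈ normalizer (V : Set G), n * z = z * n ∧
    c = x * n := by
  have hz := h.ln.z_mem
  have hz1 := h.ln.z_ne
  obtain ⟨p, hp, h0, h1, h2⟩ := S.gen (R.phi c)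
  obtain ⟨x, hx, rfl⟩ := S.lift h hy hy1 hyz hp
  obtain ⟨n, hn, rfl⟩ := R.stab h hy hy1 hyz h1
  have hxc := h.XX_le_cf hz hz1 hx
  have hnc := h.cent_le_cf hz hz1 hn
  have h3 : x⁻¹ * c ∈ cf z := mul_mem (inv_mem hxc) hc
  have h4 : x⁻¹ * c * n⁻¹ ∈ qq V cf z := by
    rw [← R.phi_ker _ (mul_mem h3 (inv_mem hnc)), R.phi_mul _ h3 _ (inv_mem hnc), R.phi_inv hnc,
      R.phi_mul _ (inv_mem hxc) c hc, R.phi_inv hxc, h2]
    group
  refine ⟨x, hx, x⁻¹ * c * n⁻¹ * n, ?_, ?_, by group⟩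
  · exact mul_mem (h.qq_le_normalizer hz h4) (centralizer_le_normalizer _ hn)
  · have e : x⁻¹ * c * n⁻¹ * n = x⁻¹ * c := by group
    rw [e]
    exact h.cf_comm hz hz1 h3

/-- `[w, O_z] = 1` only for `w ∈ ⟨z⟩` -/
theorem ann [FaithfulSMul H M] {w : G} (hw : w ∈ ww V cf z) (hwO : ∀ o ∈ OO V cf z, o * w = w * o) :
    w = 1 ∨ w = z := by
  have hz := h.ln.z_mem
  have hz1 := h.ln.z_ne
  have hk := S.one1 h hy hy1 hyz
  obtain ⟨a, ha, haQ⟩ := h.exists_not_qq hy hy1 hz hz1 (Ne.symm hyz)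
  obtain ⟨w0, hw0, hw0V⟩ := S.exists_w0 h hy hy1 hyz ha haQ
  obtain ⟨w1, hw1, hw1y⟩ := h.pl_one hk hy hy1 hyz ha haQ hw0 hw0V
  have hw1Q : w1 ∈ qq V cf y := (h.mem_qq_iff hk hy hy1 hyz ha hw0 hw0V hw1).mpr (by rw [hw1y]; exact hy)
  -- `u ∈ W_y ∩ Q_z`, `b ∈ W_z` with `[u, b] = z`
  obtain ⟨u, hu, huQ, b, hb, hub⟩ : ∃ u ∈ ww V cf y, u ∈ qq V cf z ∧ ∃ b ∈ ww V cf z, u * b ≠ b * u := by
    obtain ⟨g, hg, e1, e2⟩ := h.trans2 hz hz1 hy hy1 hyz hy hy1 hz hz1 (Ne.symm hyz)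
    have h1 := h.conj_ww hg hz hz1 hw1
    have h2 := h.conj_qq hg hy hy1 hw1Q
    have h3 := h.conj_ww hg hy hy1 ha
    rw [e1] at h1
    rw [e2] at h2 h3
    refine ⟨_, h1, h2, _, h3, fun e => hy1 ?_⟩
    have e3 : w1 * a = a * w1 := by
      calc w1 * a = g⁻¹ * ((g * w1 * g⁻¹) * (g * a * g⁻¹)) * g := by group
        _ = g⁻¹ * ((g * a * g⁻¹) * (g * w1 * g⁻¹)) * g := by rw [e]
        _ = a * w1 := by group
    rw [← hw1y]
    exact cm_eq_one.mpr e3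
  by_contra hcon
  have hpw : R.pi w ≠ 0 := fun e => hcon ((R.pi_ker w hw).mp e)
  let N : AddSubgroup M :=
    { carrier := {m | ∃ v ∈ ww V cf z, (∀ o ∈ OO V cf z, o * v = v * o) ∧ R.pi v = m}
      zero_mem' := ⟨1, one_mem _, fun o _ => by rw [mul_one, one_mul], R.pi_one h⟩
      add_mem' := by
        rintro _ _ ⟨v, hv, hvO, rfl⟩ ⟨v', hv', hvO', rfl⟩
        refine ⟨v * v', mul_mem hv hv', fun o ho => ?_, R.pi_mul v hv v' hv'⟩
        rw [← mul_assoc, hvO o ho, mul_assoc, hvO' o ho, mul_assoc]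
      neg_mem' := by
        rintro _ ⟨v, hv, hvO, rfl⟩
        refine ⟨v⁻¹, inv_mem hv, fun o ho => ?_, R.pi_inv h hv⟩
        exact (show Commute o v from hvO o ho).inv_right }
  have hN : ∀ x : H, ∀ n ∈ N, x • n ∈ N := by
    rintro x _ ⟨v, hv, hvO, rfl⟩
    obtain ⟨c, hc, rfl⟩ := R.phi_surj x
    refine ⟨c * v * c⁻¹, conj_mem_wf hc hv, fun o ho => ?_, (R.act c hc v hv).symm⟩
    have h1 : c⁻¹ * o * c ∈ OO V cf z := conj_mem_of_normalizer' h.cf_norm_OO hc ho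
    have h2 := hvO _ h1
    calc o * (c * v * c⁻¹) = c * ((c⁻¹ * o * c) * v) * c⁻¹ := by group
      _ = c * (v * (c⁻¹ * o * c)) * c⁻¹ := by rw [h2]
      _ = c * v * c⁻¹ * o := by group
  obtain ⟨v, hv, hvO, hvb⟩ := S.irr h hy hy1 hyz N hN (n0 := R.pi w) ⟨w, hw, hwO, rfl⟩ hpw (R.pi b)
  have huO := mem_OO' (p := z) hy hy1 hu huQ
  have h1 := hvO u huO
  rcases (R.pi_eq h hv hb).mp hvb with e | e
  · rw [e] at h1
    exact hub h1
  · apply hub
    have huz := h.cf_comm hz hz1 huQ.1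
    have e1 : b = z * v := by rw [e, ← mul_assoc, h.ln.zz, one_mul]
    rw [e1, ← mul_assoc, huz, mul_assoc, h1, mul_assoc]

end Shp

end module

end Cfsg.Agent.Omega.NO3S.Fit
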