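import Cfsg.Agent.Omega.NO3S.Fit.FourK

/-!
# Text #13963 (helper311), section 4: (4.4)

`RR V cf p` : the elements of `K_p` which centralise `X_p` modulo `⟨p⟩`.
* `Dat.exists_R` : `K_z¹ = W_z R_z`;
* `Dat.W_R` : `W_z ∩ R_z = ⟨z⟩`;
* `Dat.R_cent` : `R_z` centralises `X_z`;
* `Dat.D_R` : `K_z ∩ K_y = I R_z`.
-/

set_option autoImplicit false
set_option linter.unusedSectionVars false

namespace Cfsg.Agent.Omega.NO3S.Fit

open Subgroup Cfsg Cfsg.Agent.ZN Cfsg.Agent.MinSimple.Geo Cfsg.Agent.Omega.CaseL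
open Cfsg.Agent.Omega.NO3S.Fit.PlaneForm (cm cm_eq_one cm_inv)
open Cfsg.Agent.ZN.Block (conj_mem_of_normalizer conj_mem_of_normalizer' le_normalizer_of_forall
  mem_normalizer_of)

universe u

variable {G : Type u} [Group G]

theorem commute_step {Γ : Type*} [Group Γ] {t t' r q : Γ} (h1 : t * r = r * t) (h2 : q * r = r * q)
    (h3 : t * t' = q * (t' * t)) (h5 : q * cm t' r = cm t' r * q) : t * cm t' r = cm t' r * t := by
  have e0 : t' * r * t'⁻¹ = cm t' r * r := by unfold cm; group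
  have e1 : t * r * t⁻¹ = r := by rw [h1, mul_inv_cancel_right]
  have e2 : t * (cm t' r * r) * t⁻¹ = cm t' r * r := by
    calc t * (cm t' r * r) * t⁻¹ = (t * t') * r * (t * t')⁻¹ := by rw [← e0]; group
      _ = q * t' * (t * r * t⁻¹) * t'⁻¹ * q⁻¹ := by rw [h3]; group
      _ = q * (t' * r * t'⁻¹) * q⁻¹ := by rw [e1]; group
      _ = (q * cm t' r) * r * q⁻¹ := by rw [e0]; group
      _ = cm t' r * (q * r) * q⁻¹ := by rw [h5]; group
      _ = cm t' r * r := by rw [h2]; group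
  have e3 : t * cm t' r * t⁻¹ = cm t' r := by
    have : t * (cm t' r * r) * t⁻¹ = (t * cm t' r * t⁻¹) * (t * r * t⁻¹) := by group
    rw [this, e1] at e2
    exact mul_right_cancel e2
  exact mul_inv_eq_iff_eq_mul.mp e3

theorem commute_step2 {Γ : Type*} [Group Γ] {x t r : Γ} (h1 : t * r = r * t)
    (h2 : (x⁻¹ * t * x) * r = r * (x⁻¹ * t * x)) : t * cm x r = cm x r * t := by
  have h3 : t * r⁻¹ = r⁻¹ * t := by
    rw [mul_inv_eq_iff_eq_mul, mul_assoc, h1, inv_mul_cancel_left]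
  calc t * cm x r = x * ((x⁻¹ * t * x) * r) * x⁻¹ * r⁻¹ := by unfold cm; group
    _ = x * r * x⁻¹ * (t * r⁻¹) := by rw [h2]; group
    _ = cm x r * t := by rw [h3]; unfold cm; group

/-- the elements of `K_p` which centralise `X_p` modulo `⟨p⟩` -/
def RR (V : Subgroup G) (cf : G → Subgroup G) (p : G) : Subgroup G where
  carrier := {r | r ∈ kk V cf p ∧ r * p = p * r ∧ ∀ x ∈ XX V cf p, cm r x ∈ zpowers p}
  one_mem' := ⟨one_mem _, by rw [one_mul, mul_one], fun x _ => by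
    rw [cm_eq_one.mpr (by rw [one_mul, mul_one])]; exact one_mem _⟩
  mul_mem' := by
    rintro r r' ⟨h1, h2, h3⟩ ⟨h4, h5, h6⟩
    refine ⟨mul_mem h1 h4, mul_comm_of h2 h5, fun x hx => ?_⟩
    rw [cm_mul_left]
    refine mul_mem ?_ (h3 x hx)
    obtain ⟨n, hn⟩ := mem_zpowers_iff.mp (h6 x hx)
    rw [← hn]
    have : Commute r (p ^ n) := (show Commute r p from h2).zpow_right n
    rw [this.eq, mul_inv_cancel_right]
    exact zpow_mem (mem_zpowers _) n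
  inv_mem' := by
    rintro r ⟨h1, h2, h3⟩
    refine ⟨inv_mem h1, inv_comm_of h2, fun x hx => ?_⟩
    have e : cm r⁻¹ x = r⁻¹ * (cm r x)⁻¹ * r⁻¹⁻¹ := by unfold cm; group
    rw [e]
    obtain ⟨n, hn⟩ := mem_zpowers_iff.mp (inv_mem (h3 x hx))
    rw [← hn]
    have : Commute r⁻¹ (p ^ n) := (show Commute r⁻¹ p from inv_comm_of h2).zpow_right n
    rw [this.eq, mul_inv_cancel_right]
    exact zpow_mem (mem_zpowers _) n

namespace Fam

variable {T V : Subgroup G} {z : G} {cf : G → Subgroup G}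

theorem conj_RR (h : Fam T V z cf) {g p r : G} (hg : g ∈ normalizer (V : Set G)) (hp : p ∈ V) (hp1 : p ≠ 1)
    (hr : r ∈ RR V cf p) : g * r * g⁻¹ ∈ RR V cf (g * p * g⁻¹) := by
  obtain ⟨h1, h2, h3⟩ := hr
  refine ⟨h.conj_kk hg hp hp1 h1, ?_, fun x hx => ?_⟩
  · calc g * r * g⁻¹ * (g * p * g⁻¹) = g * (r * p) * g⁻¹ := by group
      _ = g * p * g⁻¹ * (g * r * g⁻¹) := by rw [h2]; group
  · have h4 : g⁻¹ * x * g ∈ XX V cf p := by
      have := h.conj_XX (inv_mem hg) (h.conj_pt hg hp) (conj_ne hp1) hx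
      have e1 : g⁻¹ * (g * p * g⁻¹) * g⁻¹⁻¹ = p := by group
      rwa [e1, inv_inv] at this
    have e : cm (g * r * g⁻¹) x = g * cm r (g⁻¹ * x * g) * g⁻¹ := by unfold cm; group
    obtain ⟨n, hn⟩ := mem_zpowers_iff.mp (h3 _ h4)
    rw [e, ← hn, ← conj_zpow]
    exact zpow_mem (mem_zpowers _) n

theorem cf_norm_RR (h : Fam T V z cf) {p : G} (hp : p ∈ V) (hp1 : p ≠ 1) :
    cf p ≤ normalizer ((RR V cf p : Subgroup G) : Set G) := by
  refine le_normalizer_of_forall fun c hc r hr => ?_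
  obtain ⟨h1, h2, h3⟩ := hr
  have hcp := h.cf_comm hp hp1 hc
  refine ⟨conj_mem_of_normalizer h.cf_norm_kk hc h1, mul_comm_of (mul_comm_of hcp h2) (inv_comm_of hcp),
    fun x hx => ?_⟩
  have h4 : c⁻¹ * x * c ∈ XX V cf p := conj_mem_of_normalizer' h.cf_norm_XX hc hx
  have e : cm (c * r * c⁻¹) x = c * cm r (c⁻¹ * x * c) * c⁻¹ := by unfold cm; group
  obtain ⟨n, hn⟩ := mem_zpowers_iff.mp (h3 _ h4)
  rw [e, ← hn]
  have : Commute c (p ^ n) := (show Commute c p from hcp).zpow_right n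
  rw [this.eq, mul_inv_cancel_right]
  exact zpow_mem (mem_zpowers _) n

end Fam

namespace Dat

variable {T V : Subgroup G} {z : G} {cf : G → Subgroup G} {y : G} [Finite G] (D : Dat T V z cf y)
include D

/-- commuting modulo `⟨z⟩` -/
theorem exists_quo : ∃ (Γ : Type u) (_ : Group Γ) (ψ : cf z →* Γ),
    ∀ a b : cf z, ψ a * ψ b = ψ b * ψ a ↔ cm (a : G) b ∈ zpowers z := by
  have hN : ((zpowers z).subgroupOf (cf z)).Normal := by
    constructor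
    intro x hx c
    rw [mem_subgroupOf] at hx ⊢
    exact D.conj_Z c.2 hx
  refine ⟨cf z ⧸ (zpowers z).subgroupOf (cf z), inferInstance, QuotientGroup.mk' _, fun a b => ?_⟩
  have e : (QuotientGroup.mk' ((zpowers z).subgroupOf (cf z))) (a * b * a⁻¹ * b⁻¹) = 1 ↔
      cm (a : G) b ∈ zpowers z := by
    rw [QuotientGroup.mk'_apply, QuotientGroup.eq_one_iff, mem_subgroupOf]
    rfl
  rw [← e, map_mul, map_mul, map_mul, map_inv, map_inv, mul_inv_eq_one, mul_inv_eq_iff_eq_mul]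

/-- `K_z¹ = W_z R_z` -/
theorem exists_R {k : G} (hk : InK V cf z k) : ∃ w ∈ ww V cf z, k * w ∈ RR V cf z := by
  have h := D.fam
  have hz := D.hz
  have hz1 := D.hz1
  obtain ⟨t, ht, ⟨n, hn, htn⟩, htf, htx⟩ := D.tt
  have htc := h.XX_le_cf hz hz1 ht
  have hkc : k ∈ cf z := h.cent_le_cf hz hz1 (h.kk_le_cent hk.1)
  -- `(k t)^i = k^i w t^i`
  have key : ∀ i : ℕ, ∃ w ∈ ww V cf z, (k * t) ^ i = k ^ i * w * t ^ i := by
    intro i
    induction i with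
    | zero => exact ⟨1, one_mem _, by simp⟩
    | succ i ih =>
      obtain ⟨w, hw, e⟩ := ih
      have hu : cm (t ^ i) k ∈ ww V cf z := D.com_XK hk.1 (pow_mem ht i)
      refine ⟨w * cm (t ^ i) k, mul_mem hw hu, ?_⟩
      have e1 : t ^ i * k = cm (t ^ i) k * k * t ^ i := by unfold cm; group
      have e2 : w * cm (t ^ i) k * k = k * (w * cm (t ^ i) k) := (D.KW hk.1 (mul_mem hw hu)).symm
      calc (k * t) ^ (i + 1) = k ^ i * w * (t ^ i * k) * t := by rw [pow_succ, e]; group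
        _ = k ^ i * (w * cm (t ^ i) k * k) * t ^ i * t := by rw [e1]; group
        _ = k ^ i * (k * (w * cm (t ^ i) k)) * (t ^ i * t) := by rw [e2]; group
        _ = k ^ (i + 1) * (w * cm (t ^ i) k) * t ^ (i + 1) := by
          rw [pow_succ k i, pow_succ t i]; group
  obtain ⟨w, hw, e⟩ := key n
  have hkk := D.inK_sq hk
  have hkn : k ^ n = k := by
    obtain ⟨j, rfl⟩ := hn
    rw [pow_succ, pow_mul, pow_two, hkk, one_pow, one_mul]
  rw [hkn] at e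
  refine ⟨w, hw, ?_⟩
  set r := k * w with hr
  have hrK : r ∈ kk V cf z := mul_mem hk.1 (h.ww_le_kk hz hz1 hw)
  have hrc : r ∈ cf z := h.cent_le_cf hz hz1 (h.kk_le_cent hrK)
  have hrk : k * r = r * k := by
    rw [hr, mul_assoc, ← D.KW hk.1 hw]
  have hrX : ∀ q ∈ qq V cf z, q ∈ XX V cf z → cm r q ∈ zpowers z := by
    intro q hq hqX
    rw [hr, cm_mul_left]
    exact mul_mem (D.conj_Z hkc (D.mem_Z.mpr (h.cm_qq hz hz1 hw hq))) (D.mem_Z.mpr (D.inK_QX hk hq hqX))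
  -- `r` commutes with `t` modulo `⟨z⟩`
  have hrt : cm t r ∈ zpowers z := by
    have e1 : r = (k * t) ^ n * (t ^ n)⁻¹ := by rw [e]; group
    have e2 : t * r * t⁻¹ = k⁻¹ * r * (t ^ n * k * (t ^ n)⁻¹) := by
      have e3 : (t * k) ^ n = t * (k * t) ^ n * t⁻¹ := by
        rw [← conj_pow]
        congr 1
        group
      have e4 : (t * k) ^ n = k⁻¹ * (k * t) ^ n * k := by
        have : k⁻¹ * (k * t) ^ n * k = k⁻¹ * (k * t) ^ n * k⁻¹⁻¹ := by rw [inv_inv]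
        rw [this, ← conj_pow]
        congr 1
        group
      have e5 : (k * t) ^ n = r * t ^ n := e
      calc t * r * t⁻¹ = t * (k * t) ^ n * t⁻¹ * (t ^ n)⁻¹ := by
            have e6 : (t ^ n)⁻¹ * t⁻¹ = t⁻¹ * (t ^ n)⁻¹ := by
              have : Commute (t ^ n)⁻¹ t⁻¹ := ((Commute.refl t).pow_left n).inv_inv
              exact this.eq
            calc t * r * t⁻¹ = t * (k * t) ^ n * ((t ^ n)⁻¹ * t⁻¹) := by rw [e5]; group
              _ = t * (k * t) ^ n * t⁻¹ * (t ^ n)⁻¹ := by rw [e6]; group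
        _ = k⁻¹ * (k * t) ^ n * k * (t ^ n)⁻¹ := by rw [← e3, e4]
        _ = k⁻¹ * r * (t ^ n * k * (t ^ n)⁻¹) := by rw [e5]; group
    have e7 : t ^ n * k * (t ^ n)⁻¹ = cm (t ^ n) k * k := by unfold cm; group
    have e8 : cm (t ^ n) k ∈ zpowers z := by
      rw [← cm_inv]
      exact inv_mem (D.mem_Z.mpr (D.inK_QX hk htn (pow_mem ht n)))
    have e9 : cm t r = k⁻¹ * r * cm (t ^ n) k * r⁻¹ * k := by
      have : cm t r = t * r * t⁻¹ * r⁻¹ := rfl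
      rw [this, e2, e7]
      calc k⁻¹ * r * (cm (t ^ n) k * k) * r⁻¹ = k⁻¹ * r * cm (t ^ n) k * (k * r⁻¹) := by group
        _ = k⁻¹ * r * cm (t ^ n) k * (r⁻¹ * k) := by
          have : k * r⁻¹ = r⁻¹ * k := by
            rw [mul_inv_eq_iff_eq_mul, mul_assoc, hrk, inv_mul_cancel_left]
          rw [this]
        _ = k⁻¹ * r * cm (t ^ n) k * r⁻¹ * k := by group
    have e10 : k⁻¹ * r * cm (t ^ n) k * r⁻¹ * k = (k⁻¹ * r) * cm (t ^ n) k * (k⁻¹ * r)⁻¹ := by group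
    rw [e9, e10]
    exact D.conj_Z (mul_mem (inv_mem hkc) hrc) e8
  refine ⟨hrK, (h.V_comm hz (h.kk_le_cent hrK)).symm, ?_⟩
  obtain ⟨Γ, _, ψ, hψ⟩ := D.exists_quo
  -- all conjugates of `t` commute with `r` modulo `⟨z⟩`
  have hconj : ∀ x ∈ XX V cf z, cm (x⁻¹ * t * x) r ∈ zpowers z := by
    intro x hx
    have hxc := h.XX_le_cf hz hz1 hx
    have ht'X : x⁻¹ * t * x ∈ XX V cf z := mul_mem (mul_mem (inv_mem hx) ht) hx
    set t' := x⁻¹ * t * x with ht'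
    have ht'c := h.XX_le_cf hz hz1 ht'X
    have hwt : cm t' r ∈ ww V cf z := D.com_XK hrK ht'X
    have hwc := h.ww_le_cf hz hz1 hwt
    have hqQ := htx x hxc
    have hqX : cm t t' ∈ XX V cf z := mul_mem (mul_mem (mul_mem ht ht'X) (inv_mem ht)) (inv_mem ht'X)
    rw [D.mem_Z]
    refine htf _ hwt ?_
    rw [← D.mem_Z]
    have g1 : ψ ⟨t, htc⟩ * ψ ⟨r, hrc⟩ = ψ ⟨r, hrc⟩ * ψ ⟨t, htc⟩ := (hψ ⟨t, htc⟩ ⟨r, hrc⟩).mpr hrt
    have g2 : ψ ⟨cm t t', hqQ.1⟩ * ψ ⟨r, hrc⟩ = ψ ⟨r, hrc⟩ * ψ ⟨cm t t', hqQ.1⟩ := by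
      refine (hψ ⟨cm t t', hqQ.1⟩ ⟨r, hrc⟩).mpr ?_
      change cm (cm t t') r ∈ zpowers z
      rw [← cm_inv]
      exact inv_mem (hrX _ hqQ hqX)
    have g3 : ψ ⟨t, htc⟩ * ψ ⟨t', ht'c⟩ = ψ ⟨cm t t', hqQ.1⟩ * (ψ ⟨t', ht'c⟩ * ψ ⟨t, htc⟩) := by
      rw [← map_mul, ← map_mul, ← map_mul]
      congr 1
      ext
      change t * t' = cm t t' * (t' * t)
      unfold cm; group
    have g4 : cm (ψ ⟨t', ht'c⟩) (ψ ⟨r, hrc⟩) = ψ ⟨cm t' r, hwc⟩ := by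
      unfold cm
      rw [← map_inv, ← map_inv, ← map_mul, ← map_mul, ← map_mul]
      rfl
    have g5 : ψ ⟨cm t t', hqQ.1⟩ * cm (ψ ⟨t', ht'c⟩) (ψ ⟨r, hrc⟩) =
        cm (ψ ⟨t', ht'c⟩) (ψ ⟨r, hrc⟩) * ψ ⟨cm t t', hqQ.1⟩ := by
      rw [g4]
      refine (hψ ⟨cm t t', hqQ.1⟩ ⟨cm t' r, hwc⟩).mpr ?_
      exact D.mem_Z.mpr (h.cm_qw hz hwt hqQ)
    have g6 := commute_step g1 g2 g3 g5
    rw [g4] at g6
    exact (hψ ⟨t, htc⟩ ⟨cm t' r, hwc⟩).mp g6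
  intro x hx
  have hxc := h.XX_le_cf hz hz1 hx
  rw [← cm_inv]
  refine inv_mem ?_
  have hwx : cm x r ∈ ww V cf z := D.com_XK hrK hx
  have hwc := h.ww_le_cf hz hz1 hwx
  rw [D.mem_Z]
  refine htf _ hwx ?_
  rw [← D.mem_Z]
  have g1 : ψ ⟨t, htc⟩ * ψ ⟨r, hrc⟩ = ψ ⟨r, hrc⟩ * ψ ⟨t, htc⟩ := (hψ ⟨t, htc⟩ ⟨r, hrc⟩).mpr hrt
  have g2 : ((ψ ⟨x, hxc⟩)⁻¹ * ψ ⟨t, htc⟩ * ψ ⟨x, hxc⟩) * ψ ⟨r, hrc⟩ =
      ψ ⟨r, hrc⟩ * ((ψ ⟨x, hxc⟩)⁻¹ * ψ ⟨t, htc⟩ * ψ ⟨x, hxc⟩) := by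
    rw [← map_inv, ← map_mul, ← map_mul]
    exact (hψ _ _).mpr (hconj x hx)
  have g3 := commute_step2 g1 g2
  have g4 : cm (ψ ⟨x, hxc⟩) (ψ ⟨r, hrc⟩) = ψ ⟨cm x r, hwc⟩ := by
    unfold cm
    rw [← map_inv, ← map_inv, ← map_mul, ← map_mul, ← map_mul]
    rfl
  rw [g4] at g3
  exact (hψ ⟨t, htc⟩ ⟨cm x r, hwc⟩).mp g3

/-- `W_z ∩ R_z = ⟨z⟩` -/
theorem W_R {w : G} (hw : w ∈ ww V cf z) (hwR : w ∈ RR V cf z) : w = 1 ∨ w = z := by
  obtain ⟨t, ht, -, htf, -⟩ := D.tt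
  refine htf w hw (D.mem_Z.mp ?_)
  rw [← cm_inv]
  exact inv_mem (hwR.2.2 t ht)

theorem R_inK {r : G} (hr : r ∈ RR V cf z) : InK V cf z r :=
  ⟨hr.1, fun o ho => D.mem_Z.mp (hr.2.2 o (OO_le_XX V cf z ho))⟩

/-- `R_z ≤ K_y` -/
theorem R_le_kk {r : G} (hr : r ∈ RR V cf z) : r ∈ kk V cf y := by
  have h := D.fam
  have hz := D.hz
  have hz1 := D.hz1
  obtain ⟨w, hw, h1, h2⟩ := D.inK_dec (D.R_inK hr)
  have hwr : r = (r * w) * w := by rw [mul_assoc, h.sqz w hw, mul_one]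
  -- `[w, g] = [r, g]` for `g ∈ W_y`
  have h3 : ∀ g ∈ ww V cf y, cm r g = (r * w) * cm w g * (r * w)⁻¹ := by
    intro g hg
    have e1 : cm (r * w) g = 1 := cm_eq_one.mpr (mem_centralizer_iff.mp h2 g hg).symm
    have e2 : cm r g = cm (r * w * w) g := by rw [← hwr]
    rw [e2, cm_mul_left, e1, mul_one]
  have hrwc : r * w ∈ cf z := h.cent_le_cf hz hz1 (h.kk_le_cent h1)
  have h4 : w ∈ jj V cf := by
    refine D.jj_of hw fun g hg => ?_
    rw [← D.mem_Z]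
    have h5 : cm r g ∈ zpowers z := hr.2.2 g (mem_XX' D.hy D.hy1 hg)
    have e : cm w g = (r * w)⁻¹ * cm r g * (r * w)⁻¹⁻¹ := by rw [h3 g hg]; group
    rw [e]
    exact D.conj_Z (inv_mem hrwc) h5
  have h6 : w ∈ kk V cf y := h.ww_le_kk D.hy D.hy1 (Fam.jj_le D.hy D.hy1 h4)
  rw [hwr]
  exact mul_mem h2 h6

theorem R_le_kk' {r q : G} (hr : r ∈ RR V cf z) (hq : q ∈ V) (hq1 : q ≠ 1) : r ∈ kk V cf q := by
  by_cases hqz : q = z
  · rw [hqz]; exact hr.1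
  · obtain ⟨T', D'⟩ := D.at D.hz D.hz1 hq hq1 hqz
    exact D'.R_le_kk hr

/-- `R_z` centralises `X_z` -/
theorem R_cent {r x : G} (hr : r ∈ RR V cf z) (hx : x ∈ XX V cf z) : r * x = x * r := by
  have h := D.fam
  have hz := D.hz
  have hz1 := D.hz1
  induction hx using closure_induction with
  | mem x hx =>
    obtain ⟨c, hc, q, hq, hq1, g, hg, rfl⟩ := hx
    have h1 : c⁻¹ * r * c ∈ RR V cf z := conj_mem_of_normalizer' (h.cf_norm_RR hz hz1) hc hr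
    have h2 := mem_centralizer_iff.mp (D.R_le_kk' h1 hq hq1) g hg
    calc r * (c * g * c⁻¹) = c * ((c⁻¹ * r * c) * g) * c⁻¹ := by group
      _ = c * (g * (c⁻¹ * r * c)) * c⁻¹ := by rw [h2]
      _ = c * g * c⁻¹ * r := by group
  | one => rw [mul_one, one_mul]
  | mul a b _ _ ha hb => rw [← mul_assoc, ha, mul_assoc, hb, mul_assoc]
  | inv a _ ha => exact (show Commute r a from ha).inv_right

/-- `K_z ∩ K_y = I R_z` -/
theorem D_R {d : G} : (d ∈ kk V cf z ∧ d ∈ kk V cf y) ↔ ∃ e ∈ jj V cf, d * e ∈ RR V cf z := by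
  have h := D.fam
  have hz := D.hz
  have hz1 := D.hz1
  constructor
  · rintro ⟨h1, h2⟩
    obtain ⟨w, hw, hR⟩ := D.exists_R (D.inK_of h1 h2)
    refine ⟨w, ?_, hR⟩
    refine D.jj_of_cent hz hz1 D.hy D.hy1 D.hyz hw ?_
    have h3 := mul_mem (inv_mem h2) (D.R_le_kk hR)
    rwa [inv_mul_cancel_left] at h3
  · rintro ⟨e, he, hR⟩
    have hez : e ∈ kk V cf z := h.ww_le_kk hz hz1 (Fam.jj_le hz hz1 he)
    have hey : e ∈ kk V cf y := h.ww_le_kk D.hy D.hy1 (Fam.jj_le D.hy D.hy1 he)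
    constructor
    · have := mul_mem hR.1 (inv_mem hez)
      rwa [mul_inv_cancel_right] at this
    · have := mul_mem (D.R_le_kk hR) (inv_mem hey)
      rwa [mul_inv_cancel_right] at this

end Dat

end Cfsg.Agent.Omega.NO3S.Fit
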