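import Cfsg.Agent.Omega.NO3S.Fit.FourMod

/-!
# Text #13963 (helper311), section 4: (S7)

`Shp.sseven` : an element `k` of `C_G(V)` which centralises `I` and with `[W_z ∩ Q_y, k] ≤ ⟨y⟩` acts on `M` as `1` or
as `a`.
-/

set_option autoImplicit false
set_option linter.unusedSectionVars false

namespace Cfsg.Agent.Omega.NO3S.Fit

open Subgroup Cfsg Cfsg.Agent.ZN Cfsg.Agent.MinSimple.Geo Cfsg.Agent.Omega.CaseL
open Cfsg.Agent.Omega.NO3S.Fit.PlaneForm (cm cm_eq_one cm_inv)
open Cfsg.Agent.Omega.NO3S.Fit.Abs (br fx cx)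
open Cfsg.Agent.ZN.Block (conj_mem_of_normalizer conj_mem_of_normalizer' le_normalizer_of_forall
  mem_normalizer_of)

universe u

variable {G : Type u} [Group G]

section module

variable {T V : Subgroup G} {z : G} {cf : G → Subgroup G} {M H : Type u} [AddCommGroup M] [Group H]
  [DistribMulAction H M] {R : MRep V cf z M H} {y : G} {P : Subgroup H} {d : H}

namespace Shp

variable [Finite G] (S : Shp R y P d) (h : Fam T V z cf) (hy : y ∈ V) (hy1 : y ≠ 1) (hyz : y ≠ z)
include S h hy hy1 hyz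

/-- (S7), module form: `κ` fixes `C_M(α)`, `κ m - m ∈ {0, v0}` whenever `α m - m ∈ {0, v0}`. -/
theorem seven_aux [FaithfulSMul H M] {a : G} (ha : a ∈ ww V cf y) (haQ : a ∉ qq V cf z) {κ : H}
    (h1 : ∀ m : M, R.phi a • m = m → κ • m = m)
    (h2 : ∀ m : M, (R.phi a • m - m = 0 ∨ R.phi a • m - m = R.pi y) → κ • m = m)
    (h3 : ∀ m m' : M, ¬ (R.phi a • m - m = 0 ∨ R.phi a • m - m = R.pi y) →
      ¬ (R.phi a • m' - m' = 0 ∨ R.phi a • m' - m' = R.pi y) →
      (R.phi a • (m + m') - (m + m') = 0 ∨ R.phi a • (m + m') - (m + m') = R.pi y)) : κ = 1 := by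
  have hz := h.ln.z_mem
  have hz1 := h.ln.z_ne
  have hfM := S.finM
  have two := R.two h
  have hk := S.one1 h hy hy1 hyz
  have haa := S.aa h hy hy1 hyz ha haQ
  have hαv : R.phi a • R.pi y = R.pi y := S.fx_of_jj h hy hy1 hyz ha haQ (h.V_le_jj hy)
  set α := R.phi a with hα
  have sub_eq : ∀ m n : M, m - n = m + n := Abs.sub_eq two
  have hκv : κ • R.pi y = R.pi y := h1 _ hαv
  have hκα : κ * α = α * κ := R.cen_A h hk hy hy1 hyz ha hκv
  by_contra hκ
  obtain ⟨m2, hm2⟩ : ∃ m : M, κ • m ≠ m := by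
    by_contra hcon
    push Not at hcon
    exact hκ (FaithfulSMul.eq_of_smul_eq_smul (α := M) fun m => by rw [hcon m, one_smul])
  have hm2P : ¬ (α • m2 - m2 = 0 ∨ α • m2 - m2 = R.pi y) := fun e => hm2 (h2 m2 e)
  set n := κ • m2 - m2 with hn
  have hn0 : n ≠ 0 := fun e => hm2 (sub_eq_zero.mp e)
  -- (v)
  have h5 : ∀ m : M, ¬ (α • m - m = 0 ∨ α • m - m = R.pi y) → κ • m = m + n := by
    intro m hm
    have e := h2 _ (h3 m m2 hm hm2P)
    rw [smul_add] at e
    have e1 : κ • m2 = m2 + n := by rw [hn]; abel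
    rw [e1] at e
    have e2 : κ • m + n = m := by
      have : κ • m + (m2 + n) = (κ • m + n) + m2 := by abel
      rw [this] at e
      exact add_right_cancel e
    calc κ • m = κ • m + n + n := by rw [add_assoc, two, add_zero]
      _ = m + n := by rw [e2]
  have h5' : ∀ m : M, κ • m = m ∨ κ • m = m + n := by
    intro m
    by_cases hm : α • m - m = 0 ∨ α • m - m = R.pi y
    · exact Or.inl (h2 m hm)
    · exact Or.inr (h5 m hm)
  have hκn : κ • n = n := by
    refine h2 n ?_
    have e : n = m2 + κ • m2 := by rw [hn, sub_eq, add_comm]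
    rw [e]
    refine h3 _ _ hm2P fun e' => hm2P ?_
    have e2 : α • κ • m2 - κ • m2 = κ • (α • m2 - m2) := by
      rw [smul_sub, ← mul_smul, ← hκα, mul_smul]
    rw [e2] at e'
    rcases e' with e' | e'
    · left
      have := congrArg (κ⁻¹ • ·) e'
      simpa using this
    · right
      have := congrArg (κ⁻¹ • ·) e'
      simp only [inv_smul_smul] at this
      rw [this]
      exact inv_smul_eq_iff.mpr hκv.symm
  have hκκ : κ * κ = 1 := by
    refine FaithfulSMul.eq_of_smul_eq_smul (α := M) fun m => ?_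
    rw [one_smul, mul_smul]
    rcases h5' m with e | e
    · rw [e, e]
    · rw [e, smul_add, e, hκn, add_assoc, two, add_zero]
  have hκi : κ⁻¹ = κ := inv_eq_of_mul_eq_one_left hκκ
  have hκd : d * κ ≠ κ * d := by
    intro e
    have e1 : d • n = κ • (d • m2) - d • m2 := by
      rw [hn, smul_sub, ← mul_smul, e, mul_smul]
    rcases h5' (d • m2) with e2 | e2
    · rw [e2, sub_self] at e1
      apply hn0
      have := congrArg (d⁻¹ • ·) e1
      simpa using this
    · rw [e2, add_sub_cancel_left] at e1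
      exact hn0 (S.fd n e1)
  set p := d * κ * d⁻¹ * κ⁻¹ with hp
  have hpP : p ∈ P := by
    have e : p = d * (κ * d⁻¹ * κ⁻¹) := by rw [hp]; group
    rw [e]
    exact mul_mem S.dP (S.nor κ _ (inv_mem S.dP))
  have hp1 : p ≠ 1 := by
    intro e
    apply hκd
    have e1 : d * κ = p * (κ * d) := by rw [hp]; group
    rw [e1, e, one_mul]
  have hpo := S.odd_of hpP
  have hpi : κ * p * κ⁻¹ = p⁻¹ := by
    have e1 : κ * p * κ⁻¹ = κ * d * κ * d⁻¹ * (κ * κ)⁻¹ := by rw [hp]; group
    have e2 : p⁻¹ = κ * d * κ⁻¹ * d⁻¹ := by rw [hp]; group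
    rw [e1, e2, hκκ, hκi]
    group
  -- (ix)
  have h9 : ∀ m : M, p • m - m = 0 ∨ p • m - m = n ∨ p • m - m = d • n ∨ p • m - m = n + d • n := by
    intro m
    have e1 : ∀ m' : M, d • κ • d⁻¹ • m' = m' ∨ d • κ • d⁻¹ • m' = m' + d • n := by
      intro m'
      rcases h5' (d⁻¹ • m') with e | e
      · left; rw [e, smul_inv_smul]
      · right; rw [e, smul_add, smul_inv_smul]
    have e2 : p • m = d • κ • d⁻¹ • κ • m := by
      rw [hp, hκi]
      simp only [mul_smul]
    rcases h5' m with e | e <;> rcases e1 (κ • m) with e3 | e3 <;> rw [e2, e3, e]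
    · left; abel
    · right; right; left; abel
    · right; left; abel
    · right; right; right; abel
  have hbr : ∀ m ∈ br M p, m = 0 ∨ m = n ∨ m = d • n ∨ m = n + d • n := by
    rintro _ ⟨m, rfl⟩
    exact h9 m
  -- (x)
  have hnbr : n ∈ br M p := by
    obtain ⟨u, hu, hu0⟩ : ∃ u ∈ br M p, u ≠ 0 := by
      by_contra hcon
      push Not at hcon
      refine Abs.ne_zero_of_br (M := M) hp1 ?_
      rw [eq_bot_iff]
      intro m hm
      rw [AddSubgroup.mem_bot]
      exact hcon m hm
    have hpu : p • u ∈ br M p := Abs.smul_mem_br_self hu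
    have hpu1 : p • u ≠ u := fun e => hu0 (Abs.br_inf_fx two hpo hu e)
    have hpu0 : p • u ≠ 0 := fun e => hu0 (by
      have := congrArg (p⁻¹ • ·) e
      simpa using this)
    have hs : u + p • u ∈ br M p := add_mem hu hpu
    rcases hbr u hu with e | e | e | e
    · exact absurd e hu0
    · rw [← e]; exact hu
    · rcases hbr _ hpu with e' | e' | e' | e'
      · exact absurd e' hpu0
      · rw [← e']; exact hpu
      · exact absurd (e'.trans e.symm) hpu1
      · have : u + p • u = n := by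
          rw [e', e]
          calc d • n + (n + d • n) = n + (d • n + d • n) := by abel
            _ = n := by rw [two, add_zero]
        rw [← this]; exact hs
    · rcases hbr _ hpu with e' | e' | e' | e'
      · exact absurd e' hpu0
      · rw [← e']; exact hpu
      · have : u + p • u = n := by
          rw [e', e]
          calc n + d • n + d • n = n + (d • n + d • n) := by abel
            _ = n := by rw [two, add_zero]
        rw [← this]; exact hs
      · exact absurd (e'.trans e.symm) hpu1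
  have hnfx : p • n ≠ n := fun e => hn0 (Abs.br_inf_fx two hpo hnbr e)
  -- (xii)
  have h12 : ∀ m : M, p • m = m → (α • m - m = 0 ∨ α • m - m = R.pi y) := by
    intro m hm
    by_contra hcon
    have e1 := h5 m hcon
    have e2 : p • κ • m = κ • m := Abs.smul_mem_fx_of_inv hpi hm
    rw [e1, smul_add, hm] at e2
    exact hnfx (add_left_cancel e2)
  have hpv : p • R.pi y ≠ R.pi y := by
    intro e
    have e1 := R.cen_A h hk hy hy1 hyz ha e
    have e2 := S.inv a ha haQ p hpP
    rw [← hα, mul_assoc] at e2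
    have e3 : α * (p * α⁻¹) = p := by
      have : p * α⁻¹ = α⁻¹ * p := by
        rw [mul_inv_eq_iff_eq_mul, mul_assoc, e1, inv_mul_cancel_left]
      rw [this, mul_inv_cancel_left]
    rw [e3] at e2
    have e4 : p * p = 1 := by
      nth_rewrite 1 [e2]
      exact inv_mul_cancel p
    apply hp1
    refine Abs.eq_one_of_fix (M := M) two hpo fun m hm => ?_
    exact Abs.fix_of_sq hpo (by rw [← mul_smul, e4, one_smul])
  have h14 : fx M p ≤ fx M α := by
    intro m hm
    have e1 : p • α • m = α • m := Abs.smul_mem_fx_of_inv (S.inv a ha haQ p hpP) hm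
    have e2 : p • (α • m - m) = α • m - m := by rw [smul_sub, e1, show p • m = m from hm]
    rcases h12 m hm with e | e
    · exact sub_eq_zero.mp e
    · rw [e] at e2
      exact absurd e2 hpv
  have hcard : 4 ≤ Nat.card (fx M p) := by
    have h16 : Nat.card M ≤ Nat.card (br M p) * Nat.card (fx M p) := by
      rw [← Nat.card_prod]
      refine Nat.card_le_card_of_surjective (fun q : br M p × fx M p => (q.1 : M) + q.2) ?_
      intro m
      obtain ⟨u, hu, v, hv, e⟩ := Abs.exists_decomp two hpo m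
      exact ⟨(⟨u, hu⟩, ⟨v, hv⟩), e⟩
    have h17 : Nat.card (br M p) ≤ 4 := by
      classical
      have hsub : ((br M p : AddSubgroup M) : Set M) ⊆ (({0, n, d • n, n + d • n} : Finset M) : Set M) := by
        intro m hm
        have := hbr m hm
        simpa using this
      have h18 := Set.ncard_le_ncard hsub (Finset.finite_toSet _)
      rw [Set.ncard_coe_finset] at h18
      have h19 : Set.ncard ((br M p : AddSubgroup M) : Set M) = Nat.card (br M p) := (Nat.card_coe_set_eq _).symm
      rw [h19] at h18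
      exact h18.trans Finset.card_le_four
    rw [S.card] at h16
    have h20 : Nat.card (br M p) * Nat.card (fx M p) ≤ 4 * Nat.card (fx M p) := Nat.mul_le_mul_right _ h17
    omega
  have heq : fx M p = fx M α := by
    refine AddSubgroup.eq_of_le_of_card_ge h14 ?_
    rw [S.card_fx h hy hy1 hyz ha haQ]
    exact hcard
  have : R.pi y ∈ fx M p := by rw [heq]; exact hαv
  exact hpv this

/-- **(S7)** -/
theorem sseven [FaithfulSMul H M] {a : G} (ha : a ∈ ww V cf y) (haQ : a ∉ qq V cf z) {k : G}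
    (hkV : k ∈ centralizer (V : Set G)) (hkj : ∀ e ∈ jj V cf, k * e = e * k)
    (hk1 : ∀ w ∈ ww V cf z, w ∈ qq V cf y → cm k w = 1 ∨ cm k w = y) :
    k ∈ qq V cf z ∨ k * a ∈ qq V cf z := by
  have hz := h.ln.z_mem
  have hz1 := h.ln.z_ne
  have two := R.two h
  have hk := S.one1 h hy hy1 hyz
  have hac := h.ww_le_cf' hy hy1 hz hz1 ha
  have hkc := h.cent_le_cf hz hz1 hkV
  obtain ⟨w0, hw0, hw0V⟩ := S.exists_w0 h hy hy1 hyz ha haQ
  obtain ⟨w1, hw1, hw1y⟩ := h.pl_one hk hy hy1 hyz ha haQ hw0 hw0V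
  have hαv : R.phi a • R.pi y = R.pi y := S.fx_of_jj h hy hy1 hyz ha haQ (h.V_le_jj hy)
  have haa := S.aa h hy hy1 hyz ha haQ
  -- membership in `M¹`
  have hM1 : ∀ w ∈ ww V cf z, (R.phi a • R.pi w - R.pi w = 0 ∨ R.phi a • R.pi w - R.pi w = R.pi y) ↔
      w ∈ qq V cf y := by
    intro w hw
    rw [h.mem_qq_iff hk hy hy1 hyz ha hw0 hw0V hw, R.comm_eq h hac hw]
    have h1 : cm a w ∈ ww V cf z := (h.comm_mem hy hy1 hz hz1 ha hw).2
    rw [← cm_inv, inv_mem_iff]
    exact ⟨fun e => S.mem_V_of_pi h hy hy1 hyz ha haQ h1 e, fun e => S.pi_V h hy hy1 hyz ha haQ e⟩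
  have hκ1 : ∀ m : M, R.phi a • m = m → R.phi k • m = m := by
    intro m hm
    obtain ⟨w, hw, rfl⟩ := R.pi_surj m
    have hwj := S.mem_jj_of_fx h hy hy1 hyz ha haQ hw hm
    rw [R.act k hkc w hw, conj_eq_of_comm (hkj w hwj)]
  have hκ2 : ∀ m : M, (R.phi a • m - m = 0 ∨ R.phi a • m - m = R.pi y) →
      R.phi k • m = m ∨ R.phi k • m = m + R.pi y := by
    intro m hm
    obtain ⟨w, hw, rfl⟩ := R.pi_surj m
    have hwQ := (hM1 w hw).mp hm
    have e : R.phi k • R.pi w = R.pi (cm k w) + R.pi w := by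
      have := R.comm_eq h hkc hw
      change R.phi k • R.pi w - R.pi w = R.pi (cm k w) at this
      rw [← this]; abel
    rcases hk1 w hw hwQ with e1 | e1
    · left; rw [e, e1, R.pi_one h, zero_add]
    · right; rw [e, e1, add_comm]
  have h3 : ∀ m m' : M, ¬ (R.phi a • m - m = 0 ∨ R.phi a • m - m = R.pi y) →
      ¬ (R.phi a • m' - m' = 0 ∨ R.phi a • m' - m' = R.pi y) →
      (R.phi a • (m + m') - (m + m') = 0 ∨ R.phi a • (m + m') - (m + m') = R.pi y) := by
    intro m m' hm hm'
    obtain ⟨w, hw, rfl⟩ := R.pi_surj m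
    obtain ⟨w', hw', rfl⟩ := R.pi_surj m'
    rw [hM1 w hw] at hm
    rw [hM1 w' hw'] at hm'
    rw [← R.pi_mul w hw w' hw', hM1 _ (mul_mem hw hw')]
    exact hk z hz hz1 y hy hy1 hyz w hw w' hw' hm hm'
  -- `m1 ∈ M¹` with `α m1 = m1 + v0`
  have hm1 : R.phi a • R.pi w1 = R.pi w1 + R.pi y := by
    have e1 : R.phi a • R.pi w1 - R.pi w1 = R.pi (cm a w1) := R.comm_eq h hac hw1
    rw [← cm_inv, hw1y, h.ln.inv_eq hy] at e1
    rw [← e1]; abel
  have hm1P : R.phi a • R.pi w1 - R.pi w1 = 0 ∨ R.phi a • R.pi w1 - R.pi w1 = R.pi y := by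
    right; rw [hm1, add_sub_cancel_left]
  -- the element `κ'`
  have fin : ∀ κ : H, (∀ m : M, R.phi a • m = m → κ • m = m) → κ • R.pi w1 = R.pi w1 → κ = 1 := by
    intro κ hκ hκw
    refine S.seven_aux h hy hy1 hyz ha haQ hκ (fun m hm => ?_) h3
    rcases hm with e | e
    · exact hκ m (sub_eq_zero.mp e)
    · have e1 : R.phi a • (m - R.pi w1) = m - R.pi w1 := by
        have : R.phi a • m = m + R.pi y := by rw [← e]; abel
        rw [smul_sub, this, hm1]; abel
      have e2 := hκ _ e1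
      rw [smul_sub, hκw] at e2
      exact sub_left_injective e2
  rcases hκ2 _ hm1P with e | e
  · left
    rw [← R.phi_ker k hkc]
    exact fin _ hκ1 e
  · right
    rw [← R.phi_ker _ (mul_mem hkc hac), R.phi_mul k hkc a hac]
    refine fin _ (fun m hm => by rw [mul_smul, hm, hκ1 m hm]) ?_
    rw [mul_smul, hm1, smul_add, e, hκ1 _ hαv, add_assoc, two, add_zero]

end Shp

end module

end Cfsg.Agent.Omega.NO3S.Fit
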