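import Cfsg.Agent.Omega.NO3S.Fit.FourDat

/-!
# Text #13963 (helper311), section 4: `Dat` in the language of the group; (4.1)

* `Dat.one1`, `Dat.jj_of`, `Dat.exists_jj`, `Dat.jj_mul`, `Dat.sev`, `Dat.exists_w1`, `Dat.gen`, `Dat.ann`, `Dat.qqe`,
  `Dat.dual`, `Dat.tt`;
* `Dat.two` (4.1): `C_G(V)` is a 2-group.
-/

set_option autoImplicit false
set_option linter.unusedSectionVars false

namespace Cfsg.Agent.Omega.NO3S.Fit

open Subgroup Cfsg Cfsg.Agent.ZN Cfsg.Agent.MinSimple.Geo Cfsg.Agent.Omega.CaseL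
open Cfsg.Agent.Omega.NO3S.Fit.PlaneForm (cm cm_eq_one cm_inv)
open Cfsg.Agent.Omega.NO3S.Fit.Abs (br fx cx)
open Cfsg.Agent.ZN.Block (conj_mem_of_normalizer conj_mem_of_normalizer' le_normalizer_of_forall
  mem_normalizer_of)

universe u

variable {G : Type u} [Group G]

/-- an element of odd order is a power of its `2^k`-th power -/
theorem mem_of_pow_two_pow {K : Subgroup G} {c : G} (hc : Odd (orderOf c)) {k : ℕ} (hk : c ^ 2 ^ k ∈ K) : c ∈ K := by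
  have hco : Nat.Coprime (orderOf c) (2 ^ k) := Nat.Coprime.pow_right _ (Nat.coprime_two_right.mpr hc)
  obtain ⟨m, hm⟩ := exists_pow_eq_self_of_coprime hco.symm
  rw [← hm]
  exact pow_mem hk m

namespace Dat

variable {T V : Subgroup G} {z : G} {cf : G → Subgroup G} {y : G}

theorem hz (D : Dat T V z cf y) : z ∈ V := D.fam.ln.z_mem

theorem hz1 (D : Dat T V z cf y) : z ≠ 1 := D.fam.ln.z_ne

variable [Finite G] (D : Dat T V z cf y)
include D

theorem one1 : Fam.One1 V cf := by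
  obtain ⟨M, H, _, _, _, _, R, P, d, S⟩ := D.shp
  exact S.one1 D.fam D.hy D.hy1 D.hyz

theorem exists_a : ∃ a ∈ ww V cf y, a ∉ qq V cf z := D.fam.exists_not_qq D.hy D.hy1 D.hz D.hz1 (Ne.symm D.hyz)

/-- `{w ∈ W_z : [w, a] ∈ ⟨z⟩} = I` -/
theorem jj_of' {a w : G} (ha : a ∈ ww V cf y) (haQ : a ∉ qq V cf z) (hw : w ∈ ww V cf z)
    (hwa : cm w a = 1 ∨ cm w a = z) : w ∈ jj V cf := by
  obtain ⟨M, H, _, _, _, _, R, P, d, S⟩ := D.shp
  exact S.mem_jj_of D.fam D.hy D.hy1 D.hyz ha haQ hw hwa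

theorem jj_of {w : G} (hw : w ∈ ww V cf z) (hwa : ∀ g ∈ ww V cf y, cm w g = 1 ∨ cm w g = z) : w ∈ jj V cf := by
  obtain ⟨a, ha, haQ⟩ := D.exists_a
  exact D.jj_of' ha haQ hw (hwa a ha)

theorem exists_jj : ∃ e ∈ jj V cf, e ∉ V := by
  obtain ⟨a, ha, haQ⟩ := D.exists_a
  obtain ⟨M, H, _, _, _, _, R, P, d, S⟩ := D.shp
  exact S.exists_jj D.fam D.hy D.hy1 D.hyz ha haQ

theorem jj_mul {u v : G} (hu : u ∈ jj V cf) (hv : v ∈ jj V cf) (huV : u ∉ V) (hvV : v ∉ V) : u * v ∈ V := by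
  obtain ⟨a, ha, haQ⟩ := D.exists_a
  obtain ⟨M, H, _, _, _, _, R, P, d, S⟩ := D.shp
  exact S.jj_mul D.fam D.hy D.hy1 D.hyz ha haQ hu hv huV hvV

/-- `w ∈ W_z ∩ Q_y` with `[w, a] = y` for all `a ∈ W_y - Q_z` -/
theorem exists_w1 : ∃ w ∈ ww V cf z, w ∈ qq V cf y ∧ ∀ a ∈ ww V cf y, a ∉ qq V cf z → cm w a = y := by
  have h := D.fam
  have hz := D.hz
  have hz1 := D.hz1
  have hk := D.one1
  obtain ⟨a, ha, haQ⟩ := D.exists_a
  obtain ⟨M, H, _, _, _, _, R, P, d, S⟩ := D.shp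
  obtain ⟨w0, hw0, hw0V⟩ := S.exists_w0 h D.hy D.hy1 D.hyz ha haQ
  obtain ⟨w1, hw1, hw1y⟩ := h.pl_one hk D.hy D.hy1 D.hyz ha haQ hw0 hw0V
  have hw1Q : w1 ∈ qq V cf y :=
    (h.mem_qq_iff hk D.hy D.hy1 D.hyz ha hw0 hw0V hw1).mpr (by rw [hw1y]; exact D.hy)
  refine ⟨w1, hw1, hw1Q, fun a' ha' ha'Q => ?_⟩
  have h1 := hk y D.hy D.hy1 z hz hz1 (Ne.symm D.hyz) a' ha' a ha ha'Q haQ
  have e1 : a' = a' * a * a := by rw [mul_assoc, h.sq D.hy D.hy1 a ha, mul_one]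
  have h2 : cm w1 (a' * a) = 1 := by
    rcases h.cm_qw D.hy (mul_mem ha' ha) hw1Q with e | e
    · exact e
    · rcases h.cm_qq hz hz1 hw1 h1 with e' | e'
      · exact e'
      · exact absurd (e.symm.trans e') D.hyz
  rw [e1, cm_mul_right, h2, one_mul, hw1y,
    h.comm D.hy D.hy1 _ (mul_mem ha' ha) y (h.V_le D.hy), mul_inv_cancel_right]

/-- (S7) -/
theorem sev {a k : G} (ha : a ∈ ww V cf y) (haQ : a ∉ qq V cf z) (hkV : k ∈ centralizer (V : Set G))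
    (hkj : ∀ e ∈ jj V cf, k * e = e * k)
    (hk1 : ∀ w ∈ ww V cf z, w ∈ qq V cf y → cm k w = 1 ∨ cm k w = y) :
    k ∈ qq V cf z ∨ k * a ∈ qq V cf z := by
  obtain ⟨M, H, _, _, _, _, R, P, d, S⟩ := D.shp
  exact S.sseven D.fam D.hy D.hy1 D.hyz ha haQ hkV hkj hk1

theorem gen {c : G} (hc : c ∈ cf z) : ∃ x ∈ XX V cf z, ∃ n ∈ normalizer (V : Set G), n * z = z * n ∧
    c = x * n := by
  obtain ⟨M, H, _, _, _, _, R, P, d, S⟩ := D.shp
  exact S.gen_XX D.fam D.hy D.hy1 D.hyz hc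

theorem ann {w : G} (hw : w ∈ ww V cf z) (hwO : ∀ o ∈ OO V cf z, o * w = w * o) : w = 1 ∨ w = z := by
  obtain ⟨M, H, _, _, _, _, R, P, d, S⟩ := D.shp
  exact S.ann D.fam D.hy D.hy1 D.hyz hw hwO

/-- `Q_z = O_z K_z` -/
theorem qqe {q : G} (hq : q ∈ qq V cf z) : ∃ o ∈ OO V cf z, o⁻¹ * q ∈ kk V cf z := by
  obtain ⟨M, H, _, _, _, _, R, P, d, S⟩ := D.shp
  exact S.qq_eq D.fam D.hy D.hy1 D.hyz hq

theorem dual {w v : G} (hw : w ∈ ww V cf z) (hv : v ∈ ww V cf z) (hw1 : w ≠ 1)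
    (hwz : w ≠ z) (hwv : w ≠ v) (hwv' : w ≠ z * v) : ∃ o ∈ OO V cf z, cm o v = 1 ∧ cm o w = z := by
  obtain ⟨M, H, _, _, _, _, R, P, d, S⟩ := D.shp
  exact S.dual2 D.fam D.hy D.hy1 D.hyz hw hv hw1 hwz hwv hwv'

/-- the lift of `d` -/
theorem tt : ∃ t ∈ XX V cf z, (∃ n : ℕ, Odd n ∧ t ^ n ∈ qq V cf z) ∧
    (∀ w ∈ ww V cf z, (cm t w = 1 ∨ cm t w = z) → w = 1 ∨ w = z) ∧
    ∀ x ∈ cf z, cm t (x⁻¹ * t * x) ∈ qq V cf z := by
  have h := D.fam
  have hz := D.hz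
  have hz1 := D.hz1
  obtain ⟨a, ha, haQ⟩ := D.exists_a
  obtain ⟨M, H, _, _, _, _, R, P, d, S⟩ := D.shp
  obtain ⟨t, ht, htd⟩ := S.lift h D.hy D.hy1 D.hyz S.dP
  have htc := h.XX_le_cf hz hz1 ht
  have hPc : ∀ p ∈ P, ∀ q ∈ P, p * q = q * p := by
    intro p hp q hq
    have e1 := S.inv a ha haQ _ hp
    have e2 := S.inv a ha haQ _ hq
    have e3 := S.inv a ha haQ _ (mul_mem hp hq)
    have e4 : R.phi a * (p * q) * (R.phi a)⁻¹ = (R.phi a * p * (R.phi a)⁻¹) * (R.phi a * q * (R.phi a)⁻¹) := by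
      group
    rw [e3, e1, e2] at e4
    have := congrArg (·⁻¹) e4
    simpa using this
  refine ⟨t, ht, ⟨orderOf d, S.odd_of S.dP, ?_⟩, ?_, ?_⟩
  · rw [← R.phi_ker _ (pow_mem htc _)]
    have h1 : R.phi (t ^ orderOf d) = R.phi t ^ orderOf d := map_pow R.hom ⟨t, htc⟩ _
    rw [h1, htd, pow_orderOf_eq_one]
  · intro w hw hwt
    rw [← R.pi_ker w hw]
    refine S.fd _ ?_
    have h1 : R.phi t • R.pi w - R.pi w = R.pi (cm t w) := R.comm_eq h htc hw
    rw [← htd]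
    refine sub_eq_zero.mp ?_
    rw [h1]
    rcases hwt with e | e
    · rw [e, R.pi_one h]
    · rw [e, R.pi_z h]
  · intro x hx
    have h1 : x⁻¹ * t * x ∈ cf z := mul_mem (mul_mem (inv_mem hx) htc) hx
    have e1 : R.phi (x⁻¹ * t * x) = (R.phi x)⁻¹ * d * R.phi x := by
      rw [R.phi_mul _ (mul_mem (inv_mem hx) htc) x hx, R.phi_mul _ (inv_mem hx) t htc, R.phi_inv hx, htd]
    have e2 : (R.phi x)⁻¹ * d * R.phi x ∈ P := by
      have := S.nor (R.phi x)⁻¹ d S.dP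
      rwa [inv_inv] at this
    have e3 := hPc d S.dP _ e2
    have hcm : cm t (x⁻¹ * t * x) = t * (x⁻¹ * t * x) * ((x⁻¹ * t * x) * t)⁻¹ := by unfold cm; group
    rw [hcm, ← R.phi_eq (mul_mem htc h1) (mul_mem h1 htc), R.phi_mul t htc _ h1, R.phi_mul _ h1 t htc, e1, htd, e3]

/-! ### (4.1) -/

/-- odd elements of `C_G(V)` centralise `W_z` -/
theorem odd_kk {c : G} (hc : c ∈ centralizer (V : Set G)) (ho : Odd (orderOf c)) : c ∈ kk V cf z := by
  have h := D.fam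
  have hz := D.hz
  have hz1 := D.hz1
  obtain ⟨M, H, _, _, _, _, R, P, d, S⟩ := D.shp
  have hcc := h.cent_le_cf hz hz1 hc
  obtain ⟨k, hk⟩ := S.two (R.phi c) (R.cent_v0 h D.hy hc)
  have h1 : c ^ 2 ^ k ∈ qq V cf z := by
    rw [← R.phi_ker _ (pow_mem hcc _)]
    have h1 : R.phi (c ^ 2 ^ k) = R.phi c ^ 2 ^ k := map_pow R.hom ⟨c, hcc⟩ _
    rw [h1, hk]
  have h2 : c ∈ qq V cf z := mem_of_pow_two_pow ho h1
  refine mem_of_pow_two_pow (k := 1) ho ?_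
  rw [pow_one, pow_two, mem_centralizer_iff]
  intro w hw
  have h3 : c * c * w * (c * c)⁻¹ = w := by
    have e : c * c * w * (c * c)⁻¹ = c * (c * w * c⁻¹) * c⁻¹ := by group
    rw [e]
    rcases h.qq_cases hz h2 hw with e1 | e1
    · rw [e1, e1]
    · rw [e1]
      have e2 : c * (z * w) * c⁻¹ = z * (c * w * c⁻¹) := by
        rw [← mul_assoc, h.qq_p h2]; group
      rw [e2, e1, ← mul_assoc, h.ln.zz, one_mul]
  exact (comm_of_conj_eq h3).symm

/-- **(4.1)** `C_G(V)` is a 2-group. -/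
theorem two : IsPGroup 2 (centralizer (V : Set G)) := by
  have h := D.fam
  have hz := D.hz
  have hz1 := D.hz1
  set K0 : Subgroup G := closure {c | c ∈ centralizer (V : Set G) ∧ Odd (orderOf c)} with hK0
  have hodd : ∀ g c : G, Odd (orderOf c) → Odd (orderOf (g * c * g⁻¹)) := by
    intro g c hc
    have : orderOf (g * c * g⁻¹) = orderOf c := by
      rw [← MulAut.conj_apply]
      exact MulEquiv.orderOf_eq (MulAut.conj g) c
    rwa [this]
  have hnorm : ∀ g : G, (∀ c ∈ centralizer (V : Set G), Odd (orderOf c) → g * c * g⁻¹ ∈ centralizer (V : Set G)) →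
      ∀ x ∈ K0, g * x * g⁻¹ ∈ K0 := by
    intro g hg x hx
    induction hx using closure_induction with
    | mem x hx => exact subset_closure ⟨hg x hx.1 hx.2, hodd g x hx.2⟩
    | one => simp
    | mul a b _ _ ha hb =>
      have e : g * (a * b) * g⁻¹ = (g * a * g⁻¹) * (g * b * g⁻¹) := by group
      rw [e]
      exact mul_mem ha hb
    | inv a _ ha =>
      have e : g * a⁻¹ * g⁻¹ = (g * a * g⁻¹)⁻¹ := by group
      rw [e]
      exact inv_mem ha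
  have hVn : normalizer (V : Set G) ≤ normalizer (K0 : Set G) :=
    le_normalizer_of_forall fun g hg x hx => hnorm g (fun c hc _ =>
      conj_mem_of_normalizer (normalizer_le_normalizer_centralizer V) hg hc) x hx
  have hCn : cf z ≤ normalizer (K0 : Set G) :=
    le_normalizer_of_forall fun g hg x hx => hnorm g (fun c hc ho =>
      h.kk_le_cent (conj_mem_of_normalizer h.cf_norm_kk hg (D.odd_kk hc ho))) x hx
  have hK0V : K0 ≤ normalizer (V : Set G) :=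
    (closure_le _).mpr fun c hc => centralizer_le_normalizer _ hc.1
  have ho2 : o2 K0 = ⊥ := h.nl (isPGroup_o2 K0) (hVn.trans (normalizer_le_normalizer_o2 K0))
    (hCn.trans (normalizer_le_normalizer_o2 K0))
  -- `K0` centralises `O₂(N_G(V))`
  set L := normalizer (V : Set G) with hL
  have hVp : IsPGroup 2 V := by
    intro a
    refine ⟨1, Subtype.ext ?_⟩
    have := h.ln.sq a a.2
    simpa [pow_two] using this
  have hloc : IsTwoLocal L := by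
    refine ⟨V, hVp, fun e => hz1 ?_, rfl⟩
    have := hz
    rw [e] at this
    exact mem_bot.mp this
  have hc : K0 ≤ centralizer ((o2 L : Subgroup G) : Set G) := by
    intro c hc
    rw [mem_centralizer_iff]
    intro r hr
    have h1 : r * c * r⁻¹ * c⁻¹ ∈ K0 ⊓ o2 L := by
      refine mem_inf.mpr ⟨mul_mem (conj_mem_of_normalizer hVn (o2_le L hr) hc) (inv_mem hc), ?_⟩
      have e : r * c * r⁻¹ * c⁻¹ = r * (c * r⁻¹ * c⁻¹) := by group
      rw [e]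
      exact mul_mem hr (conj_mem_of_normalizer (le_normalizer_o2 L) (hK0V hc) (inv_mem hr))
    have h2 : K0 ⊓ o2 L ≤ o2 K0 := by
      refine le_o2 inf_le_left ((isPGroup_o2 L).to_le inf_le_right) ?_
      refine le_normalizer_of_forall fun g hg x hx => ?_
      exact mem_inf.mpr ⟨mul_mem (mul_mem hg (mem_inf.mp hx).1) (inv_mem hg),
        conj_mem_of_normalizer (le_normalizer_o2 L) (hK0V hg) (mem_inf.mp hx).2⟩
    have h3 := h2 h1
    rw [ho2, mem_bot] at h3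
    rw [mul_inv_eq_one] at h3
    exact mul_inv_eq_iff_eq_mul.mp h3
  have hK0two : IsPGroup 2 K0 :=
    (isPGroup_o2 L).to_le fun c hcK => inf_centralizer_o2_le h.ln.charTwo hloc ⟨hK0V hcK, hc hcK⟩
  have hK0b : K0 = ⊥ := by
    rw [eq_bot_iff, ← ho2]
    exact le_o2 le_rfl hK0two le_normalizer
  rintro ⟨c, hcV⟩
  obtain ⟨k, m, hm, hkm⟩ := Nat.exists_eq_two_pow_mul_odd (n := orderOf c) (orderOf_pos _).ne'
  refine ⟨k, Subtype.ext ?_⟩
  change c ^ 2 ^ k = 1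
  have h1 : orderOf (c ^ 2 ^ k) = m := by
    rw [orderOf_pow' c (by positivity), hkm, Nat.gcd_eq_right (Dvd.intro _ rfl)]
    exact Nat.mul_div_cancel_left m (by positivity)
  have h2 : c ^ 2 ^ k ∈ K0 := subset_closure ⟨pow_mem hcV _, by rw [h1]; exact hm⟩
  rw [hK0b] at h2
  exact mem_bot.mp h2

end Dat

end Cfsg.Agent.Omega.NO3S.Fit
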