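import Cfsg.Agent.Omega.NO3S.Fit.KCard
import Cfsg.Agent.Omega.TitsAmal.Main

/-!
# NO-3S, `q = 2`, `n = 1` (helper311's text #13963), section 6: the type `T5` ends in the Tits group

`Fam` for the FULL family (`cf p = C_G(p)`), `F` a normal 5-subgroup of `H = C_G(z)/Q_z`, `d ∈ F` inverted by `a`, `|[M,d]| = 16`,
`F` normalizes `⟨d⟩`, and `|K'_z| ≤ 64` for some subfamily: `|W_z| = 32`, `|H| = 20`, `G` is the Tits group.
-/

set_option autoImplicit false
set_option linter.unusedSectionVars false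

namespace Cfsg.Agent.Omega.NO3S.Fit

open Subgroup Cfsg Cfsg.Agent.ZN Cfsg.Agent.MinSimple.Geo Cfsg.Agent.Omega.CaseL
open Cfsg.Agent.ZN.Block (conj_mem_of_normalizer conj_mem_of_normalizer' le_normalizer_of_forall
  mem_normalizer_of)

universe u

variable {G : Type u} [Group G] {T V : Subgroup G} {z : G}
variable {M H : Type u} [AddCommGroup M] [Group H] [DistribMulAction H M]

/-- the full family -/
abbrev cfull (p : G) : Subgroup G := centralizer ({p} : Set G)

theorem kst_eq {cf : G → Subgroup G} (_ : Fam T V z cf) (hc : cf z = centralizer ({z} : Set G)) :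
    TitsAmal.Tri.kst (centralizer ({z} : Set G)) (ww V cf z) z = qq V cf z := by
  ext c
  constructor
  · rintro ⟨h1, h2, h3, -⟩
    refine ⟨by rw [hc]; exact h1, h2, h3⟩
  · intro hq
    refine ⟨?_, hq.2.1, hq.2.2, fun w hw => ?_⟩
    · have := hq.1
      rwa [hc] at this
    · have := (inv_mem hq).2.2 w hw
      rwa [inv_inv] at this

/-- the full family with `|M| = 16`, `|H| = 20` gives the data of the Tits amalgam -/
theorem Fam.dat_of [Finite G] (h : Fam T V z cfull) (R : MRep V cfull z M H) (hM : Nat.card M = 16)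
    (hH : Nat.card H = 20) : TitsAmal.Dat V (ww V cfull z) z where
  cardV := h.ln.card_V
  sqV := h.ln.sq
  zV := h.ln.z_mem
  z1 := h.ln.z_ne
  trans := h.ln.trans
  swap := by
    obtain ⟨q, -, hq, hq1⟩ := h.f1
    refine ⟨q, h.qq_le_normalizer h.ln.z_mem hq, conj_eq_of_comm (h.qq_p hq), ?_⟩
    by_contra hcon
    push Not at hcon
    apply hq1
    rw [mem_centralizer_iff]
    intro v hv
    exact (comm_of_conj_eq (hcon v hv)).symm
  cardW := by rw [R.card_ww h, hM]
  sqW := h.sqz
  VW := h.V_le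
  CW := h.cf_norm
  idx := by
    right
    have e : TitsAmal.Tri.kst (centralizer ({z} : Set G)) (ww V cfull z) z = qq V cfull z := kst_eq h rfl
    rw [e]
    have hker : R.hom.ker = (qq V cfull z).subgroupOf (cfull z) := by
      ext c
      rw [MonoidHom.mem_ker, mem_subgroupOf]
      exact R.phi_ker c c.2
    have h1 : (qq V cfull z).relIndex (cfull z) = Nat.card H := by
      rw [relIndex, ← hker, index_ker, MonoidHom.range_eq_top.mpr (R.hom_surj h), Subgroup.card_top]
    rw [← hH]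
    exact h1
  nc := by
    intro n hn hnz
    obtain ⟨a, ha, b, hb, hab⟩ := h.nc' h.ln.z_mem h.ln.z_ne (h.conj_pt hn h.ln.z_mem)
      (Fam.conj_ne h.ln.z_ne) hnz
    rw [← h.cj_ww hn h.ln.z_mem h.ln.z_ne] at hb
    refine ⟨a, ha, n⁻¹ * b * n, mem_cj.mp hb, ?_⟩
    have e : n * (n⁻¹ * b * n) * n⁻¹ = b := by group
    rw [e]
    exact hab
  nonloc := fun _ hR h1 h2 => h.nl hR h2 h1

/-- **section 6** -/
theorem Fam.five_known [Finite G] [Finite M] [Finite H] [FaithfulSMul H M] (h : Fam T V z cfull)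
    (R : MRep V cfull z M H) {y : G} (hy : y ∈ V) (hy1 : y ≠ 1) (hyz : y ≠ z) {F : Subgroup H} {a d : H}
    (ha : a * a = 1) (hd : d ^ 5 = 1) (hi : a * d * a⁻¹ = d⁻¹) (hbr : Nat.card (Abs.br M d) = 16)
    (hv0 : R.pi y ∈ Abs.br M d) (hdF : d ∈ F) (hF : IsPGroup 5 F) (hFn : F.Normal)
    (hFd : ∀ f ∈ F, f * d * f⁻¹ ∈ zpowers d) (h2 : ∃ x : H, x * d * x⁻¹ = d ^ 2)
    (pl : ∀ f : H, f * a = a * f → f • R.pi y = R.pi y)
    {C : Subgroup G} (hC : normalizer (V : Set G) ⊓ centralizer ({z} : Set G) ≤ C)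
    (hC' : C ≤ centralizer ({z} : Set G)) (h64 : Nat.card (kk V (subf V z C) z) ≤ 64)
    (h2' : ∀ N : Subgroup G, N.index ≠ 2) : IsKnownSimple' G := by
  have two : ∀ m : M, m + m = 0 := R.two h
  have hd1 : d ≠ 1 := by
    rintro rfl
    rw [Abs.br_one] at hbr
    simp at hbr
  -- `|M| ≤ 32`
  have hle : ww V cfull z ≤ kk V (subf V z C) z := by
    intro w hw
    rw [kk, Fam.ww_subf hC, mem_centralizer_iff]
    intro x hx
    exact h.ab x (wf_mono hC' hx) w hw
  have hM32 : Nat.card M ≤ 32 := by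
    have h1 := Subgroup.card_le_of_le hle
    rw [R.card_ww h] at h1
    omega
  obtain ⟨htop, hFz⟩ := Abs.top_of_card_le two hM32 hd hd1 hbr hdF hF hFn hFd hv0 (R.span h hy hy1 hyz)
  have hM : Nat.card M = 16 := by
    rw [htop, AddSubgroup.card_top] at hbr
    exact hbr
  obtain ⟨hfx, -⟩ := Abs.fix_four (M := M) two hM ha hd hd1 hi
  have hn : ∀ x : H, x * d * x⁻¹ ∈ zpowers d := by
    intro x
    have := hFn.conj_mem d hdF x
    rwa [hFz] at this
  have hH := Abs.card_eq_twenty two hM ha hd hd1 hfx.symm.le (R.v0_ne h hy hy1 hyz) pl hn h2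
  exact (h.dat_of R hM hH).known h.ln.charTwo h2'

/-- a simple group with a four-subgroup has no subgroup of index 2 -/
theorem index_ne_two [Finite G] (hs : IsSimpleGroup G) (hV : Nat.card V = 4) (N : Subgroup G) :
    N.index ≠ 2 := by
  intro hN
  have hn : N.Normal := normal_of_index_eq_two hN
  rcases hn.eq_bot_or_eq_top with e | e
  · rw [e, index_bot] at hN
    have := V.card_subgroup_dvd_card
    rw [hV, hN] at this
    omega
  · rw [e, index_top] at hN
    omega

end Cfsg.Agent.Omega.NO3S.Fit
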