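import Cfsg.Agent.Omega.NO3S.Fit.Ctxt
import Cfsg.Agent.Omega.NO3S.Fit.AbsTransfer
import Cfsg.Agent.Omega.NO3S.Fit.FiveTri
import Cfsg.Agent.Omega.NO3S.Fit.TFiveEnd

/-!
# NO-3S, `q = 2`, `n = 1` (helper311's text #13963): the case T5, from the module to the Tits group

* `Cmp.down` : the comparison of a subfamily as helper204's `Abs.Down`;
* `Fam.five_glue` : the output (T5) of the main theorem of section 3 for the full family ⟹ known.
-/

set_option autoImplicit false
set_option linter.unusedSectionVars false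

namespace Cfsg.Agent.Omega.NO3S.Fit

open Subgroup Cfsg Cfsg.Agent.ZN Cfsg.Agent.MinSimple.Geo Cfsg.Agent.Omega.CaseL
open Cfsg.Agent.ZN.Block (conj_mem_of_normalizer conj_mem_of_normalizer' le_normalizer_of_forall
  mem_normalizer_of)

universe u

variable {G : Type u} [Group G] {T V : Subgroup G} {z : G} {cf : G → Subgroup G}
variable {M H M' H' : Type u} [AddCommGroup M] [Group H] [DistribMulAction H M]
  [AddCommGroup M'] [Group H'] [DistribMulAction H' M']

open Classical in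
/-- the comparison as `Abs.Down` -/
noncomputable def Cmp.down {R : MRep V cf z M H} {y : G} {K : Subgroup H}
    {R' : MRep V (subf V z (R.pre K)) z M' H'} {θ : M' →+ M} {κ : K →* H'} (c : Cmp R y K R' θ κ)
    {D : AddSubgroup M} (hD : spn K (R.pi y) = D) : Abs.Down K D H' M' where
  io := θ
  rho := fun x => if hx : x ∈ K then κ ⟨x, hx⟩ else 1
  io_add := map_add θ
  io_inj := c.inj
  io_mem := fun m => hD ▸ c.mem_range m
  io_surj := fun m hm => (c.range m).mpr (hD ▸ hm)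
  rho_mul := by
    intro g hg h hh
    rw [dif_pos hg, dif_pos hh, dif_pos (mul_mem hg hh), ← map_mul]
    rfl
  rho_surj := by
    intro x
    obtain ⟨k, rfl⟩ := c.surj x
    exact ⟨k, k.2, by rw [dif_pos k.2]⟩
  act := by
    intro h hh m
    rw [dif_pos hh, c.act]

theorem Cmp.down_io {R : MRep V cf z M H} {y : G} {K : Subgroup H}
    {R' : MRep V (subf V z (R.pre K)) z M' H'} {θ : M' →+ M} {κ : K →* H'} (c : Cmp R y K R' θ κ)
    {D : AddSubgroup M} (hD : spn K (R.pi y) = D) : (c.down hD).io = θ := rfl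

theorem Cmp.down_rho {R : MRep V cf z M H} {y : G} {K : Subgroup H}
    {R' : MRep V (subf V z (R.pre K)) z M' H'} {θ : M' →+ M} {κ : K →* H'} (c : Cmp R y K R' θ κ)
    {D : AddSubgroup M} (hD : spn K (R.pi y) = D) {g : G} (hg : g ∈ R.pre K) :
    (c.down hD).rho (R.phi g) = R'.phi g := by
  have h1 := (R.mem_pre.mp hg).2
  have h2 : (c.down hD).rho (R.phi g) = κ ⟨R.phi g, h1⟩ := dif_pos h1
  rw [h2]
  exact c.phi g hg

namespace Fam

/-- **the case T5** -/
theorem five_glue [Finite G] [Finite M] [Finite H] [FaithfulSMul H M] (h : Fam T V z cfull)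
    (hk : One1 V cfull) (R : MRep V cfull z M H) {y : G} (hy : y ∈ V) (hy1 : y ≠ 1) (hyz : y ≠ z) {w : G}
    (hw : w ∈ ww V cfull y) (hwz : w ∉ qq V cfull z) (h4 : Nat.card (Abs.br M (R.phi w)) = 4)
    {p : ℕ} (hp : p.Prime) {F : Subgroup H} (hFn : F.Normal) (hF : IsPGroup p F) {d : H}
    (hC : Abs.Cyc M (R.phi w) F d) (K : Abs.T5 (R.pi y) (R.phi w) d) (hs : IsSimpleGroup G) :
    IsKnownSimple' G := by
  have hz := h.ln.z_mem
  have hz1 := h.ln.z_ne
  have ctx := h.ctx hk R hy hy1 hyz hw hwz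
  set D := Abs.cyc (R.pi y) d K.nor with hDd
  have hK : ∀ x : H, x • R.pi y = R.pi y → x ∈ D := fun x hx => Abs.stab_le_cyc K.nor hx
  have hsp : spn D (R.pi y) = Abs.br M d := by rw [spn_eq_sp, K.sp_eq]
  have hodd : Odd (orderOf d) := K.odd
  have hd1 : d ≠ 1 := by
    rintro rfl
    exact K.ne (one_smul _ _)
  -- `p = 5`
  have hod : orderOf d = 5 := by
    rcases (Nat.dvd_prime (by norm_num)).mp (orderOf_dvd_of_pow_eq_one K.five) with e | e
    · exact absurd (orderOf_eq_one_iff.mp e) hd1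
    · exact e
  have hp5 : p = 5 := by
    have hfact : Fact p.Prime := ⟨hp⟩
    obtain ⟨k, hk'⟩ := IsPGroup.iff_orderOf.mp hF ⟨d, hC.mem⟩
    rw [Subgroup.orderOf_mk, hod] at hk'
    have h1 : (5 : ℕ).Prime := by norm_num
    rw [hk'] at h1
    exact ((Nat.Prime.pow_eq_iff (by norm_num : Nat.Prime 5)).mp hk'.symm).1
  subst hp5
  -- the subfamily
  have h' : Fam T V z (subf V z (R.pre D)) := by
    refine h.subfam hk R hy hy1 hyz hw hK ?_
    obtain ⟨b, hb, hb0, hbv⟩ := Abs.exists_ne_ne_of_card h4 (u := R.pi y)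
    have hb' : b ∈ Abs.cx M (R.phi w) d := by rw [K.cxe]; exact hb
    obtain ⟨n, hn, e⟩ := Abs.cx_le_br ctx.two ctx.sq hodd K.inv hb'
    refine ⟨n, by rw [hsp]; exact hn, ?_, ?_⟩
    · rw [e]; exact hb0
    · rw [e]; exact hbv
  obtain ⟨M', H', _, _, _, _, _, _, ⟨R'⟩⟩ := h'.exists_mrep
  obtain ⟨θ, κ, c⟩ := exists_cmp R h hy hy1 hyz hK R' h'
  have E5 := K.fiveA ctx hDd (c.down hsp) (v0' := R'.pi y) (c.pi_y hy)
  have h64 : Nat.card (kk V (subf V z (R.pre D)) z) ≤ 64 :=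
    R'.card_kk_five h' hy hy1 hyz E5.card E5.d5 E5.fd E5.gen E5.nd
  have hFd : ∀ f ∈ F, f * d * f⁻¹ ∈ zpowers d := by
    intro f hf
    have : f * d * f⁻¹ = d := by rw [hC.cen f hf]; group
    rw [this]; exact mem_zpowers d
  have h2 : ∃ x : H, x * d * x⁻¹ = d ^ 2 := by
    obtain ⟨x, -, hx⟩ := K.frob
    exact ⟨x, hx⟩
  exact h.five_known R hy hy1 hyz ctx.sq K.five K.inv K.card (K.le ctx.v0_mem) hC.mem hF hFn hFd h2
    (ctx.pl h4) (R.le_pre h hy hy1 hyz hK) (R.pre_le D) h64 (index_ne_two hs h.ln.card_V)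

end Fam

end Cfsg.Agent.Omega.NO3S.Fit
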