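import Cfsg.Agent.Omega.NO3S.Fit.GlueFive

/-!
# NO-3S, `q = 2`, `n = 1` (helper311's text #13963): the case T9, from the module to the subfamily

`Fam.nine_data` : the output (T9) of the main theorem of section 3 for a family gives the subfamily of `H1` with its representation
`R'`, the data `NineA`, and `R'.phi u = a'` for every `u ∈ W'_y - Q'_z`.
-/

set_option autoImplicit false
set_option linter.unusedSectionVars false

namespace Cfsg.Agent.Omega.NO3S.Fit

open Subgroup Cfsg Cfsg.Agent.ZN Cfsg.Agent.MinSimple.Geo Cfsg.Agent.Omega.CaseL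
open Cfsg.Agent.ZN.Block (conj_mem_of_normalizer conj_mem_of_normalizer' le_normalizer_of_forall
  mem_normalizer_of)

universe u

variable {G : Type u} [Group G] {T V : Subgroup G} {z : G} {cf : G → Subgroup G}
variable {M H : Type u} [AddCommGroup M] [Group H] [DistribMulAction H M]

namespace Fam

theorem subf_le (h : Fam T V z cf) {C : Subgroup G}
    (hC : normalizer (V : Set G) ⊓ centralizer ({z} : Set G) ≤ C) (hC' : C ≤ cf z) {p : G} (hp : p ∈ V)
    (hp1 : p ≠ 1) : subf V z C p ≤ cf p := by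
  obtain ⟨g, hg, rfl⟩ := h.ln.trans p hp hp1
  rw [subf_eq hC hg, ← h.cj_cf g hg z h.ln.z_mem h.ln.z_ne]
  exact cj_mono hC'

theorem ww_subf_le (h : Fam T V z cf) {C : Subgroup G}
    (hC : normalizer (V : Set G) ⊓ centralizer ({z} : Set G) ≤ C) (hC' : C ≤ cf z) {p : G} (hp : p ∈ V)
    (hp1 : p ≠ 1) : ww V (subf V z C) p ≤ ww V cf p := wf_mono (h.subf_le hC hC' hp hp1)

/-- `Q_z ∩ C ≤ Q'_z` -/
theorem mem_qq_subf (h : Fam T V z cf) {C : Subgroup G}
    (hC : normalizer (V : Set G) ⊓ centralizer ({z} : Set G) ≤ C) (hC' : C ≤ cf z) {u : G} (hu : u ∈ C)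
    (huq : u ∈ qq V cf z) : u ∈ qq V (subf V z C) z := by
  refine ⟨by rw [subf_z hC]; exact hu, huq.2.1, fun w hw => huq.2.2 w ?_⟩
  exact h.ww_subf_le hC hC' h.ln.z_mem h.ln.z_ne hw

/-- `R'.phi u = ρ(a)` for `u ∈ W'_y - Q'_z` -/
theorem phi_subf [Finite G] (h : Fam T V z cf) (hk : One1 V cf) (R : MRep V cf z M H) {y : G} (hy : y ∈ V)
    (hy1 : y ≠ 1) (hyz : y ≠ z) {w : G} (hw : w ∈ ww V cf y) (hwz : w ∉ qq V cf z) {C : Subgroup G}
    (hC : normalizer (V : Set G) ⊓ centralizer ({z} : Set G) ≤ C) (hC' : C ≤ cf z) {u : G}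
    (hu : u ∈ ww V (subf V z C) y) (huz : u ∉ qq V (subf V z C) z) :
    u ∈ C ∧ R.phi u = R.phi w := by
  have hz := h.ln.z_mem
  have hz1 := h.ln.z_ne
  have huy := h.ww_subf_le hC hC' hy hy1 hu
  have hucV := h.ww_le_cent hy hy1 huy
  have huC : u ∈ C := hC (mem_inf.mpr ⟨centralizer_le_normalizer _ hucV, h.cent_le_cs hz hucV⟩)
  refine ⟨huC, ?_⟩
  have huq : u ∉ qq V cf z := fun e => huz (h.mem_qq_subf hC hC' huC e)
  have h1 := hk y hy hy1 z hz hz1 (Ne.symm hyz) u huy w hw huq hwz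
  have huc := hC' huC
  have hwc := h.ww_le_cf' hy hy1 hz hz1 hw
  have h2 : R.phi u * R.phi w = 1 := by
    rw [← R.phi_mul u huc w hwc]
    exact (R.phi_ker _ (mul_mem huc hwc)).mpr h1
  have h3 := R.sq_A h hy hy1 hw
  calc R.phi u = R.phi u * (R.phi w * R.phi w) := by rw [h3, mul_one]
    _ = R.phi w := by rw [← mul_assoc, h2, one_mul]

/-- **the data of the case T9** -/
theorem nine_data [Finite G] [Finite M] [Finite H] [FaithfulSMul H M] (h : Fam T V z cf)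
    (hk : One1 V cf) (R : MRep V cf z M H) {y : G} (hy : y ∈ V) (hy1 : y ≠ 1) (hyz : y ≠ z) {w : G}
    (hw : w ∈ ww V cf y) (hwz : w ∉ qq V cf z) {H1 : Subgroup H} {d1 d2 : H} {b1 b2 : M}
    (K : Abs.T9 (R.pi y) (R.phi w) (R.img T) H1 d1 d2 b1 b2) :
    Fam T V z (subf V z (R.pre H1)) ∧
    ∃ (M' H' : Type u) (_ : AddCommGroup M') (_ : Finite M') (_ : Group H') (_ : Finite H')
      (_ : DistribMulAction H' M') (_ : FaithfulSMul H' M') (R' : MRep V (subf V z (R.pre H1)) z M' H')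
      (a' d1' d2' : H') (b1' b2' : M'), Abs.NineA (R'.pi y) a' d1' d2' b1' b2' ∧
        ∀ u ∈ ww V (subf V z (R.pre H1)) y, u ∉ qq V (subf V z (R.pre H1)) z → R'.phi u = a' := by
  have hz := h.ln.z_mem
  have hz1 := h.ln.z_ne
  have ctx := h.ctx hk R hy hy1 hyz hw hwz
  have hK : ∀ x : H, x • R.pi y = R.pi y → x ∈ H1 := K.stab_le
  have hsp : spn H1 (R.pi y) = Abs.sp H1 (R.pi y) := spn_eq_sp _ _
  have h' : Fam T V z (subf V z (R.pre H1)) := by
    refine h.subfam hk R hy hy1 hyz hw hK ⟨d1 • b1, ?_, ?_, ?_⟩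
    · rw [hsp, K.sp_eq ctx.two]
      exact AddSubgroup.mem_sup_left (Abs.smul_mem_blk' d1 b1)
    · rw [K.a1, K.d11, add_sub_cancel_right]
      exact K.b10
    · rw [K.a1, K.d11, add_sub_cancel_right]
      intro e
      apply K.b20
      have h1 := K.sum
      rw [e] at h1
      exact add_eq_left.mp h1
  refine ⟨h', ?_⟩
  obtain ⟨M', H', i1, i2, i3, i4, i5, i6, ⟨R'⟩⟩ := h'.exists_mrep
  obtain ⟨θ, κ, c⟩ := exists_cmp R h hy hy1 hyz hK R' h'
  obtain ⟨d1', d2', b1', b2', hN⟩ := K.nineA ctx (c.down hsp) (v0' := R'.pi y) (c.pi_y hy)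
  refine ⟨M', H', i1, i2, i3, i4, i5, i6, R', (c.down hsp).rho (R.phi w), d1', d2', b1', b2', hN, ?_⟩
  intro u hu huz
  obtain ⟨h1, h2⟩ := h.phi_subf hk R hy hy1 hyz hw hwz (R.le_pre h hy hy1 hyz hK) (R.pre_le H1) hu huz
  rw [← c.down_rho hsp h1, h2]

end Fam

end Cfsg.Agent.Omega.NO3S.Fit
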