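import Cfsg.Agent.Omega.NO3S.Fit.AbsNat
import Cfsg.Agent.MinSimple.Dihedral

/-!
# Text #13963 (helper311), (3.4): the module part of `k ≥ 2`

`H` acts faithfully on the elementary abelian 2-group `M`; `A ≤ H` is quadratic on `M`, elementary abelian of order
`≥ 4`, faithful on a nilpotent group `F` of odd order; `M1 ≤ M` has index `≤ |A|` and `[M1, a] ≤ ⟨v0⟩` for `a ∈ A`.

* `TvB A n a b m`: `a j` is a basis of `A` consisting of transvections with the independent centres `b j`, `m j` is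
  the dual basis of `M / C_M(A)`;
* `exists_tvb`: it exists, and `M1 = C_M(A)`;
* `TvB.smul_cen`: the normaliser of `A` permutes the `b j`;
* `TvB.sum_eq`, `TvB.trans`, `TvB.even`: if `v0` is the only nonzero `T`-fixed vector of `[M,A]`, `T` a 2-group, then
  `v0 = ∑ b j`, `T` is transitive on the `b j`, `n` is even.
-/

set_option autoImplicit false
set_option linter.unusedSectionVars false

open scoped Pointwise

namespace Cfsg.Agent.Omega.NO3S.Fit.Abs

section Big

variable {H M : Type*} [Group H] [AddCommGroup M] [DistribMulAction H M]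

/-- a basis of transvections -/
structure TvB (A : Subgroup H) (n : ℕ) (a : Fin n → H) (b m : Fin n → M) : Prop where
  cl : A = Subgroup.closure (Set.range a)
  mem : ∀ j, a j ∈ A
  tv : ∀ j (k : M), a j • k = k ∨ a j • k = k + b j
  dual : ∀ j, a j • m j = m j + b j
  dual' : ∀ i j, i ≠ j → a i • m j = m j
  ind : ∀ S : Finset (Fin n), ∑ j ∈ S, b j = 0 → S = ∅

/-- **(3.4), module part** -/
theorem exists_tvb [Finite H] [Finite M] [FaithfulSMul H M] (two : ∀ m : M, m + m = 0) {v0 : M}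
    {A F : Subgroup H} (hA : ∀ a ∈ A, a * a = 1)
    (hq : ∀ a ∈ A, ∀ b ∈ A, ∀ m : M, a • (b • m - m) = b • m - m)
    (hnil : Group.IsNilpotent F) (hF : Odd (Nat.card F)) (hAF : A ≤ Subgroup.normalizer (F : Set H))
    (hf : ∀ b ∈ A, (∀ f ∈ F, b * f = f * b) → b = 1) (hk : 2 < Nat.card A)
    (CP : ∀ x ∈ F, x • v0 = v0 → ∀ a ∈ A, a * x * a⁻¹ = x⁻¹ → x = 1)
    (M1 : AddSubgroup M) (hM1 : M1.index ≤ Nat.card A)
    (hM1' : ∀ m ∈ M1, ∀ a ∈ A, a • m = m ∨ a • m = m + v0) :
    ∃ (n : ℕ) (a : Fin n → H) (b m : Fin n → M), 2 ≤ n ∧ TvB A n a b m ∧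
      ∀ k : M, k ∈ M1 ↔ ∀ a ∈ A, a • k = k := by
  classical
  obtain ⟨n, a, x, hcard, hcl, ha, hx, hp, hinv, hfix, hcomm, heig⟩ :=
    MinSimple.Dihedral.exists_dihedral A F hA hnil hF hAF hf
  have hn : 2 ≤ n := by
    by_contra hcon
    have h1 : n ≤ 1 := by omega
    have h2 : (2 : ℕ) ^ n ≤ 2 ^ 1 := Nat.pow_le_pow_right (by norm_num) h1
    omega
  have hodd : ∀ j, Odd (orderOf (x j)) := by
    intro j
    refine Odd.of_dvd_nat hF ?_
    have := orderOf_dvd_natCard (⟨x j, hx j⟩ : F)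
    rwa [Subgroup.orderOf_mk] at this
  have hxne : ∀ j, x j ≠ 1 := by
    intro j e
    have := hp j
    rw [e, orderOf_one] at this
    exact Nat.not_prime_one this
  have haa : ∀ j, a j * a j = 1 := fun j => hA _ (ha j)
  have ht : ∀ i j, i ≠ j → ∀ k ∈ br M (x j), a i • k = k := fun i j hij k hk =>
    triv_on_br two (hodd j) (hinv j) (hq _ (ha j) _ (ha i)) (hfix i j hij) hk
  have hxt : ∀ i j, i ≠ j → ∀ k ∈ br M (x j), x i • k = k := by
    intro i j hij k hk
    have h1 : x i • k ∈ br M (x j) := smul_mem_br_of_comm (hcomm i j) hk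
    have h2 := ht i j hij _ h1
    have h3 := inv_smul_of_inv (hinv i) (ht i j hij k hk)
    rw [h2] at h3
    refine fix_of_sq (hodd i) ?_
    rw [h3, smul_inv_smul]
  have hv0 : ∀ j, x j • v0 ≠ v0 := fun j e => hxne j (CP _ (hx j) e _ (ha j) (hinv j))
  have hM1c : ∀ k ∈ M1, ∀ i, a i • k = k := by
    intro k hk i
    obtain ⟨j, hij⟩ : ∃ j : Fin n, i ≠ j := by
      by_contra hcon
      push Not at hcon
      have h0 := hcon ⟨0, by omega⟩
      have h1 := hcon ⟨1, by omega⟩
      rw [h0] at h1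
      exact absurd (congrArg Fin.val h1) (by norm_num)
    rcases hM1' k hk (a i) (ha i) with e | e
    · exact e
    exfalso
    obtain ⟨d, hd, c, hc, e1⟩ := exists_decomp two (hodd j) k
    have h1 : a i • c = c + v0 := by
      rw [← e1, smul_add, ht i j hij d hd] at e
      have : d + a i • c = d + (c + v0) := by rw [e]; abel
      exact add_left_cancel this
    have h2 : a i • c ∈ fx M (x j) := smul_mem_fx_of_comm (hfix i j hij) hc
    have h3 : v0 ∈ fx M (x j) := by
      have : v0 = a i • c - c := by rw [h1]; abel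
      rw [this]
      exact sub_mem h2 hc
    exact hv0 j h3
  -- the map `Φ`
  let Φ : M →+ (Fin n → M) :=
    { toFun := fun k j => a j • k - k
      map_zero' := by ext j; simp
      map_add' := fun k l => by ext j; simp only [smul_add, Pi.add_apply]; abel }
  have hΦ : ∀ k j, Φ k j = a j • k - k := fun k j => rfl
  have hker : M1 ≤ Φ.ker := by
    intro k hk
    rw [AddMonoidHom.mem_ker]
    ext j
    rw [hΦ, hM1c k hk j, sub_self]
    rfl
  have hrange : Nat.card Φ.range ≤ 2 ^ n := by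
    rw [← AddSubgroup.index_ker, ← hcard]
    refine le_trans ?_ hM1
    exact AddSubgroup.index_antitone hker
  -- the groups `C_j`
  have hsurj : ∀ j, ∀ c ∈ cx M (a j) (x j), ∃ d ∈ br M (x j), a j • d - d = c := fun j c hc =>
    cx_le_br two (haa j) (hodd j) (hinv j) hc
  have hsol : ∀ f : (j : Fin n) → cx M (a j) (x j), ∃ k : M, ∀ j, Φ k j = f j := by
    intro f
    choose d hd hd' using fun j => hsurj j (f j) (f j).2
    refine ⟨∑ j, d j, fun i => ?_⟩
    rw [hΦ, Finset.smul_sum, ← Finset.sum_sub_distrib, Finset.sum_eq_single i]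
    · exact hd' i
    · intro j _ hji
      rw [ht i j hji.symm _ (hd j), sub_self]
    · intro h; exact absurd (Finset.mem_univ i) h
  let g : ((j : Fin n) → cx M (a j) (x j)) → Φ.range := fun f =>
    ⟨fun j => (f j : M), by
      obtain ⟨k, hk⟩ := hsol f
      exact ⟨k, funext hk⟩⟩
  have hg : Function.Injective g := by
    intro f f' h
    funext j
    have h1 := congrArg (fun r : Φ.range => (r : Fin n → M) j) h
    exact Subtype.ext h1
  have hprod : ∏ j, Nat.card (cx M (a j) (x j)) ≤ Nat.card Φ.range := by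
    rw [← Nat.card_pi]
    exact Nat.card_le_card_of_injective g hg
  have hge : ∀ j, 2 ≤ Nat.card (cx M (a j) (x j)) := by
    intro j
    have h1 := (card_br_eq (M := M) two (haa j) (hodd j) (hinv j)).1
    have h2 : br M (x j) ≠ ⊥ := ne_zero_of_br (hxne j)
    have h3 : 1 < Nat.card (br M (x j)) := AddSubgroup.one_lt_card_iff_ne_bot _ |>.mpr h2
    by_contra hcon
    have h4 : Nat.card (cx M (a j) (x j)) ≤ 1 := by omega
    have h5 : Nat.card (cx M (a j) (x j)) * Nat.card (cx M (a j) (x j)) ≤ 1 * 1 := Nat.mul_le_mul h4 h4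
    omega
  have heq2 : ∀ j, Nat.card (cx M (a j) (x j)) = 2 := by
    by_contra hcon
    push Not at hcon
    obtain ⟨i, hi⟩ := hcon
    have h1 : ∏ _j : Fin n, 2 < ∏ j, Nat.card (cx M (a j) (x j)) := by
      refine Finset.prod_lt_prod (fun _ _ => by norm_num) (fun j _ => hge j) ⟨i, Finset.mem_univ i, ?_⟩
      have := hge i
      omega
    rw [Finset.prod_const, Finset.card_univ, Fintype.card_fin] at h1
    omega
  have hprod2 : ∏ j, Nat.card (cx M (a j) (x j)) = 2 ^ n := by
    rw [Finset.prod_congr rfl fun j _ => heq2 j, Finset.prod_const, Finset.card_univ, Fintype.card_fin]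
  have hrange' : Nat.card Φ.range = 2 ^ n := le_antisymm hrange (by rw [← hprod2]; exact hprod)
  have hbij : Function.Bijective g :=
    (Nat.bijective_iff_injective_and_card g).mpr ⟨hg, by rw [Nat.card_pi, hprod2, hrange']⟩
  have hall : ∀ k j, a j • k - k ∈ cx M (a j) (x j) := by
    intro k j
    obtain ⟨f, hf'⟩ := hbij.2 ⟨Φ k, ⟨k, rfl⟩⟩
    have h1 : (f j : M) = Φ k j := congrArg (fun r : Φ.range => (r : Fin n → M) j) hf'
    rw [← hΦ, ← h1]
    exact (f j).2
  have hb : ∀ j, ∃ b ∈ cx M (a j) (x j), b ≠ 0 ∧ ∀ c ∈ cx M (a j) (x j), c = 0 ∨ c = b := by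
    intro j
    obtain ⟨b, hb, hb0⟩ := exists_ne_zero_of_card (B := cx M (a j) (x j)) (by rw [heq2 j]; norm_num)
    refine ⟨b, hb, hb0, fun c hc => ?_⟩
    by_contra hcon
    push Not at hcon
    have h1 : (({0, b, c} : Finset M) : Set M) ⊆ (cx M (a j) (x j) : Set M) := by
      intro y hy
      simp only [Finset.coe_insert, Finset.coe_singleton, Set.mem_insert_iff, Set.mem_singleton_iff] at hy
      rcases hy with rfl | rfl | rfl
      · exact zero_mem _
      · exact hb
      · exact hc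
    have h2 := Set.ncard_le_ncard h1 (Set.toFinite _)
    rw [Set.ncard_coe_finset] at h2
    have h3 : Set.ncard (cx M (a j) (x j) : Set M) = 2 := by
      rw [← heq2 j]; exact (Nat.card_coe_set_eq _).symm
    have h4 : ({0, b, c} : Finset M).card = 3 := by
      rw [Finset.card_insert_of_notMem, Finset.card_insert_of_notMem, Finset.card_singleton]
      · simpa using fun e => hcon.2 e.symm
      · simpa [hb0.symm] using fun e : (0 : M) = c => hcon.1 e.symm
    omega
  choose b hbc hb0 hbb using hb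
  choose m hm hmb using fun j => hsurj j (b j) (hbc j)
  refine ⟨n, a, b, m, hn, ⟨hcl, ha, ?_, ?_, ?_, ?_⟩, ?_⟩
  · intro j k
    rcases hbb j _ (hall k j) with e | e
    · exact Or.inl (sub_eq_zero.mp e)
    · right
      rw [← e]; abel
  · intro j
    rw [← hmb j]; abel
  · intro i j hij
    exact ht i j hij _ (hm j)
  · intro S hS
    by_contra hne
    obtain ⟨i, hi⟩ := Finset.nonempty_iff_ne_empty.mpr hne
    apply hb0 i
    refine br_inf_fx two (hodd i) (hbc i).1 ?_
    have h1 : x i • (∑ j ∈ S, b j) = ∑ j ∈ S, b j := by rw [hS, smul_zero]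
    rw [Finset.smul_sum, ← Finset.add_sum_erase S _ hi, ← Finset.add_sum_erase S b hi] at h1
    have h2 : ∑ j ∈ S.erase i, x i • b j = ∑ j ∈ S.erase i, b j := by
      refine Finset.sum_congr rfl fun j hj => ?_
      exact hxt i j (Finset.ne_of_mem_erase hj).symm _ (hbc j).1
    rw [h2] at h1
    exact add_right_cancel h1
  · have hi : Φ.ker ≤ M1 := by
      have h1 : Φ.ker.index = 2 ^ n := by rw [AddSubgroup.index_ker, hrange']
      have h2 := AddSubgroup.relIndex_mul_index hker
      rw [h1] at h2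
      have h3 : M1.index ≤ 2 ^ n := by rw [← hcard]; exact hM1
      have h4 : 0 < 2 ^ n := by positivity
      have h5 : M1.relIndex Φ.ker ≤ 1 := by
        by_contra hcon
        have h6 : 2 ≤ M1.relIndex Φ.ker := by omega
        have h7 := Nat.mul_le_mul_right (2 ^ n) h6
        omega
      have h6 : M1.relIndex Φ.ker ≠ 0 := by
        intro h7
        rw [h7, zero_mul] at h2
        exact AddSubgroup.FiniteIndex.index_ne_zero h2.symm
      have h7 : M1.relIndex Φ.ker = 1 := by omega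
      exact AddSubgroup.relIndex_eq_one.mp h7
    intro k
    constructor
    · intro hk c hc
      have h1 : Subgroup.closure (Set.range a) ≤ MulAction.stabilizer H k := by
        rw [Subgroup.closure_le]
        rintro _ ⟨j, rfl⟩
        exact hM1c k hk j
      rw [hcl] at hc
      exact h1 hc
    · intro h
      apply hi
      rw [AddMonoidHom.mem_ker]
      ext j
      rw [hΦ, h _ (ha j), sub_self]
      rfl

namespace TvB

variable {A : Subgroup H} {n : ℕ} {a : Fin n → H} {b m : Fin n → M}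

theorem ne_zero (B : TvB A n a b m) (j : Fin n) : b j ≠ 0 := by
  intro e
  have := B.ind {j} (by rw [Finset.sum_singleton, e])
  exact absurd this (Finset.singleton_ne_empty j)

theorem inj (B : TvB A n a b m) (two : ∀ m : M, m + m = 0) : Function.Injective b := by
  classical
  intro i j e
  by_contra hij
  have := B.ind {i, j} (by rw [Finset.sum_pair hij, e, two])
  exact absurd this (Finset.insert_ne_empty _ _)

/-- the vectors fixed by all `a j` are the vectors fixed by `A` -/
theorem fix_of (B : TvB A n a b m) {k : M} (h : ∀ j, a j • k = k) : ∀ c ∈ A, c • k = k := by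
  intro c hc
  have h1 : Subgroup.closure (Set.range a) ≤ MulAction.stabilizer H k := by
    rw [Subgroup.closure_le]
    rintro _ ⟨j, rfl⟩
    exact h j
  rw [B.cl] at hc
  exact h1 hc

/-- every vector is the sum of some `m j` and of a vector fixed by `A` -/
theorem exists_dec (B : TvB A n a b m) (k : M) :
    ∃ (S : Finset (Fin n)) (c : M), (∀ g ∈ A, g • c = c) ∧ k = ∑ j ∈ S, m j + c := by
  classical
  refine ⟨Finset.univ.filter fun j => a j • k ≠ k, k - ∑ j ∈ Finset.univ.filter (fun j => a j • k ≠ k), m j,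
    B.fix_of fun i => ?_, by abel⟩
  set S := Finset.univ.filter fun j => a j • k ≠ k with hS
  rw [smul_sub, Finset.smul_sum]
  by_cases hi : a i • k = k
  · rw [hi]
    congr 1
    refine Finset.sum_congr rfl fun j hj => B.dual' i j ?_
    rintro rfl
    rw [hS, Finset.mem_filter] at hj
    exact hj.2 hi
  · have hiS : i ∈ S := by rw [hS, Finset.mem_filter]; exact ⟨Finset.mem_univ i, hi⟩
    rw [(B.tv i k).resolve_left hi, ← Finset.add_sum_erase S _ hiS, ← Finset.add_sum_erase S m hiS, B.dual]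
    have h2 : ∑ j ∈ S.erase i, a i • m j = ∑ j ∈ S.erase i, m j := by
      refine Finset.sum_congr rfl fun j hj => B.dual' i j (Finset.ne_of_mem_erase hj).symm
    rw [h2]; abel

/-- an element of `A` fixing all `m j` is trivial -/
theorem eq_one [FaithfulSMul H M] (B : TvB A n a b m) {c : H} (hc : c ∈ A) (h : ∀ j, c • m j = m j) :
    c = 1 := by
  refine FaithfulSMul.eq_of_smul_eq_smul (α := M) fun k => ?_
  obtain ⟨S, d, hd, rfl⟩ := B.exists_dec k
  rw [one_smul, smul_add, hd c hc, Finset.smul_sum, Finset.sum_congr rfl fun j _ => h j]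

/-- `c (m j) ∈ {m j, m j + b j}` for `c ∈ A` -/
theorem all (B : TvB A n a b m) (hq : ∀ a ∈ A, ∀ b ∈ A, ∀ m : M, a • (b • m - m) = b • m - m)
    (two : ∀ m : M, m + m = 0) {c : H} (hc : c ∈ A) (j : Fin n) :
    (c • m j = m j ∨ c • m j = m j + b j) ∧ c • b j = b j := by
  have hb : b j = a j • m j - m j := by rw [B.dual]; abel
  have hcb : ∀ c ∈ A, c • b j = b j := by
    intro c hc
    rw [hb]
    exact hq c hc _ (B.mem j) _
  refine ⟨?_, hcb c hc⟩
  rw [B.cl] at hc
  induction hc using Subgroup.closure_induction with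
  | mem x hx =>
    obtain ⟨i, rfl⟩ := hx
    by_cases hij : i = j
    · rw [hij]; exact Or.inr (B.dual j)
    · exact Or.inl (B.dual' i j hij)
  | one => exact Or.inl (one_smul _ _)
  | mul x y hx hy ihx ihy =>
    have hx' : x ∈ A := by rw [B.cl]; exact hx
    rw [mul_smul]
    rcases ihy with e | e
    · rw [e]; exact ihx
    · rw [e, smul_add, hcb x hx']
      rcases ihx with e' | e'
      · right; rw [e']
      · left; rw [e', add_assoc, two, add_zero]
  | inv x hx ih =>
    have hx' : x ∈ A := by rw [B.cl]; exact hx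
    rcases ih with e | e
    · left; rw [inv_smul_eq_iff, e]
    · right; rw [inv_smul_eq_iff, smul_add, e, hcb x hx', add_assoc, two, add_zero]

/-- the normaliser of `A` permutes the centres -/
theorem smul_cen [FaithfulSMul H M] (B : TvB A n a b m)
    (hq : ∀ a ∈ A, ∀ b ∈ A, ∀ m : M, a • (b • m - m) = b • m - m) (two : ∀ m : M, m + m = 0)
    {t : H} (ht : ∀ c ∈ A, t * c * t⁻¹ ∈ A) (j : Fin n) : ∃ i, t • b j = b i := by
  have hne : t * a j * t⁻¹ ≠ 1 := by
    intro e
    have h1 : a j = 1 := conj_eq_one_iff.mp e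
    have h2 := B.dual j
    rw [h1, one_smul, left_eq_add] at h2
    exact B.ne_zero j h2
  have hmem := ht _ (B.mem j)
  obtain ⟨i, hi⟩ : ∃ i, (t * a j * t⁻¹) • m i ≠ m i := by
    by_contra hcon
    push Not at hcon
    exact hne (B.eq_one hmem hcon)
  refine ⟨i, ?_⟩
  have h1 := (B.all hq two hmem i).1.resolve_left hi
  have h2 : (t * a j * t⁻¹) • m i = t • (a j • (t⁻¹ • m i)) := by rw [mul_smul, mul_smul]
  rcases B.tv j (t⁻¹ • m i) with e | e
  · exfalso
    apply hi
    rw [h2, e, smul_inv_smul]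
  · rw [h2, e, smul_add, smul_inv_smul] at h1
    exact add_left_cancel h1

/-- the orbits of `T` on the centres -/
theorem orbit_sum [FaithfulSMul H M] (B : TvB A n a b m)
    (hq : ∀ a ∈ A, ∀ b ∈ A, ∀ m : M, a • (b • m - m) = b • m - m) (two : ∀ m : M, m + m = 0)
    {T : Subgroup H} (hTA : ∀ t ∈ T, ∀ c ∈ A, t * c * t⁻¹ ∈ A) {v0 : M}
    (FIX : ∀ k ∈ brs M A, k ≠ 0 → (∀ t ∈ T, t • k = k) → k = v0) (i : Fin n) (S : Finset (Fin n))
    (hS : ∀ j, j ∈ S ↔ ∃ t ∈ T, t • b i = b j) : ∑ j ∈ S, b j = v0 := by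
  classical
  have hiS : i ∈ S := (hS i).mpr ⟨1, one_mem _, one_smul _ _⟩
  refine FIX _ ?_ ?_ ?_
  · refine AddSubgroup.sum_mem _ fun j _ => br_le_brs (B.mem j) ?_
    exact ⟨m j, by rw [B.dual]; abel⟩
  · intro e
    have := B.ind S e
    rw [this] at hiS
    exact absurd hiS (Finset.notMem_empty i)
  · intro t ht
    rw [Finset.smul_sum]
    choose f hf using fun j => B.smul_cen hq two (hTA t ht) j
    refine Finset.sum_bij (fun j _ => f j) ?_ ?_ ?_ ?_
    · intro j hj
      obtain ⟨s, hs, e⟩ := (hS j).mp hj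
      exact (hS _).mpr ⟨t * s, mul_mem ht hs, by rw [mul_smul, e, hf]⟩
    · intro j _ j' _ e
      apply B.inj two
      have h1 : t • b j = t • b j' := by rw [hf, hf, e]
      exact smul_left_cancel t h1
    · intro j hj
      obtain ⟨s, hs, e⟩ := (hS j).mp hj
      obtain ⟨j', hj'⟩ := B.smul_cen hq two (hTA t⁻¹ (inv_mem ht)) j
      refine ⟨j', (hS _).mpr ⟨t⁻¹ * s, mul_mem (inv_mem ht) hs, by rw [mul_smul, e, hj']⟩, ?_⟩
      apply B.inj two
      rw [← hf, ← hj', smul_inv_smul]
    · intro j _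
      exact hf j

/-- `T` is transitive on the centres -/
theorem trans [FaithfulSMul H M] (B : TvB A n a b m)
    (hq : ∀ a ∈ A, ∀ b ∈ A, ∀ m : M, a • (b • m - m) = b • m - m) (two : ∀ m : M, m + m = 0)
    {T : Subgroup H} (hTA : ∀ t ∈ T, ∀ c ∈ A, t * c * t⁻¹ ∈ A) {v0 : M}
    (FIX : ∀ k ∈ brs M A, k ≠ 0 → (∀ t ∈ T, t • k = k) → k = v0) (i j : Fin n) :
    ∃ t ∈ T, t • b i = b j := by
  classical
  by_contra hcon
  let O : Fin n → Finset (Fin n) := fun i => Finset.univ.filter fun j => ∃ t ∈ T, t • b i = b j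
  have hO : ∀ i j, j ∈ O i ↔ ∃ t ∈ T, t • b i = b j := fun i j => by simp [O]
  have h1 := B.orbit_sum hq two hTA FIX i (O i) (hO i)
  have h2 := B.orbit_sum hq two hTA FIX j (O j) (hO j)
  have hdis : Disjoint (O i) (O j) := by
    rw [Finset.disjoint_left]
    intro l hl hl'
    obtain ⟨s, hs, e⟩ := (hO i l).mp hl
    obtain ⟨s', hs', e'⟩ := (hO j l).mp hl'
    apply hcon
    refine ⟨s'⁻¹ * s, mul_mem (inv_mem hs') hs, ?_⟩
    rw [mul_smul, e, ← e', inv_smul_smul]
  have h3 : ∑ l ∈ O i ∪ O j, b l = 0 := by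
    rw [Finset.sum_union hdis, h1, h2, two]
  have h4 := B.ind _ h3
  have h5 : i ∈ O i := (hO i i).mpr ⟨1, one_mem _, one_smul _ _⟩
  have h6 : i ∈ O i ∪ O j := Finset.mem_union_left _ h5
  rw [h4] at h6
  exact absurd h6 (Finset.notMem_empty i)

/-- `v0` is the sum of the centres -/
theorem sum_eq [FaithfulSMul H M] (B : TvB A n a b m)
    (hq : ∀ a ∈ A, ∀ b ∈ A, ∀ m : M, a • (b • m - m) = b • m - m) (two : ∀ m : M, m + m = 0)
    {T : Subgroup H} (hTA : ∀ t ∈ T, ∀ c ∈ A, t * c * t⁻¹ ∈ A) {v0 : M}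
    (FIX : ∀ k ∈ brs M A, k ≠ 0 → (∀ t ∈ T, t • k = k) → k = v0) (hn : 0 < n) :
    ∑ j, b j = v0 :=
  B.orbit_sum hq two hTA FIX ⟨0, hn⟩ Finset.univ fun j =>
    ⟨fun _ => B.trans hq two hTA FIX _ j, fun _ => Finset.mem_univ j⟩

/-- `n` is even -/
theorem even [Finite M] [FaithfulSMul H M] (B : TvB A n a b m)
    (hq : ∀ a ∈ A, ∀ b ∈ A, ∀ m : M, a • (b • m - m) = b • m - m) (two : ∀ m : M, m + m = 0)
    {T : Subgroup H} (hT : IsPGroup 2 T) (hTA : ∀ t ∈ T, ∀ c ∈ A, t * c * t⁻¹ ∈ A) {v0 : M}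
    (FIX : ∀ k ∈ brs M A, k ≠ 0 → (∀ t ∈ T, t • k = k) → k = v0) (hn : 2 ≤ n) : Even n := by
  have hfact : Fact (Nat.Prime 2) := ⟨Nat.prime_two⟩
  set i0 : Fin n := ⟨0, by omega⟩
  have h1 : MulAction.orbit T (b i0) = Set.range b := by
    ext k
    constructor
    · rintro ⟨t, rfl⟩
      obtain ⟨i, hi⟩ := B.smul_cen hq two (hTA t t.2) i0
      exact ⟨i, hi.symm⟩
    · rintro ⟨j, rfl⟩
      obtain ⟨t, ht, e⟩ := B.trans hq two hTA FIX i0 j
      exact ⟨⟨t, ht⟩, e⟩
  have h2 : Finite (MulAction.orbit T (b i0)) := Set.toFinite _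
  obtain ⟨k, hk⟩ := hT.card_orbit (b i0)
  have h3 : Nat.card (Set.range b) = n := by
    rw [Nat.card_range_of_injective (B.inj two), Nat.card_eq_fintype_card, Fintype.card_fin]
  rw [h1, h3] at hk
  rw [hk]
  have hk0 : k ≠ 0 := by
    rintro rfl
    rw [pow_zero] at hk
    omega
  exact (Nat.even_pow' hk0).mpr even_two

end TvB

end Big

end Cfsg.Agent.Omega.NO3S.Fit.Abs
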