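import Cfsg.Agent.Omega.NO3S.Fit.Sub
import Cfsg.Agent.Omega.NO3S.Fit.KbigAbs

/-!
# Text #13963 (helper311), (3.4): the group part of `k ≥ 2`

* `cm a b = [a,b]`, bilinear on `W_p × W_q`;
* `KB V cf p q n pi b w` : the transvection basis `b i` of `[W_p/⟨p⟩, W_q]`, the dual basis `w i` of `W_p / C(W_q)`;
* `KB.conj`, `KB.false_of_two`, `KB.false_of_three` : `n ≥ 2` is impossible.
-/

set_option autoImplicit false
set_option linter.unusedSectionVars false

namespace Cfsg.Agent.Omega.NO3S.Fit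

open Subgroup Cfsg Cfsg.Agent.ZN Cfsg.Agent.MinSimple.Geo Cfsg.Agent.Omega.CaseL
open Cfsg.Agent.ZN.Block (conj_mem_of_normalizer conj_mem_of_normalizer' le_normalizer_of_forall
  mem_normalizer_of)

universe u

variable {G : Type u} [Group G]

/-- `[a,b]` -/
def cm (a b : G) : G := a * b * a⁻¹ * b⁻¹

theorem cm_conj (g a b : G) : cm (g * a * g⁻¹) (g * b * g⁻¹) = g * cm a b * g⁻¹ := by
  unfold cm; group

theorem cm_eq_one {a b : G} (h : a * b = b * a) : cm a b = 1 := by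
  unfold cm; rw [h]; group

theorem comm_of_cm {a b : G} (h : cm a b = 1) : a * b = b * a := by
  unfold cm at h
  calc a * b = (a * b * a⁻¹ * b⁻¹) * (b * a) := by group
    _ = b * a := by rw [h, one_mul]

namespace Fam

variable {T V : Subgroup G} {z : G} {cf : G → Subgroup G} {p q : G}

section cm

variable (h : Fam T V z cf) (hp : p ∈ V) (hp1 : p ≠ 1) (hq : q ∈ V) (hq1 : q ≠ 1) (hqp : q ≠ p)
include h hp hp1 hq hq1 hqp

theorem cm_mem {a b : G} (ha : a ∈ ww V cf p) (hb : b ∈ ww V cf q) : cm a b ∈ jj V cf :=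
  h.comm_mem_jj hp hp1 hq hq1 hqp ha hb

theorem cm_symm {a b : G} (ha : a ∈ ww V cf p) (hb : b ∈ ww V cf q) : cm b a = cm a b := by
  have h1 := h.cm_mem hp hp1 hq hq1 hqp ha hb
  have h2 := h.inv_ww hp hp1 (jj_le hp hp1 h1)
  rw [← h2]; unfold cm; group

theorem cm_mul_left {a a' b : G} (ha : a ∈ ww V cf p) (ha' : a' ∈ ww V cf p) (hb : b ∈ ww V cf q) :
    cm (a * a') b = cm a b * cm a' b := by
  have h1 := jj_le hp hp1 (h.cm_mem hp hp1 hq hq1 hqp ha' hb)
  have h1' := jj_le hp hp1 (h.cm_mem hp hp1 hq hq1 hqp ha hb)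
  have h2 := h.comm hp hp1 a ha _ h1
  have h3 := h.comm hp hp1 _ h1 _ h1'
  calc cm (a * a') b = a * cm a' b * a⁻¹ * cm a b := by unfold cm; group
    _ = cm a' b * cm a b := by rw [h2]; group
    _ = _ := h3

theorem cm_mul_right {a b b' : G} (ha : a ∈ ww V cf p) (hb : b ∈ ww V cf q) (hb' : b' ∈ ww V cf q) :
    cm a (b * b') = cm a b * cm a b' := by
  have h1 := jj_le hq hq1 (h.cm_mem hp hp1 hq hq1 hqp ha hb')
  have h2 := h.comm hq hq1 b hb _ h1
  calc cm a (b * b') = cm a b * (b * cm a b' * b⁻¹) := by unfold cm; group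
    _ = cm a b * cm a b' := by rw [h2]; group

end cm

/-- a subgroup between `V` and `I` normalized by `C_G(V)` is normalized by `N_G(V)` -/
theorem norm_of_cent [Finite G] (h : Fam T V z cf) {U : Subgroup G} (hVU : V ≤ U) (hU : U ≤ jj V cf)
    (hn : ∀ c ∈ centralizer (V : Set G), ∀ u ∈ U, c * u * c⁻¹ ∈ U) :
    normalizer (V : Set G) ≤ normalizer (U : Set G) := by
  have hQ : ∀ p ∈ V, p ≠ 1 → ∀ k ∈ qq V cf p, ∀ u ∈ U, k * u * k⁻¹ ∈ U := by
    intro p hp hp1 k hk u hu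
    rcases h.qq_cases hp hk (jj_le hp hp1 (hU hu)) with e | e
    · rw [e]; exact hu
    · rw [e]; exact mul_mem (hVU hp) hu
  refine le_normalizer_of_forall fun g hg u hu => ?_
  have hz := h.ln.z_mem
  have hz1 := h.ln.z_ne
  have key : ∀ g ∈ normalizer (V : Set G), g * z = z * g → ∀ u ∈ U, g * u * g⁻¹ ∈ U := by
    intro g hg hgz u hu
    obtain ⟨d, hd, k, hk, rfl⟩ := h.norm_eq hz hz1 hg hgz
    have e : d * k * u * (d * k)⁻¹ = d * (k * u * k⁻¹) * d⁻¹ := by group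
    rw [e]
    exact hn d hd _ (hQ z hz hz1 k hk u hu)
  by_cases hgz : g * z * g⁻¹ = z
  · exact key g hg (comm_of_conj_eq hgz) u hu
  set p := g * z * g⁻¹ with hp
  have hpV : p ∈ V := h.conj_pt hg hz
  have hp1 : p ≠ 1 := conj_ne hz1
  -- the third point `r = z p`, a mover of `Q_r` maps `p` to `z`
  set r := z * p with hr
  have hrV : r ∈ V := mul_mem hz hpV
  have hr1 : r ≠ 1 := h.mul_ne_one hpV (Ne.symm hgz)
  have hpr : p ≠ r := fun e => hz1 (by rw [hr] at e; simpa using e.symm)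
  obtain ⟨k, hk, hk1⟩ := h.exists_mover hrV hr1
  have e1 := h.move hrV hr1 hpV hp1 hpr hk hk1
  have e2 : r * p = z := by rw [hr, mul_assoc, h.ln.sq p hpV, mul_one]
  rw [e2] at e1
  have h1 : (k * g) * z = z * (k * g) := by
    refine comm_of_conj_eq ?_
    calc k * g * z * (k * g)⁻¹ = k * (g * z * g⁻¹) * k⁻¹ := by group
      _ = z := e1
  have h2 := key (k * g) (mul_mem (h.qq_le_normalizer hrV hk) hg) h1 u hu
  have h3 := hQ r hrV hr1 k⁻¹ (inv_mem hk) _ h2
  have e3 : k⁻¹ * (k * g * u * (k * g)⁻¹) * k⁻¹⁻¹ = g * u * g⁻¹ := by group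
  rwa [e3] at h3

end Fam

/-- the transvection basis for a pair of points -/
structure KB (V : Subgroup G) (cf : G → Subgroup G) (p q : G) {M : Type u} [AddCommGroup M] (n : ℕ)
    (pi : G → M) (b : Fin n → M) (w : Fin n → G) : Prop where
  two : ∀ m : M, m + m = 0
  pi_mul : ∀ a ∈ ww V cf p, ∀ c ∈ ww V cf p, pi (a * c) = pi a + pi c
  pi_ker : ∀ a ∈ ww V cf p, pi a = 0 ↔ a = 1 ∨ a = p
  w_mem : ∀ i, w i ∈ ww V cf p
  w_all : ∀ i, ∀ g ∈ ww V cf q, pi (cm (w i) g) = 0 ∨ pi (cm (w i) g) = b i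
  w_ne : ∀ i, ∃ g ∈ ww V cf q, pi (cm (w i) g) ≠ 0
  ind : ∀ S : Finset (Fin n), ∑ i ∈ S, b i = 0 → S = ∅
  sum : ∑ i, b i = pi q
  sep : ∀ g ∈ ww V cf q, (∀ i, pi (cm (w i) g) = 0) → ∀ v ∈ ww V cf p, v * g = g * v
  cls : ∀ i, ∀ v ∈ ww V cf p, (∀ g ∈ ww V cf q, pi (cm v g) = 0 ∨ pi (cm v g) = b i) →
    (∀ g ∈ ww V cf q, v * g = g * v) ∨ (∀ g ∈ ww V cf q, v * w i * g = g * (v * w i))
  cen : ∀ c ∈ centralizer (V : Set G), ∀ i, ∀ u ∈ jj V cf, pi u = b i → ∃ j, pi (c * u * c⁻¹) = b j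
  trans : ∀ i j, ∃ c ∈ centralizer (V : Set G), ∀ u ∈ jj V cf, pi u = b i → pi (c * u * c⁻¹) = b j

namespace KB

variable {T V : Subgroup G} {z : G} {cf : G → Subgroup G} {p q : G} {M : Type u} [AddCommGroup M] {n : ℕ}
  {pi : G → M} {b : Fin n → M} {w : Fin n → G}

/-- transport by `N_G(V)` -/
theorem conj (h : Fam T V z cf) (hp : p ∈ V) (hp1 : p ≠ 1) (hq : q ∈ V) (hq1 : q ≠ 1)
    (K : KB V cf p q n pi b w) {g : G} (hg : g ∈ normalizer (V : Set G)) :
    KB V cf (g * p * g⁻¹) (g * q * g⁻¹) n (fun v => pi (g⁻¹ * v * g)) b (fun i => g * w i * g⁻¹) := by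
  have backp : ∀ {a : G}, a ∈ ww V cf (g * p * g⁻¹) → g⁻¹ * a * g ∈ ww V cf p := by
    intro a ha
    rwa [← h.cj_ww hg hp hp1, mem_cj] at ha
  have backq : ∀ {a : G}, a ∈ ww V cf (g * q * g⁻¹) → g⁻¹ * a * g ∈ ww V cf q := by
    intro a ha
    rwa [← h.cj_ww hg hq hq1, mem_cj] at ha
  have backj : ∀ {a : G}, a ∈ jj V cf → g⁻¹ * a * g ∈ jj V cf := by
    intro a ha
    exact conj_mem_of_normalizer' h.normalizer_le_normalizer_jj hg ha
  have backc : ∀ {a : G}, a ∈ centralizer (V : Set G) → g⁻¹ * a * g ∈ centralizer (V : Set G) := by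
    intro a ha
    exact conj_mem_of_normalizer' (normalizer_le_normalizer_centralizer V) hg ha
  have fwdc : ∀ {a : G}, a ∈ centralizer (V : Set G) → g * a * g⁻¹ ∈ centralizer (V : Set G) := by
    intro a ha
    exact conj_mem_of_normalizer (normalizer_le_normalizer_centralizer V) hg ha
  have ecm : ∀ a c : G, g⁻¹ * cm a c * g = cm (g⁻¹ * a * g) (g⁻¹ * c * g) := by
    intro a c; unfold cm; group
  have ew : ∀ i, g⁻¹ * (g * w i * g⁻¹) * g = w i := by intro i; group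
  have ecomm : ∀ {a c : G}, (g⁻¹ * a * g) * (g⁻¹ * c * g) = (g⁻¹ * c * g) * (g⁻¹ * a * g) → a * c = c * a := by
    intro a c e
    calc a * c = g * ((g⁻¹ * a * g) * (g⁻¹ * c * g)) * g⁻¹ := by group
      _ = g * ((g⁻¹ * c * g) * (g⁻¹ * a * g)) * g⁻¹ := by rw [e]
      _ = c * a := by group
  refine ⟨K.two, ?_, ?_, ?_, ?_, ?_, K.ind, ?_, ?_, ?_, ?_, ?_⟩
  · intro a ha c hc
    have e : g⁻¹ * (a * c) * g = (g⁻¹ * a * g) * (g⁻¹ * c * g) := by group
    simp only [e]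
    exact K.pi_mul _ (backp ha) _ (backp hc)
  · intro a ha
    rw [K.pi_ker _ (backp ha)]
    constructor
    · rintro (e | e)
      · left
        calc a = g * (g⁻¹ * a * g) * g⁻¹ := by group
          _ = 1 := by rw [e]; group
      · right
        calc a = g * (g⁻¹ * a * g) * g⁻¹ := by group
          _ = g * p * g⁻¹ := by rw [e]
    · rintro (e | e)
      · left; rw [e]; group
      · right; rw [e]; group
  · intro i
    exact h.conj_ww hg hp hp1 (K.w_mem i)
  · intro i c hc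
    simp only [ecm, ew]
    exact K.w_all i _ (backq hc)
  · intro i
    obtain ⟨c, hc, e⟩ := K.w_ne i
    refine ⟨g * c * g⁻¹, h.conj_ww hg hq hq1 hc, ?_⟩
    have e1 : g⁻¹ * (g * c * g⁻¹) * g = c := by group
    simp only [ecm, ew, e1]
    exact e
  · have e1 : g⁻¹ * (g * q * g⁻¹) * g = q := by group
    simp only [e1]
    exact K.sum
  · intro c hc h1 v hv
    refine ecomm (K.sep _ (backq hc) (fun i => ?_) _ (backp hv))
    have := h1 i
    simp only [ecm, ew] at this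
    exact this
  · intro i v hv h1
    have h2 : ∀ d ∈ ww V cf q, pi (cm (g⁻¹ * v * g) d) = 0 ∨ pi (cm (g⁻¹ * v * g) d) = b i := by
      intro d hd
      have h3 := h1 (g * d * g⁻¹) (h.conj_ww hg hq hq1 hd)
      have e1 : g⁻¹ * (g * d * g⁻¹) * g = d := by group
      simp only [ecm, e1] at h3
      exact h3
    rcases K.cls i _ (backp hv) h2 with h3 | h3
    · left
      intro d hd
      exact ecomm (h3 _ (backq hd))
    · right
      intro d hd
      have h4 := h3 _ (backq hd)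
      refine ecomm ?_
      have e1 : g⁻¹ * (v * (g * w i * g⁻¹)) * g = g⁻¹ * v * g * w i := by group
      rw [e1]; exact h4
  · intro c hc i u hu e
    obtain ⟨j, hj⟩ := K.cen _ (backc hc) i _ (backj hu) e
    refine ⟨j, ?_⟩
    have e1 : g⁻¹ * (c * u * c⁻¹) * g = (g⁻¹ * c * g) * (g⁻¹ * u * g) * (g⁻¹ * c * g)⁻¹ := by group
    simp only [e1]
    exact hj
  · intro i j
    obtain ⟨c, hc, h1⟩ := K.trans i j
    refine ⟨g * c * g⁻¹, fwdc hc, fun u hu e => ?_⟩
    have h2 := h1 _ (backj hu) e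
    have e1 : g⁻¹ * (g * c * g⁻¹ * u * (g * c * g⁻¹)⁻¹) * g = c * (g⁻¹ * u * g) * c⁻¹ := by group
    simp only [e1]
    exact h2

/-! ### consequences -/

theorem pi_eq (h : Fam T V z cf) (hp : p ∈ V) (hp1 : p ≠ 1) (K : KB V cf p q n pi b w) {a c : G}
    (ha : a ∈ ww V cf p) (hc : c ∈ ww V cf p) (e : pi a = pi c) : a = c ∨ a = p * c := by
  have h1 : pi (a * c) = 0 := by rw [K.pi_mul a ha c hc, e, K.two]
  rcases (K.pi_ker _ (mul_mem ha hc)).mp h1 with e1 | e1
  · left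
    calc a = (a * c) * c⁻¹ := by group
      _ = c := by rw [e1, one_mul, h.inv_ww hp hp1 hc]
  · right
    calc a = (a * c) * c⁻¹ := by group
      _ = p * c := by rw [e1, h.inv_ww hp hp1 hc]

theorem pi_one (K : KB V cf p q n pi b w) : pi 1 = 0 := (K.pi_ker 1 (one_mem _)).mpr (Or.inl rfl)

theorem pi_p (h : Fam T V z cf) (hp : p ∈ V) (K : KB V cf p q n pi b w) : pi p = 0 :=
  (K.pi_ker p (h.V_le hp)).mpr (Or.inr rfl)

theorem pi_pmul (h : Fam T V z cf) (hp : p ∈ V) (K : KB V cf p q n pi b w) {a : G} (ha : a ∈ ww V cf p) :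
    pi (p * a) = pi a := by rw [K.pi_mul p (h.V_le hp) a ha, K.pi_p h hp, zero_add]

theorem pi_q (h : Fam T V z cf) (hq : q ∈ V) (hq1 : q ≠ 1) (hqp : q ≠ p) (K : KB V cf p q n pi b w) :
    pi q ≠ 0 := by
  intro e
  rcases (K.pi_ker q (h.V_le hq)).mp e with e | e
  · exact hq1 e
  · exact hqp e

theorem b_ne (K : KB V cf p q n pi b w) (i : Fin n) : b i ≠ 0 := by
  intro e
  have := K.ind {i} (by rw [Finset.sum_singleton, e])
  exact absurd this (Finset.singleton_ne_empty i)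

/-- `pi q = ∑_S b` only for `S = univ` -/
theorem sum_univ (K : KB V cf p q n pi b w) {S : Finset (Fin n)} (e : ∑ i ∈ S, b i = pi q) :
    S = Finset.univ := by
  classical
  have h1 : ∑ i ∈ Finset.univ \ S, b i = 0 := by
    have h2 := Finset.sum_sdiff (f := b) (Finset.subset_univ S)
    rw [e, K.sum] at h2
    simpa using h2
  have h2 := K.ind _ h1
  exact (Finset.eq_univ_iff_forall.mpr fun i => by
    by_contra hi
    have : i ∈ Finset.univ \ S := Finset.mem_sdiff.mpr ⟨Finset.mem_univ i, hi⟩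
    rw [h2] at this
    exact absurd this (Finset.notMem_empty i))

theorem q_ne_one (K : KB V cf p q n pi b w) (hn : 2 ≤ n) (i : Fin n) : b i ≠ pi q := by
  intro e
  have h1 := K.sum_univ (S := {i}) (by rw [Finset.sum_singleton, e])
  have h2 := congrArg Finset.card h1
  rw [Finset.card_singleton, Finset.card_univ, Fintype.card_fin] at h2
  omega

theorem q_ne_two (K : KB V cf p q n pi b w) (hn : 3 ≤ n) (i j : Fin n) : b i + b j ≠ pi q := by
  classical
  intro e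
  by_cases hij : i = j
  · rw [hij, K.two] at e
    have h1 := K.sum
    rw [← e] at h1
    have h2 := K.ind _ h1
    have : i ∈ (Finset.univ : Finset (Fin n)) := Finset.mem_univ i
    rw [h2] at this
    exact absurd this (Finset.notMem_empty i)
  · have h1 := K.sum_univ (S := {i, j}) (by rw [Finset.sum_pair hij, e])
    have h2 := congrArg Finset.card h1
    rw [Finset.card_pair hij, Finset.card_univ, Fintype.card_fin] at h2
    omega

theorem b_inj (K : KB V cf p q n pi b w) : Function.Injective b := by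
  classical
  intro i j e
  by_contra hij
  have := K.ind {i, j} (by rw [Finset.sum_pair hij, e, K.two])
  exact absurd this (Finset.insert_ne_empty _ _)

end KB

/-! ### a pair of bases -/

section Pair

variable {T V : Subgroup G} {z : G} {cf : G → Subgroup G} {x y : G} {M M' : Type u} [AddCommGroup M]
  [AddCommGroup M'] {n : ℕ} {pi : G → M} {pi' : G → M'} {b : Fin n → M} {b' : Fin n → M'} {w w' : Fin n → G}

namespace KB

variable (h : Fam T V z cf) (hx : x ∈ V) (hx1 : x ≠ 1) (hy : y ∈ V) (hy1 : y ≠ 1) (hyx : y ≠ x)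
  (K : KB V cf x y n pi b w) (K' : KB V cf y x n pi' b' w')
include h hx hx1 hy hy1 hyx K K'

theorem e_symm (i j : Fin n) : cm (w' j) (w i) = cm (w i) (w' j) :=
  h.cm_symm hx hx1 hy hy1 hyx (K.w_mem i) (K'.w_mem j)

theorem e_mem (i j : Fin n) : cm (w i) (w' j) ∈ jj V cf :=
  h.cm_mem hx hx1 hy hy1 hyx (K.w_mem i) (K'.w_mem j)

theorem e_cases (i j : Fin n) : pi (cm (w i) (w' j)) = 0 ∨ pi (cm (w i) (w' j)) = b i :=
  K.w_all i _ (K'.w_mem j)

theorem e_cases' (i j : Fin n) : pi' (cm (w i) (w' j)) = 0 ∨ pi' (cm (w i) (w' j)) = b' j := by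
  have := K'.w_all j _ (K.w_mem i)
  rwa [K.e_symm h hx hx1 hy hy1 hyx K' i j] at this

/-- L1 -/
theorem e_one (hn : 2 ≤ n) {i j : Fin n} (e : pi (cm (w i) (w' j)) = 0) : cm (w i) (w' j) = 1 := by
  have hm := K.e_mem h hx hx1 hy hy1 hyx K' i j
  rcases (K.pi_ker _ (Fam.jj_le hx hx1 hm)).mp e with e1 | e1
  · exact e1
  exfalso
  rcases K.e_cases' h hx hx1 hy hy1 hyx K' i j with e2 | e2
  · rw [e1] at e2
    exact K'.pi_q h hx hx1 (Ne.symm hyx) e2
  · rw [e1] at e2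
    exact K'.q_ne_one hn j e2.symm

theorem e_one' (hn : 2 ≤ n) {i j : Fin n} (e : pi' (cm (w i) (w' j)) = 0) : cm (w i) (w' j) = 1 := by
  rw [← K.e_symm h hx hx1 hy hy1 hyx K' i j] at e ⊢
  exact K'.e_one h hy hy1 hx hx1 (Ne.symm hyx) K hn e

/-- L3 -/
theorem e_pi (hn : 2 ≤ n) {i j : Fin n} (e : cm (w i) (w' j) ≠ 1) : pi (cm (w i) (w' j)) = b i :=
  (K.e_cases h hx hx1 hy hy1 hyx K' i j).resolve_left fun e1 =>
    e (K.e_one h hx hx1 hy hy1 hyx K' hn e1)

theorem e_pi' (hn : 2 ≤ n) {i j : Fin n} (e : cm (w i) (w' j) ≠ 1) : pi' (cm (w i) (w' j)) = b' j :=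
  (K.e_cases' h hx hx1 hy hy1 hyx K' i j).resolve_left fun e1 =>
    e (K.e_one' h hx hx1 hy hy1 hyx K' hn e1)

/-- L2 -/
theorem exists_row (i : Fin n) : ∃ j, cm (w i) (w' j) ≠ 1 := by
  by_contra hcon
  push Not at hcon
  obtain ⟨g, hg, hne⟩ := K.w_ne i
  have h1 := K'.sep (w i) (K.w_mem i) (fun j => by
    rw [K.e_symm h hx hx1 hy hy1 hyx K' i j, hcon j, K'.pi_one]) g hg
  exact hne (by rw [cm_eq_one h1.symm, K.pi_one])

/-- L4 -/
theorem row_unique (hn : 3 ≤ n) {i j j' : Fin n} (e : cm (w i) (w' j) ≠ 1) (e' : cm (w i) (w' j') ≠ 1) :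
    j = j' := by
  have hn2 : 2 ≤ n := by omega
  by_contra hjj
  have hm := K.e_mem h hx hx1 hy hy1 hyx K' i j
  have hm' := K.e_mem h hx hx1 hy hy1 hyx K' i j'
  have h1 : pi (cm (w i) (w' j) * cm (w i) (w' j')) = 0 := by
    rw [K.pi_mul _ (Fam.jj_le hx hx1 hm) _ (Fam.jj_le hx hx1 hm'), K.e_pi h hx hx1 hy hy1 hyx K' hn2 e,
      K.e_pi h hx hx1 hy hy1 hyx K' hn2 e', K.two]
  have h2 : pi' (cm (w i) (w' j) * cm (w i) (w' j')) = b' j + b' j' := by
    rw [K'.pi_mul _ (Fam.jj_le hy hy1 hm) _ (Fam.jj_le hy hy1 hm'), K.e_pi' h hx hx1 hy hy1 hyx K' hn2 e,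
      K.e_pi' h hx hx1 hy hy1 hyx K' hn2 e']
  rcases (K.pi_ker _ (mul_mem (Fam.jj_le hx hx1 hm) (Fam.jj_le hx hx1 hm'))).mp h1 with e1 | e1
  · rw [e1, K'.pi_one] at h2
    apply hjj
    apply K'.b_inj
    calc b' j = b' j + (b' j' + b' j') := by rw [K'.two, add_zero]
      _ = b' j' := by rw [← add_assoc, ← h2, zero_add]
  · rw [e1] at h2
    exact K'.q_ne_two hn j j' h2.symm

theorem col_unique (hn : 3 ≤ n) {i i' j : Fin n} (e : cm (w i) (w' j) ≠ 1) (e' : cm (w i') (w' j) ≠ 1) :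
    i = i' := by
  rw [← K.e_symm h hx hx1 hy hy1 hyx K' _ j] at e e'
  exact K'.row_unique h hy hy1 hx hx1 (Ne.symm hyx) K hn e e'

omit hx1 hyx in
/-- (U) -/
theorem unique (hn : 3 ≤ n) {r : G} (hr : r ∈ jj V cf) {j j' : Fin n} (e : pi' r = b' j)
    (e' : pi' (x * r) = b' j') : False := by
  have h1 : pi' x = b' j + b' j' := by
    rw [K'.pi_mul x (h.V_le hx) r (Fam.jj_le hy hy1 hr), e] at e'
    rw [← e', add_comm (pi' x), ← add_assoc, K'.two, zero_add]
  exact K'.q_ne_two hn j j' h1.symm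

/-- **`n ≥ 3` is impossible** -/
theorem false_of_three (hn : 3 ≤ n) (heven : Even n) : False := by
  classical
  have hn2 : 2 ≤ n := by omega
  choose τ hτ using fun i => K.exists_row h hx hx1 hy hy1 hyx K' i
  have hτinj : Function.Injective τ := by
    intro i i' e
    have h1 := hτ i
    rw [e] at h1
    exact K.col_unique h hx hx1 hy hy1 hyx K' hn h1 (hτ i')
  let r : Fin n → G := fun i => cm (w i) (w' (τ i))
  have hrj : ∀ i, r i ∈ jj V cf := fun i => K.e_mem h hx hx1 hy hy1 hyx K' i _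
  have hrx : ∀ i, r i ∈ ww V cf x := fun i => Fam.jj_le hx hx1 (hrj i)
  have hry : ∀ i, r i ∈ ww V cf y := fun i => Fam.jj_le hy hy1 (hrj i)
  have hr1 : ∀ i, pi (r i) = b i := fun i => K.e_pi h hx hx1 hy hy1 hyx K' hn2 (hτ i)
  have hr2 : ∀ i, pi' (r i) = b' (τ i) := fun i => K.e_pi' h hx hx1 hy hy1 hyx K' hn2 (hτ i)
  obtain ⟨k, hk, hk1⟩ := h.exists_mover hx hx1
  have hky := h.move hx hx1 hy hy1 hyx hk hk1
  have hkN : k ∈ normalizer (V : Set G) := h.qq_le_normalizer hx hk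
  have hkr : ∀ i, k * r i * k⁻¹ = r i ∨ k * r i * k⁻¹ = x * r i := fun i => h.qq_cases hx hk (hrx i)
  have hCj : ∀ c ∈ centralizer (V : Set G), ∀ u ∈ jj V cf, c * u * c⁻¹ ∈ jj V cf := fun c hc u hu =>
    conj_mem_of_normalizer h.normalizer_le_normalizer_jj (centralizer_le_normalizer _ hc) hu
  -- the exponent does not depend on `i`
  have hconst : ∀ i j, k * r i * k⁻¹ = r i → k * r j * k⁻¹ = r j := by
    intro i j hi
    obtain ⟨c, hc, hcb⟩ := K.trans i j
    have h1 := hcb (r i) (hrj i) (hr1 i)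
    obtain ⟨l, hl⟩ := K'.cen c hc (τ i) (r i) (hrj i) (hr2 i)
    have h2 : c * r i * c⁻¹ = r j := by
      rcases K.pi_eq h hx hx1 (Fam.jj_le hx hx1 (hCj c hc _ (hrj i))) (hrx j) (h1.trans (hr1 j).symm) with e | e
      · exact e
      · exfalso
        rw [e] at hl
        exact K.unique h hx hy hy1 K' hn (hrj j) (hr2 j) hl
    have hc' : k * c * k⁻¹ ∈ centralizer (V : Set G) :=
      conj_mem_of_normalizer (normalizer_le_normalizer_centralizer V) hkN hc
    obtain ⟨l', hl'⟩ := K'.cen _ hc' (τ i) (r i) (hrj i) (hr2 i)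
    have h3 : k * r j * k⁻¹ = k * c * k⁻¹ * r i * (k * c * k⁻¹)⁻¹ := by
      calc k * r j * k⁻¹ = k * (c * r i * c⁻¹) * k⁻¹ := by rw [h2]
        _ = k * c * k⁻¹ * (k * r i * k⁻¹) * (k * c * k⁻¹)⁻¹ := by group
        _ = _ := by rw [hi]
    rcases hkr j with e | e
    · exact e
    · exfalso
      rw [← h3, e] at hl'
      exact K.unique h hx hy hy1 K' hn (hrj j) (hr2 j) hl'
  -- the exponent
  obtain ⟨a, haV, ha2, ha⟩ : ∃ a ∈ V, a * a = 1 ∧ ∀ i, k * r i * k⁻¹ = a * r i := by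
    by_cases hi : ∃ i, k * r i * k⁻¹ = r i
    · obtain ⟨i, hi⟩ := hi
      exact ⟨1, one_mem _, one_mul 1, fun j => by rw [one_mul]; exact hconst i j hi⟩
    · push Not at hi
      exact ⟨x, hx, h.ln.sq x hx, fun j => (hkr j).resolve_left (hi j)⟩
  have hP : ∀ S : Finset (Fin n), ∃ P ∈ jj V cf, pi P = ∑ i ∈ S, b i ∧ pi' P = ∑ i ∈ S, b' (τ i) ∧
      k * P * k⁻¹ = a ^ S.card * P := by
    intro S
    induction S using Finset.induction_on with
    | empty => exact ⟨1, one_mem _, by simp [K.pi_one], by simp [K'.pi_one], by simp⟩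
    | insert i S hi ih =>
      obtain ⟨P, hPj, h1, h2, h3⟩ := ih
      refine ⟨r i * P, mul_mem (hrj i) hPj, ?_, ?_, ?_⟩
      · rw [K.pi_mul _ (hrx i) _ (Fam.jj_le hx hx1 hPj), hr1, h1, Finset.sum_insert hi]
      · rw [K'.pi_mul _ (hry i) _ (Fam.jj_le hy hy1 hPj), hr2, h2, Finset.sum_insert hi]
      · rw [Finset.card_insert_of_notMem hi, pow_succ]
        have hcomm : r i * a ^ S.card = a ^ S.card * r i :=
          h.comm hx hx1 _ (hrx i) _ (h.V_le (pow_mem haV _))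
        calc k * (r i * P) * k⁻¹ = (k * r i * k⁻¹) * (k * P * k⁻¹) := by group
          _ = a * (r i * a ^ S.card) * P := by rw [ha, h3]; group
          _ = a * a ^ S.card * (r i * P) := by rw [hcomm]; group
          _ = a ^ S.card * a * (r i * P) := by rw [← pow_succ', pow_succ]
  obtain ⟨P, hPj, h1, h2, h3⟩ := hP Finset.univ
  rw [K.sum] at h1
  have h4 : ∑ i, b' (τ i) = pi' x := by
    rw [← K'.sum]
    exact (Finset.sum_equiv (Equiv.ofBijective τ (Finite.injective_iff_bijective.mp hτinj)) (by simp)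
      (fun i _ => rfl))
  rw [h4] at h2
  have hPx := Fam.jj_le hx hx1 hPj
  have hPs : P = x * y := by
    rcases K.pi_eq h hx hx1 hPx (h.V_le hy) h1 with e | e
    · exfalso
      rw [e, K'.pi_p h hy] at h2
      exact K'.pi_q h hx hx1 (Ne.symm hyx) h2.symm
    · exact e
  rw [Finset.card_univ, Fintype.card_fin] at h3
  have h5 : a ^ n = 1 := by
    obtain ⟨l, rfl⟩ := heven
    rw [← two_mul, pow_mul, pow_two, ha2, one_pow]
  rw [h5, one_mul, hPs] at h3
  have h6 : k * (x * y) * k⁻¹ = y := by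
    have hkx : k * x * k⁻¹ = x := conj_eq_of_comm (h.qq_p hk)
    calc k * (x * y) * k⁻¹ = (k * x * k⁻¹) * (k * y * k⁻¹) := by group
      _ = (x * x) * y := by rw [hkx, hky]; group
      _ = y := by rw [h.ln.sq x hx, one_mul]
  rw [h6] at h3
  exact hx1 (by simpa using h3.symm)

end KB

namespace KB

/-- for `n = 2` the elements over the centres form a coset of `V` -/
theorem coset {p q : G} (h : Fam T V z cf) (hp : p ∈ V) (hp1 : p ≠ 1) (hq : q ∈ V) (hn : n = 2)
    (K : KB V cf p q n pi b w) {u r : G} (hu : u ∈ jj V cf) (hr : r ∈ jj V cf) {i j : Fin n} (e : pi u = b i)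
    (e' : pi r = b j) : ∃ v ∈ V, r = v * u := by
  classical
  have hup := Fam.jj_le hp hp1 hu
  have hrp := Fam.jj_le hp hp1 hr
  by_cases hij : i = j
  · subst hij
    rcases K.pi_eq h hp hp1 hrp hup (e'.trans e.symm) with e1 | e1
    · exact ⟨1, one_mem _, by rw [e1, one_mul]⟩
    · exact ⟨p, hp, e1⟩
  · have h1 : pi q = b i + b j := by
      rw [← K.sum, ← Finset.sum_pair hij]
      congr 1
      symm
      rw [Finset.eq_univ_iff_forall]
      subst hn
      revert i j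
      intro i j
      fin_cases i <;> fin_cases j <;> intro _ _ h <;> first | (exact absurd rfl h) | decide
    have h2 : pi r = pi (q * u) := by
      rw [K.pi_mul q (h.V_le hq) u hup, h1, e, e', add_comm (b i), add_assoc, K.two, add_zero]
    rcases K.pi_eq h hp hp1 hrp (mul_mem (h.V_le hq) hup) h2 with e1 | e1
    · exact ⟨q, hq, e1⟩
    · exact ⟨p * q, mul_mem hp hq, by rw [e1]; group⟩

section Two

variable (h : Fam T V z cf) (hx : x ∈ V) (hx1 : x ≠ 1) (hy : y ∈ V) (hy1 : y ≠ 1) (hyx : y ≠ x)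
  (K : KB V cf x y n pi b w) (K' : KB V cf y x n pi' b' w')
include h hx hx1 hy hy1 hyx K K'

/-- for `n = 2` some `c ∈ C_G(V)` multiplies all elements over the centres with `y` -/
theorem exists_four [Finite G] (hn : n = 2) : ∃ c ∈ centralizer (V : Set G),
    (∀ r ∈ jj V cf, ∀ i, pi r = b i → c * r * c⁻¹ = y * r) ∧
      (∀ r ∈ jj V cf, ∀ i, pi' r = b' i → c * r * c⁻¹ = y * r) := by
  have hn2 : 2 ≤ n := by omega
  set i0 : Fin n := ⟨0, by omega⟩
  obtain ⟨j0, hj0⟩ := K.exists_row h hx hx1 hy hy1 hyx K' i0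
  set u := cm (w i0) (w' j0) with hu
  have huj : u ∈ jj V cf := K.e_mem h hx hx1 hy hy1 hyx K' i0 j0
  have hu1 : pi u = b i0 := K.e_pi h hx hx1 hy hy1 hyx K' hn2 hj0
  have hu2 : pi' u = b' j0 := K.e_pi' h hx hx1 hy hy1 hyx K' hn2 hj0
  have hux := Fam.jj_le hx hx1 huj
  have huV : ∀ v ∈ V, u * v = v * u := fun v hv => h.comm hx hx1 u hux v (h.V_le hv)
  have huu : u * u = 1 := h.sq hx hx1 u hux
  have hc1 : ∀ r ∈ jj V cf, ∀ i, pi r = b i → ∃ v ∈ V, r = v * u := fun r hr i e =>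
    K.coset h hx hx1 hy hn huj hr hu1 e
  have hc2 : ∀ r ∈ jj V cf, ∀ i, pi' r = b' i → ∃ v ∈ V, r = v * u := fun r hr i e =>
    K'.coset h hy hy1 hx hn huj hr hu2 e
  let U : Subgroup G :=
    { carrier := {g | g ∈ V ∨ ∃ v ∈ V, g = v * u}
      mul_mem' := by
        rintro a b (ha | ⟨v, hv, rfl⟩) (hb | ⟨v', hv', rfl⟩)
        · exact Or.inl (mul_mem ha hb)
        · exact Or.inr ⟨a * v', mul_mem ha hv', by group⟩
        · refine Or.inr ⟨v * b, mul_mem hv hb, ?_⟩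
          rw [mul_assoc, huV b hb, mul_assoc]
        · refine Or.inl ?_
          have : v * u * (v' * u) = v * v' := by
            calc v * u * (v' * u) = v * (u * v') * u := by group
              _ = v * v' * (u * u) := by rw [huV v' hv']; group
              _ = v * v' := by rw [huu, mul_one]
          rw [this]; exact mul_mem hv hv'
      one_mem' := Or.inl (one_mem _)
      inv_mem' := by
        rintro a (ha | ⟨v, hv, rfl⟩)
        · exact Or.inl (inv_mem ha)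
        · refine Or.inr ⟨v⁻¹, inv_mem hv, ?_⟩
          rw [mul_inv_rev, inv_eq_self huu, huV _ (inv_mem hv)] }
  have hVU : V ≤ U := fun v hv => Or.inl hv
  have hUj : U ≤ jj V cf := by
    rintro a (ha | ⟨v, hv, rfl⟩)
    · exact h.V_le_jj ha
    · exact mul_mem (h.V_le_jj hv) huj
  have hnorm : normalizer (V : Set G) ≤ normalizer (U : Set G) := by
    refine h.norm_of_cent hVU hUj fun c hc a ha => ?_
    have hcj : ∀ a ∈ jj V cf, c * a * c⁻¹ ∈ jj V cf := fun a ha =>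
      conj_mem_of_normalizer h.normalizer_le_normalizer_jj (centralizer_le_normalizer _ hc) ha
    rcases ha with ha | ⟨v, hv, rfl⟩
    · left
      rw [conj_eq_of_comm (h.V_comm ha hc).symm]; exact ha
    · right
      obtain ⟨j, hj⟩ := K.cen c hc i0 u huj hu1
      obtain ⟨v', hv', e⟩ := hc1 _ (hcj u huj) j hj
      refine ⟨v * v', mul_mem hv hv', ?_⟩
      calc c * (v * u) * c⁻¹ = (c * v * c⁻¹) * (c * u * c⁻¹) := by group
        _ = v * v' * u := by rw [conj_eq_of_comm (h.V_comm hv hc).symm, e]; group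
  have huV' : u ∉ V := by
    intro huV
    have e0 := K.b_ne i0
    have e1 := K.q_ne_one hn2 i0
    rcases h.ln.four hx hy hx1 hy1 (Ne.symm hyx) huV with e | e | e | e
    · rw [e, K.pi_one] at hu1; exact e0 hu1.symm
    · rw [e, K.pi_p h hx] at hu1; exact e0 hu1.symm
    · rw [e] at hu1; exact e1 hu1.symm
    · rw [e, K.pi_pmul h hx (h.V_le hy)] at hu1; exact e1 hu1.symm
  obtain ⟨c, hc, hcu⟩ := h.four_of hUj hnorm (u := u) (Or.inr ⟨1, one_mem _, by rw [one_mul]⟩) huV' (by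
    rintro g (hg | ⟨v, hv, rfl⟩)
    · exact Or.inl hg
    · right; rw [mul_inv_cancel_right]; exact hv) hy
  have key : ∀ v ∈ V, c * (v * u) * c⁻¹ = y * (v * u) := by
    intro v hv
    calc c * (v * u) * c⁻¹ = (c * v * c⁻¹) * (c * u * c⁻¹) := by group
      _ = v * y * u := by rw [conj_eq_of_comm (h.V_comm hv hc).symm, hcu]; group
      _ = y * (v * u) := by rw [h.ln.comm hv hy]; group
  refine ⟨c, hc, fun r hr i e => ?_, fun r hr i e => ?_⟩
  · obtain ⟨v, hv, rfl⟩ := hc1 r hr i e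
    exact key v hv
  · obtain ⟨v, hv, rfl⟩ := hc2 r hr i e
    exact key v hv

/-- **`n = 2` is impossible** -/
theorem false_of_two [Finite G] (hn : n = 2) : False := by
  classical
  have hn2 : 2 ≤ n := by omega
  obtain ⟨c, hc, hc1, hc2⟩ := K.exists_four h hx hx1 hy hy1 hyx K' hn
  set i0 : Fin n := ⟨0, by omega⟩ with hi0
  set i1 : Fin n := ⟨1, by omega⟩ with hi1
  have hi01 : i0 ≠ i1 := by
    intro e
    have := congrArg Fin.val e
    simp [hi0, hi1] at this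
  have hpy : pi y = b i0 + b i1 := by
    rw [← K.sum, ← Finset.sum_pair hi01]
    congr 1
    symm
    rw [Finset.eq_univ_iff_forall]
    intro i
    have := i.2
    rw [Finset.mem_insert, Finset.mem_singleton, Fin.ext_iff, Fin.ext_iff]
    simp only [hi0, hi1]
    omega
  have hcx : ∀ {a : G}, a ∈ ww V cf x → c * a * c⁻¹ ∈ ww V cf x := fun ha =>
    conj_mem_of_normalizer (h.cent_norm hx hx1) hc ha
  have hcy : ∀ {a : G}, a ∈ ww V cf y → c * a * c⁻¹ ∈ ww V cf y := fun ha =>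
    conj_mem_of_normalizer (h.cent_norm hy hy1) hc ha
  have hcx' : ∀ {a : G}, a ∈ ww V cf x → c⁻¹ * a * c ∈ ww V cf x := fun ha =>
    conj_mem_of_normalizer' (h.cent_norm hx hx1) hc ha
  have hcy' : ∀ {a : G}, a ∈ ww V cf y → c⁻¹ * a * c ∈ ww V cf y := fun ha =>
    conj_mem_of_normalizer' (h.cent_norm hy hy1) hc ha
  have hcv : ∀ v ∈ V, c * v * c⁻¹ = v := fun v hv => conj_eq_of_comm (h.V_comm hv hc).symm
  have hcmc : ∀ a g : G, cm (c * a * c⁻¹) g = c * cm a (c⁻¹ * g * c) * c⁻¹ := by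
    intro a g; unfold cm; group
  have hxy := Ne.symm hyx
  -- (1)
  set v := c * w i0 * c⁻¹ with hv
  have hvW : v ∈ ww V cf x := hcx (K.w_mem i0)
  have h1 : ∀ g ∈ ww V cf y, pi (cm v g) = 0 ∨ pi (cm v g) = b i1 := by
    intro g hg
    have hg' := hcy' hg
    have hm := h.cm_mem hx hx1 hy hy1 hyx (K.w_mem i0) hg'
    have hmx := Fam.jj_le hx hx1 hm
    rw [hv, hcmc]
    rcases K.w_all i0 _ hg' with e | e
    · left
      rcases (K.pi_ker _ hmx).mp e with e1 | e1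
      · rw [e1, hcv 1 (one_mem _), K.pi_one]
      · rw [e1, hcv x hx, K.pi_p h hx]
    · right
      rw [hc1 _ hm i0 e, K.pi_mul y (h.V_le hy) _ hmx, e, hpy, add_comm (b i0), add_assoc, K.two, add_zero]
  have h2 : ∀ g ∈ ww V cf y, v * w i1 * g = g * (v * w i1) := by
    rcases K.cls i1 v hvW h1 with h3 | h3
    · exfalso
      obtain ⟨g, hg, hne⟩ := K.w_ne i0
      apply hne
      have h4 := h3 _ (hcy hg)
      have h5 : w i0 * g = g * w i0 := by
        calc w i0 * g = c⁻¹ * (v * (c * g * c⁻¹)) * c := by rw [hv]; group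
          _ = c⁻¹ * ((c * g * c⁻¹) * v) * c := by rw [h4]
          _ = g * w i0 := by rw [hv]; group
      rw [cm_eq_one h5, K.pi_one]
    · exact h3
  -- (2)
  have h3 : ∀ j, ∀ g ∈ ww V cf x, c * w' j * c⁻¹ * w' j * g = g * (c * w' j * c⁻¹ * w' j) := by
    intro j
    have h4 : ∀ g ∈ ww V cf x, pi' (cm (c * w' j * c⁻¹) g) = 0 ∨ pi' (cm (c * w' j * c⁻¹) g) = b' j := by
      intro g hg
      have hg' := hcx' hg
      have hm := h.cm_mem hy hy1 hx hx1 hxy (K'.w_mem j) hg'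
      have hmy := Fam.jj_le hy hy1 hm
      rw [hcmc]
      rcases K'.w_all j _ hg' with e | e
      · left
        rcases (K'.pi_ker _ hmy).mp e with e1 | e1
        · rw [e1, hcv 1 (one_mem _), K'.pi_one]
        · rw [e1, hcv y hy, K'.pi_p h hy]
      · right
        rw [hc2 _ hm j e, K'.pi_pmul h hy hmy, e]
    rcases K'.cls j _ (hcy (K'.w_mem j)) h4 with h5 | h5
    · exfalso
      obtain ⟨g, hg, hne⟩ := K'.w_ne j
      apply hne
      have h4 := h5 _ (hcx hg)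
      have h5 : w' j * g = g * w' j := by
        calc w' j * g = c⁻¹ * (c * w' j * c⁻¹ * (c * g * c⁻¹)) * c := by group
          _ = c⁻¹ * ((c * g * c⁻¹) * (c * w' j * c⁻¹)) * c := by rw [h4]
          _ = g * w' j := by group
      rw [cm_eq_one h5, K'.pi_one]
    · exact h5
  -- (3)
  have h4 : ∀ j, cm (w i1) (w' j) = c * cm (w i0) (w' j) * c⁻¹ := by
    intro j
    set ζ := v * w i1 with hζ
    set ζ' := c * w' j * c⁻¹ * w' j with hζ'
    have hζW : ζ ∈ ww V cf x := mul_mem hvW (K.w_mem i1)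
    have hζW' : ζ' ∈ ww V cf y := mul_mem (hcy (K'.w_mem j)) (K'.w_mem j)
    have e1 : v = ζ * w i1 := by
      rw [hζ, mul_assoc, h.sq hx hx1 _ (K.w_mem i1), mul_one]
    have e2 : c * w' j * c⁻¹ = ζ' * w' j := by
      rw [hζ', mul_assoc (c * w' j * c⁻¹), h.sq hy hy1 _ (K'.w_mem j), mul_one]
    have e3 : cm v (c * w' j * c⁻¹) = c * cm (w i0) (w' j) * c⁻¹ := by rw [hv]; exact cm_conj c _ _
    rw [← e3, e1, e2, h.cm_mul_left hx hx1 hy hy1 hyx hζW (K.w_mem i1) (mul_mem hζW' (K'.w_mem j)),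
      cm_eq_one (h2 _ (mul_mem hζW' (K'.w_mem j))), one_mul,
      h.cm_mul_right hx hx1 hy hy1 hyx (K.w_mem i1) hζW' (K'.w_mem j),
      cm_eq_one (h3 j _ (K.w_mem i1)).symm, one_mul]
  -- (4)
  have h5 : ∀ g ∈ ww V cf y, g * (w i0 * w i1) = (w i0 * w i1) * g := by
    refine K'.sep _ (mul_mem (K.w_mem i0) (K.w_mem i1)) fun j => ?_
    have hm := K.e_mem h hx hx1 hy hy1 hyx K' i0 j
    have hm' := K.e_mem h hx hx1 hy hy1 hyx K' i1 j
    rw [h.cm_symm hx hx1 hy hy1 hyx (mul_mem (K.w_mem i0) (K.w_mem i1)) (K'.w_mem j),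
      h.cm_mul_left hx hx1 hy hy1 hyx (K.w_mem i0) (K.w_mem i1) (K'.w_mem j),
      K'.pi_mul _ (Fam.jj_le hy hy1 hm) _ (Fam.jj_le hy hy1 hm'), h4 j]
    by_cases he : cm (w i0) (w' j) = 1
    · rw [he, hcv 1 (one_mem _), K'.pi_one, add_zero]
    · rw [hc2 _ hm j (K.e_pi' h hx hx1 hy hy1 hyx K' hn2 he), K'.pi_pmul h hy (Fam.jj_le hy hy1 hm), K'.two]
  obtain ⟨g, hg, hne⟩ := K.w_ne i0
  have h6 : cm (w i0) g * cm (w i1) g = 1 := by
    rw [← h.cm_mul_left hx hx1 hy hy1 hyx (K.w_mem i0) (K.w_mem i1) hg]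
    exact cm_eq_one (h5 g hg).symm
  have hm := h.cm_mem hx hx1 hy hy1 hyx (K.w_mem i0) hg
  have hm' := h.cm_mem hx hx1 hy hy1 hyx (K.w_mem i1) hg
  have h7 : pi (cm (w i0) g) + pi (cm (w i1) g) = 0 := by
    rw [← K.pi_mul _ (Fam.jj_le hx hx1 hm) _ (Fam.jj_le hx hx1 hm'), h6, K.pi_one]
  rw [(K.w_all i0 g hg).resolve_left hne] at h7
  rcases K.w_all i1 g hg with e | e
  · rw [e, add_zero] at h7
    exact K.b_ne i0 h7
  · rw [e] at h7
    have h8 : ∑ i ∈ ({i0, i1} : Finset (Fin n)), b i = 0 := by rw [Finset.sum_pair hi01, h7]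
    exact absurd (K.ind _ h8) (Finset.insert_ne_empty _ _)

end Two

/-- **`n ≥ 2` is impossible** -/
theorem false_of {x y : G} [Finite G] (h : Fam T V z cf) (hx : x ∈ V) (hx1 : x ≠ 1) (hy : y ∈ V) (hy1 : y ≠ 1)
    (hyx : y ≠ x) (K : KB V cf x y n pi b w) (hn : 2 ≤ n) (heven : Even n) : False := by
  obtain ⟨g, hg, e1, e2⟩ := h.trans2 hx hx1 hy hy1 hyx hy hy1 hx hx1 (Ne.symm hyx)
  have K' := K.conj h hx hx1 hy hy1 hg
  rw [e1, e2] at K'
  by_cases hn2 : n = 2
  · exact K.false_of_two h hx hx1 hy hy1 hyx K' hn2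
  · exact K.false_of_three h hx hx1 hy hy1 hyx K' (by omega) heven

end KB

end Pair

end Cfsg.Agent.Omega.NO3S.Fit
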