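import Cfsg.Agent.Omega.NO3S.Fit.Fix

/-!
# NO-3S, `q = 2`, `n = 1` (helper311's text #13963): the module `M = W_z / ⟨z⟩` for `H = C_z / Q_z`

`MRep V cf z M H` : `pi : G → M`, `phi : G → H` (used on `W_z`, `cf z`) identify `M` with `W_z/⟨z⟩` and `H` with
`cf z / Q_z`; `Fam.exists_mrep` : it exists, with a faithful action.
-/

set_option autoImplicit false
set_option linter.unusedSectionVars false

namespace Cfsg.Agent.Omega.NO3S.Fit

open Subgroup Cfsg Cfsg.Agent.ZN Cfsg.Agent.MinSimple.Geo Cfsg.Agent.Omega.CaseL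
open Cfsg.Agent.ZN.Block (conj_mem_of_normalizer conj_mem_of_normalizer' le_normalizer_of_forall
  mem_normalizer_of)

universe u

variable {G : Type u} [Group G]

/-- `M = W_z/⟨z⟩`, `H = cf z / Q_z` -/
structure MRep (V : Subgroup G) (cf : G → Subgroup G) (z : G) (M H : Type u) [AddCommGroup M] [Group H]
    [DistribMulAction H M] where
  pi : G → M
  phi : G → H
  pi_mul : ∀ a ∈ ww V cf z, ∀ b ∈ ww V cf z, pi (a * b) = pi a + pi b
  pi_surj : ∀ m, ∃ w ∈ ww V cf z, pi w = m
  pi_ker : ∀ w ∈ ww V cf z, pi w = 0 ↔ w = 1 ∨ w = z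
  phi_mul : ∀ c ∈ cf z, ∀ d ∈ cf z, phi (c * d) = phi c * phi d
  phi_surj : ∀ x, ∃ c ∈ cf z, phi c = x
  phi_ker : ∀ c ∈ cf z, phi c = 1 ↔ c ∈ qq V cf z
  act : ∀ c ∈ cf z, ∀ w ∈ ww V cf z, phi c • pi w = pi (c * w * c⁻¹)

section build

variable (W X C : Subgroup G)

/-- conjugation by `c` on `W` -/
def cjW (hW : C ≤ normalizer (W : Set G)) (c : C) : W →* W where
  toFun w := ⟨c * w * (c : G)⁻¹, conj_mem_of_normalizer hW c.2 w.2⟩
  map_one' := by ext; simp
  map_mul' a b := by
    ext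
    change (c : G) * (a * b) * (c : G)⁻¹ = (c * a * (c : G)⁻¹) * (c * b * (c : G)⁻¹)
    group

/-- the action of `C` on `W / X` -/
def quoHom (hW : C ≤ normalizer (W : Set G)) (hX : C ≤ normalizer (X : Set G))
    [(X.subgroupOf W).Normal] : C →* MulAut (W ⧸ X.subgroupOf W) :=
  let f : C → (W ⧸ X.subgroupOf W →* W ⧸ X.subgroupOf W) := fun c =>
    QuotientGroup.map _ _ (cjW W C hW c) (by
      intro w hw
      rw [mem_comap, mem_subgroupOf]
      exact conj_mem_of_normalizer hX c.2 (mem_subgroupOf.mp hw))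
  have f1 : ∀ c d x, f (c * d) x = f c (f d x) := by
    intro c d x
    induction x using QuotientGroup.induction_on with
    | H w =>
      change (QuotientGroup.mk _ : W ⧸ X.subgroupOf W) = QuotientGroup.mk _
      congr 1
      ext
      change ((c * d : C) : G) * w * ((c * d : C) : G)⁻¹ = c * (d * w * (d : G)⁻¹) * (c : G)⁻¹
      push_cast
      group
  have f2 : ∀ x, f 1 x = x := by
    intro x
    induction x using QuotientGroup.induction_on with
    | H w =>
      change (QuotientGroup.mk _ : W ⧸ X.subgroupOf W) = QuotientGroup.mk _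
      congr 1
      ext
      change ((1 : C) : G) * w * ((1 : C) : G)⁻¹ = w
      simp
  { toFun := fun c =>
      { toFun := f c
        invFun := f c⁻¹
        left_inv := fun x => by rw [← f1, inv_mul_cancel, f2]
        right_inv := fun x => by rw [← f1, mul_inv_cancel, f2]
        map_mul' := map_mul _ }
    map_one' := by
      ext x
      exact f2 x
    map_mul' := fun c d => by
      ext x
      exact f1 c d x }

theorem quoHom_apply (hW : C ≤ normalizer (W : Set G)) (hX : C ≤ normalizer (X : Set G))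
    [(X.subgroupOf W).Normal] (c : C) (w : W) :
    quoHom W X C hW hX c (QuotientGroup.mk w : W ⧸ X.subgroupOf W) =
      (QuotientGroup.mk (⟨c * w * (c : G)⁻¹, conj_mem_of_normalizer hW c.2 w.2⟩ : W) : W ⧸ X.subgroupOf W) := rfl

end build

namespace Fam

variable {T V : Subgroup G} {z : G} {cf : G → Subgroup G}

theorem z_mem_ww (h : Fam T V z cf) : z ∈ ww V cf z := h.V_le h.ln.z_mem

theorem exists_mrep [Finite G] (h : Fam T V z cf) : ∃ (M H : Type u) (_ : AddCommGroup M) (_ : Finite M) (_ : Group H)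
    (_ : Finite H) (_ : DistribMulAction H M) (_ : FaithfulSMul H M), Nonempty (MRep V cf z M H) := by
  classical
  set W := ww V cf z with hWd
  set X := zpowers z with hXd
  have hz := h.ln.z_mem
  have hz1 := h.ln.z_ne
  have hW : cf z ≤ normalizer (W : Set G) := h.cf_norm
  have hX : cf z ≤ normalizer (X : Set G) := by
    refine le_normalizer_of_forall fun c hc x hx => ?_
    obtain ⟨n, rfl⟩ := mem_zpowers_iff.mp hx
    have : Commute c (z ^ n) := (show Commute c z from h.cf_comm hz hz1 hc).zpow_right n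
    rw [this.eq, mul_inv_cancel_right]
    exact zpow_mem (mem_zpowers _) n
  have hWC : W ≤ cf z := h.ww_le_cf hz hz1
  have hn : (X.subgroupOf W).Normal := normal_subgroupOf_of_le_normalizer (hWC.trans hX)
  let Q := W ⧸ X.subgroupOf W
  let M := Additive Q
  have hcomm : ∀ a b : Q, a * b = b * a := by
    intro a b
    induction a using QuotientGroup.induction_on with
    | H a =>
      induction b using QuotientGroup.induction_on with
      | H b =>
        change (QuotientGroup.mk (a * b) : Q) = QuotientGroup.mk (b * a)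
        congr 1
        ext
        exact h.ab a a.2 b b.2
  let iQ : CommGroup Q := { (inferInstance : Group Q) with mul_comm := hcomm }
  let iM : AddCommGroup M := Additive.addCommGroup
  obtain ⟨Φ, hΦ⟩ : ∃ Φ : cf z →* MulAut Q, ∀ (c : cf z) (w : W), Φ c (QuotientGroup.mk w : Q) =
      QuotientGroup.mk (⟨c * w * (c : G)⁻¹, conj_mem_of_normalizer hW c.2 w.2⟩ : W) :=
    ⟨quoHom W X (cf z) hW hX, fun c w => rfl⟩
  obtain ⟨H, hH⟩ : ∃ H : Subgroup (MulAut Q), H = Φ.range := ⟨_, rfl⟩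
  have hX1 : ∀ x, x ∈ X ↔ x = 1 ∨ x = z := fun x => mem_zpowers_iff_of_mul_self h.ln.zz
  have hfin : Finite M := inferInstanceAs (Finite (W ⧸ X.subgroupOf W))
  have hfinA : Finite (MulAut Q) := Finite.of_injective (fun f : MulAut Q => (f : Q → Q)) DFunLike.coe_injective
  let iA : DistribMulAction H M :=
    { smul := fun x m => Additive.ofMul ((x : MulAut Q) m.toMul)
      one_smul := fun m => rfl
      mul_smul := fun x y m => rfl
      smul_zero := fun x => congrArg Additive.ofMul (map_one (x : MulAut Q))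
      smul_add := fun x m n => congrArg Additive.ofMul (map_mul (x : MulAut Q) m.toMul n.toMul) }
  have hmemH : ∀ c, Φ c ∈ H := fun c => by rw [hH]; exact MonoidHom.mem_range.mpr ⟨c, rfl⟩
  let piF : G → M := fun g => if hg : g ∈ W then Additive.ofMul (QuotientGroup.mk ⟨g, hg⟩) else 0
  let phiF : G → H := fun g => if hg : g ∈ cf z then ⟨Φ ⟨g, hg⟩, hmemH _⟩ else 1
  have piE : ∀ g (hg : g ∈ W), piF g = Additive.ofMul (QuotientGroup.mk ⟨g, hg⟩) := fun g hg => dif_pos hg
  have phiE : ∀ g (hg : g ∈ cf z), phiF g = ⟨Φ ⟨g, hg⟩, hmemH _⟩ := fun g hg => dif_pos hg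
  have key : ∀ c (hc : c ∈ cf z) w (hw : w ∈ W), Φ ⟨c, hc⟩ (QuotientGroup.mk ⟨w, hw⟩ : Q) =
      QuotientGroup.mk ⟨w, hw⟩ ↔ c * w * c⁻¹ * w⁻¹ ∈ X := by
    intro c hc w hw
    rw [hΦ, eq_comm, QuotientGroup.eq, mem_subgroupOf]
    change w⁻¹ * (c * w * c⁻¹) ∈ X ↔ _
    have hcw : c * w * c⁻¹ ∈ W := conj_mem_of_normalizer hW hc hw
    rw [h.ab w⁻¹ (inv_mem hw) _ hcw]
  refine ⟨M, H, iM, hfin, inferInstance, inferInstance, iA, ?_, ⟨?_⟩⟩
  · refine ⟨fun {a b} hab => Subtype.ext ?_⟩
    ext m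
    exact congrArg Additive.toMul (hab (Additive.ofMul m))
  · refine ⟨piF, phiF, ?_, ?_, ?_, ?_, ?_, ?_, ?_⟩
    · intro a ha b hb
      rw [piE a ha, piE b hb, piE _ (mul_mem ha hb)]
      rfl
    · intro m
      obtain ⟨w, hw⟩ := QuotientGroup.mk_surjective m.toMul
      refine ⟨w, w.2, ?_⟩
      rw [piE w w.2]
      exact congrArg Additive.ofMul hw
    · intro w hw
      rw [piE w hw]
      change (QuotientGroup.mk (⟨w, hw⟩ : W) : Q) = 1 ↔ _
      rw [QuotientGroup.eq_one_iff, mem_subgroupOf, hX1]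
    · intro c hc d hd
      rw [phiE c hc, phiE d hd, phiE _ (mul_mem hc hd)]
      apply Subtype.ext
      rw [Subgroup.coe_mul, ← map_mul]
      rfl
    · rintro ⟨x, hx⟩
      obtain ⟨c, rfl⟩ := MonoidHom.mem_range.mp (hH ▸ hx)
      exact ⟨c, c.2, phiE c c.2⟩
    · intro c hc
      rw [phiE c hc]
      constructor
      · intro e
        have e' : Φ ⟨c, hc⟩ = 1 := congrArg Subtype.val e
        refine ⟨hc, h.cf_comm hz hz1 hc, fun w hw => (key c hc w hw).mp ?_⟩
        rw [e']; rfl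
      · intro hq
        apply Subtype.ext
        change Φ ⟨c, hc⟩ = 1
        ext m
        obtain ⟨w, hw⟩ := QuotientGroup.mk_surjective m
        have hm : m = QuotientGroup.mk ⟨(w : G), w.2⟩ := hw.symm
        rw [hm]
        exact (key c hc w w.2).mpr (hq.2.2 w w.2)
    · intro c hc w hw
      rw [phiE c hc, piE w hw, piE _ (conj_mem_of_normalizer hW hc hw)]
      exact congrArg Additive.ofMul (hΦ ⟨c, hc⟩ ⟨w, hw⟩)

end Fam

namespace MRep

variable {T V : Subgroup G} {z : G} {cf : G → Subgroup G} {M H : Type u} [AddCommGroup M] [Group H]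
  [DistribMulAction H M]

theorem pi_one (R : MRep V cf z M H) (_ : Fam T V z cf) : R.pi 1 = 0 :=
  (R.pi_ker 1 (one_mem _)).mpr (Or.inl rfl)

theorem pi_z (R : MRep V cf z M H) (h : Fam T V z cf) : R.pi z = 0 :=
  (R.pi_ker z h.z_mem_ww).mpr (Or.inr rfl)

theorem pi_inv (R : MRep V cf z M H) (h : Fam T V z cf) {w : G} (hw : w ∈ ww V cf z) : R.pi w⁻¹ = - R.pi w := by
  have := R.pi_mul w hw w⁻¹ (inv_mem hw)
  rw [mul_inv_cancel, R.pi_one h] at this
  exact (neg_eq_of_add_eq_zero_right this.symm).symm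

theorem pi_eq (R : MRep V cf z M H) (h : Fam T V z cf) {a b : G} (ha : a ∈ ww V cf z) (hb : b ∈ ww V cf z) :
    R.pi a = R.pi b ↔ a = b ∨ a = z * b := by
  have e : R.pi (a * b⁻¹) = R.pi a - R.pi b := by
    rw [R.pi_mul a ha _ (inv_mem hb), R.pi_inv h hb, sub_eq_add_neg]
  rw [← sub_eq_zero, ← e, R.pi_ker _ (mul_mem ha (inv_mem hb)), mul_inv_eq_one, mul_inv_eq_iff_eq_mul]

theorem phi_one' (R : MRep V cf z M H) : R.phi 1 = 1 := by
  have := R.phi_mul 1 (one_mem _) 1 (one_mem _)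
  rw [mul_one] at this
  exact (mul_eq_left.mp this.symm)

theorem phi_inv (R : MRep V cf z M H) {c : G} (hc : c ∈ cf z) : R.phi c⁻¹ = (R.phi c)⁻¹ := by
  have := R.phi_mul c hc c⁻¹ (inv_mem hc)
  rw [mul_inv_cancel, R.phi_one'] at this
  exact (inv_eq_of_mul_eq_one_right this.symm).symm

theorem phi_eq (R : MRep V cf z M H) {c d : G} (hc : c ∈ cf z) (hd : d ∈ cf z) :
    R.phi c = R.phi d ↔ c * d⁻¹ ∈ qq V cf z := by
  rw [← R.phi_ker _ (mul_mem hc (inv_mem hd)), R.phi_mul c hc _ (inv_mem hd), R.phi_inv hd, mul_inv_eq_one]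

theorem two (R : MRep V cf z M H) (h : Fam T V z cf) (m : M) : m + m = 0 := by
  obtain ⟨w, hw, rfl⟩ := R.pi_surj m
  rw [← R.pi_mul w hw w hw, h.sqz w hw, R.pi_one h]

end MRep

end Cfsg.Agent.Omega.NO3S.Fit
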