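import Cfsg.Agent.Omega.NO3S.Fit.Fix
import Cfsg.Agent.Omega.NO3S.Fit.Rep

/-!
# NO-3S, `q = 2`, `n = 1` (helper311's text #13963): (4.6), the group part

`Fam.nine_core` : `E = jj V cf`, `|E / V| = 2`, `u ∈ E - V`, `C_G(V)` a 2-group, `K_z ∩ K_y = E`, `N_G(E) ≤ N_G(V)`, an element
`f ∈ cf z ∩ C_G(u)` with `y y^f y^{f²} ∈ u⟨z⟩`, `[y^f, b] ∈ {uy, us}` for `b ∈ W_y - Q_z`, and `Q_z` separates the elements of
`W_z / ⟨z⟩`: this is impossible (`J = C_G(u)`, `R = O₂(J)`).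
-/

set_option autoImplicit false
set_option linter.unusedSectionVars false

namespace Cfsg.Agent.Omega.NO3S.Fit

open Subgroup Cfsg Cfsg.Agent.ZN Cfsg.Agent.MinSimple.Geo Cfsg.Agent.Omega.CaseL
open Cfsg.Agent.ZN.Block (conj_mem_of_normalizer conj_mem_of_normalizer' le_normalizer_of_forall
  mem_normalizer_of)
open scoped commutatorElement

universe u

variable {G : Type u} [Group G]

/-- the centralizer of an involution is 2-local -/
theorem isTwoLocal_cent {u : G} (hu2 : u * u = 1) (hu1 : u ≠ 1) : IsTwoLocal (centralizer ({u} : Set G)) := by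
  refine ⟨zpowers u, isPGroup_zpowers hu2, ?_, ?_⟩
  · rw [Ne, zpowers_eq_bot]; exact hu1
  · ext g
    rw [mem_centralizer_singleton_iff]
    constructor
    · intro hg
      refine centralizer_le_normalizer _ (mem_centralizer_iff.mpr fun x hx => ?_)
      obtain ⟨m, rfl⟩ := mem_zpowers_iff.mp hx
      exact ((show Commute g u from hg).zpow_right m).eq.symm
    · intro hg
      have h1 : g * u * g⁻¹ ∈ zpowers u := (mem_normalizer_iff.mp hg u).mp (mem_zpowers u)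
      rcases (mem_zpowers_iff_of_mul_self hu2).mp h1 with e | e
      · exact absurd (conj_eq_one_iff.mp e) hu1
      · exact comm_of_conj_eq e

/-- a solvable group generated by its derived group and a central element is generated by this element -/
theorem eq_zpowers_of_commutator {N : Subgroup G} (hs : Group.IsSolvable N) {u : G} (huN : u ∈ N)
    (hu : ∀ x ∈ N, x * u = u * x) (h : ∀ x ∈ N, ∃ d ∈ ⁅N, N⁆, ∃ c ∈ zpowers u, x = d * c) :
    ∀ x ∈ N, x ∈ zpowers u := by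
  have hle : ⁅N, N⁆ ≤ ⁅⁅N, N⁆, ⁅N, N⁆⁆ := by
    rw [commutator_le]
    intro a ha b hb
    obtain ⟨d, hd, c, hc, rfl⟩ := h a ha
    obtain ⟨d', hd', c', hc', rfl⟩ := h b hb
    have hNN : ⁅N, N⁆ ≤ N := by
      rw [commutator_le]
      intro a ha b hb
      rw [commutatorElement_def]
      exact mul_mem (mul_mem (mul_mem ha hb) (inv_mem ha)) (inv_mem hb)
    have hcen : ∀ c ∈ zpowers u, ∀ x ∈ N, Commute c x := by
      intro c hc x hx
      obtain ⟨m, rfl⟩ := mem_zpowers_iff.mp hc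
      exact ((show Commute x u from hu x hx).zpow_right m).symm
    have hcN : ∀ c ∈ zpowers u, c ∈ N := fun c hc => by
      obtain ⟨m, rfl⟩ := mem_zpowers_iff.mp hc
      exact zpow_mem huN m
    have e : ⁅d * c, d' * c'⁆ = ⁅d, d'⁆ := by
      have e1 := (hcen c hc _ (hNN hd')).eq
      have e2 := (hcen c hc _ (hcN c' hc')).eq
      have e3 := (hcen c' hc' _ (hNN hd)).eq
      have e4 := (hcen c' hc' _ (hNN hd')).eq
      rw [commutatorElement_def, commutatorElement_def, mul_inv_rev, mul_inv_rev]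
      calc d * c * (d' * c') * (c⁻¹ * d⁻¹) * (c'⁻¹ * d'⁻¹)
          = d * (c * d') * c' * c⁻¹ * d⁻¹ * c'⁻¹ * d'⁻¹ := by group
        _ = d * d' * (c * c') * c⁻¹ * d⁻¹ * c'⁻¹ * d'⁻¹ := by rw [e1]; group
        _ = d * d' * c' * (c * c⁻¹) * d⁻¹ * c'⁻¹ * d'⁻¹ := by rw [e2]; group
        _ = d * d' * (c' * d⁻¹) * c'⁻¹ * d'⁻¹ := by group
        _ = d * d' * (d⁻¹ * c') * c'⁻¹ * d'⁻¹ := by
            rw [((hcen c' hc' _ (hNN hd)).inv_right).eq]
        _ = d * d' * d⁻¹ * d'⁻¹ := by group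
    rw [e]
    exact commutator_mem_commutator hd hd'
  -- `⁅N, N⁆ = ⊥`
  have hNN : ⁅N, N⁆ ≤ N := by
    rw [commutator_le]
    intro a ha b hb
    rw [commutatorElement_def]
    exact mul_mem (mul_mem (mul_mem ha hb) (inv_mem ha)) (inv_mem hb)
  have hbot : ⁅N, N⁆ = ⊥ := by
    by_contra hne
    set D := (⁅N, N⁆).subgroupOf N with hD
    have hmap : D.map N.subtype = ⁅N, N⁆ := by rw [hD, map_subgroupOf_eq_of_le hNN]
    have hD1 : D ≠ ⊥ := by
      intro e
      rw [e, Subgroup.map_bot] at hmap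
      exact hne hmap.symm
    have hlt := Group.IsSolvable.commutator_lt_of_ne_bot hD1
    have h2 : D ≤ ⁅D, D⁆ := by
      have h3 : D.map N.subtype ≤ (⁅D, D⁆).map N.subtype := by
        rw [map_commutator, hmap]; exact hle
      exact (map_le_map_iff_of_injective N.subtype_injective).mp h3
    exact absurd h2 (not_le_of_gt hlt)
  intro x hx
  obtain ⟨d, hd, c, hc, rfl⟩ := h x hx
  rw [hbot, mem_bot] at hd
  rw [hd, one_mul]; exact hc

namespace Fam

variable {T V : Subgroup G} {z : G} {cf : G → Subgroup G}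

/-- an element of `N_G(V)` can be corrected by `C_G(V)` to centralize `u ∈ I - V`, `|I / V| = 2` -/
theorem exists_adj [Finite G] (h : Fam T V z cf) {u : G} (hu : u ∈ jj V cf) (huV : u ∉ V)
    (hjj : ∀ e ∈ jj V cf, e ∈ V ∨ e * u⁻¹ ∈ V) {g : G} (hg : g ∈ normalizer (V : Set G)) :
    ∃ c ∈ centralizer (V : Set G), c * g ∈ centralizer ({u} : Set G) := by
  have h1 : g * u * g⁻¹ ∈ jj V cf := conj_mem_of_normalizer h.normalizer_le_normalizer_jj hg hu
  have h2 : g * u * g⁻¹ * u⁻¹ ∈ V := by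
    rcases hjj _ h1 with e | e
    · exfalso
      apply huV
      have := h.conj_pt' hg e
      have e' : g⁻¹ * (g * u * g⁻¹) * g = u := by group
      rwa [e'] at this
    · exact e
  obtain ⟨c, hc, hcu⟩ := h.four_of (le_refl (jj V cf)) h.normalizer_le_normalizer_jj hu huV hjj h2
  refine ⟨c, hc, ?_⟩
  rw [mem_centralizer_singleton_iff]
  refine comm_of_conj_eq ?_
  set v := g * u * g⁻¹ * u⁻¹ with hv
  have e1 : g * u * g⁻¹ = v * u := by rw [hv]; group
  calc c * g * u * (c * g)⁻¹ = c * (g * u * g⁻¹) * c⁻¹ := by group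
    _ = (c * v * c⁻¹) * (c * u * c⁻¹) := by rw [e1]; group
    _ = v * (v * u) := by rw [conj_eq_of_comm (h.V_comm h2 hc).symm, hcu]
    _ = u := by rw [← mul_assoc, h.ln.sq v h2, one_mul]

/-- **(4.6), the group part** -/
theorem nine_core [Finite G] (h : Fam T V z cf) {y : G} (hy : y ∈ V) (hy1 : y ≠ 1) (hyz : y ≠ z) {u f : G}
    (hu : u ∈ jj V cf) (huV : u ∉ V) (hjj : ∀ e ∈ jj V cf, e ∈ V ∨ e * u⁻¹ ∈ V) (hf : f ∈ cf z)
    (hfu : f * u = u * f)
    (hprod : y * (f * y * f⁻¹) * (f * (f * y * f⁻¹) * f⁻¹) = u ∨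
      y * (f * y * f⁻¹) * (f * (f * y * f⁻¹) * f⁻¹) = z * u)
    (hP1 : ∀ b ∈ ww V cf y, b ∉ qq V cf z → (f * y * f⁻¹) * b * (f * y * f⁻¹)⁻¹ * b⁻¹ = y * u ∨
      (f * y * f⁻¹) * b * (f * y * f⁻¹)⁻¹ * b⁻¹ = z * (y * u))
    (hP2 : f * y * f⁻¹ ∉ qq V cf y)
    (hdual : ∀ w ∈ ww V cf z, w = 1 ∨ w = z ∨ w = u ∨ w = z * u ∨
      ∃ q ∈ qq V cf z, q * u = u * q ∧ q * w * q⁻¹ = z * w)
    (hCV : IsPGroup 2 (centralizer (V : Set G))) (hKK : kk V cf z ⊓ kk V cf y ≤ jj V cf)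
    (h36 : ∀ g ∈ normalizer ((jj V cf : Subgroup G) : Set G), g ∈ normalizer (V : Set G)) : False := by
  classical
  have hfact : Fact (Nat.Prime 2) := ⟨Nat.prime_two⟩
  have hz := h.ln.z_mem
  have hz1 := h.ln.z_ne
  have hzy := Ne.symm hyz
  set J := centralizer ({u} : Set G) with hJ
  have hJm : ∀ {g : G}, g ∈ J ↔ g * u = u * g := mem_centralizer_singleton_iff
  have huz := Fam.jj_le (cf := cf) hz hz1 hu
  have huu : u * u = 1 := h.sq hz hz1 u huz
  have hu1 : u ≠ 1 := fun e => huV (by rw [e]; exact one_mem _)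
  have huJ : u ∈ J := hJm.mpr rfl
  set Jl := J ⊓ normalizer (V : Set G) with hJl
  set Tu := Jl ⊓ centralizer ({z} : Set G) with hTu
  set R := o2 J with hR
  have hRJ : R ≤ J := ZN.o2_le J
  have hR2 : IsPGroup 2 R := ZN.isPGroup_o2 J
  have hRn : J ≤ normalizer (R : Set G) := ZN.le_normalizer_o2 J
  have hRconj : ∀ {g r : G}, g ∈ J → r ∈ R → g * r * g⁻¹ ∈ R := fun hg hr => conj_mem_of_normalizer hRn hg hr
  have hRconj' : ∀ {g r : G}, g ∈ J → r ∈ R → g⁻¹ * r * g ∈ R := fun hg hr => conj_mem_of_normalizer' hRn hg hr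
  -- transitivity of `Jl`
  have htrans : ∀ {p q p' q' : G}, p ∈ V → p ≠ 1 → q ∈ V → q ≠ 1 → q ≠ p → p' ∈ V → p' ≠ 1 → q' ∈ V → q' ≠ 1 →
      q' ≠ p' → ∃ g ∈ Jl, g * p * g⁻¹ = p' ∧ g * q * g⁻¹ = q' := by
    intro p q p' q' hp hp1 hq hq1 hqp hp' hp1' hq' hq1' hqp'
    obtain ⟨g, hg, e1, e2⟩ := h.trans2 hp hp1 hq hq1 hqp hp' hp1' hq' hq1' hqp'
    obtain ⟨c, hc, hcg⟩ := h.exists_adj hu huV hjj hg
    refine ⟨c * g, mem_inf.mpr ⟨hcg, mul_mem (centralizer_le_normalizer _ hc) hg⟩, ?_, ?_⟩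
    · calc c * g * p * (c * g)⁻¹ = c * (g * p * g⁻¹) * c⁻¹ := by group
        _ = p' := by rw [e1, conj_eq_of_comm (h.V_comm hp' hc).symm]
    · calc c * g * q * (c * g)⁻¹ = c * (g * q * g⁻¹) * c⁻¹ := by group
        _ = q' := by rw [e2, conj_eq_of_comm (h.V_comm hq' hc).symm]
  have htrans1 : ∀ {p p' : G}, p ∈ V → p ≠ 1 → p' ∈ V → p' ≠ 1 → ∃ g ∈ Jl, g * p * g⁻¹ = p' := by
    intro p p' hp hp1 hp' hp1'
    obtain ⟨q, hq, hq1, hqp⟩ := h.exists_q hp hp1
    obtain ⟨q', hq', hq1', hqp'⟩ := h.exists_q hp' hp1'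
    obtain ⟨g, hg, e, -⟩ := htrans hp hp1 hq hq1 hqp hp' hp1' hq' hq1' hqp'
    exact ⟨g, hg, e⟩
  -- a 2-subgroup normal in `Jl` centralizes `V`
  have hnorm2 : ∀ D : Subgroup G, D ≤ Jl → IsPGroup 2 D → (∀ g ∈ Jl, ∀ d ∈ D, g * d * g⁻¹ ∈ D) →
      D ≤ centralizer (V : Set G) := by
    intro D hD hD2 hDn
    obtain ⟨c, hc, hcT⟩ := exists_cj_le_of_sylow h.ln.T_norm h.ln.two h.ln.T_syl' (hD.trans inf_le_right) hD2
    have hp : c⁻¹ * z * c ∈ V := h.conj_pt' hc hz
    have hp1 : c⁻¹ * z * c ≠ 1 := conj_ne' hz1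
    have h1 : ∀ d ∈ D, d * (c⁻¹ * z * c) = (c⁻¹ * z * c) * d := by
      intro d hd
      have h2 : c * d * c⁻¹ ∈ T := hcT (conj_mem_cj hd)
      have h3 := h.ln.z_comm (h.ln.T_le h2)
      calc d * (c⁻¹ * z * c) = c⁻¹ * ((c * d * c⁻¹) * z) * c := by group
        _ = c⁻¹ * (z * (c * d * c⁻¹)) * c := by rw [h3]
        _ = (c⁻¹ * z * c) * d := by group
    intro d hd
    rw [mem_centralizer_iff]
    intro v hv
    by_cases hv1 : v = 1
    · rw [hv1]; simp
    obtain ⟨g, hg, e⟩ := htrans1 hp hp1 hv hv1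
    have h2 : g⁻¹ * d * g ∈ D := by
      have := hDn g⁻¹ (inv_mem hg) d hd
      rwa [inv_inv] at this
    have h3 := h1 _ h2
    calc v * d = g * ((c⁻¹ * z * c) * (g⁻¹ * d * g)) * g⁻¹ := by rw [← e]; group
      _ = g * ((g⁻¹ * d * g) * (c⁻¹ * z * c)) * g⁻¹ := by rw [h3]
      _ = d * (g * (c⁻¹ * z * c) * g⁻¹) := by group
      _ = d * v := by rw [e]
  -- `Tu` is a 2-group
  have hTuz : ∀ {t : G}, t ∈ Tu → t * z = z * t := fun ht => mem_centralizer_singleton_iff.mp ht.2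
  have hTu2 : IsPGroup 2 Tu := by
    rintro ⟨t, ht⟩
    have htt : t * t ∈ centralizer (V : Set G) := by
      by_cases htV : t ∈ centralizer (V : Set G)
      · exact mul_mem htV htV
      · have hi : t⁻¹ ∉ centralizer (V : Set G) := fun e => htV (by simpa using inv_mem e)
        have := h.coset_of hz hz1 (inv_mem ht.1.2) (inv_comm_of (hTuz ht)) hi ht.1.2 (hTuz ht) htV
        rwa [inv_inv] at this
    obtain ⟨k, hk⟩ := hCV ⟨t * t, htt⟩
    refine ⟨k + 1, Subtype.ext ?_⟩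
    have hk' : (t * t) ^ 2 ^ k = 1 := congrArg Subtype.val hk
    change t ^ 2 ^ (k + 1) = 1
    rw [pow_succ', pow_mul, pow_two, hk']
  have hWTu : ∀ p ∈ V, p ≠ 1 → ww V cf p ≤ Tu := by
    intro p hp hp1 w hw
    have hwV := h.ww_le_cent hp hp1 hw
    refine mem_inf.mpr ⟨mem_inf.mpr ⟨hJm.mpr ?_, centralizer_le_normalizer _ hwV⟩, h.cent_le_cs hz hwV⟩
    exact h.comm hp hp1 w hw u (Fam.jj_le hp hp1 hu)
  have hjTu : jj V cf ≤ Tu := (Fam.jj_le hz hz1).trans (hWTu z hz hz1)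
  -- `[E, Tu] ≤ ⟨z⟩`
  have hE : ∀ e ∈ jj V cf, ∀ t ∈ Tu, t * e * t⁻¹ = e ∨ t * e * t⁻¹ = z * e := by
    intro e he t ht
    have htu : t * u * t⁻¹ = u := conj_eq_of_comm (hJm.mp ht.1.1)
    have hV : ∀ v ∈ V, t * v * t⁻¹ = v ∨ t * v * t⁻¹ = z * v := by
      intro v hv
      by_cases hv1 : v = 1
      · left; rw [hv1]; group
      exact h.ln.conj_cases hz hv hz1 (hTuz ht) ht.1.2
    rcases hjj e he with h1 | h1
    · exact hV e h1
    · have e1 : e = (e * u⁻¹) * u := by group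
      have e2 : t * e * t⁻¹ = (t * (e * u⁻¹) * t⁻¹) * u := by
        conv_lhs => rw [e1]
        calc t * ((e * u⁻¹) * u) * t⁻¹ = (t * (e * u⁻¹) * t⁻¹) * (t * u * t⁻¹) := by group
          _ = _ := by rw [htu]
      rcases hV _ h1 with e3 | e3
      · left; rw [e2, e3]; group
      · right; rw [e2, e3]; group
  -- (a) `V ∩ R = 1`
  have hVR : ∀ p ∈ V, p ∈ R → p = 1 := by
    intro p hp hpR
    by_contra hp1
    have hVR : V ≤ R := by
      intro v hv
      by_cases hv1 : v = 1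
      · rw [hv1]; exact one_mem _
      obtain ⟨g, hg, rfl⟩ := htrans1 hp hp1 hv hv1
      exact hRconj hg.1 hpR
    set N := wf V J with hN
    have hNR : N ≤ R := wf_le fun c hc x hx => by
      rw [mem_cj] at hx
      have := hRconj hc (hVR hx)
      have e : c * (c⁻¹ * x * c) * c⁻¹ = x := by group
      rwa [e] at this
    have hVN : V ≤ N := V_le_wf V J
    have hNconj : ∀ {g n : G}, g ∈ J → n ∈ N → g * n * g⁻¹ ∈ N := fun hg hn => conj_mem_wf hg hn
    have hN2 : IsPGroup 2 N := hR2.to_le hNR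
    have hfJ : f ∈ J := hJm.mpr hfu
    have hy2N : f * y * f⁻¹ ∈ N := hNconj hfJ (hVN hy)
    have hy3N : f * (f * y * f⁻¹) * f⁻¹ ∈ N := hNconj hfJ hy2N
    have huN : u ∈ N := by
      have h1 := mul_mem (mul_mem (hVN hy) hy2N) hy3N
      rcases hprod with e | e
      · rwa [e] at h1
      · rw [e] at h1
        have h2 := mul_mem (hVN hz) h1
        rwa [← mul_assoc, h.ln.zz, one_mul] at h2
    -- the commutator `[y2, y2^g] = u s`
    obtain ⟨g, hg, e1, e2⟩ := htrans hz hz1 hy hy1 hyz hy hy1 hz hz1 hzy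
    have hgu : g * u * g⁻¹ = u := conj_eq_of_comm (hJm.mp hg.1)
    have hgu' : g⁻¹ * u * g = u := by
      calc g⁻¹ * u * g = g⁻¹ * (g * u * g⁻¹) * g := by rw [hgu]
        _ = u := by group
    set y2 := f * y * f⁻¹ with hy2
    have hy2W : y2 ∈ ww V cf z := conj_mem_wf hf (h.V_le hy)
    have hy2' : g * y2 * g⁻¹ ∈ ww V cf y := by
      have := h.conj_ww hg.2 hz hz1 hy2W
      rwa [e1] at this
    have hnq : g * y2 * g⁻¹ ∉ qq V cf z := by
      intro e
      apply hP2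
      have h3 := h.conj_qq (inv_mem hg.2) hz hz1 e
      have e3 : g⁻¹ * z * g⁻¹⁻¹ = y := by rw [← e2]; group
      have e4 : g⁻¹ * (g * y2 * g⁻¹) * g⁻¹⁻¹ = y2 := by group
      rwa [e3, e4] at h3
    have hc1 := hP1 _ hy2' hnq
    -- the same with `g⁻¹ y2 g`
    have hy2'' : g⁻¹ * y2 * g ∈ ww V cf y := by
      have := h.conj_ww (inv_mem hg.2) hz hz1 hy2W
      have e3 : g⁻¹ * z * g⁻¹⁻¹ = y := by rw [← e2]; group
      rwa [e3, inv_inv] at this
    have hnq' : g⁻¹ * y2 * g ∉ qq V cf z := by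
      intro e
      apply hP2
      have h3 := h.conj_qq hg.2 hz hz1 e
      have e4 : g * (g⁻¹ * y2 * g) * g⁻¹ = y2 := by group
      rwa [e1, e4] at h3
    have hc2 := hP1 _ hy2'' hnq'
    -- conjugate by `g`
    have hgy : g * (y * u) * g⁻¹ = z * u := by
      calc g * (y * u) * g⁻¹ = (g * y * g⁻¹) * (g * u * g⁻¹) := by group
        _ = z * u := by rw [e2, hgu]
    have hgzy : g * (z * (y * u)) * g⁻¹ = y * (z * u) := by
      calc g * (z * (y * u)) * g⁻¹ = (g * z * g⁻¹) * (g * (y * u) * g⁻¹) := by group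
        _ = y * (z * u) := by rw [e1, hgy]
    have hc3 : (g * y2 * g⁻¹) * y2 * (g * y2 * g⁻¹)⁻¹ * y2⁻¹ = z * u ∨
        (g * y2 * g⁻¹) * y2 * (g * y2 * g⁻¹)⁻¹ * y2⁻¹ = y * (z * u) := by
      have e5 : (g * y2 * g⁻¹) * y2 * (g * y2 * g⁻¹)⁻¹ * y2⁻¹ =
          g * (y2 * (g⁻¹ * y2 * g) * y2⁻¹ * (g⁻¹ * y2 * g)⁻¹) * g⁻¹ := by group
      rcases hc2 with e | e
      · left; rw [e5, e, hgy]
      · right; rw [e5, e, hgzy]
    have hinv : (g * y2 * g⁻¹) * y2 * (g * y2 * g⁻¹)⁻¹ * y2⁻¹ =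
        (y2 * (g * y2 * g⁻¹) * y2⁻¹ * (g * y2 * g⁻¹)⁻¹)⁻¹ := by group
    have hVu : ∀ v ∈ V, v * u = u * v := fun v hv => h.comm hz hz1 v (h.V_le hv) u huz
    have hsqv : ∀ v ∈ V, (v * u)⁻¹ = v * u := by
      intro v hv
      rw [mul_inv_rev, inv_eq_self huu, h.ln.inv_eq hv, hVu v hv]
    have hs : y2 * (g * y2 * g⁻¹) * y2⁻¹ * (g * y2 * g⁻¹)⁻¹ = z * (y * u) := by
      rcases hc1 with e | e
      · exfalso
        rw [hinv, e, hsqv y hy] at hc3
        rcases hc3 with e' | e'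
        · exact hyz (mul_right_cancel e')
        · have : u = z * u := by
            have := mul_left_cancel (a := y) (b := u) (c := z * u) e'
            exact this
          exact hz1 (by simpa using this.symm)
      · exact e
    -- `S = ⁅N, N⁆ ⟨u⟩`
    have hNJ : N ≤ J := hNR.trans hRJ
    have hNN : ⁅N, N⁆ ≤ N := by
      rw [commutator_le]
      intro a ha b hb
      rw [commutatorElement_def]
      exact mul_mem (mul_mem (mul_mem ha hb) (inv_mem ha)) (inv_mem hb)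
    have hcen : ∀ c ∈ zpowers u, ∀ d ∈ N, c * d = d * c := by
      intro c hc d hd
      obtain ⟨m, rfl⟩ := mem_zpowers_iff.mp hc
      exact ((show Commute d u from hJm.mp (hNJ hd)).zpow_right m).eq.symm
    let S : Subgroup G :=
      { carrier := {x | ∃ d ∈ ⁅N, N⁆, ∃ c ∈ zpowers u, x = d * c}
        mul_mem' := by
          rintro _ _ ⟨d, hd, c, hc, rfl⟩ ⟨d', hd', c', hc', rfl⟩
          refine ⟨d * d', mul_mem hd hd', c * c', mul_mem hc hc', ?_⟩
          calc d * c * (d' * c') = d * (c * d') * c' := by group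
            _ = d * d' * (c * c') := by rw [hcen c hc d' (hNN hd')]; group
        one_mem' := ⟨1, one_mem _, 1, one_mem _, by rw [one_mul]⟩
        inv_mem' := by
          rintro _ ⟨d, hd, c, hc, rfl⟩
          refine ⟨d⁻¹, inv_mem hd, c⁻¹, inv_mem hc, ?_⟩
          rw [mul_inv_rev, hcen _ (inv_mem hc) _ (inv_mem (hNN hd))] }
    have hNS' : ⁅N, N⁆ ≤ S := fun x hx => ⟨x, hx, 1, one_mem _, by rw [mul_one]⟩
    have huS : zpowers u ≤ S := fun x hx => ⟨1, one_mem _, x, hx, by rw [one_mul]⟩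
    have hcomS : z * (y * u) ∈ ⁅N, N⁆ := by
      rw [← hs]
      have := commutator_mem_commutator hy2N (hNconj hg.1 hy2N)
      rwa [commutatorElement_def] at this
    have hsS : z * y ∈ S := by
      have h1 : z * (y * u) * u ∈ S := mul_mem (hNS' hcomS) (huS (mem_zpowers u))
      have e : z * (y * u) * u = z * y := by
        calc z * (y * u) * u = z * y * (u * u) := by group
          _ = z * y := by rw [huu, mul_one]
      rwa [e] at h1
    have hSn : ∀ {g x : G}, g ∈ J → x ∈ S → g * x * g⁻¹ ∈ S := by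
      rintro g _ hg ⟨d, hd, c, hc, rfl⟩
      have hle : ⁅N, N⁆ ≤ cj g⁻¹ ⁅N, N⁆ := by
        rw [commutator_le]
        intro a ha b hb
        rw [mem_cj, inv_inv]
        have e : g * ⁅a, b⁆ * g⁻¹ = ⁅g * a * g⁻¹, g * b * g⁻¹⁆ := by
          rw [commutatorElement_def, commutatorElement_def]; group
        rw [e]
        exact commutator_mem_commutator (hNconj hg ha) (hNconj hg hb)
      have h1 := mem_cj.mp (hle hd)
      rw [inv_inv] at h1
      refine ⟨_, h1, c, hc, ?_⟩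
      have h2 : g * c * g⁻¹ = c := by
        obtain ⟨m, rfl⟩ := mem_zpowers_iff.mp hc
        exact conj_eq_of_comm ((show Commute g u from hJm.mp hg).zpow_right m).eq
      calc g * (d * c) * g⁻¹ = (g * d * g⁻¹) * (g * c * g⁻¹) := by group
        _ = _ := by rw [h2]
    have hsV : z * y ∈ V := mul_mem hz hy
    have hs1 : z * y ≠ 1 := h.mul_ne_one hy hzy
    have hVS : V ≤ S := by
      intro v hv
      by_cases hv1 : v = 1
      · rw [hv1]; exact one_mem _
      obtain ⟨g, hg, rfl⟩ := htrans1 hsV hs1 hv hv1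
      exact hSn hg.1 hsS
    have hNS : N ≤ S := wf_le fun c hc x hx => by
      rw [mem_cj] at hx
      have := hSn hc (hVS hx)
      have e : c * (c⁻¹ * x * c) * c⁻¹ = x := by group
      rwa [e] at this
    have hsol : Group.IsSolvable N := by
      have : Group.IsNilpotent N := hN2.isNilpotent
      infer_instance
    have hall := eq_zpowers_of_commutator hsol huN (fun x hx => hJm.mp (hNJ hx)) (fun x hx => hNS hx)
    rcases (mem_zpowers_iff_of_mul_self huu).mp (hall z (hVN hz)) with e | e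
    · exact hz1 e
    · exact huV (by rw [← e]; exact hz)
  have hVR' : ∀ p ∈ V, p ≠ 1 → p ∉ R := fun p hp hp1 e => hp1 (hVR p hp e)
  -- `u ∈ R`, `C_J(R) ≤ R`
  have huR : u ∈ R := by
    have h1 : zpowers u ≤ o2 J := by
      refine ZN.le_o2 ?_ (isPGroup_zpowers huu) ?_
      · rw [zpowers_le]; exact huJ
      · refine le_normalizer_of_forall fun g hg x hx => ?_
        obtain ⟨m, rfl⟩ := mem_zpowers_iff.mp hx
        rw [conj_eq_of_comm ((show Commute g u from hJm.mp hg).zpow_right m).eq]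
        exact hx
    exact h1 (mem_zpowers u)
  have hCJR : ∀ x ∈ J, (∀ r ∈ R, r * x = x * r) → x ∈ R := by
    intro x hx hxR
    exact inf_centralizer_o2_le h.ln.charTwo (isTwoLocal_cent huu hu1) ⟨hx, mem_centralizer_iff.mpr hxR⟩
  -- `R ∩ Jl ≤ C_G(V)`
  have hR0 : R ⊓ Jl ≤ centralizer (V : Set G) := by
    refine hnorm2 (R ⊓ Jl) inf_le_right (hR2.to_le inf_le_left) fun g hg d hd => ?_
    exact mem_inf.mpr ⟨hRconj hg.1 hd.1, mul_mem (mul_mem hg hd.2) (inv_mem hg)⟩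
  have hVJ : V ≤ J := fun v hv => hJm.mpr (h.comm hz hz1 v (h.V_le hv) u huz)
  have hRnot : ¬ R ≤ Jl := by
    intro hle
    refine hVR' z hz hz1 (hCJR z (hVJ hz) fun r hr => ?_)
    exact (h.V_comm hz (hR0 ⟨hr, hle hr⟩)).symm
  -- `t ∈ N_R(Tu) - Tu`
  obtain ⟨t, htR, htn, htT⟩ : ∃ t ∈ R, t ∈ normalizer (Tu : Set G) ∧ t ∉ Tu := by
    have hTuJ : Tu ≤ J := inf_le_left.trans inf_le_left
    have hP : IsPGroup 2 ↥(R ⊔ Tu) := hR2.to_sup_of_normal_left' hTu2 (hTuJ.trans hRn)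
    have hlt : Tu.subgroupOf (R ⊔ Tu) < ⊤ := by
      refine lt_of_le_of_ne le_top fun e => hRnot ?_
      have := subgroupOf_eq_top.mp e
      exact (le_sup_left.trans this).trans inf_le_left
    have : Group.IsNilpotent ↥(R ⊔ Tu) := hP.isNilpotent
    have h1 := Group.normalizerCondition_of_isNilpotent (G := ↥(R ⊔ Tu)) _ hlt
    obtain ⟨x, hx, hxT⟩ := SetLike.exists_of_lt h1
    have hTle : Tu ≤ R ⊔ Tu := le_sup_right
    have hxn : (x : G) ∈ normalizer (Tu : Set G) := by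
      rw [mem_normalizer_iff] at hx ⊢
      intro t
      constructor
      · intro ht
        have := (hx ⟨t, hTle ht⟩).mp (mem_subgroupOf.mpr ht)
        exact mem_subgroupOf.mp this
      · intro ht
        have h2 : (x : G) * t * (x : G)⁻¹ ∈ R ⊔ Tu := hTle ht
        have h3 : t ∈ R ⊔ Tu := by
          have := mul_mem (mul_mem (inv_mem x.2) h2) x.2
          have e : (x : G)⁻¹ * (x * t * (x : G)⁻¹) * x = t := by group
          rwa [e] at this
        have := (hx ⟨t, h3⟩).mpr (mem_subgroupOf.mpr ht)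
        exact mem_subgroupOf.mp this
    -- `x = r τ`
    obtain ⟨r, hr, τ, hτ, e⟩ : ∃ r ∈ R, ∃ τ ∈ Tu, (x : G) = r * τ := by
      let Q : Subgroup G :=
        { carrier := {g | ∃ r ∈ R, ∃ τ ∈ Tu, g = r * τ}
          mul_mem' := by
            rintro _ _ ⟨r, hr, τ, hτ, rfl⟩ ⟨r', hr', τ', hτ', rfl⟩
            refine ⟨r * (τ * r' * τ⁻¹), mul_mem hr (hRconj (hTuJ hτ) hr'), τ * τ', mul_mem hτ hτ', by group⟩
          one_mem' := ⟨1, one_mem _, 1, one_mem _, by rw [one_mul]⟩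
          inv_mem' := by
            rintro _ ⟨r, hr, τ, hτ, rfl⟩
            refine ⟨τ⁻¹ * r⁻¹ * τ, hRconj' (hTuJ hτ) (inv_mem hr), τ⁻¹, inv_mem hτ, by group⟩ }
      have hQ : R ⊔ Tu ≤ Q := sup_le (fun r hr => ⟨r, hr, 1, one_mem _, by rw [mul_one]⟩)
        (fun τ hτ => ⟨1, one_mem _, τ, hτ, by rw [one_mul]⟩)
      exact hQ x.2
    refine ⟨r, hr, ?_, ?_⟩
    · have e1 : r = x * τ⁻¹ := by rw [e]; group
      rw [e1]
      exact mul_mem hxn (inv_mem (le_normalizer hτ))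
    · intro hrT
      apply hxT
      rw [mem_subgroupOf, e]
      exact mul_mem hrT hτ
  have htJ : t ∈ J := hRJ htR
  -- (b)
  have hbz : ∀ w ∈ ww V cf z, w ∈ R → w = 1 ∨ w = u := by
    intro w hw hwR
    rcases hdual w hw with e | e | e | e | ⟨q, hq, hqu, e⟩
    · exact Or.inl e
    · exact absurd (by rw [← e]; exact hwR) (hVR' z hz hz1)
    · exact Or.inr e
    · exfalso
      apply hVR' z hz hz1
      have h1 := mul_mem hwR huR
      rw [e] at h1
      have e2 : z * u * u = z := by rw [mul_assoc, huu, mul_one]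
      rwa [e2] at h1
    · exfalso
      apply hVR' z hz hz1
      have h1 := mul_mem (hRconj (hJm.mpr hqu) hwR) (inv_mem hwR)
      rw [e] at h1
      have e2 : z * w * w⁻¹ = z := by group
      rwa [e2] at h1
  have hb : ∀ p ∈ V, p ≠ 1 → ∀ w ∈ ww V cf p, w ∈ R → w = 1 ∨ w = u := by
    intro p hp hp1 w hw hwR
    obtain ⟨g, hg, e⟩ := htrans1 hp hp1 hz hz1
    have h1 := h.conj_ww hg.2 hp hp1 hw
    rw [e] at h1
    rcases hbz _ h1 (hRconj hg.1 hwR) with e1 | e1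
    · exact Or.inl (conj_eq_one_iff.mp e1)
    · right
      have h2 : g * u * g⁻¹ = u := conj_eq_of_comm (hJm.mp hg.1)
      rw [← h2] at e1
      have := mul_right_cancel e1
      exact mul_left_cancel this
  -- (c)
  have hWJ : ∀ p ∈ V, p ≠ 1 → ww V cf p ≤ J := fun p hp hp1 => (hWTu p hp hp1).trans (inf_le_left.trans inf_le_left)
  have hc : ∀ e ∈ jj V cf, ∀ p ∈ V, p ≠ 1 → ∀ w ∈ ww V cf p, w * (t * e * t⁻¹) = (t * e * t⁻¹) * w := by
    intro e he p hp hp1 w hw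
    set r := t * e * t⁻¹ * e⁻¹ with hr
    have heT := hjTu he
    have hrT : r ∈ Tu := mul_mem ((mem_normalizer_iff.mp htn e).mp heT) (inv_mem heT)
    have heJ : e ∈ J := heT.1.1
    have hrR : r ∈ R := by
      have e1 : r = t * (e * t⁻¹ * e⁻¹) := by rw [hr]; group
      rw [e1]
      exact mul_mem htR (hRconj heJ (inv_mem htR))
    have hrV : r ∈ centralizer (V : Set G) := hR0 ⟨hrR, hrT.1⟩
    have hew : e * w = w * e := h.comm hp hp1 e (Fam.jj_le hp hp1 he) w hw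
    have e' : t * e * t⁻¹ = r * e := by rw [hr]; group
    -- `[r, w] ∈ R ∩ W_p`
    have h1 : r * w * r⁻¹ * w⁻¹ ∈ ww V cf p :=
      mul_mem (conj_mem_of_normalizer (h.cent_norm hp hp1) hrV hw) (inv_mem hw)
    have h2 : r * w * r⁻¹ * w⁻¹ ∈ R := by
      have e1 : r * w * r⁻¹ * w⁻¹ = r * (w * r⁻¹ * w⁻¹) := by group
      rw [e1]
      exact mul_mem hrR (hRconj (hWJ p hp hp1 hw) (inv_mem hrR))
    have h3 : (t * e * t⁻¹) * w * (t * e * t⁻¹)⁻¹ * w⁻¹ = r * w * r⁻¹ * w⁻¹ := by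
      rw [e']
      calc r * e * w * (r * e)⁻¹ * w⁻¹ = r * (e * w) * e⁻¹ * r⁻¹ * w⁻¹ := by group
        _ = r * w * r⁻¹ * w⁻¹ := by rw [hew]; group
    -- `[e^t, w] ∈ ⟨z⟩^t`
    have hwT := hWTu p hp hp1 hw
    have hwT' : t⁻¹ * w * t ∈ Tu := (mem_normalizer_iff''.mp htn w).mp hwT
    have h4 : (t * e * t⁻¹) * w * (t * e * t⁻¹)⁻¹ * w⁻¹ =
        t * (e * ((t⁻¹ * w * t) * e⁻¹ * (t⁻¹ * w * t)⁻¹)) * t⁻¹ := by group
    have hee : e⁻¹ = e := h.inv_ww hz hz1 (Fam.jj_le hz hz1 he)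
    have heee : e * e = 1 := h.sq hz hz1 e (Fam.jj_le hz hz1 he)
    have h5 : (t * e * t⁻¹) * w * (t * e * t⁻¹)⁻¹ * w⁻¹ = 1 := by
      rcases hE e he _ hwT' with e1 | e1
      · rw [h4, hee, e1, heee]; group
      · have e2 : (t * e * t⁻¹) * w * (t * e * t⁻¹)⁻¹ * w⁻¹ = t * z * t⁻¹ := by
          have hez : e * z = z * e := h.comm hz hz1 e (Fam.jj_le hz hz1 he) z (h.V_le hz)
          have e3 : e * (z * e) = z := by
            rw [← mul_assoc, hez, mul_assoc, heee, mul_one]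
          rw [h4, hee, e1, e3]
        rcases hb p hp hp1 _ h1 h2 with e3 | e3
        · rw [h3, e3]
        · exfalso
          rw [h3, e3] at e2
          -- `u = t z t⁻¹`
          have htu : t * u * t⁻¹ = u := conj_eq_of_comm (hJm.mp htJ)
          rw [← htu] at e2
          have e4 : u = z := mul_left_cancel (mul_right_cancel e2)
          exact huV (by rw [e4]; exact hz)
    have h6 := mul_inv_eq_one.mp h5
    exact (mul_inv_eq_iff_eq_mul.mp h6).symm
  -- `t ∈ N_G(E)`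
  have htE : t ∈ normalizer ((jj V cf : Subgroup G) : Set G) := by
    have hle : cj t (jj V cf) ≤ jj V cf := by
      intro x hx
      rw [mem_cj] at hx
      have e1 : x = t * (t⁻¹ * x * t) * t⁻¹ := by group
      refine hKK (mem_inf.mpr ⟨mem_centralizer_iff.mpr fun w hw => ?_, mem_centralizer_iff.mpr fun w hw => ?_⟩)
      · rw [e1]; exact hc _ hx z hz hz1 w hw
      · rw [e1]; exact hc _ hx y hy hy1 w hw
    rw [mem_normalizer_iff_cj]
    exact eq_of_le_of_card_ge hle (by rw [card_cj])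
  have htV := h36 t htE
  have ht0 : t ∈ centralizer (V : Set G) := hR0 ⟨htR, mem_inf.mpr ⟨htJ, htV⟩⟩
  exact htT (mem_inf.mpr ⟨mem_inf.mpr ⟨htJ, htV⟩, h.cent_le_cs hz ht0⟩)

end Fam

end Cfsg.Agent.Omega.NO3S.Fit
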