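import Cfsg.Agent.Omega.NO3S.Fit.PlaneCore

/-!
# LEMMA PLANE: the seven conjugates of `W` form a `PForm`; the group `F_E`

`Mov.pform`; `FF = ⟨W_p⟩`, `ZF = Z(FF)`; `cm_mem` : `[C_G(W), FF] ≤ ZF`;
`comm_conj` : for all `s ∈ C` and `g = s a s⁻¹`, the involution `g a g⁻¹` centralises `E`.
-/

set_option autoImplicit false
set_option linter.unusedSectionVars false

namespace Cfsg.Agent.Omega.NO3S.Fit.PlaneCore

open Subgroup Cfsg Cfsg.Agent.MinSimple.Geo Cfsg.Agent.Omega.NO3S.Fit.PlaneForm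

universe u

variable {G : Type u} [Group G]

theorem of_cj {g x : G} {A : Subgroup G} (hx : x ∈ cj g A) : ∃ w ∈ A, x = g * w * g⁻¹ :=
  ⟨g⁻¹ * x * g, mem_cj.mp hx, by group⟩

/-! ### Coordinates -/

/-- `x^i`, `i ∈ 𝔽₂` -/
def pw (x : G) (i : ZMod 2) : G := if i = 0 then 1 else x

theorem zcases : ∀ i : ZMod 2, i = 0 ∨ i = 1 := by decide

theorem pw_zero (x : G) : pw x 0 = 1 := if_pos rfl

theorem pw_one (x : G) : pw x 1 = x := if_neg (by decide)

theorem pw_add {x : G} (hx : x * x = 1) (i j : ZMod 2) : pw x (i + j) = pw x i * pw x j := by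
  rcases zcases i with rfl | rfl <;> rcases zcases j with rfl | rfl
  · rw [add_zero, pw_zero, one_mul]
  · rw [zero_add, pw_zero, one_mul]
  · rw [add_zero, pw_zero, mul_one]
  · rw [show (1 : ZMod 2) + 1 = 0 by decide, pw_zero, pw_one, hx]

/-- coordinates of `E = ⟨z, y, u⟩` -/
def ee (z y u : G) (v : V3) : G := pw z v.1 * pw y v.2.1 * pw u v.2.2

namespace Mov

variable {V E C Q W WY : Subgroup G} {z y a f u : G} (h : Mov V E C Q W WY z y a f)
  (hu : u ∈ E) (huV : u ∉ V)

include h in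
theorem pw_mem {x : G} (hx : x ∈ E) (i : ZMod 2) : pw x i ∈ E := by
  rcases zcases i with rfl | rfl
  · rw [pw_zero]; exact E.one_mem
  · rwa [pw_one]

include h hu

theorem ee_mem (v : V3) : ee z y u v ∈ E :=
  E.mul_mem (E.mul_mem (h.pw_mem h.zE _) (h.pw_mem h.yE _)) (h.pw_mem hu _)

theorem ee_add (v w : V3) : ee z y u (v + w) = ee z y u v * ee z y u w := by
  unfold ee
  change pw z (v.1 + w.1) * pw y (v.2.1 + w.2.1) * pw u (v.2.2 + w.2.2) = _
  rw [pw_add h.zz, pw_add h.yy, pw_add (h.sqE u hu)]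
  have c1 := h.commE (h.pw_mem h.zE w.1) (h.pw_mem h.yE v.2.1)
  have c2 := h.commE (h.pw_mem h.zE w.1) (h.pw_mem hu v.2.2)
  have c3 := h.commE (h.pw_mem h.yE w.2.1) (h.pw_mem hu v.2.2)
  generalize pw z v.1 = z1 at *
  generalize pw z w.1 = z2 at *
  generalize pw y v.2.1 = y1 at *
  generalize pw y w.2.1 = y2 at *
  generalize pw u v.2.2 = u1 at *
  generalize pw u w.2.2 = u2 at *
  calc z1 * z2 * (y1 * y2) * (u1 * u2) = z1 * (z2 * y1) * (y2 * u1) * u2 := by group
    _ = z1 * (y1 * z2) * (u1 * y2) * u2 := by rw [c1, c3]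
    _ = z1 * y1 * (z2 * u1) * y2 * u2 := by group
    _ = z1 * y1 * (u1 * z2) * y2 * u2 := by rw [c2]
    _ = z1 * y1 * u1 * (z2 * y2 * u2) := by group

omit h hu in
theorem ee_x : ee z y u ((1, 0, 0) : V3) = z := by
  unfold ee
  rw [pw_one, pw_zero, pw_zero, mul_one, mul_one]

include huV

theorem ee_inj_one {v : V3} (hv : ee z y u v = 1) : v = 0 := by
  obtain ⟨i, j, k⟩ := v
  unfold ee at hv
  simp only at hv
  have hi : pw z i ∈ V := by
    rcases zcases i with rfl | rfl
    · rw [pw_zero]; exact V.one_mem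
    · rw [pw_one]; exact h.zV
  have hj : pw y j ∈ V := by
    rcases zcases j with rfl | rfl
    · rw [pw_zero]; exact V.one_mem
    · rw [pw_one]; exact h.yV
  rcases zcases k with rfl | rfl
  · rw [pw_zero, mul_one] at hv
    rcases zcases j with rfl | rfl
    · rw [pw_zero, mul_one] at hv
      rcases zcases i with rfl | rfl
      · rfl
      · rw [pw_one] at hv
        exact absurd hv h.z1
    · exfalso
      rw [pw_one] at hv
      rcases zcases i with rfl | rfl
      · rw [pw_zero, one_mul] at hv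
        exact h.y1 hv
      · rw [pw_one] at hv
        apply h.yz
        have h1 : y = z⁻¹ := (inv_eq_of_mul_eq_one_right hv).symm
        rw [h1]
        exact inv_eq_of_mul_eq_one_left h.zz
  · exfalso
    apply huV
    rw [pw_one] at hv
    have h1 : u = (pw z i * pw y j)⁻¹ := (inv_eq_of_mul_eq_one_right hv).symm
    rw [h1]
    exact V.inv_mem (V.mul_mem hi hj)

theorem ee_inj : Function.Injective (ee z y u) := by
  intro v w hvw
  have h1 : ee z y u (v + w) = 1 := by
    rw [h.ee_add hu, hvw]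
    exact h.sqE _ (h.ee_mem hu w)
  have h2 := h.ee_inj_one hu huV h1
  have h3 : v + w + w = w := by rw [h2, zero_add]
  rwa [add_assoc, add_self, add_zero] at h3

theorem ee_surj {x : G} (hx : x ∈ E) : ∃ v, ee z y u v = x := by
  have key : ∀ x ∈ V, ∃ v, ee z y u v = x := by
    intro x hx
    rcases h.four x hx with rfl | rfl | rfl | rfl
    · exact ⟨(0, 0, 0), by unfold ee; simp [pw_zero]⟩
    · exact ⟨(1, 0, 0), ee_x⟩
    · exact ⟨(0, 1, 0), by unfold ee; simp [pw_zero, pw_one]⟩
    · exact ⟨(1, 1, 0), by unfold ee; simp [pw_zero, pw_one]⟩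
  by_cases hxV : x ∈ V
  · exact key x hxV
  · obtain ⟨v, hv⟩ := key _ (h.idx u hu x hx huV hxV)
    refine ⟨(0, 0, 1) + v, ?_⟩
    have h1 : ee z y u ((0, 0, 1) : V3) = u := by
      unfold ee
      simp [pw_zero, pw_one]
    rw [h.ee_add hu, h1, hv, ← mul_assoc, h.sqE u hu, one_mul]

omit h hu huV in
/-- an element of `N(E)` moving `z` to `e p` -/
noncomputable def gp (E : Subgroup G) (z y u : G) (p : V3) : G := by
  classical
  exact if h : ∃ g ∈ normalizer (E : Set G), g * z * g⁻¹ = ee z y u p then h.choose else 1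

omit h hu huV in
/-- `W_p` -/
noncomputable def wp (E W : Subgroup G) (z y u : G) (p : V3) : Subgroup G := cj (gp E z y u p) W

omit h hu huV in
/-- `a_p` -/
noncomputable def ap (E : Subgroup G) (z y u a : G) (p : V3) : G :=
  gp E z y u p * a * (gp E z y u p)⁻¹

variable [Finite G]

theorem gp_spec {p : V3} (hp : p ≠ 0) : gp E z y u p ∈ normalizer (E : Set G) ∧
    gp E z y u p * z * (gp E z y u p)⁻¹ = ee z y u p := by
  have hex : ∃ g ∈ normalizer (E : Set G), g * z * g⁻¹ = ee z y u p :=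
    h.tr_E (h.ee_mem hu p) (fun h1 => hp (h.ee_inj_one hu huV h1))
  unfold gp
  rw [dif_pos hex]
  exact hex.choose_spec

theorem wp_eq {p : V3} (hp : p ≠ 0) {g : G} (hg : g ∈ normalizer (E : Set G))
    (hz : g * z * g⁻¹ = ee z y u p) : wp E W z y u p = cj g W := by
  obtain ⟨h1, h2⟩ := h.gp_spec hu huV hp
  exact h.cj_W_eq h1 hg (h2.trans hz.symm)

theorem wp_eq_y {p : V3} (hp : p ≠ 0) {g : G} (hg : g ∈ normalizer (E : Set G))
    (hy : g * y * g⁻¹ = ee z y u p) : wp E W z y u p = cj g WY := by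
  obtain ⟨k, hk, hkz⟩ := h.tr y h.yV h.y1
  rw [← h.WYdef k hk hkz, cj_cj]
  refine h.wp_eq hu huV hp (mul_mem hg (h.NE hk)) ?_
  have e : g * k * z * (g * k)⁻¹ = g * (k * z * k⁻¹) * g⁻¹ := by group
  rw [e, hkz, hy]

theorem wp_x : wp E W z y u (1, 0, 0) = W := by
  rw [h.wp_eq hu huV (p := (1, 0, 0)) (by decide) (one_mem _) (by rw [ee_x]; group), cj_one]

/-- pairs of points -/
theorem exists_pair {p r : V3} (hp : p ≠ 0) (hr : r ≠ 0) (hpr : p ≠ r) :
    ∃ k, h.NA k ∧ wp E W z y u p = cj (gp E z y u p * k) W ∧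
      wp E W z y u r = cj (gp E z y u p * k) WY ∧ k ∈ normalizer (E : Set G) ∧
      (gp E z y u p * k) * y * (gp E z y u p * k)⁻¹ = ee z y u r ∧ k * z = z * k := by
  obtain ⟨h1, h2⟩ := h.gp_spec hu huV hp
  set g := gp E z y u p with hg
  have h3 : g⁻¹ * ee z y u r * g ∈ E := h.conj_E' h1 (h.ee_mem hu r)
  obtain ⟨k, hk, hkz, hky⟩ := h.tr_E' h3
    (fun h4 => hr (h.ee_inj_one hu huV (by
      have e : ee z y u r = g * (g⁻¹ * ee z y u r * g) * g⁻¹ := by group
      rw [e, h4]; group)))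
    (fun h4 => hpr (h.ee_inj hu huV (by
      have e : ee z y u r = g * (g⁻¹ * ee z y u r * g) * g⁻¹ := by group
      rw [e, h4, h2])))
  have hgk : g * k ∈ normalizer (E : Set G) := mul_mem h1 hk
  have hz : g * k * z * (g * k)⁻¹ = ee z y u p := by
    have e : g * k * z * (g * k)⁻¹ = g * (k * z * k⁻¹) * g⁻¹ := by group
    rw [e, hkz, mul_inv_cancel_right, h2]
  have hy : g * k * y * (g * k)⁻¹ = ee z y u r := by
    have e : g * k * y * (g * k)⁻¹ = g * (k * y * k⁻¹) * g⁻¹ := by group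
    rw [e, hky]; group
  exact ⟨k, h.NA_of hk hkz, h.wp_eq hu huV hp hgk hz, h.wp_eq_y hu huV hr hgk hy, hk, hy, hkz⟩

omit hu huV [Finite G] in
/-- the action of a conjugate of `a` -/
theorem cm_NA {k w : G} (hk : h.NA k) (hw : w ∈ W) :
    cm w (k * a * k⁻¹) = cm w a ∨ cm w (k * a * k⁻¹) = cm w a * z := by
  set q := k * a * k⁻¹ * a⁻¹ with hq
  have hqQ : q ∈ Q := hk.2
  have e1 : k * a * k⁻¹ = q * a := by rw [hq]; group
  have e2 : cm w (q * a) = cm w q * (q * cm w a * q⁻¹) := by
    unfold cm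
    group
  have hc := h.comE w hw a h.aW
  have hzc := h.commE h.zE hc
  rw [e1, e2]
  have h1 : cm w q = 1 ∨ cm w q = z := by
    rcases ((h.memQ q).mp hqQ).2 w hw with h2 | h2
    · left; rw [← cm_inv, h2, inv_one]
    · right; rw [← cm_inv, h2]; exact inv_eq_of_mul_eq_one_left h.zz
  rcases h1 with h1 | h1 <;> rcases h.Q_act hqQ (h.EW hc) with h2 | h2 <;> rw [h1, h2]
  · left; rw [one_mul]
  · right; rw [one_mul, hzc]
  · right; rw [hzc]
  · left; rw [← mul_assoc, h.zz, one_mul]

/-- **The seven conjugates of `W` form a `PForm`.** -/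
theorem pform : PForm (ee z y u) (wp E W z y u) (ap E z y u a) where
  e_add := h.ee_add hu
  e_inj := h.ee_inj hu huV
  comm := by
    intro p hp _ hw _ hw'
    obtain ⟨w, hw0, rfl⟩ := of_cj hw
    replace hw := hw0
    obtain ⟨w', hw'0, rfl⟩ := of_cj hw'
    replace hw' := hw'0
    have e1 : ∀ g x x' : G, g * x * g⁻¹ * (g * x' * g⁻¹) = g * (x * x') * g⁻¹ := fun g x x' => by group
    rw [e1, e1, h.ab w hw w' hw']
  cent := by
    intro p hp _ hw v
    obtain ⟨w, hw0, rfl⟩ := of_cj hw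
    replace hw := hw0
    obtain ⟨h1, h2⟩ := h.gp_spec hu huV hp
    have h3 := h.W_cent hw (h.conj_E' h1 (h.ee_mem hu v))
    generalize gp E z y u p = g at *
    calc g * w * g⁻¹ * ee z y u v = g * (w * (g⁻¹ * ee z y u v * g)) * g⁻¹ := by group
      _ = ee z y u v * (g * w * g⁻¹) := by rw [h3]; group
  com := by
    intro p r hp hr hpr w hw g hg
    obtain ⟨k, hk, hWp, hWr, hkE, hky, hkz⟩ := h.exists_pair hu huV hp hr hpr
    rw [hWp] at hw
    rw [hWr] at hg
    obtain ⟨w, hw0, rfl⟩ := of_cj hw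
    replace hw := hw0
    obtain ⟨g, hg0, rfl⟩ := of_cj hg
    replace hg := hg0
    obtain ⟨h1, h2⟩ := h.gp_spec hu huV hp
    have h3 := h.conj_E (mul_mem h1 hkE) (h.comE w hw g hg)
    rw [conj_cm] at h3
    obtain ⟨v, hv⟩ := h.ee_surj hu huV h3
    exact ⟨v, hv.symm⟩
  amem := by
    intro p hp
    obtain ⟨h1, h2⟩ := h.gp_spec hu huV hp
    obtain ⟨r, hr⟩ := h.ee_surj hu huV (h.conj_E h1 h.yE)
    have hr0 : r ≠ 0 := by
      rintro rfl
      apply h.y1
      have h3 : ee z y u (0 : V3) = 1 := by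
        have h4 := h.ee_add hu 0 0
        rw [add_zero] at h4
        exact left_eq_mul.mp h4
      rw [h3] at hr
      have e : y = (gp E z y u p)⁻¹ * (gp E z y u p * y * (gp E z y u p)⁻¹) * gp E z y u p := by group
      rw [e, ← hr]; group
    have hrp : r ≠ p := by
      rintro rfl
      apply h.yz
      have h3 := hr.symm.trans h2.symm
      have e : y = (gp E z y u r)⁻¹ * (gp E z y u r * y * (gp E z y u r)⁻¹) * gp E z y u r := by group
      rw [e, h3]; group
    refine ⟨r, hr0, hrp, ?_⟩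
    rw [h.wp_eq_y hu huV hr0 h1 hr.symm]
    exact conj_mem_cj h.aW
  same := by
    intro p r hp hr hpr g hg
    obtain ⟨k, hk, hWp, hWr, hkE, hky, hkz⟩ := h.exists_pair hu huV hp hr hpr
    obtain ⟨h1, h2⟩ := h.gp_spec hu huV hp
    rw [hWr] at hg
    obtain ⟨g, hg0, rfl⟩ := of_cj hg
    replace hg := hg0
    have hgkz : (gp E z y u p * k) * z * (gp E z y u p * k)⁻¹ = ee z y u p := by
      have e : (gp E z y u p * k) * z * (gp E z y u p * k)⁻¹ =
        gp E z y u p * (k * z * k⁻¹) * (gp E z y u p)⁻¹ := by group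
      rw [e, hkz, mul_inv_cancel_right, h2]
    rcases h.k1 g hg with h3 | h3
    · left
      intro w hw
      rw [hWp] at hw
      obtain ⟨w, hw0, rfl⟩ := of_cj hw
      replace hw := hw0
      rw [← conj_cm, ← cm_inv g w]
      rcases ((h.memQ g).mp h3).2 w hw with h4 | h4
      · left; rw [h4]; group
      · right
        rw [h4, inv_eq_of_mul_eq_one_left h.zz, hgkz]
    · right
      intro w hw
      rw [hWp] at hw
      obtain ⟨w, hw0, rfl⟩ := of_cj hw
      replace hw := hw0
      unfold ap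
      -- `[w, g] = [w, a]` up to `z`
      have e3 : g = g * a * a := by rw [mul_assoc, h.aa, mul_one]
      have hc := h.comE w hw a h.aW
      have h4 : cm w g = cm w a ∨ cm w g = cm w a * z := by
        rw [e3]
        have e4 : cm w (g * a * a) = cm w (g * a) * ((g * a) * cm w a * (g * a)⁻¹) := by
          unfold cm
          group
        rw [e4]
        have h5 : cm w (g * a) = 1 ∨ cm w (g * a) = z := by
          rcases ((h.memQ _).mp h3).2 w hw with h6 | h6
          · left; rw [← cm_inv, h6, inv_one]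
          · right; rw [← cm_inv, h6]; exact inv_eq_of_mul_eq_one_left h.zz
        have hzc := h.commE h.zE hc
        rcases h5 with h5 | h5 <;> rcases h.Q_act h3 (h.EW hc) with h6 | h6 <;> rw [h5, h6]
        · left; rw [one_mul]
        · right; rw [one_mul, hzc]
        · right; rw [hzc]
        · left; rw [← mul_assoc, h.zz, one_mul]
      -- `[w, a_p]`
      have hw' : k * w * k⁻¹ ∈ W := h.CW k hk.1 w hw
      have e5 : cm (gp E z y u p * k * w * (gp E z y u p * k)⁻¹)
          (gp E z y u p * a * (gp E z y u p)⁻¹) =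
          (gp E z y u p * k) * cm w (k⁻¹ * a * k⁻¹⁻¹) * (gp E z y u p * k)⁻¹ := by
        rw [conj_cm]
        congr 1
        group
      rw [← conj_cm, e5]
      have h7 := h.cm_NA (h.NA_inv hk) hw
      have hez : ∀ c : G, (gp E z y u p * k) * (c * z) * (gp E z y u p * k)⁻¹ =
          (gp E z y u p * k) * c * (gp E z y u p * k)⁻¹ * ee z y u p := by
        intro c
        rw [← hgkz]; group
      rcases h4 with h4 | h4 <;> rcases h7 with h7 | h7 <;> rw [h4, h7]
      · left; rfl
      · right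
        rw [hez, mul_assoc _ (ee z y u p) (ee z y u p), h.sqE _ (h.ee_mem hu p), mul_one]
      · right
        rw [hez]
      · left; rfl
  onto := by
    intro p hp v
    obtain ⟨h1, h2⟩ := h.gp_spec hu huV hp
    obtain ⟨w, hw, h3⟩ := h.onto _ (h.conj_E' h1 (h.ee_mem hu v))
    refine ⟨gp E z y u p * w * (gp E z y u p)⁻¹, conj_mem_cj hw, ?_⟩
    unfold ap
    rw [← conj_cm]
    rcases h3 with h3 | h3
    · left; rw [h3]; group
    · right
      rw [h3, h.ee_add hu, ← h2]
      group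
  inj := by
    intro p hp w hw hwa r hr g hg
    by_cases hpr : p = r
    · subst hpr
      obtain ⟨w, hw0, rfl⟩ := of_cj hw
      replace hw := hw0
      obtain ⟨g, hg0, rfl⟩ := of_cj hg
      replace hg := hg0
      have e1 : ∀ g x x' : G, g * x * g⁻¹ * (g * x' * g⁻¹) = g * (x * x') * g⁻¹ :=
        fun g x x' => by group
      rw [e1, e1, h.ab w hw g hg]
    · obtain ⟨k, hk, hWp, hWr, hkE, hky, hkz⟩ := h.exists_pair hu huV hp hr hpr
      obtain ⟨h1, h2⟩ := h.gp_spec hu huV hp
      rw [hWp] at hw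
      rw [hWr] at hg
      obtain ⟨w, hw0, rfl⟩ := of_cj hw
      replace hw := hw0
      obtain ⟨g, hg0, rfl⟩ := of_cj hg
      replace hg := hg0
      unfold ap at hwa
      have e5 : cm (gp E z y u p * k * w * (gp E z y u p * k)⁻¹)
          (gp E z y u p * a * (gp E z y u p)⁻¹) =
          (gp E z y u p * k) * cm w (k⁻¹ * a * k⁻¹⁻¹) * (gp E z y u p * k)⁻¹ := by
        rw [conj_cm]
        congr 1
        group
      have hgkz : (gp E z y u p * k) * z * (gp E z y u p * k)⁻¹ = ee z y u p := by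
        have e : (gp E z y u p * k) * z * (gp E z y u p * k)⁻¹ =
          gp E z y u p * (k * z * k⁻¹) * (gp E z y u p)⁻¹ := by group
        rw [e, hkz, mul_inv_cancel_right, h2]
      rw [e5] at hwa
      have h6 : cm w (k⁻¹ * a * k⁻¹⁻¹) = 1 ∨ cm w (k⁻¹ * a * k⁻¹⁻¹) = z := by
        rcases hwa with h7 | h7
        · left
          have e : cm w (k⁻¹ * a * k⁻¹⁻¹) = (gp E z y u p * k)⁻¹ * ((gp E z y u p * k) *
            cm w (k⁻¹ * a * k⁻¹⁻¹) * (gp E z y u p * k)⁻¹) * (gp E z y u p * k) := by group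
          rw [e, h7]; group
        · right
          have e : cm w (k⁻¹ * a * k⁻¹⁻¹) = (gp E z y u p * k)⁻¹ * ((gp E z y u p * k) *
            cm w (k⁻¹ * a * k⁻¹⁻¹) * (gp E z y u p * k)⁻¹) * (gp E z y u p * k) := by group
          rw [e, h7, ← hgkz]; group
      have h7 : cm w a = 1 ∨ cm w a = z := by
        rcases h.cm_NA (h.NA_inv hk) hw with h8 | h8
        · rwa [h8] at h6
        · rw [h8] at h6
          rcases h6 with h6 | h6
          · right
            have : cm w a = z⁻¹ := eq_inv_of_mul_eq_one_left h6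
            rw [this]; exact inv_eq_of_mul_eq_one_left h.zz
          · left
            exact mul_eq_right.mp h6
      have h8 := h.inj w hw h7 g hg
      have e1 : ∀ g x x' : G, g * x * g⁻¹ * (g * x' * g⁻¹) = g * (x * x') * g⁻¹ :=
        fun g x x' => by group
      rw [e1, e1, h8]
  one := by
    intro p r hp hr hpr
    obtain ⟨k, hk, hWp, hWr, hkE, hky, hkz⟩ := h.exists_pair hu huV hp hr hpr
    obtain ⟨w, hw, hall, g, hg, hwg⟩ := h.one
    refine ⟨(gp E z y u p * k) * w * (gp E z y u p * k)⁻¹, ?_, ?_, ?_⟩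
    · rw [hWp]; exact conj_mem_cj hw
    · intro x hx
      rw [hWr] at hx
      obtain ⟨x, hx0, rfl⟩ := of_cj hx
      replace hx := hx0
      rw [← conj_cm]
      rcases hall x hx with h1 | h1
      · left; rw [h1]; group
      · right; rw [h1, hky]
    · refine ⟨(gp E z y u p * k) * g * (gp E z y u p * k)⁻¹, ?_, ?_⟩
      · rw [hWr]; exact conj_mem_cj hg
      · rw [← conj_cm, hwg, hky]

end Mov

end Cfsg.Agent.Omega.NO3S.Fit.PlaneCore
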