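import Cfsg.Agent.Omega.NO3S.Fit.PlaneForm
import Cfsg.Agent.MinSimple.Geo

/-!
# LEMMA PLANE: the plane `E` and its seven points

`Pl V E C Q W WY z y a`: the situation of LEMMA PLANE (helper311 #13963, section 2): `V = ⟨z, y⟩ ≤ E`, `|E| = 8`,
`W = W_z`, `WY = W_y`, `Q = Q_z` the kernel of `C = C_z` on `W / ⟨z⟩`, `a ∈ W_y` an involution with
`W_y ≤ Q ∪ Qa`, `E / ⟨z⟩ = [W / ⟨z⟩, a]` etc.
`Mov` : moreover `f ∈ C` commutes with `a` modulo `Q` and does not normalise `V`.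
Then `N_G(E)` is 2-transitive on `E#`, `N_G(E) ∩ C_G(z) ≤ C`, and the conjugates `W_p` of `W` satisfy
`PlaneForm.PForm` (`pform`).
-/

set_option autoImplicit false
set_option linter.unusedSectionVars false

namespace Cfsg.Agent.Omega.NO3S.Fit.PlaneCore

open Subgroup Cfsg Cfsg.Agent.MinSimple.Geo Cfsg.Agent.Omega.NO3S.Fit.PlaneForm

universe u

variable {G : Type u} [Group G]

theorem conj_cm (g x y : G) : g * cm x y * g⁻¹ = cm (g * x * g⁻¹) (g * y * g⁻¹) := by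
  unfold cm
  group

theorem mem_zp {z x : G} (hz : z * z = 1) : x ∈ zpowers z ↔ x = 1 ∨ x = z := by
  constructor
  · intro hx
    obtain ⟨k, rfl⟩ := mem_zpowers_iff.mp hx
    rcases Int.even_or_odd k with ⟨j, hj⟩ | ⟨j, hj⟩
    · left
      rw [hj, zpow_add, ← mul_zpow_mul_zpow_self hz]
    · right
      rw [hj, zpow_add, zpow_mul, zpow_one]
      have : z ^ (2 : ℤ) = 1 := by rw [zpow_two, hz]
      rw [this, one_zpow, one_mul]
  · rintro (rfl | rfl)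
    · exact one_mem _
    · exact mem_zpowers _
where
  mul_zpow_mul_zpow_self {z : G} {j : ℤ} (hz : z * z = 1) : (1 : G) = z ^ j * z ^ j := by
    rw [← zpow_add, ← two_mul, zpow_mul]
    have : z ^ (2 : ℤ) = 1 := by rw [zpow_two, hz]
    rw [this, one_zpow]

theorem cent_NV'' {V : Subgroup G} {g : G} (hg : ∀ x ∈ V, g * x = x * g) :
    g ∈ normalizer (V : Set G) := by
  rw [mem_normalizer_iff]
  intro x
  constructor
  · intro hx
    rwa [hg x hx, mul_inv_cancel_right]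
  · intro hx
    have h1 := hg _ hx
    have h2 : x = g * x * g⁻¹ := by
      have h3 : g * (g * x * g⁻¹) = g * x := by rw [h1]; group
      exact (mul_left_cancel h3).symm
    rw [h2]
    exact hx

/-- The situation of LEMMA PLANE. -/
structure Pl (V E C Q W WY : Subgroup G) (z y a : G) : Prop where
  memQ : ∀ c, c ∈ Q ↔ c ∈ C ∧ ∀ w ∈ W, cm c w = 1 ∨ cm c w = z
  Cz : ∀ c ∈ C, c * z = z * c
  CW : ∀ c ∈ C, ∀ w ∈ W, c * w * c⁻¹ ∈ W
  ge : ∀ g ∈ normalizer (V : Set G), g * z = z * g → g ∈ C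
  ab : ∀ w ∈ W, ∀ w' ∈ W, w * w' = w' * w
  sqW : ∀ w ∈ W, w * w = 1
  zz : z * z = 1
  yy : y * y = 1
  z1 : z ≠ 1
  y1 : y ≠ 1
  yz : y ≠ z
  zV : z ∈ V
  yV : y ∈ V
  four : ∀ v ∈ V, v = 1 ∨ v = z ∨ v = y ∨ v = z * y
  VE : V ≤ E
  EW : E ≤ W
  sqE : ∀ u ∈ E, u * u = 1
  idx : ∀ u ∈ E, ∀ v ∈ E, u ∉ V → v ∉ V → u * v ∈ V
  neE : ∃ u ∈ E, u ∉ V
  NE : normalizer (V : Set G) ≤ normalizer (E : Set G)
  tr : ∀ v ∈ V, v ≠ 1 → ∃ g ∈ normalizer (V : Set G), g * z * g⁻¹ = v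
  sw : ∃ q ∈ Q, q ∈ normalizer (V : Set G) ∧ q * y * q⁻¹ = z * y
  trE : ∀ u ∈ E, u ∉ V → ∀ v ∈ V, ∃ c, (∀ x ∈ V, c * x = x * c) ∧ c * u * c⁻¹ = u * v
  WYdef : ∀ g ∈ normalizer (V : Set G), g * z * g⁻¹ = y → cj g W = WY
  aW : a ∈ WY
  aa : a * a = 1
  aQ : a ∉ Q
  comE : ∀ w ∈ W, ∀ g ∈ WY, cm w g ∈ E
  k1 : ∀ g ∈ WY, g ∈ Q ∨ g * a ∈ Q
  onto : ∀ u ∈ E, ∃ w ∈ W, cm w a = u ∨ cm w a = u * z
  inj : ∀ w ∈ W, (cm w a = 1 ∨ cm w a = z) → ∀ g ∈ WY, w * g = g * w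
  one : ∃ w ∈ W, (∀ g ∈ WY, cm w g = 1 ∨ cm w g = y) ∧ ∃ g ∈ WY, cm w g = y

namespace Pl

variable {V E C Q W WY : Subgroup G} {z y a : G} (h : Pl V E C Q W WY z y a)
include h

theorem zE : z ∈ E := h.VE h.zV

theorem yE : y ∈ E := h.VE h.yV

theorem zW : z ∈ W := h.EW h.zE

theorem commE {u v : G} (hu : u ∈ E) (hv : v ∈ E) : u * v = v * u := h.ab u (h.EW hu) v (h.EW hv)

theorem QC {q : G} (hq : q ∈ Q) : q ∈ C := ((h.memQ q).mp hq).1

/-- `C_G(V) ≤ C` -/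
theorem cent_C {g : G} (hg : ∀ x ∈ V, g * x = x * g) : g ∈ C := by
  exact h.ge g (cent_NV'' hg) (hg z h.zV)

theorem cent_NV {g : G} (hg : ∀ x ∈ V, g * x = x * g) : g ∈ normalizer (V : Set G) := cent_NV'' hg

theorem W_cent {w x : G} (hw : w ∈ W) (hx : x ∈ E) : w * x = x * w := h.ab w hw x (h.EW hx)

theorem W_C {w : G} (hw : w ∈ W) : w ∈ C := h.cent_C fun x hx => h.W_cent hw (h.VE hx)

theorem WY_cent {w x : G} (hw : w ∈ WY) (hx : x ∈ E) : w * x = x * w := by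
  obtain ⟨g, hg, hgz⟩ := h.tr y h.yV h.y1
  rw [← h.WYdef g hg hgz, mem_cj] at hw
  have hx' : g⁻¹ * x * g ∈ E := by
    have := (mem_normalizer_iff'.mp (inv_mem (h.NE hg)) (x * g)).mp (by simpa using hx)
    rwa [← mul_assoc] at this
  have h1 := h.W_cent hw hx'
  have h2 : g * ((g⁻¹ * w * g) * (g⁻¹ * x * g)) * g⁻¹ = g * ((g⁻¹ * x * g) * (g⁻¹ * w * g)) * g⁻¹ := by
    rw [h1]
  have e1 : g * ((g⁻¹ * w * g) * (g⁻¹ * x * g)) * g⁻¹ = w * x := by group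
  have e2 : g * ((g⁻¹ * x * g) * (g⁻¹ * w * g)) * g⁻¹ = x * w := by group
  rwa [e1, e2] at h2

theorem WY_C {w : G} (hw : w ∈ WY) : w ∈ C := h.cent_C fun x hx => h.WY_cent hw (h.VE hx)

theorem aC : a ∈ C := h.WY_C h.aW

theorem a_inv : a⁻¹ = a := inv_eq_of_mul_eq_one_left h.aa

/-- `Q` is normal in `C`. -/
theorem Q_conj {c q : G} (hc : c ∈ C) (hq : q ∈ Q) : c * q * c⁻¹ ∈ Q := by
  rw [h.memQ]
  refine ⟨C.mul_mem (C.mul_mem hc (h.QC hq)) (C.inv_mem hc), fun w hw => ?_⟩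
  have hw' : c⁻¹ * w * c ∈ W := by
    have := h.CW c⁻¹ (C.inv_mem hc) w hw
    rwa [inv_inv] at this
  have e : cm (c * q * c⁻¹) w = c * cm q (c⁻¹ * w * c) * c⁻¹ := by
    rw [conj_cm]
    congr 1
    group
  rw [e]
  rcases ((h.memQ q).mp hq).2 _ hw' with h1 | h1
  · left; rw [h1]; group
  · right; rw [h1, h.Cz c hc]; group

/-- For `q ∈ Q`, `w ∈ W`: `q w q⁻¹ = w` or `z w`. -/
theorem Q_act {q w : G} (hq : q ∈ Q) (hw : w ∈ W) : q * w * q⁻¹ = w ∨ q * w * q⁻¹ = z * w := by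
  rcases ((h.memQ q).mp hq).2 w hw with h1 | h1
  · left
    unfold cm at h1
    exact mul_inv_eq_one.mp h1
  · right
    unfold cm at h1
    exact mul_inv_eq_iff_eq_mul.mp h1

/-- `q` normalises every subgroup between `z` and `W`. -/
theorem Q_E {q u : G} (hq : q ∈ Q) (hu : u ∈ E) : q * u * q⁻¹ ∈ E := by
  rcases h.Q_act hq (h.EW hu) with h1 | h1
  · rwa [h1]
  · rw [h1]; exact E.mul_mem h.zE hu

end Pl

/-- `f ∈ C` commutes with `a` modulo `Q` and does not normalise `V`. -/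
structure Mov (V E C Q W WY : Subgroup G) (z y a f : G) : Prop extends Pl V E C Q W WY z y a where
  fC : f ∈ C
  fa : f * a * f⁻¹ * a⁻¹ ∈ Q
  fV : f ∉ normalizer (V : Set G)

namespace Mov

variable {V E C Q W WY : Subgroup G} {z y a f : G} (h : Mov V E C Q W WY z y a f)
include h

theorem f_le {u : G} (hu : u ∈ E) : f * u * f⁻¹ ∈ E := by
  -- first for the commutators
  have key : ∀ w ∈ W, f * cm w a * f⁻¹ ∈ E := by
    intro w hw
    have hw' := h.CW f h.fC w hw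
    set w' := f * w * f⁻¹ with hw'def
    set q := f * a * f⁻¹ * a⁻¹ with hq
    have e1 : f * a * f⁻¹ = q * a := by rw [hq]; group
    have e2 : f * cm w a * f⁻¹ = cm w' q * (q * cm w' a * q⁻¹) := by
      rw [conj_cm, e1, ← hw'def]
      unfold cm
      group
    rw [e2]
    have h1 : cm w' q ∈ E := by
      rcases ((h.memQ q).mp h.fa).2 w' hw' with h2 | h2
      · rw [← cm_inv, h2, inv_one]; exact E.one_mem
      · rw [← cm_inv, h2]; exact E.inv_mem h.zE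
    exact E.mul_mem h1 (h.Q_E h.fa (h.comE w' hw' a h.aW))
  have hfz : f * z * f⁻¹ = z := by rw [h.Cz f h.fC]; group
  obtain ⟨w, hw, h1⟩ := h.onto u hu
  rcases h1 with h1 | h1
  · rw [← h1]; exact key w hw
  · have h2 : u = cm w a * z := by rw [h1, mul_assoc, h.zz, mul_one]
    have e : f * u * f⁻¹ = (f * cm w a * f⁻¹) * (f * z * f⁻¹) := by rw [h2]; group
    rw [e, hfz]
    exact E.mul_mem (key w hw) h.zE

variable [Finite G]

theorem f_NE : f ∈ normalizer (E : Set G) := by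
  rw [mem_normalizer_iff_cj]
  have h1 : cj f E ≤ E := by
    rintro _ ⟨u, hu, rfl⟩
    exact h.f_le hu
  exact Subgroup.eq_of_le_of_card_ge h1 (by rw [card_cj])

omit [Finite G] in
theorem conj_E {g u : G} (hg : g ∈ normalizer (E : Set G)) (hu : u ∈ E) : g * u * g⁻¹ ∈ E :=
  (mem_normalizer_iff.mp hg u).mp hu

omit [Finite G] in
theorem conj_E' {g u : G} (hg : g ∈ normalizer (E : Set G)) (hu : u ∈ E) : g⁻¹ * u * g ∈ E := by
  have := h.conj_E (inv_mem hg) hu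
  rwa [inv_inv] at this

omit [Finite G] in
/-- An element of `N(E)` commuting with `z` and mapping `y` into `V` normalises `V`. -/
theorem mem_NV {g : G} (hz : g * z = z * g) (hy : g * y * g⁻¹ ∈ V) [Finite V] :
    g ∈ normalizer (V : Set G) := by
  rw [mem_normalizer_iff_cj]
  have h1 : cj g V ≤ V := by
    rintro _ ⟨v, hv, rfl⟩
    change g * v * g⁻¹ ∈ V
    have hz' : g * z * g⁻¹ = z := by rw [hz]; group
    rcases h.four v hv with rfl | rfl | rfl | rfl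
    · simp
    · rw [hz']; exact h.zV
    · exact hy
    · have e : g * (z * y) * g⁻¹ = (g * z * g⁻¹) * (g * y * g⁻¹) := by group
      rw [e, hz']
      exact V.mul_mem h.zV hy
  exact Subgroup.eq_of_le_of_card_ge h1 (by rw [card_cj])

theorem fy : f * y * f⁻¹ ∉ V := fun hcon => h.fV (h.mem_NV (h.Cz f h.fC) hcon)

/-- A point of `E` outside `V` is the image of `f y f⁻¹` under an element of `C_G(V)`. -/
theorem exists_c {u : G} (hu : u ∈ E) (huV : u ∉ V) :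
    ∃ c, (∀ x ∈ V, c * x = x * c) ∧ c * (f * y * f⁻¹) * c⁻¹ = u := by
  have h1 := h.idx _ (h.f_le h.yE) _ hu h.fy huV
  obtain ⟨c, hc, h2⟩ := h.trE _ (h.f_le h.yE) h.fy _ h1
  refine ⟨c, hc, ?_⟩
  rw [h2, ← mul_assoc, h.sqE _ (h.f_le h.yE), one_mul]

/-- The elements of `C` commuting with `a` modulo `Q`. -/
def NA (_ : Mov V E C Q W WY z y a f) (g : G) : Prop := g ∈ C ∧ g * a * g⁻¹ * a⁻¹ ∈ Q

omit [Finite G] in
theorem NA_mul {g g' : G} (h1 : h.NA g) (h2 : h.NA g') : h.NA (g * g') := by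
  refine ⟨C.mul_mem h1.1 h2.1, ?_⟩
  have e : g * g' * a * (g * g')⁻¹ * a⁻¹ =
      (g * (g' * a * g'⁻¹ * a⁻¹) * g⁻¹) * (g * a * g⁻¹ * a⁻¹) := by group
  rw [e]
  exact Q.mul_mem (h.Q_conj h1.1 h2.2) h1.2

omit [Finite G] in
theorem NA_inv {g : G} (h1 : h.NA g) : h.NA g⁻¹ := by
  refine ⟨C.inv_mem h1.1, ?_⟩
  have e' : g⁻¹ * a * g⁻¹⁻¹ * a⁻¹ = g⁻¹ * (g * a * g⁻¹ * a⁻¹)⁻¹ * g⁻¹⁻¹ := by group
  rw [e']
  exact h.Q_conj (C.inv_mem h1.1) (Q.inv_mem h1.2)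

omit [Finite G] in
theorem NA_Q {q : G} (hq : q ∈ Q) : h.NA q := by
  refine ⟨h.QC hq, ?_⟩
  have e : q * a * q⁻¹ * a⁻¹ = q * (a * q⁻¹ * a⁻¹) := by group
  rw [e]
  exact Q.mul_mem hq (h.Q_conj h.aC (Q.inv_mem hq))

/-- `N_G(V) ∩ C_G(z)` centralises `a` modulo `Q`. -/
theorem NA_NV {g : G} (hg : g ∈ normalizer (V : Set G)) (hz : g * z = z * g) : h.NA g := by
  have key : ∀ g ∈ normalizer (V : Set G), g * z = z * g → g * y * g⁻¹ = y → h.NA g := by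
    intro g hg hz hy
    have hgC := h.ge g hg hz
    refine ⟨hgC, ?_⟩
    have hmem : g * a * g⁻¹ ∈ WY := by
      obtain ⟨k, hk, hkz⟩ := h.tr y h.yV h.y1
      have h1 : cj (g * k) W = WY := h.WYdef (g * k) (mul_mem hg hk) (by
        have e : g * k * z * (g * k)⁻¹ = g * (k * z * k⁻¹) * g⁻¹ := by group
        rw [e, hkz, hy])
      rw [← h1, ← cj_cj, h.WYdef k hk hkz]
      exact conj_mem_cj h.aW
    rcases h.k1 _ hmem with h1 | h1
    · exfalso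
      apply h.aQ
      have h2 := h.Q_conj (C.inv_mem hgC) h1
      have e : g⁻¹ * (g * a * g⁻¹) * g⁻¹⁻¹ = a := by group
      rwa [e] at h2
    · rwa [h.a_inv]
  have hy := (mem_normalizer_iff.mp hg y).mp h.yV
  rcases h.four _ hy with h1 | h1 | h1 | h1
  · exfalso
    apply h.y1
    have : y = g⁻¹ * (g * y * g⁻¹) * g := by group
    rw [this, h1]; group
  · exfalso
    apply h.yz
    have : y = g⁻¹ * (g * y * g⁻¹) * g := by group
    rw [this, h1, mul_assoc, ← hz]; group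
  · exact key g hg hz h1
  · obtain ⟨q, hq, hqV, hqy⟩ := h.sw
    have hqz := h.Cz q (h.QC hq)
    have h2 : h.NA (q⁻¹ * g) := by
      refine key _ (mul_mem (inv_mem hqV) hg) ?_ ?_
      · rw [mul_assoc, hz, ← mul_assoc, ← mul_assoc]
        congr 1
        exact (inv_mul_eq_iff_eq_mul.mpr (by rw [← mul_assoc, hqz, mul_inv_cancel_right]))
      · have e : q⁻¹ * g * y * (q⁻¹ * g)⁻¹ = q⁻¹ * (g * y * g⁻¹) * q := by group
        rw [e, h1, ← hqy]; group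
    have h3 := h.NA_mul (h.NA_Q hq) h2
    rwa [mul_inv_cancel_left] at h3

/-- **`N_G(E) ∩ C_G(z)` lies in `C` and centralises `a` modulo `Q`.** -/
theorem NA_of {g : G} (hg : g ∈ normalizer (E : Set G)) (hz : g * z = z * g) : h.NA g := by
  by_cases hgy : g * y * g⁻¹ ∈ V
  · exact h.NA_NV (h.mem_NV hz hgy) hz
  · obtain ⟨c, hc, hcu⟩ := h.exists_c (h.conj_E hg h.yE) hgy
    have hcC := h.cent_C hc
    have hcz := hc z h.zV
    have hfz := h.Cz f h.fC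
    have h1 : h.NA (c * f) := h.NA_mul (h.NA_NV (h.cent_NV hc) hcz) ⟨h.fC, h.fa⟩
    have hz' : (c * f)⁻¹ * g * z = z * ((c * f)⁻¹ * g) := by
      have hcf : c * f * z = z * (c * f) := by rw [mul_assoc, hfz, ← mul_assoc, hcz, mul_assoc]
      have h2 : (c * f)⁻¹ * z = z * (c * f)⁻¹ := by
        rw [inv_mul_eq_iff_eq_mul, ← mul_assoc, hcf, mul_inv_cancel_right]
      rw [mul_assoc, hz, ← mul_assoc, h2, mul_assoc]
    have hy' : (c * f)⁻¹ * g * y * ((c * f)⁻¹ * g)⁻¹ = y := by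
      have e : (c * f)⁻¹ * g * y * ((c * f)⁻¹ * g)⁻¹ = f⁻¹ * (c⁻¹ * (g * y * g⁻¹) * c) * f := by group
      rw [e, ← hcu]; group
    have h2 : h.NA ((c * f)⁻¹ * g) := h.NA_NV (h.mem_NV hz' (by rw [hy']; exact h.yV)) hz'
    have h3 := h.NA_mul h1 h2
    rwa [mul_inv_cancel_left] at h3

/-- transitivity on the points -/
theorem tr_E {p : G} (hp : p ∈ E) (hp1 : p ≠ 1) : ∃ g ∈ normalizer (E : Set G), g * z * g⁻¹ = p := by
  by_cases hpV : p ∈ V
  · obtain ⟨g, hg, hgz⟩ := h.tr p hpV hp1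
    exact ⟨g, h.NE hg, hgz⟩
  · obtain ⟨g, hg, hgz⟩ := h.tr y h.yV h.y1
    obtain ⟨c, hc, hcu⟩ := h.exists_c hp hpV
    refine ⟨c * f * g, mul_mem (mul_mem (h.NE (h.cent_NV hc)) h.f_NE) (h.NE hg), ?_⟩
    have e : c * f * g * z * (c * f * g)⁻¹ = c * (f * (g * z * g⁻¹) * f⁻¹) * c⁻¹ := by group
    rw [e, hgz, hcu]

/-- transitivity of the stabiliser of `z` -/
theorem tr_E' {r : G} (hr : r ∈ E) (hr1 : r ≠ 1) (hrz : r ≠ z) :
    ∃ g ∈ normalizer (E : Set G), g * z = z * g ∧ g * y * g⁻¹ = r := by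
  by_cases hrV : r ∈ V
  · rcases h.four r hrV with h1 | h1 | h1 | h1
    · exact absurd h1 hr1
    · exact absurd h1 hrz
    · exact ⟨1, one_mem _, by simp, by simp [h1]⟩
    · obtain ⟨q, hq, hqV, hqy⟩ := h.sw
      exact ⟨q, h.NE hqV, h.Cz q (h.QC hq), by rw [hqy, h1]⟩
  · obtain ⟨c, hc, hcu⟩ := h.exists_c hr hrV
    refine ⟨c * f, mul_mem (h.NE (h.cent_NV hc)) h.f_NE, ?_, ?_⟩
    · rw [mul_assoc, h.Cz f h.fC, ← mul_assoc, hc z h.zV, mul_assoc]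
    · have e : c * f * y * (c * f)⁻¹ = c * (f * y * f⁻¹) * c⁻¹ := by group
      rw [e, hcu]

/-- `W_p` is well defined -/
theorem cj_W_eq {g g' : G} (hg : g ∈ normalizer (E : Set G)) (hg' : g' ∈ normalizer (E : Set G))
    (hz : g * z * g⁻¹ = g' * z * g'⁻¹) : cj g W = cj g' W := by
  have h1 : h.NA (g'⁻¹ * g) := by
    refine h.NA_of (mul_mem (inv_mem hg') hg) ?_
    have e : g'⁻¹ * g * z = g'⁻¹ * (g * z * g⁻¹) * g := by group
    rw [e, hz]; group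
  have h2 : cj (g'⁻¹ * g) W = W := by
    have hle : ∀ c ∈ C, cj c W ≤ W := by
      rintro c hc _ ⟨w, hw, rfl⟩
      exact h.CW c hc w hw
    apply le_antisymm (hle _ h1.1)
    rw [← cj_cj_inv (g'⁻¹ * g) W]
    exact cj_mono (by rw [cj_cj_inv]; exact hle _ (C.inv_mem h1.1))
  have h3 : cj g' (cj (g'⁻¹ * g) W) = cj g' W := by rw [h2]
  rwa [cj_cj, mul_inv_cancel_left] at h3

theorem cj_W_y {g : G} (hg : g ∈ normalizer (E : Set G)) (hz : g * z * g⁻¹ = y) : cj g W = WY := by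
  obtain ⟨k, hk, hkz⟩ := h.tr y h.yV h.y1
  rw [← h.WYdef k hk hkz]
  exact h.cj_W_eq hg (h.NE hk) (hz.trans hkz.symm)

end Mov

end Cfsg.Agent.Omega.NO3S.Fit.PlaneCore
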