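import Cfsg.Agent.Omega.NO3S.Fit.PlaneAct

/-!
# LEMMA PLANE: the contradiction

* `Mov.comm_conj` : for all `s ∈ C` and `g = s a s⁻¹`, the element `g a g⁻¹` centralises `E`;
* `Mov.false_of_inverted` : there is no `s ∈ C - Q` of odd order modulo `Q` inverted by `a` modulo `Q`.
-/

set_option autoImplicit false
set_option linter.unusedSectionVars false

namespace Cfsg.Agent.Omega.NO3S.Fit.PlaneCore

open Subgroup Cfsg Cfsg.Agent.MinSimple.Geo Cfsg.Agent.Omega.NO3S.Fit.PlaneForm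

universe u

variable {G : Type u} [Group G]

theorem cm_mul_mem {N K : Subgroup G} (hn : ∀ k ∈ K, ∀ x ∈ N, k * x * k⁻¹ ∈ N) {u v c d : G}
    (hu : u ∈ K) (hv : v ∈ K) (hc : c ∈ K) (hd : d ∈ K) (hu' : ∀ k ∈ K, cm u k ∈ N)
    (hv' : ∀ k ∈ K, cm v k ∈ N) (hcd : c * d = d * c) : cm (u * c) (v * d) ∈ N := by
  have h1 : d * c⁻¹ = c⁻¹ * d := by
    rw [eq_inv_mul_iff_mul_eq, ← mul_assoc, hcd, mul_inv_cancel_right]
  have e : cm (u * c) (v * d) = (u * cm c v * u⁻¹) * cm u (v * d) := by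
    unfold cm
    calc u * c * (v * d) * (u * c)⁻¹ * (v * d)⁻¹ = u * c * v * (d * c⁻¹) * u⁻¹ * d⁻¹ * v⁻¹ := by group
      _ = u * c * v * (c⁻¹ * d) * u⁻¹ * d⁻¹ * v⁻¹ := by rw [h1]
      _ = u * (c * v * c⁻¹ * v⁻¹) * u⁻¹ * (u * (v * d) * u⁻¹ * (v * d)⁻¹) := by group
  rw [e]
  refine N.mul_mem (hn u hu _ ?_) (hu' _ (K.mul_mem hv hd))
  rw [← cm_inv]
  exact N.inv_mem (hv' c hc)

theorem quot_calc {Γ : Type*} [Group Γ] {s a : Γ} (h1 : a * a = 1) (h2 : a * s * a⁻¹ * s = 1) :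
    (s * a * s⁻¹) * a * (s * a * s⁻¹)⁻¹ = s * s * s * s * a := by
  have ha : a⁻¹ = a := inv_eq_of_mul_eq_one_left h1
  have h3 : a * s⁻¹ = s * a := by
    have h4 : a * s * a⁻¹ = s⁻¹ := eq_inv_of_mul_eq_one_left h2
    have h5 : (a * s * a⁻¹)⁻¹ = s := by rw [h4, inv_inv]
    have h7 : (a * s * a⁻¹)⁻¹ = a * s⁻¹ * a⁻¹ := by group
    have h6 : a * s⁻¹ * a⁻¹ = s := by rw [← h7, h5]
    exact mul_inv_eq_iff_eq_mul.mp h6
  have h4 : s * a * s⁻¹ = s * s * a := by rw [mul_assoc, h3, mul_assoc]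
  have h5 : (s * s * a)⁻¹ = s * s * a := by
    rw [mul_inv_rev, mul_inv_rev, ha, ← mul_assoc, h3, mul_assoc, h3, mul_assoc]
  rw [h4, h5]
  calc s * s * a * a * (s * s * a) = s * s * (a * a) * (s * s * a) := by group
    _ = s * s * s * s * a := by rw [h1]; group

namespace Mov

variable {V E C Q W WY : Subgroup G} {z y a f u : G} (h : Mov V E C Q W WY z y a f)
  (hu : u ∈ E) (huV : u ∉ V)

/-- `F_E` -/
noncomputable def FF (E W : Subgroup G) (z y u : G) : Subgroup G :=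
  ⨆ p : {p : V3 // p ≠ 0}, wp E W z y u p

theorem wp_le_FF {p : V3} (hp : p ≠ 0) : wp E W z y u p ≤ FF E W z y u :=
  le_iSup (fun p : {p : V3 // p ≠ 0} => wp E W z y u p) ⟨p, hp⟩

/-- `Z(F_E)` -/
noncomputable def ZF (E W : Subgroup G) (z y u : G) : Subgroup G :=
  FF E W z y u ⊓ centralizer ((FF E W z y u : Subgroup G) : Set G)

theorem ZF_comm {x g : G} (hx : x ∈ ZF E W z y u) (hg : g ∈ FF E W z y u) : x * g = g * x :=
  ((mem_centralizer_iff.mp hx.2) g hg).symm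

theorem mem_cent {W : Subgroup G} {k : G} : k ∈ centralizer (W : Set G) ↔ ∀ w ∈ W, k * w = w * k := by
  rw [mem_centralizer_iff]
  exact ⟨fun h w hw => (h w hw).symm, fun h w hw => (h w hw).symm⟩

include h

theorem K_C {k : G} (hk : k ∈ centralizer (W : Set G)) : k ∈ C :=
  h.cent_C fun x hx => mem_cent.mp hk x (h.EW (h.VE hx))

theorem K_NE {k : G} (hk : k ∈ centralizer (W : Set G)) : k ∈ normalizer (E : Set G) :=
  cent_NV'' fun x hx => mem_cent.mp hk x (h.EW hx)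

theorem K_conj {c k : G} (hc : c ∈ C) (hk : k ∈ centralizer (W : Set G)) :
    c * k * c⁻¹ ∈ centralizer (W : Set G) := by
  rw [mem_cent]
  intro w hw
  have h1 := mem_cent.mp hk _ (h.CW c⁻¹ (C.inv_mem hc) w hw)
  calc c * k * c⁻¹ * w = c * (k * (c⁻¹ * w * c⁻¹⁻¹)) * c⁻¹ := by group
    _ = w * (c * k * c⁻¹) := by rw [h1]; group

include hu huV
variable [Finite G]

theorem K_wp {k : G} (hk : k ∈ centralizer (W : Set G)) {p : V3} (hp : p ≠ 0) {w : G}
    (hw : w ∈ wp E W z y u p) : k * w * k⁻¹ ∈ wp E W z y u p := by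
  obtain ⟨h1, h2⟩ := h.gp_spec hu huV hp
  have h3 : wp E W z y u p = cj (k * gp E z y u p) W := by
    refine h.wp_eq hu huV hp (mul_mem (h.K_NE hk) h1) ?_
    have e : k * gp E z y u p * z * (k * gp E z y u p)⁻¹ =
      k * (gp E z y u p * z * (gp E z y u p)⁻¹) * k⁻¹ := by group
    rw [e, h2, mem_cent.mp hk _ (h.EW (h.ee_mem hu p)), mul_inv_cancel_right]
  rw [h3, ← cj_cj]
  exact conj_mem_cj hw

theorem wp_C {p : V3} (hp : p ≠ 0) {w : G} (hw : w ∈ wp E W z y u p) : w ∈ C := by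
  refine h.cent_C fun x hx => ?_
  obtain ⟨v, rfl⟩ := h.ee_surj hu huV (h.VE hx)
  exact (h.pform hu huV).cent p hp w hw v

theorem cm_gen {k : G} (hk : k ∈ centralizer (W : Set G)) {p : V3} (hp : p ≠ 0) {w : G}
    (hw : w ∈ wp E W z y u p) : cm k w ∈ ZF E W z y u := by
  have hP := h.pform hu huV
  by_cases hpx : p = (1, 0, 0)
  · subst hpx
    rw [h.wp_x hu huV] at hw
    rw [cm_eq_one.mpr (mem_cent.mp hk w hw)]
    exact one_mem _
  · have hx0 : ((1, 0, 0) : V3) ≠ 0 := by decide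
    have hd : cm k w ∈ wp E W z y u p := by
      have e : cm k w = (k * w * k⁻¹) * w⁻¹ := rfl
      rw [e]
      exact mul_mem (h.K_wp hu huV hk hp hw) (inv_mem hw)
    have hdK : cm k w ∈ centralizer (W : Set G) := by
      have e : cm k w = k * (w * k⁻¹ * w⁻¹) := by unfold cm; group
      rw [e]
      exact mul_mem hk (h.K_conj (h.wp_C hu huV hp hw) (inv_mem hk))
    have h1 : PForm.lam (ee z y u) (ap E z y u a) p (cm k w) = 0 := by
      refine hP.lam_zero_of hp hx0 hpx hd fun g hg => ?_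
      rw [h.wp_x hu huV] at hg
      exact cm_eq_one.mpr (mem_cent.mp hdK g hg)
    refine ⟨wp_le_FF hp hd, ?_⟩
    have h2 : FF E W z y u ≤ centralizer ({cm k w} : Set G) := by
      refine iSup_le fun r => ?_
      intro g hg
      rw [mem_centralizer_singleton_iff]
      exact (hP.comm_of_lam hp hd h1 r.2 hg).symm
    have h3 : cm k w ∈ centralizer ((FF E W z y u : Subgroup G) : Set G) :=
      mem_centralizer_iff.mpr fun g hg => mem_centralizer_singleton_iff.mp (h2 hg)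
    exact h3

/-- **(c)** `[C_G(W), F_E] ≤ Z(F_E)`. -/
theorem cm_mem {k : G} (hk : k ∈ centralizer (W : Set G)) {g : G} (hg : g ∈ FF E W z y u) :
    cm k g ∈ ZF E W z y u := by
  let S : Subgroup G :=
    { carrier := {g | g ∈ FF E W z y u ∧ cm k g ∈ ZF E W z y u}
      one_mem' := ⟨one_mem _, by
        have : cm k (1 : G) = 1 := by unfold cm; group
        rw [this]; exact one_mem _⟩
      mul_mem' := by
        rintro x x' ⟨h1, h2⟩ ⟨h3, h4⟩
        refine ⟨mul_mem h1 h3, ?_⟩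
        have e : cm k (x * x') = cm k x * (x * cm k x' * x⁻¹) := by
          unfold cm
          group
        rw [e, ← ZF_comm h4 h1, mul_inv_cancel_right]
        exact mul_mem h2 h4
      inv_mem' := by
        rintro x ⟨h1, h2⟩
        refine ⟨inv_mem h1, ?_⟩
        have e : cm k x⁻¹ = x⁻¹ * (cm k x)⁻¹ * x := by
          unfold cm
          group
        have h3 := ZF_comm (inv_mem h2) (inv_mem h1)
        change cm k x⁻¹ ∈ ZF E W z y u
        rw [e, ← h3, inv_mul_cancel_right]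
        exact inv_mem h2 }
  have hS : FF E W z y u ≤ S := iSup_le fun p w hw => ⟨wp_le_FF p.2 hw, h.cm_gen hu huV hk p.2 hw⟩
  exact (hS hg).2

theorem cm_mem_cj {k : G} (hk : k ∈ centralizer (W : Set G)) {c : G} (hc : c ∈ C) {g : G}
    (hg : g ∈ cj c (FF E W z y u)) : cm k g ∈ cj c (ZF E W z y u) := by
  obtain ⟨x, hx, rfl⟩ := of_cj hg
  have h1 := h.cm_mem hu huV (h.K_conj (C.inv_mem hc) hk) hx
  have e : cm k (c * x * c⁻¹) = c * cm (c⁻¹ * k * c⁻¹⁻¹) x * c⁻¹ := by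
    unfold cm
    group
  rw [e]
  exact conj_mem_cj h1

theorem a_mem_FF : a ∈ FF E W z y u := by
  have h0 : ((0, 1, 0) : V3) ≠ 0 := by decide
  have h1 : wp E W z y u (0, 1, 0) = WY := by
    rw [h.wp_eq_y hu huV h0 (one_mem _) (by unfold ee; simp [pw_zero, pw_one]), cj_one]
  exact wp_le_FF h0 (by rw [h1]; exact h.aW)

theorem W_le_FF : W ≤ FF E W z y u := by
  have h0 : ((1, 0, 0) : V3) ≠ 0 := by decide
  have h1 := wp_le_FF (E := E) (W := W) (z := z) (y := y) (u := u) h0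
  rwa [h.wp_x hu huV] at h1

theorem ZF_K {x : G} (hx : x ∈ ZF E W z y u) : x ∈ centralizer (W : Set G) :=
  mem_cent.mpr fun _ hw => ZF_comm hx (h.W_le_FF hu huV hw)

/-- the points different from `z` -/
theorem comm_conj_aux {s : G} (hs : s ∈ C) {t : G} (ht : t ∈ E) (ht1 : t ≠ 1) (htz : t ≠ z) :
    t * ((s * a * s⁻¹) * a * (s * a * s⁻¹)⁻¹) = ((s * a * s⁻¹) * a * (s * a * s⁻¹)⁻¹) * t := by
  have hP := h.pform hu huV
  set g := s * a * s⁻¹ with hg
  have hgC : g ∈ C := C.mul_mem (C.mul_mem hs h.aC) (C.inv_mem hs)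
  obtain ⟨v, rfl⟩ := h.ee_surj hu huV ht
  have hx0 : ((1, 0, 0) : V3) ≠ 0 := by decide
  have hv0 : v ≠ 0 := by
    rintro rfl
    exact ht1 hP.e_zero
  have hvx : v ≠ (1, 0, 0) := by
    rintro rfl
    exact htz ee_x
  obtain ⟨p, r, hp, hr, w₁, hw₁, w₂, hw₂, w₃, hw₃, w₄, hw₄, hc1, hc2, hjj⟩ := hP.exists_jj hx0 hv0 hvx
  have hjF : w₁ * w₂ ∈ FF E W z y u := mul_mem (wp_le_FF hv0 hw₁) (wp_le_FF hp hw₂)
  have hjF' : w₃ * w₄ ∈ FF E W z y u := mul_mem (wp_le_FF hv0 hw₃) (wp_le_FF hr hw₄)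
  have hjK : w₁ * w₂ ∈ centralizer (W : Set G) := by
    rw [mem_cent]
    intro w hw
    exact (hc1 w (by rw [h.wp_x hu huV]; exact hw)).symm
  have hjK' : w₃ * w₄ ∈ centralizer (W : Set G) := by
    rw [mem_cent]
    intro w hw
    exact (hc2 w (by rw [h.wp_x hu huV]; exact hw)).symm
  generalize w₁ * w₂ = j at *
  generalize w₃ * w₄ = j' at *
  -- the elements of `Z(F'')`
  have hgF : g ∈ cj s (FF E W z y u) := conj_mem_cj (h.a_mem_FF hu huV)
  have key : ∀ j ∈ centralizer (W : Set G), (g * j * g⁻¹)⁻¹ * j ∈ cj s (ZF E W z y u) := by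
    intro j hj
    have e : (g * j * g⁻¹)⁻¹ * j = (cm j⁻¹ g)⁻¹ := by
      unfold cm
      group
    rw [e]
    exact inv_mem (h.cm_mem_cj hu huV (inv_mem hj) hs hgF)
  have key2 : ∀ x ∈ cj s (ZF E W z y u), x ∈ centralizer (W : Set G) := by
    intro x hx
    obtain ⟨x, hx0, rfl⟩ := of_cj hx
    exact h.K_conj hs (h.ZF_K hu huV hx0)
  have hcomm : ∀ x ∈ cj s (ZF E W z y u), ∀ x' ∈ cj s (ZF E W z y u), x * x' = x' * x := by
    intro x hx x' hx'
    obtain ⟨x, hx0, rfl⟩ := of_cj hx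
    obtain ⟨x', hx0', rfl⟩ := of_cj hx'
    have h1 := ZF_comm hx0 hx0'.1
    have e1 : ∀ g x x' : G, g * x * g⁻¹ * (g * x' * g⁻¹) = g * (x * x') * g⁻¹ :=
      fun g x x' => by group
    rw [e1, e1, h1]
  have hmem : ee z y u v ∈ cj g (ZF E W z y u) := by
    have e1 : j = (g * j * g⁻¹) * ((g * j * g⁻¹)⁻¹ * j) := by group
    have e2 : j' = (g * j' * g⁻¹) * ((g * j' * g⁻¹)⁻¹ * j') := by group
    rw [← hjj, e1, e2]
    refine cm_mul_mem (K := centralizer (W : Set G)) ?_ (h.K_conj hgC hjK) (h.K_conj hgC hjK')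
      (key2 _ (key j hjK)) (key2 _ (key j' hjK')) ?_ ?_ (hcomm _ (key j hjK) _ (key j' hjK'))
    · intro k hk x hx
      obtain ⟨x, hx0, rfl⟩ := of_cj hx
      have h1 := h.cm_mem hu huV (h.K_conj (C.inv_mem hgC) hk) hx0.1
      have e : k * (g * x * g⁻¹) * k⁻¹ = g * (cm (g⁻¹ * k * g⁻¹⁻¹) x * x) * g⁻¹ := by
        unfold cm
        group
      rw [e]
      exact conj_mem_cj (mul_mem h1 hx0)
    · intro k hk
      rw [← cm_inv]
      exact inv_mem (h.cm_mem_cj hu huV hk hgC (conj_mem_cj hjF))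
    · intro k hk
      rw [← cm_inv]
      exact inv_mem (h.cm_mem_cj hu huV hk hgC (conj_mem_cj hjF'))
  obtain ⟨x, hx, hxe⟩ := of_cj hmem
  rw [hxe]
  have h1 := ZF_comm hx (h.a_mem_FF hu huV)
  have e1 : ∀ g x x' : G, g * x * g⁻¹ * (g * x' * g⁻¹) = g * (x * x') * g⁻¹ :=
    fun g x x' => by group
  rw [e1, e1, h1]

/-- **`g a g⁻¹` centralises `E` for all `g = s a s⁻¹`, `s ∈ C`.** -/
theorem comm_conj {s : G} (hs : s ∈ C) {t : G} (ht : t ∈ E) :
    t * ((s * a * s⁻¹) * a * (s * a * s⁻¹)⁻¹) = ((s * a * s⁻¹) * a * (s * a * s⁻¹)⁻¹) * t := by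
  by_cases ht1 : t = 1
  · rw [ht1, one_mul, mul_one]
  by_cases htz : t = z
  · have hgC : (s * a * s⁻¹) * a * (s * a * s⁻¹)⁻¹ ∈ C := by
      have h1 : s * a * s⁻¹ ∈ C := C.mul_mem (C.mul_mem hs h.aC) (C.inv_mem hs)
      exact C.mul_mem (C.mul_mem h1 h.aC) (C.inv_mem h1)
    rw [htz]
    exact (h.Cz _ hgC).symm
  · exact h.comm_conj_aux hu huV hs ht ht1 htz

end Mov

/-! ### The action on `W / ⟨z⟩` -/

namespace Pl

variable {V E C Q W WY : Subgroup G} {z y a : G} (h : Pl V E C Q W WY z y a)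
include h

/-- the quotient `W / ⟨z⟩` -/
theorem exists_quot : ∃ (M : Type u) (_ : CommGroup M) (m : W →* M),
    ∀ w : W, m w = 1 ↔ (w : G) = 1 ∨ (w : G) = z := by
  let _ : CommGroup W := { (inferInstance : Group W) with
    mul_comm := fun a b => Subtype.ext (h.ab a a.2 b b.2) }
  refine ⟨W ⧸ (zpowers (⟨z, h.zW⟩ : W)), inferInstance, QuotientGroup.mk' _, fun w => ?_⟩
  have hzz : (⟨z, h.zW⟩ : W) * ⟨z, h.zW⟩ = 1 := Subtype.ext h.zz
  rw [QuotientGroup.mk'_apply, QuotientGroup.eq_one_iff, mem_zp hzz]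
  constructor
  · rintro (h1 | h1)
    · exact Or.inl (congrArg Subtype.val h1)
    · exact Or.inr (congrArg Subtype.val h1)
  · rintro (h1 | h1)
    · exact Or.inl (Subtype.ext h1)
    · exact Or.inr (Subtype.ext h1)

omit h in
/-- the conjugate of `w ∈ W` by `c ∈ C` -/
def act (CW : ∀ c ∈ C, ∀ w ∈ W, c * w * c⁻¹ ∈ W) (c : C) (w : W) : W := ⟨c * w * (c : G)⁻¹, CW c c.2 w w.2⟩

theorem act_mul (c c' : C) (w : W) : act h.CW (c * c') w = act h.CW c (act h.CW c' w) :=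
  Subtype.ext (by simp [act, mul_assoc])

theorem act_mul' (c : C) (w w' : W) : act h.CW c (w * w') = act h.CW c w * act h.CW c w' :=
  Subtype.ext (by simp [act])

theorem act_one (w : W) : act h.CW 1 w = w := Subtype.ext (by simp [act])

theorem m_act {M : Type u} [CommGroup M] {m : W →* M}
    (hm : ∀ w : W, m w = 1 ↔ (w : G) = 1 ∨ (w : G) = z) (c : C) {w w' : W} (hw : m w = m w') :
    m (act h.CW c w) = m (act h.CW c w') := by
  have h1 : m (w * w'⁻¹) = 1 := by rw [map_mul, map_inv, hw, mul_inv_cancel]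
  have h2 : act h.CW c w = act h.CW c (w * w'⁻¹) * act h.CW c w' := by
    rw [← h.act_mul', inv_mul_cancel_right]
  have h3 : m (act h.CW c (w * w'⁻¹)) = 1 := by
    rw [hm] at h1 ⊢
    change (c : G) * ((w * w'⁻¹ : W) : G) * (c : G)⁻¹ = 1 ∨ (c : G) * ((w * w'⁻¹ : W) : G) * (c : G)⁻¹ = z
    rcases h1 with h1 | h1
    · left; rw [h1]; group
    · right; rw [h1, h.Cz c c.2]; group
  rw [h2, map_mul, h3, one_mul]

theorem m_act_Q {M : Type u} [CommGroup M] {m : W →* M}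
    (hm : ∀ w : W, m w = 1 ↔ (w : G) = 1 ∨ (w : G) = z) (c : C) (hc : (c : G) ∈ Q) (w : W) :
    m (act h.CW c w) = m w := by
  have h1 : m (act h.CW c w * w⁻¹) = 1 := by
    rw [hm]
    exact ((h.memQ c).mp hc).2 w w.2
  rw [map_mul, map_inv] at h1
  exact mul_inv_eq_one.mp h1

/-- If `s` is inverted by `a` modulo `Q` and fixes `E / ⟨z⟩ = [W / ⟨z⟩, a]`, then `s⁴ ∈ Q`. -/
theorem pow_four_mem {s : G} (hs : s ∈ C) (has : a * s * a⁻¹ * s ∈ Q)
    (hfix : ∀ t ∈ E, s * t * s⁻¹ = t ∨ s * t * s⁻¹ = z * t) : s * s * s * s ∈ Q := by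
  obtain ⟨M, _, m, hm⟩ := h.exists_quot
  let S : C := ⟨s, hs⟩
  let A : C := ⟨a, h.aC⟩
  have hAA : A * A = 1 := Subtype.ext h.aa
  have sqM : ∀ w : W, m w * m w = 1 := by
    intro w
    rw [← map_mul, hm]
    exact Or.inl (h.sqW w w.2)
  -- the basic relation
  have h0 : ∀ v : W, m (act h.CW (S * A) v) * m (act h.CW S v) = m (act h.CW A v) * m v := by
    intro v
    have h1 : ((act h.CW A v * v : W) : G) ∈ E := by
      have h2 := E.inv_mem (h.comE v v.2 a h.aW)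
      rw [cm_inv] at h2
      have e : ((act h.CW A v * v : W) : G) = cm a v := by
        change a * v * a⁻¹ * v = a * v * a⁻¹ * (v : G)⁻¹
        rw [inv_eq_of_mul_eq_one_left (h.sqW v v.2)]
      rwa [e]
    have h2 : m (act h.CW S (act h.CW A v * v)) = m (act h.CW A v * v) := by
      have h3 : m (act h.CW S (act h.CW A v * v) * (act h.CW A v * v)⁻¹) = 1 := by
        rw [hm]
        change s * ((act h.CW A v * v : W) : G) * s⁻¹ * ((act h.CW A v * v : W) : G)⁻¹ = 1 ∨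
          s * ((act h.CW A v * v : W) : G) * s⁻¹ * ((act h.CW A v * v : W) : G)⁻¹ = z
        rcases hfix _ h1 with h4 | h4
        · left; rw [h4, mul_inv_cancel]
        · right; rw [h4, mul_inv_cancel_right]
      rw [map_mul, map_inv] at h3
      exact mul_inv_eq_one.mp h3
    rw [h.act_mul', map_mul, map_mul, ← h.act_mul] at h2
    exact h2
  have h1 : ∀ w : W, m (act h.CW (S * A * S) w) = m (act h.CW A w) := by
    intro w
    have hq : ((S * A * S * A⁻¹ : C) : G) ∈ Q := by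
      change s * a * s * a⁻¹ ∈ Q
      have h2 := h.Q_conj (C.inv_mem h.aC) has
      have e : a⁻¹ * (a * s * a⁻¹ * s) * a⁻¹⁻¹ = s * a⁻¹ * s * a := by group
      rw [e] at h2
      rw [h.a_inv] at h2 ⊢
      exact h2
    have e : S * A * S = (S * A * S * A⁻¹) * A := by group
    rw [e, h.act_mul, h.m_act_Q hm _ hq]
  have E1 : ∀ w : W, m (act h.CW A w) * m (act h.CW (S * S) w) =
      m (act h.CW (A * S) w) * m (act h.CW S w) := by
    intro w
    have h2 := h0 (act h.CW S w)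
    rw [← h.act_mul, ← h.act_mul, ← h.act_mul, h1] at h2
    exact h2
  have E1a : ∀ w : W, m w * m (act h.CW (A * (S * S)) w) =
      m (act h.CW S w) * m (act h.CW (A * S) w) := by
    intro w
    have h2 := E1 w
    rw [← map_mul, ← map_mul] at h2
    have h3 := h.m_act hm A h2
    rw [h.act_mul', h.act_mul', map_mul, map_mul, ← h.act_mul, ← h.act_mul, ← h.act_mul,
      ← h.act_mul, hAA, h.act_one, ← mul_assoc A A S, hAA, one_mul] at h3
    exact h3
  have E1' : ∀ w : W, m (act h.CW (A * S) w) * m (act h.CW (S * S * S) w) =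
      m (act h.CW (A * (S * S)) w) * m (act h.CW (S * S) w) := by
    intro w
    have h2 := E1 (act h.CW S w)
    rw [← h.act_mul, ← h.act_mul, ← h.act_mul, ← h.act_mul, mul_assoc A S S] at h2
    exact h2
  have E2 : ∀ w : W, m w * m (act h.CW (S * S * S) w) =
      m (act h.CW S w) * m (act h.CW (S * S) w) := by
    intro w
    have h2 := E1a w
    have h3 := E1' w
    generalize m (act h.CW (A * (S * S)) w) = x1 at *
    generalize m (act h.CW (A * S) w) = x2 at *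
    generalize m (act h.CW (S * S * S) w) = x3 at *
    generalize m (act h.CW (S * S) w) = x4 at *
    generalize m (act h.CW S w) = x5 at *
    generalize m w = x0 at *
    have h4 : (x1 * x2) * (x0 * x3) = (x1 * x2) * (x5 * x4) := by
      calc (x1 * x2) * (x0 * x3) = (x0 * x1) * (x2 * x3) := by
            simp only [mul_comm, mul_left_comm, mul_assoc]
        _ = (x5 * x2) * (x1 * x4) := by rw [h2, h3]
        _ = (x1 * x2) * (x5 * x4) := by simp only [mul_comm, mul_left_comm, mul_assoc]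
    exact mul_left_cancel h4
  rw [h.memQ]
  refine ⟨C.mul_mem (C.mul_mem (C.mul_mem hs hs) hs) hs, fun w hw => ?_⟩
  have E3 := E2 ⟨w, hw⟩
  have E4 : m (act h.CW S ⟨w, hw⟩) * m (act h.CW (S * S * S * S) ⟨w, hw⟩) =
      m (act h.CW (S * S) ⟨w, hw⟩) * m (act h.CW (S * S * S) ⟨w, hw⟩) := by
    have h2 := E3
    rw [← map_mul, ← map_mul] at h2
    have h3 := h.m_act hm S h2
    rw [h.act_mul', h.act_mul', map_mul, map_mul, ← h.act_mul, ← h.act_mul, ← h.act_mul] at h3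
    have e1 : S * (S * S * S) = S * S * S * S := by group
    have e2 : S * (S * S) = S * S * S := by group
    rw [e1, e2] at h3
    exact h3
  have h5 : m ⟨w, hw⟩ * m (act h.CW (S * S * S * S) ⟨w, hw⟩) = 1 := by
    have h6 := sqM (act h.CW (S * S) ⟨w, hw⟩)
    generalize m (act h.CW (S * S * S * S) ⟨w, hw⟩) = x1 at *
    generalize m (act h.CW (S * S * S) ⟨w, hw⟩) = x3 at *
    generalize m (act h.CW (S * S) ⟨w, hw⟩) = x4 at *
    generalize m (act h.CW S ⟨w, hw⟩) = x5 at *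
    generalize m ⟨w, hw⟩ = x0 at *
    have h4 : (x3 * x5) * (x0 * x1) = (x3 * x5) * 1 := by
      calc (x3 * x5) * (x0 * x1) = (x0 * x3) * (x5 * x1) := by
            simp only [mul_comm, mul_left_comm, mul_assoc]
        _ = (x5 * x4) * (x4 * x3) := by rw [E3, E4]
        _ = (x3 * x5) * (x4 * x4) := by simp only [mul_comm, mul_left_comm, mul_assoc]
        _ = (x3 * x5) * 1 := by rw [h6]
    exact mul_left_cancel h4
  have h6 : m (act h.CW (S * S * S * S) ⟨w, hw⟩ * (⟨w, hw⟩ : W)⁻¹) = 1 := by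
    rw [map_mul, map_inv]
    have h7 := sqM ⟨w, hw⟩
    rw [mul_inv_eq_one]
    exact mul_left_cancel (h5.trans h7.symm)
  rw [hm] at h6
  exact h6

end Pl

namespace Mov

variable {V E C Q W WY : Subgroup G} {z y a f : G} (h : Mov V E C Q W WY z y a f)
include h

/-- **LEMMA PLANE, core.** There is no `s ∈ C - Q` of odd order modulo `Q` inverted by `a` modulo `Q`. -/
theorem false_of_inverted [Finite G] {s : G} (hs : s ∈ C) (hsQ : s ∉ Q)
    (has : a * s * a⁻¹ * s ∈ Q) {n : ℕ} (hn : Odd n) (hsn : s ^ n ∈ Q) : False := by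
  obtain ⟨u, hu, huV⟩ := h.neE
  -- the elements of `C` acting trivially on `E / ⟨z⟩`
  let X : Subgroup G :=
    { carrier := {c | c ∈ C ∧ ∀ t ∈ E, c * t * c⁻¹ = t ∨ c * t * c⁻¹ = z * t}
      one_mem' := ⟨one_mem _, fun t _ => Or.inl (by group)⟩
      mul_mem' := by
        rintro c c' ⟨h1, h2⟩ ⟨h3, h4⟩
        refine ⟨mul_mem h1 h3, fun t ht => ?_⟩
        have e : c * c' * t * (c * c')⁻¹ = c * (c' * t * c'⁻¹) * c⁻¹ := by group
        rw [e]
        have ecz : c * (z * t) * c⁻¹ = z * (c * t * c⁻¹) := by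
          rw [← mul_assoc, h.Cz c h1]
          group
        rcases h4 t ht with h5 | h5 <;> rcases h2 t ht with h6 | h6 <;> rw [h5]
        · exact Or.inl h6
        · exact Or.inr h6
        · rw [ecz, h6]; exact Or.inr rfl
        · rw [ecz, h6]
          left
          rw [← mul_assoc, h.zz, one_mul]
      inv_mem' := by
        rintro c ⟨h1, h2⟩
        refine ⟨inv_mem h1, fun t ht => ?_⟩
        rcases h2 t ht with h3 | h3
        · left
          have e : t = c⁻¹ * (c * t * c⁻¹) * c := by group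
          rw [h3] at e
          rw [inv_inv]
          exact e.symm
        · right
          have hcz : c⁻¹ * z = z * c⁻¹ := h.Cz c⁻¹ (inv_mem h1)
          have e : c⁻¹ * (z * t) * c = t := by rw [← h3]; group
          have e2 : z * (c⁻¹ * t * c⁻¹⁻¹) = t := by
            rw [inv_inv, ← mul_assoc, ← mul_assoc, ← hcz]
            rw [← mul_assoc] at e
            exact e
          calc c⁻¹ * t * c⁻¹⁻¹ = z * (z * (c⁻¹ * t * c⁻¹⁻¹)) := by rw [← mul_assoc, h.zz, one_mul]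
            _ = z * t := by rw [e2] }
  have hQX : Q ≤ X := fun q hq => ⟨h.QC hq, fun t ht => h.Q_act hq (h.EW ht)⟩
  have haX : a ∈ X := ⟨h.aC, fun t ht => Or.inl (by rw [h.WY_cent h.aW ht]; group)⟩
  have hgC : s * a * s⁻¹ ∈ C := C.mul_mem (C.mul_mem hs h.aC) (C.inv_mem hs)
  have ha3X : (s * a * s⁻¹) * a * (s * a * s⁻¹)⁻¹ ∈ X := by
    refine ⟨C.mul_mem (C.mul_mem hgC h.aC) (C.inv_mem hgC), fun t ht => Or.inl ?_⟩
    rw [← h.comm_conj hu huV hs ht]
    group
  -- `s⁴ a ∈ a₃ Q`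
  have h4 : ((s * a * s⁻¹) * a * (s * a * s⁻¹)⁻¹)⁻¹ * (s * s * s * s * a) ∈ Q := by
    have hN : (Q.subgroupOf C).Normal := by
      constructor
      intro x hx c
      rw [mem_subgroupOf] at hx ⊢
      exact h.Q_conj c.2 hx
    let S : C := ⟨s, hs⟩
    let A : C := ⟨a, h.aC⟩
    have h1 : (QuotientGroup.mk A : C ⧸ Q.subgroupOf C) * QuotientGroup.mk A = 1 := by
      rw [← QuotientGroup.mk_mul]
      have : A * A = 1 := Subtype.ext h.aa
      rw [this]; rfl
    have h2 : (QuotientGroup.mk A : C ⧸ Q.subgroupOf C) * QuotientGroup.mk S *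
        (QuotientGroup.mk A)⁻¹ * QuotientGroup.mk S = 1 := by
      rw [← QuotientGroup.mk_inv, ← QuotientGroup.mk_mul, ← QuotientGroup.mk_mul,
        ← QuotientGroup.mk_mul, QuotientGroup.eq_one_iff, mem_subgroupOf]
      exact has
    have h3 := quot_calc h1 h2
    rw [← QuotientGroup.mk_inv, ← QuotientGroup.mk_mul, ← QuotientGroup.mk_mul,
      ← QuotientGroup.mk_mul, ← QuotientGroup.mk_inv, ← QuotientGroup.mk_mul,
      ← QuotientGroup.mk_mul, ← QuotientGroup.mk_mul, ← QuotientGroup.mk_mul,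
      ← QuotientGroup.mk_mul, QuotientGroup.eq, mem_subgroupOf] at h3
    exact h3
  have hs4X : s * s * s * s ∈ X := by
    have e : s * s * s * s = ((s * a * s⁻¹) * a * (s * a * s⁻¹)⁻¹) *
        (((s * a * s⁻¹) * a * (s * a * s⁻¹)⁻¹)⁻¹ * (s * s * s * s * a)) * a⁻¹ := by group
    rw [e]
    exact mul_mem (mul_mem ha3X (hQX h4)) (inv_mem haX)
  -- odd order arguments
  have hodd : ∀ Y : Subgroup G, s * s * s * s ∈ Y → s ^ n ∈ Y → s ∈ Y := by
    intro Y h1 h2
    obtain ⟨k, hk⟩ := hn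
    obtain ⟨j, hj⟩ : ∃ j, n * n = 4 * j + 1 := ⟨k * k + k, by rw [hk]; ring⟩
    have e1 : s ^ (n * n) ∈ Y := by rw [pow_mul]; exact pow_mem h2 n
    have e4 : s * s * s * s = s ^ 4 := by simp [pow_succ]
    have e2 : s ^ (4 * j) ∈ Y := by rw [pow_mul, ← e4]; exact pow_mem h1 j
    rw [hj, pow_add, pow_one] at e1
    have e3 := mul_mem (inv_mem e2) e1
    rwa [inv_mul_cancel_left] at e3
  have hsX : s ∈ X := hodd X hs4X (hQX hsn)
  exact hsQ (hodd Q (h.pow_four_mem hs has hsX.2) hsn)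

end Mov

end Cfsg.Agent.Omega.NO3S.Fit.PlaneCore
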