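import Mathlib

/-!
# LEMMA PLANE, the form on the seven points of a plane (abstract)

`E` is an elementary abelian group of order 8 with coordinates `e : 𝔽₂³ → E`; to every point `π ≠ 0` belongs a
subgroup `W π`, abelian and centralising `E`, with `[W π, W ρ] ≤ E`.  All `W ρ`, `ρ ≠ π`, act on
`W π / ⟨e π⟩` as the group of order 2 generated by `a π`.  The axioms `PForm` imply that for `π ≠ ρ` the
commutator `[w, g]` (`w ∈ W π`, `g ∈ W ρ`) is the cross product `λ_π(w) × λ_ρ(g)`, where `λ_π(w)` is the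
functional vanishing on the line `⟨π, [w, a π]⟩`.

Result (`exists_jj`): for `τ ≠ ξ` there are products `j = w₁w₂`, `j' = w₃w₄` which centralise `W ξ` and have
`[j, j'] = e τ`.
-/

set_option autoImplicit false
set_option synthInstance.maxHeartbeats 400000
set_option synthInstance.maxSize 1000
set_option maxRecDepth 100000

namespace Cfsg.Agent.Omega.NO3S.Fit.PlaneForm

open Subgroup

/-- `𝔽₂³`. -/
abbrev V3 : Type := ZMod 2 × ZMod 2 × ZMod 2

/-- The cross product. -/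
def cr (a b : V3) : V3 :=
  (a.2.1 * b.2.2 + a.2.2 * b.2.1, a.1 * b.2.2 + a.2.2 * b.1, a.1 * b.2.1 + a.2.1 * b.1)

/-- The scalar product. -/
def dt (a b : V3) : ZMod 2 := a.1 * b.1 + a.2.1 * b.2.1 + a.2.2 * b.2.2

theorem add_self : ∀ v : V3, v + v = 0 := by decide

theorem cr_add (a b c : V3) : cr a (b + c) = cr a b + cr a c := by
  obtain ⟨a1, a2, a3⟩ := a
  obtain ⟨b1, b2, b3⟩ := b
  obtain ⟨c1, c2, c3⟩ := c
  simp only [cr, Prod.mk_add_mk, Prod.mk.injEq]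
  refine ⟨by ring, by ring, by ring⟩

theorem dt_add (a b c : V3) : dt a (b + c) = dt a b + dt a c := by
  obtain ⟨a1, a2, a3⟩ := a
  obtain ⟨b1, b2, b3⟩ := b
  obtain ⟨c1, c2, c3⟩ := c
  simp only [dt, Prod.mk_add_mk]
  ring

theorem cr_self : ∀ a : V3, cr a a = 0 := by decide

theorem cr_zero : ∀ a : V3, cr a 0 = 0 := by decide

theorem dt_cr : ∀ a b : V3, dt a (cr a b) = 0 := by decide

theorem dt_cr' : ∀ a b : V3, dt a (cr b a) = 0 := by decide

theorem cr_cr : ∀ p l m : V3, cr p (cr l m) = dt p m • l + dt p l • m := by decide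

theorem eq_zero_of_cr : ∀ p r y : V3, p ≠ 0 → r ≠ 0 → p ≠ r → cr p y = 0 → cr r y = 0 → y = 0 := by
  decide

theorem eq_of_dt : ∀ p r m : V3, p ≠ 0 → r ≠ 0 → p ≠ r → dt p m = 0 → dt r m = 0 →
    m = 0 ∨ m = cr r p := by decide

theorem exists_of_dt : ∀ p m : V3, p ≠ 0 → dt p m = 0 → ∃ v, cr p v = m := by decide

theorem eq_of_cr_zero : ∀ p v : V3, p ≠ 0 → cr p v = 0 → v = 0 ∨ v = p := by decide

theorem exists_lines : ∀ x t : V3, x ≠ 0 → t ≠ 0 → t ≠ x →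
    ∃ p r m n : V3, (p ≠ 0 ∧ p ≠ x ∧ p ≠ t) ∧ (r ≠ 0 ∧ r ≠ x ∧ r ≠ t) ∧ p ≠ r ∧
      dt t m = 0 ∧ dt p m = 0 ∧ dt t n = 0 ∧ dt r n = 0 ∧ cr m n = t := by
  have key : ∀ x t : V3, x ≠ 0 → t ≠ 0 → t ≠ x → ∃ u : V3, (u ≠ 0 ∧ u ≠ x ∧ u ≠ t) ∧
      (x + u ≠ 0 ∧ x + u ≠ x ∧ x + u ≠ t) ∧ u ≠ x + u ∧
      dt t (cr t u) = 0 ∧ dt u (cr t u) = 0 ∧ dt t (cr t (x + u)) = 0 ∧
        dt (x + u) (cr t (x + u)) = 0 ∧ cr (cr t u) (cr t (x + u)) = t := by decide
  intro x t h1 h2 h3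
  obtain ⟨u, hu⟩ := key x t h1 h2 h3
  exact ⟨u, x + u, cr t u, cr t (x + u), hu⟩

variable {G : Type*} [Group G]

/-- The commutator `w g w⁻¹ g⁻¹`. -/
def cm (w g : G) : G := w * g * w⁻¹ * g⁻¹

theorem cm_eq_one {w g : G} : cm w g = 1 ↔ w * g = g * w := by
  unfold cm
  rw [mul_inv_eq_one, mul_inv_eq_iff_eq_mul]

theorem cm_inv (w g : G) : (cm w g)⁻¹ = cm g w := by
  unfold cm
  group

theorem cm_mul_left {x y z c : G} (h : cm y z = c) (hc : x * c = c * x) :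
    cm (x * y) z = c * cm x z := by
  have e1 : cm (x * y) z = x * cm y z * x⁻¹ * cm x z := by
    unfold cm
    group
  rw [e1, h, hc]
  group

theorem cm_mul_right {x y z c : G} (h : cm z y = c) (hc : x * c = c * x) :
    cm z (x * y) = cm z x * c := by
  have e1 : cm z (x * y) = cm z x * (x * cm z y * x⁻¹) := by
    unfold cm
    group
  rw [e1, h, hc]
  group

/-- The axioms. -/
structure PForm (e : V3 → G) (W : V3 → Subgroup G) (a : V3 → G) : Prop where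
  e_add : ∀ u v, e (u + v) = e u * e v
  e_inj : Function.Injective e
  comm : ∀ p, p ≠ 0 → ∀ w ∈ W p, ∀ w' ∈ W p, w * w' = w' * w
  cent : ∀ p, p ≠ 0 → ∀ w ∈ W p, ∀ v, w * e v = e v * w
  com : ∀ p r, p ≠ 0 → r ≠ 0 → p ≠ r → ∀ w ∈ W p, ∀ g ∈ W r, ∃ v, cm w g = e v
  amem : ∀ p, p ≠ 0 → ∃ r, r ≠ 0 ∧ r ≠ p ∧ a p ∈ W r
  same : ∀ p r, p ≠ 0 → r ≠ 0 → p ≠ r → ∀ g ∈ W r,
    (∀ w ∈ W p, cm w g = 1 ∨ cm w g = e p) ∨
      (∀ w ∈ W p, cm w g = cm w (a p) ∨ cm w g = cm w (a p) * e p)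
  onto : ∀ p, p ≠ 0 → ∀ v, ∃ w ∈ W p, cm w (a p) = e v ∨ cm w (a p) = e (v + p)
  inj : ∀ p, p ≠ 0 → ∀ w ∈ W p, (cm w (a p) = 1 ∨ cm w (a p) = e p) →
    ∀ r, r ≠ 0 → ∀ g ∈ W r, w * g = g * w
  one : ∀ p r, p ≠ 0 → r ≠ 0 → p ≠ r → ∃ w ∈ W p,
    (∀ g ∈ W r, cm w g = 1 ∨ cm w g = e r) ∧ ∃ g ∈ W r, cm w g = e r

/-- The coordinate of a commutator. -/
noncomputable def vl (e : V3 → G) (w g : G) : V3 := by
  classical
  exact if h : ∃ v, cm w g = e v then h.choose else 0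

theorem vl_spec {e : V3 → G} {w g : G} (h : ∃ v, cm w g = e v) : cm w g = e (vl e w g) := by
  unfold vl
  rw [dif_pos h]
  exact h.choose_spec

namespace PForm

variable {e : V3 → G} {W : V3 → Subgroup G} {a : V3 → G} (h : PForm e W a)
include h

theorem e_zero : e 0 = 1 := by
  have h1 := h.e_add 0 0
  rw [add_zero] at h1
  exact left_eq_mul.mp h1

theorem e_inv (v : V3) : (e v)⁻¹ = e v := by
  apply inv_eq_of_mul_eq_one_left
  rw [← h.e_add, add_self, h.e_zero]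

theorem vl_eq {w g : G} {v : V3} (hv : cm w g = e v) : vl e w g = v :=
  h.e_inj ((vl_spec ⟨v, hv⟩).symm.trans hv)

theorem vl_symm {w g : G} (hv : ∃ v, cm w g = e v) : vl e g w = vl e w g := by
  apply h.vl_eq
  rw [← cm_inv, vl_spec hv, h.e_inv]

theorem com' {p r : V3} (hp : p ≠ 0) (hr : r ≠ 0) {w g : G} (hw : w ∈ W p) (hg : g ∈ W r) :
    ∃ v, cm w g = e v := by
  by_cases hpr : p = r
  · subst hpr
    exact ⟨0, by rw [h.e_zero]; exact cm_eq_one.mpr (h.comm p hp w hw g hg)⟩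
  · exact h.com p r hp hr hpr w hw g hg

theorem vl_mul_left {p r : V3} (hp : p ≠ 0) (hr : r ≠ 0) {w w' g : G} (hw : w ∈ W p)
    (hw' : w' ∈ W p) (hg : g ∈ W r) : vl e (w * w') g = vl e w g + vl e w' g := by
  apply h.vl_eq
  rw [cm_mul_left (vl_spec (h.com' hp hr hw' hg)) (h.cent p hp w hw _),
    vl_spec (h.com' hp hr hw hg), ← h.e_add, add_comm]

/-- The functional `λ_π(w)`. -/
theorem a_com {p : V3} (hp : p ≠ 0) {w : G} (hw : w ∈ W p) : ∃ v, cm w (a p) = e v := by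
  obtain ⟨r, hr, -, ha⟩ := h.amem p hp
  exact h.com' hp hr hw ha

omit h in
/-- `λ_π(w) = π × [w, a π]`. -/
noncomputable def lam (e : V3 → G) (a : V3 → G) (p : V3) (w : G) : V3 := cr p (vl e w (a p))

theorem lam_mul {p : V3} (hp : p ≠ 0) {w w' : G} (hw : w ∈ W p) (hw' : w' ∈ W p) :
    lam e a p (w * w') = lam e a p w + lam e a p w' := by
  obtain ⟨r, hr, -, ha⟩ := h.amem p hp
  unfold lam
  rw [h.vl_mul_left hp hr hw hw' ha, cr_add]

omit h in
theorem dt_lam (p : V3) (w : G) : dt p (lam e a p w) = 0 := dt_cr _ _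

/-- Elements with `λ = 0` are central. -/
theorem comm_of_lam {p : V3} (hp : p ≠ 0) {w : G} (hw : w ∈ W p) (h0 : lam e a p w = 0) {r : V3}
    (hr : r ≠ 0) {g : G} (hg : g ∈ W r) : w * g = g * w := by
  refine h.inj p hp w hw ?_ r hr g hg
  rw [vl_spec (h.a_com hp hw)]
  rcases eq_of_cr_zero p _ hp h0 with h1 | h1
  · left; rw [h1, h.e_zero]
  · right; rw [h1]

/-- If `[g, w] = e ρ'` with `ρ' ∉ {0, p}` ... : the second alternative of `same`. -/
theorem lam_eq_of {p r : V3} (hp : p ≠ 0) (hr : r ≠ 0) (hpr : p ≠ r) {w g : G} (hw : w ∈ W p)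
    (hg : g ∈ W r) (hwg : cm w g = e r) : lam e a p w = cr p r := by
  have hne : ¬ ∀ w ∈ W p, cm w g = 1 ∨ cm w g = e p := by
    intro hcon
    rcases hcon w hw with h1 | h1
    · rw [hwg, ← h.e_zero] at h1
      exact hr (h.e_inj h1)
    · rw [hwg] at h1
      exact hpr (h.e_inj h1).symm
  rcases (h.same p r hp hr hpr g hg).resolve_left hne w hw with h1 | h1
  · rw [hwg] at h1
    unfold lam
    rw [h.vl_eq h1.symm]
  · rw [hwg, vl_spec (h.a_com hp hw), ← h.e_add] at h1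
    have h2 := h.e_inj h1
    unfold lam
    rw [h2, cr_add, cr_self, add_zero]

/-- Elements of `W p` centralising `W r` have `λ = 0`. -/
theorem lam_zero_of {p r : V3} (hp : p ≠ 0) (hr : r ≠ 0) (hpr : p ≠ r) {w : G} (hw : w ∈ W p)
    (hc : ∀ g ∈ W r, cm w g = 1) : lam e a p w = 0 := by
  obtain ⟨g', hg', -, g, hg, hgg⟩ := h.one r p hr hp (Ne.symm hpr)
  -- here `g' ∈ W r`, `g ∈ W p`, `[g', g] = e p`; use the pair `(p, r)` instead
  obtain ⟨w₁, hw₁, -, g₁, hg₁, h₁⟩ := h.one p r hp hr hpr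
  have hne : ¬ ∀ w ∈ W p, cm w g₁ = 1 ∨ cm w g₁ = e p := by
    intro hcon
    rcases hcon w₁ hw₁ with h1 | h1
    · rw [h₁, ← h.e_zero] at h1
      exact hr (h.e_inj h1)
    · rw [h₁] at h1
      exact hpr (h.e_inj h1).symm
  rcases (h.same p r hp hr hpr g₁ hg₁).resolve_left hne w hw with h1 | h1
  · rw [hc g₁ hg₁] at h1
    unfold lam
    rw [h.vl_eq (v := 0) (by rw [← h1, h.e_zero]), cr_zero]
  · rw [hc g₁ hg₁, vl_spec (h.a_com hp hw), ← h.e_add, ← h.e_zero] at h1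
    have h2 := h.e_inj h1
    unfold lam
    have h3 : vl e w (a p) = p := by
      have h4 : vl e w (a p) + p + p = p := by rw [← h2, zero_add]
      rwa [add_assoc, add_self, add_zero] at h4
    rw [h3, cr_self]

theorem cr_vl {p r : V3} (hp : p ≠ 0) (hr : r ≠ 0) (hpr : p ≠ r) {w g : G} (hw : w ∈ W p)
    (hg : g ∈ W r) : cr p (vl e w g) = dt p (lam e a r g) • lam e a p w := by
  by_cases hA : ∀ w ∈ W p, cm w g = 1 ∨ cm w g = e p
  · have h0 : cr p (vl e w g) = 0 := by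
      rcases hA w hw with h1 | h1
      · rw [h.vl_eq (v := 0) (by rw [h1, h.e_zero]), cr_zero]
      · rw [h.vl_eq h1, cr_self]
    have h1 : dt p (lam e a r g) = 0 := by
      by_cases hex : ∃ w₀ ∈ W p, cm w₀ g = e p
      · obtain ⟨w₀, hw₀, hwg⟩ := hex
        have h2 : cm g w₀ = e p := by rw [← cm_inv, hwg, h.e_inv]
        rw [h.lam_eq_of hr hp (Ne.symm hpr) hg hw₀ h2]
        exact dt_cr' _ _
      · push Not at hex
        have h2 : lam e a r g = 0 := by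
          refine h.lam_zero_of hr hp (Ne.symm hpr) hg fun w hw => ?_
          have h3 := (hA w hw).resolve_right (hex w hw)
          rw [← cm_inv, h3, inv_one]
        rw [h2]
        simp [dt]
    rw [h0, h1, zero_smul]
  · have hB := (h.same p r hp hr hpr g hg).resolve_left hA
    have h0 : cr p (vl e w g) = lam e a p w := by
      unfold lam
      rcases hB w hw with h1 | h1
      · rw [h.vl_eq (h1.trans (vl_spec (h.a_com hp hw)))]
      · rw [vl_spec (h.a_com hp hw), ← h.e_add] at h1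
        rw [h.vl_eq h1, cr_add, cr_self, add_zero]
    have h1 : dt p (lam e a r g) = 1 := by
      by_contra hcon
      have hz : ∀ x : ZMod 2, x ≠ 1 → x = 0 := by decide
      have h2 := hz _ hcon
      apply hA
      rcases eq_of_dt p r (lam e a r g) hp hr hpr h2 (dt_lam r g) with h3 | h3
      · intro w hw
        left
        exact cm_eq_one.mpr (h.comm_of_lam hr hg h3 hp hw).symm
      · obtain ⟨g₁, hg₁, hall, w₁, hw₁, hgw⟩ := h.one r p hr hp (Ne.symm hpr)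
        have h4 := h.lam_eq_of hr hp (Ne.symm hpr) hg₁ hw₁ hgw
        have h5 : lam e a r (g * g₁) = 0 := by
          rw [h.lam_mul hr hg hg₁, h3, h4, add_self]
        intro w hw
        have h6 := h.comm_of_lam hr ((W r).mul_mem hg hg₁) h5 hp hw
        -- `w` commutes with `g g₁`
        have h7 : cm w (g * g₁) = 1 := cm_eq_one.mpr h6.symm
        obtain ⟨v, hv⟩ := h.com' hp hr hw hg₁
        rw [cm_mul_right hv (h.cent r hr g hg v)] at h7
        have h8 : cm w g = e v := by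
          rw [mul_eq_one_iff_eq_inv, h.e_inv] at h7
          exact h7
        have h9 : cm g₁ w = e v := by rw [← cm_inv, hv, h.e_inv]
        rcases hall w hw with h10 | h10
        · left; rw [h8, ← h9, h10]
        · right; rw [h8, ← h9, h10]
    rw [h0, h1, one_smul]

/-- **The commutator is the cross product.** -/
theorem vl_eq_cr {p r : V3} (hp : p ≠ 0) (hr : r ≠ 0) (hpr : p ≠ r) {w g : G} (hw : w ∈ W p)
    (hg : g ∈ W r) : vl e w g = cr (lam e a p w) (lam e a r g) := by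
  have h1 := h.cr_vl hp hr hpr hw hg
  have h2 := h.cr_vl hr hp (Ne.symm hpr) hg hw
  rw [h.vl_symm (h.com' hp hr hw hg)] at h2
  have h3 : cr p (cr (lam e a p w) (lam e a r g)) = dt p (lam e a r g) • lam e a p w := by
    rw [cr_cr, dt_lam, zero_smul, add_zero]
  have h4 : cr r (cr (lam e a p w) (lam e a r g)) = dt r (lam e a p w) • lam e a r g := by
    rw [cr_cr, dt_lam, zero_smul, zero_add]
  have h5 : vl e w g + cr (lam e a p w) (lam e a r g) = 0 := by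
    apply eq_zero_of_cr p r _ hp hr hpr
    · rw [cr_add, h1, h3, add_self]
    · rw [cr_add, h2, h4, add_self]
  have h6 : vl e w g + cr (lam e a p w) (lam e a r g) + cr (lam e a p w) (lam e a r g) =
      cr (lam e a p w) (lam e a r g) := by rw [h5, zero_add]
  rwa [add_assoc, add_self, add_zero] at h6

/-- Every functional vanishing at `p` is some `λ_p(w)`. -/
theorem exists_lam {p : V3} (hp : p ≠ 0) {m : V3} (hm : dt p m = 0) :
    ∃ w ∈ W p, lam e a p w = m := by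
  obtain ⟨v, hv⟩ := exists_of_dt p m hp hm
  obtain ⟨w, hw, h1⟩ := h.onto p hp v
  refine ⟨w, hw, ?_⟩
  unfold lam
  rcases h1 with h1 | h1
  · rw [h.vl_eq h1, hv]
  · rw [h.vl_eq h1, cr_add, cr_self, add_zero, hv]

/-- The product of elements over the same line at two points centralises the other points. -/
theorem comm_pair {x t p m : V3} (hx : x ≠ 0) (ht : t ≠ 0) (hp : p ≠ 0) (hxt : x ≠ t)
    (hxp : x ≠ p) {w₁ w₂ : G} (h1 : w₁ ∈ W t) (h2 : w₂ ∈ W p) (hl1 : lam e a t w₁ = m)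
    (hl2 : lam e a p w₂ = m) {w : G} (hw : w ∈ W x) : w * (w₁ * w₂) = w₁ * w₂ * w := by
  rw [← cm_eq_one, cm_mul_right (vl_spec (h.com' hx hp hw h2)) (h.cent t ht w₁ h1 _),
    vl_spec (h.com' hx ht hw h1), ← h.e_add, h.vl_eq_cr hx hp hxp hw h2,
    h.vl_eq_cr hx ht hxt hw h1, hl1, hl2, add_self, h.e_zero]

/-- **(b)** For `t ≠ x` there are products `j = w₁w₂`, `j' = w₃w₄` centralising `W x` with
`[j, j'] = e t`. -/
theorem exists_jj {x t : V3} (hx : x ≠ 0) (ht : t ≠ 0) (htx : t ≠ x) :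
    ∃ p r : V3, p ≠ 0 ∧ r ≠ 0 ∧ ∃ w₁ ∈ W t, ∃ w₂ ∈ W p, ∃ w₃ ∈ W t, ∃ w₄ ∈ W r,
      (∀ w ∈ W x, w * (w₁ * w₂) = w₁ * w₂ * w) ∧ (∀ w ∈ W x, w * (w₃ * w₄) = w₃ * w₄ * w) ∧
      cm (w₁ * w₂) (w₃ * w₄) = e t := by
  obtain ⟨p, r, m, n, ⟨hp, hpx, hpt⟩, ⟨hr, hrx, hrt⟩, hpr, h1, h2, h3, h4, h5⟩ :=
    exists_lines x t hx ht htx
  obtain ⟨w₁, hw₁, hl₁⟩ := h.exists_lam ht h1
  obtain ⟨w₂, hw₂, hl₂⟩ := h.exists_lam hp h2
  obtain ⟨w₃, hw₃, hl₃⟩ := h.exists_lam ht h3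
  obtain ⟨w₄, hw₄, hl₄⟩ := h.exists_lam hr h4
  refine ⟨p, r, hp, hr, w₁, hw₁, w₂, hw₂, w₃, hw₃, w₄, hw₄, ?_, ?_, ?_⟩
  · intro w hw
    exact h.comm_pair hx ht hp (Ne.symm htx) (Ne.symm hpx) hw₁ hw₂ hl₁ hl₂ hw
  · intro w hw
    exact h.comm_pair hx ht hr (Ne.symm htx) (Ne.symm hrx) hw₃ hw₄ hl₃ hl₄ hw
  · have c13 : cm w₁ w₃ = e 0 := by
      rw [h.e_zero]
      exact cm_eq_one.mpr (h.comm t ht w₁ hw₁ w₃ hw₃)
    have c14 : cm w₁ w₄ = e t := by
      rw [vl_spec (h.com' ht hr hw₁ hw₄), h.vl_eq_cr ht hr (Ne.symm hrt) hw₁ hw₄, hl₁, hl₄, h5]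
    have c23 : cm w₂ w₃ = e t := by
      rw [vl_spec (h.com' hp ht hw₂ hw₃), h.vl_eq_cr hp ht hpt hw₂ hw₃, hl₂, hl₃, h5]
    have c24 : cm w₂ w₄ = e t := by
      rw [vl_spec (h.com' hp hr hw₂ hw₄), h.vl_eq_cr hp hr hpr hw₂ hw₄, hl₂, hl₄, h5]
    have d1 : cm w₁ (w₃ * w₄) = e t := by
      rw [cm_mul_right c14 (h.cent t ht w₃ hw₃ t), c13, ← h.e_add, zero_add]
    have d2 : cm w₂ (w₃ * w₄) = e 0 := by
      rw [cm_mul_right c24 (h.cent t ht w₃ hw₃ t), c23, ← h.e_add, add_self]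
    rw [cm_mul_left d2 (h.cent t ht w₁ hw₁ 0), d1, ← h.e_add, zero_add]

end PForm

end Cfsg.Agent.Omega.NO3S.Fit.PlaneForm
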