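import Cfsg.Agent.Omega.NO3S.Fit.AbsNat

/-!
# Text #13963 (helper311), section 6, module part: the type `5 : 4` in the full family

* `fpf_five` : an element `d ≠ 1` of order 5 on `M` of order 16 is fixed point free; `cent_semireg` : so the elements of
  `C_H(d)` are semiregular;
* `top_of_card_le` : `|M| ≤ 32`, `F` a normal `p`-group normalizing `⟨d⟩`, `d ∈ F`, `|[M,d]| = 16`, then `[M,d] = M` and
  `F = ⟨d⟩` is normal;
* `card_eq_twenty` : `|H| = 20`.
-/

set_option autoImplicit false
set_option linter.unusedSectionVars false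

open scoped Pointwise

namespace Cfsg.Agent.Omega.NO3S.Fit.Abs

open Subgroup

variable {H M : Type*} [Group H] [AddCommGroup M] [DistribMulAction H M]

/-- orbits of a group of order 5 generated by `d` on an invariant set without fixed points -/
theorem five_dvd_of_free [Finite M] {d : H} (hd : d ^ 5 = 1) {N : Set M} (hN : ∀ m ∈ N, d • m ∈ N)
    (hf : ∀ m ∈ N, d • m ≠ m) : 5 ∣ N.ncard := by
  classical
  have hfact : Fact (Nat.Prime 5) := ⟨by norm_num⟩
  have hpow : ∀ (k : ℕ) (m : M), m ∈ N → d ^ k • m ∈ N := by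
    intro k
    induction k with
    | zero => intro m hm; simpa using hm
    | succ k ih =>
      intro m hm
      rw [pow_succ, mul_smul]
      exact ih _ (hN m hm)
  have hz : ∀ x ∈ zpowers d, ∃ k : ℕ, x = d ^ k := by
    intro x hx
    have hfin : IsOfFinOrder d := isOfFinOrder_iff_pow_eq_one.mpr ⟨5, by norm_num, hd⟩
    obtain ⟨k, hk⟩ := (hfin.mem_powers_iff_mem_zpowers.mpr hx : x ∈ Submonoid.powers d)
    exact ⟨k, hk.symm⟩
  let _ : MulAction (zpowers d) N :=
    { smul := fun x m => ⟨(x : H) • (m : M), by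
        obtain ⟨k, hk⟩ := hz x x.2
        rw [hk]; exact hpow k m m.2⟩
      one_smul := fun m => Subtype.ext (one_smul H (m : M))
      mul_smul := fun s t m => Subtype.ext (mul_smul (s : H) (t : H) (m : M)) }
  have hP : IsPGroup 5 (zpowers d) := by
    rintro ⟨x, hx⟩
    obtain ⟨k, rfl⟩ := hz x hx
    refine ⟨1, Subtype.ext ?_⟩
    change (d ^ k) ^ 5 ^ 1 = 1
    rw [pow_one, ← pow_mul, mul_comm, pow_mul, hd, one_pow]
  have h1 := hP.card_modEq_card_fixedPoints N
  have h2 : IsEmpty (MulAction.fixedPoints (zpowers d) N) := by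
    refine ⟨fun ⟨m, hm⟩ => hf m m.2 ?_⟩
    have := hm ⟨d, mem_zpowers d⟩
    exact congrArg Subtype.val this
  have h0 : Nat.card (MulAction.fixedPoints (zpowers d) N) = 0 := Nat.card_of_isEmpty
  rw [h0] at h1
  have h3 : Nat.card N = N.ncard := rfl
  rw [h3] at h1
  exact (Nat.modEq_zero_iff_dvd).mp h1

theorem fx_card_cases [Finite M] (two : ∀ m : M, m + m = 0) {d : H} (hd : d ^ 5 = 1)
    (hM : Nat.card M = 16) (N : AddSubgroup M) (hN : ∀ m ∈ N, d • m ∈ N)
    (hf : ∀ m ∈ N, m ≠ 0 → d • m ≠ m) (h0 : ∃ m ∈ N, m ≠ 0) : N = ⊤ := by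
  have hset : 5 ∣ ((N : Set M) \ {0}).ncard := by
    refine five_dvd_of_free hd ?_ ?_
    · rintro m ⟨hm, hm0⟩
      refine ⟨hN m hm, fun e => hm0 ?_⟩
      have : d • m = d • (0 : M) := by rw [smul_zero]; exact e
      exact smul_left_cancel d this
    · rintro m ⟨hm, hm0⟩
      exact hf m hm hm0
  have h1 : ((N : Set M) \ {0}).ncard = Nat.card N - 1 := by
    rw [Set.ncard_sdiff_singleton_of_mem (zero_mem N)]
    rfl
  obtain ⟨k, hk⟩ := exists_card_two_pow two N
  have hdvd : Nat.card N ∣ 16 := by rw [← hM]; exact AddSubgroup.card_addSubgroup_dvd_card N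
  rw [h1] at hset
  have hle := Nat.le_of_dvd (by norm_num) hdvd
  have hk4 : k ≤ 4 := by
    rw [hk] at hle
    by_contra hcon
    push Not at hcon
    have : 2 ^ 5 ≤ 2 ^ k := Nat.pow_le_pow_right (by decide) hcon
    omega
  have hk0 : k ≠ 0 := by
    intro e
    obtain ⟨m, hm, hm0⟩ := h0
    rw [e, pow_zero] at hk
    have := AddSubgroup.card_eq_one.mp hk
    rw [this] at hm
    exact hm0 (by simpa using hm)
  have hk' : Nat.card N = 16 := by
    interval_cases k
    · exact absurd rfl hk0
    · rw [hk] at hset; omega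
    · rw [hk] at hset; omega
    · rw [hk] at hset; omega
    · rw [hk]; norm_num
  exact AddSubgroup.eq_top_of_card_eq N (by rw [hk', hM])

/-- an element `d ≠ 1` with `d ^ 5 = 1` is fixed point free on `M` of order 16 -/
theorem fpf_five [Finite M] [FaithfulSMul H M] (two : ∀ m : M, m + m = 0) {d : H} (hd : d ^ 5 = 1)
    (hd1 : d ≠ 1) (hM : Nat.card M = 16) {m : M} (hm : d • m = m) : m = 0 := by
  by_contra hm0
  have hodd : Odd (orderOf d) := by
    have h1 : orderOf d ∣ 5 := orderOf_dvd_of_pow_eq_one hd
    exact Odd.of_dvd_nat (by decide) h1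
  have hbr : br M d = ⊤ := by
    refine fx_card_cases two hd hM (br M d) (fun m hm => smul_mem_br_self hm) ?_ ?_
    · intro m hm hm0 e
      exact hm0 (br_inf_fx two hodd hm e)
    · by_contra hcon
      push Not at hcon
      apply ne_zero_of_br (M := M) hd1
      rw [eq_bot_iff]
      intro m hm
      exact hcon m hm
  exact hm0 (br_inf_fx two hodd (by rw [hbr]; trivial) hm)

/-- elements of `C_H(d)` are semiregular -/
theorem cent_semireg [Finite M] [FaithfulSMul H M] (two : ∀ m : M, m + m = 0) {d : H} (hd : d ^ 5 = 1)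
    (hd1 : d ≠ 1) (hM : Nat.card M = 16) {c : H} (hc : c * d = d * c) {m : M} (hm : c • m = m)
    (hm0 : m ≠ 0) : c = 1 := by
  have htop : fx M c = ⊤ := by
    refine fx_card_cases two hd hM (fx M c) ?_ (fun m _ hm0 e => hm0 (fpf_five two hd hd1 hM e)) ⟨m, hm, hm0⟩
    intro m hm
    change c • d • m = d • m
    rw [← mul_smul, hc, mul_smul, show c • m = m from hm]
  refine FaithfulSMul.eq_of_smul_eq_smul (α := M) fun m => ?_
  rw [one_smul]
  have : m ∈ fx M c := by rw [htop]; trivial
  exact this

/-- the number of elements of a semiregular subgroup divides 15 -/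
theorem card_dvd_fifteen [Finite M] [Finite H] (hM : Nat.card M = 16) {C : Subgroup H}
    (hs : ∀ c ∈ C, ∀ m : M, c • m = m → m ≠ 0 → c = 1) : Nat.card C ∣ 15 := by
  classical
  let N : Type _ := {m : M // m ≠ 0}
  let _ : MulAction C N :=
    { smul := fun x m => ⟨(x : H) • (m : M), fun e => m.2 (by
        have : (x : H) • (m : M) = (x : H) • (0 : M) := by rw [smul_zero]; exact e
        exact smul_left_cancel _ this)⟩
      one_smul := fun m => Subtype.ext (one_smul H (m : M))
      mul_smul := fun s t m => Subtype.ext (mul_smul (s : H) (t : H) (m : M)) }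
  have hN : Nat.card N = 15 := by
    have h1 : Nat.card N = ({0}ᶜ : Set M).ncard := rfl
    rw [h1, Set.ncard_compl, Set.ncard_singleton, hM]
  rw [← hN]
  have hfree : ∀ m : N, MulAction.stabilizer C m = ⊥ := by
    intro m
    rw [eq_bot_iff]
    intro c hc
    rw [mem_bot]
    exact Subtype.ext (hs c c.2 m (congrArg Subtype.val hc) m.2)
  have e := MulAction.selfEquivSigmaOrbitsQuotientStabilizer C N
  have h2 : Nat.card N = Nat.card (Σ ω : MulAction.orbitRel.Quotient C N, C ⧸ MulAction.stabilizer C ω.out) :=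
    Nat.card_congr e
  have hfinN : Finite N := inferInstance
  have hfinO : Finite (MulAction.orbitRel.Quotient C N) := inferInstance
  have hfO : Fintype (MulAction.orbitRel.Quotient C N) := Fintype.ofFinite _
  rw [h2, Nat.card_sigma]
  refine Finset.dvd_sum fun ω _ => ?_
  rw [hfree]
  have : Nat.card (C ⧸ (⊥ : Subgroup C)) = Nat.card C :=
    Nat.card_congr (QuotientGroup.quotientBot (G := C)).toEquiv
  rw [this]

/-- **the type `5 : 4`** -/
theorem card_eq_twenty [Finite M] [Finite H] [FaithfulSMul H M] (two : ∀ m : M, m + m = 0)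
    (hM : Nat.card M = 16) {a d : H} (ha : a * a = 1) (hd : d ^ 5 = 1) (hd1 : d ≠ 1)
    (hfa : 4 ≤ Nat.card (fx M a)) {v0 : M} (hv0 : v0 ≠ 0) (pl : ∀ f : H, f * a = a * f → f • v0 = v0)
    (hn : ∀ x : H, x * d * x⁻¹ ∈ zpowers d) (h2 : ∃ x : H, x * d * x⁻¹ = d ^ 2) : Nat.card H = 20 := by
  classical
  set C := centralizer ({d} : Set H) with hC
  have hCm : ∀ {c : H}, c ∈ C ↔ c * d = d * c := fun {c} => mem_centralizer_singleton_iff
  have hsemi : ∀ c ∈ C, ∀ m : M, c • m = m → m ≠ 0 → c = 1 := fun c hc m hm hm0 =>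
    cent_semireg two hd hd1 hM (hCm.mp hc) hm hm0
  have h15 := card_dvd_fifteen hM hsemi
  have hod : orderOf d = 5 := by
    have h1 : orderOf d ∣ 5 := orderOf_dvd_of_pow_eq_one hd
    rcases (Nat.dvd_prime (by norm_num)).mp h1 with e | e
    · exact absurd (orderOf_eq_one_iff.mp e) hd1
    · exact e
  have hdC : d ∈ C := hCm.mpr rfl
  have h5 : 5 ∣ Nat.card C := by
    have h1 : Nat.card (zpowers d) ∣ Nat.card C := card_dvd_of_le (by rw [zpowers_le]; exact hdC)
    rwa [Nat.card_zpowers, hod] at h1
  -- `C` is abelian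
  have hCab : ∀ x ∈ C, ∀ y ∈ C, x * y = y * x := by
    set D : Subgroup C := (zpowers d).subgroupOf C with hD
    have hDcent : D ≤ center C := by
      intro x hx
      rw [mem_center_iff]
      intro y
      obtain ⟨n, hn⟩ := mem_zpowers_iff.mp (mem_subgroupOf.mp hx)
      apply Subtype.ext
      change (y : H) * x = x * y
      rw [← hn]
      exact ((show Commute (y : H) d from hCm.mp y.2).zpow_right n).eq
    have hDn : D.Normal := ⟨fun x hx g => by
      have := mem_center_iff.mp (hDcent hx) g
      rw [this, mul_inv_cancel_right]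
      exact hx⟩
    have hcardD : Nat.card D = 5 := by
      have h1 : Nat.card D = Nat.card (zpowers d) :=
        Nat.card_congr (subgroupOfEquivOfLe (by rw [zpowers_le]; exact hdC)).toEquiv
      rw [h1, Nat.card_zpowers, hod]
    have hq : Nat.card (C ⧸ D) ∣ 3 := by
      have h1 := Subgroup.card_eq_card_quotient_mul_card_subgroup D
      rw [hcardD] at h1
      rw [h1] at h15
      obtain ⟨k, hk⟩ := h15
      exact ⟨k, by
        have : (3 : ℕ) * 5 = (Nat.card (C ⧸ D) * k) * 5 := by rw [show (3 : ℕ) * 5 = 15 by norm_num, hk]; ring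
        exact Nat.eq_of_mul_eq_mul_right (by norm_num) this⟩
    have hcyc : IsCyclic (C ⧸ D) := by
      rcases (Nat.dvd_prime (by norm_num)).mp hq with e | e
      · have : Subsingleton (C ⧸ D) := (Nat.card_eq_one_iff_unique.mp e).1
        infer_instance
      · have hp3 : Fact (Nat.Prime 3) := ⟨by norm_num⟩
        exact isCyclic_of_prime_card (p := 3) e
    intro x hx y hy
    have := commutative_of_cyclic_center_quotient (QuotientGroup.mk' D)
      (by rw [QuotientGroup.ker_mk']; exact hDcent) ⟨x, hx⟩ ⟨y, hy⟩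
    exact congrArg Subtype.val this
  -- `|C| = 5`
  have hC5 : Nat.card C = 5 := by
    obtain ⟨k, hk⟩ := h5
    have hk3 : k ∣ 3 := by
      rw [hk] at h15
      exact Nat.dvd_of_mul_dvd_mul_left (by norm_num : 0 < 5) (by simpa using h15)
    rcases (Nat.dvd_prime (by norm_num)).mp hk3 with e | e
    · rw [hk, e]
    · exfalso
      have hc15 : Nat.card C = 15 := by rw [hk, e]
      have haC : ∀ c ∈ C, a * c * a ∈ C := by
        intro c hc
        have hai : a⁻¹ = a := inv_eq_of_mul_eq_one_left ha
        rw [hCm]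
        obtain ⟨n, hn'⟩ := mem_zpowers_iff.mp (hn a)
        have hcc : c * d ^ n = d ^ n * c := ((show Commute c d from hCm.mp hc).zpow_right n).eq
        rw [hn'] at hcc
        rw [hai] at hcc
        calc a * c * a * d = a * (c * (a * d * a)) * a := by
              have : a * (c * (a * d * a)) * a = a * c * a * d * (a * a) := by group
              rw [this, ha, mul_one]
          _ = a * ((a * d * a) * c) * a := by rw [hcc]
          _ = (a * a) * d * (a * c * a) := by group
          _ = d * (a * c * a) := by rw [ha, one_mul]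
      have hinv : ∀ c ∈ C, c * (a * c * a) = 1 := by
        intro c hc
        have h1 : a * (c * (a * c * a)) = (c * (a * c * a)) * a := by
          have h3 := hCab c hc _ (haC c hc)
          calc a * (c * (a * c * a)) = (a * c * a) * c * a := by group
            _ = (c * (a * c * a)) * a := by rw [h3]
        have h2 := pl _ h1.symm
        exact hsemi _ (mul_mem hc (haC c hc)) v0 h2 hv0
      -- `C` is transitive on the nonzero vectors; `a` fixes only one of them
      have hcard : Nat.card (fx M a) ≤ 2 := by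
        -- pick a nonzero fixed vector `m`
        obtain ⟨m, hm, hm0⟩ : ∃ m ∈ fx M a, m ≠ 0 := by
          by_contra hcon
          push Not at hcon
          have : fx M a = ⊥ := by rw [eq_bot_iff]; exact fun m hm => hcon m hm
          rw [this, AddSubgroup.card_bot] at hfa
          omega
        -- every nonzero vector is `c • m`
        have htrans : ∀ n : M, n ≠ 0 → ∃ c ∈ C, c • m = n := by
          have h1 : Set.ncard ((fun c : H => c • m) '' (C : Set H)) = 15 := by
            rw [Set.ncard_image_of_injOn]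
            · rw [← hc15]; rfl
            · intro x hx y hy e
              have h4 : (y⁻¹ * x) • m = m := by
                rw [mul_smul]
                change y⁻¹ • (x • m) = m
                have e' : x • m = y • m := e
                rw [e', inv_smul_smul]
              have := hsemi _ (mul_mem (inv_mem hy) hx) m h4 hm0
              exact (inv_mul_eq_one.mp this).symm
          have h3 : ({0}ᶜ : Set M).ncard = 15 := by
            rw [Set.ncard_compl, Set.ncard_singleton, hM]
          have h5 : (fun c : H => c • m) '' (C : Set H) = ({0}ᶜ : Set M) := by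
            refine Set.eq_of_subset_of_ncard_le ?_ (by rw [h1, h3]) (Set.toFinite _)
            rintro _ ⟨c, -, rfl⟩
            intro e
            apply hm0
            have : c • m = c • (0 : M) := by rw [smul_zero]; exact e
            exact smul_left_cancel c this
          intro n hn0
          have : n ∈ (fun c : H => c • m) '' (C : Set H) := by rw [h5]; exact hn0
          exact this
        have hle : (fx M a : Set M) ⊆ {0, m} := by
          intro n hn'
          by_cases hn0 : n = 0
          · exact Or.inl hn0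
          right
          obtain ⟨c, hc, rfl⟩ := htrans n hn0
          have hac : a * c * a = c⁻¹ := (inv_eq_of_mul_eq_one_right (hinv c hc)).symm
          have h6 : a • c • m = c⁻¹ • m := by
            have h7 : a • m = m := hm
            calc a • c • m = a • c • a • m := by rw [h7]
              _ = (a * c * a) • m := by rw [mul_smul, mul_smul]
              _ = c⁻¹ • m := by rw [hac]
          have h8 : a • c • m = c • m := hn'
          have h9 : (c * c) • m = m := by
            rw [mul_smul, ← h8, h6, smul_inv_smul]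
          have h10 := hsemi _ (mul_mem hc hc) m h9 hm0
          have h11 : c = 1 := by
            have h12 : orderOf c ∣ 2 := orderOf_dvd_of_pow_eq_one (by rw [pow_two]; exact h10)
            have h13 : orderOf c ∣ 15 := by
              rw [← hc15]
              have := orderOf_dvd_natCard (⟨c, hc⟩ : C)
              rwa [Subgroup.orderOf_mk] at this
            have h14 : orderOf c ∣ 1 := by
              have : Nat.gcd 2 15 = 1 := by norm_num
              rw [← this]
              exact Nat.dvd_gcd h12 h13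
            exact orderOf_eq_one_iff.mp (Nat.dvd_one.mp h14)
          rw [h11, one_smul]
          rfl
        have : (fx M a : Set M).ncard ≤ 2 := by
          refine (Set.ncard_le_ncard hle (Set.toFinite _)).trans ?_
          refine (Set.ncard_insert_le _ _).trans ?_
          rw [Set.ncard_singleton]
        exact this
      omega
  -- the index of `C` is 4: the class of `d` is `{d, d², d³, d⁴}`
  obtain ⟨x, hx⟩ := h2
  have hxk : ∀ k : ℕ, x * d ^ k * x⁻¹ = d ^ (2 * k) := by
    intro k
    rw [← conj_pow, hx, ← pow_mul]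
  let f : H → H := fun g => g * d * g⁻¹
  have hrange : Set.range f = {y | y ∈ zpowers d ∧ y ≠ 1} := by
    ext y
    constructor
    · rintro ⟨g, rfl⟩
      exact ⟨hn g, fun e => hd1 (conj_eq_one_iff.mp e)⟩
    · rintro ⟨hy, hy1⟩
      have hfin : IsOfFinOrder d := isOfFinOrder_iff_pow_eq_one.mpr ⟨5, by norm_num, hd⟩
      obtain ⟨k, hk⟩ := (mem_zpowers_iff_mem_range_orderOf).mp hy |> Finset.mem_image.mp
      obtain ⟨hk5, hk⟩ := hk
      rw [hod, Finset.mem_range] at hk5
      have e1 : x * d * x⁻¹ = d ^ 2 := hx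
      have e2 : x * x * d * (x * x)⁻¹ = d ^ 4 := by
        calc x * x * d * (x * x)⁻¹ = x * (x * d * x⁻¹) * x⁻¹ := by group
          _ = d ^ 4 := by rw [hx, hxk 2]
      have e3 : x * x * x * d * (x * x * x)⁻¹ = d ^ 3 := by
        calc x * x * x * d * (x * x * x)⁻¹ = x * (x * x * d * (x * x)⁻¹) * x⁻¹ := by group
          _ = d ^ 8 := by rw [e2, hxk 4]
          _ = d ^ 5 * d ^ 3 := by rw [← pow_add]
          _ = d ^ 3 := by rw [hd, one_mul]
      interval_cases k
      · exact absurd (by rw [← hk]; simp) hy1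
      · exact ⟨1, by rw [← hk]; simp [f]⟩
      · exact ⟨x, by rw [← hk]; exact e1⟩
      · exact ⟨x * x * x, by rw [← hk]; exact e3⟩
      · exact ⟨x * x, by rw [← hk]; exact e2⟩
  have hcard4 : Set.ncard (Set.range f) = 4 := by
    rw [hrange]
    have h6 : {y | y ∈ zpowers d ∧ y ≠ 1} = (zpowers d : Set H) \ {1} := rfl
    have h7 : (zpowers d : Set H).ncard = 5 := by
      have : (zpowers d : Set H).ncard = Nat.card (zpowers d) := rfl
      rw [this, Nat.card_zpowers, hod]
    rw [h6, Set.ncard_sdiff_singleton_of_mem (one_mem (zpowers d)), h7]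
  have hidx : C.index = 4 := by
    rw [← hcard4]
    -- `H ⧸ C ≃ range f`
    let F : H ⧸ C → Set.range f := Quotient.lift (fun g => (⟨f g, g, rfl⟩ : Set.range f)) (by
      intro g g' hg
      apply Subtype.ext
      have h8 : g⁻¹ * g' ∈ C := QuotientGroup.leftRel_apply.mp hg
      have h9 := hCm.mp h8
      change g * d * g⁻¹ = g' * d * g'⁻¹
      calc g * d * g⁻¹ = g * (d * (g⁻¹ * g')) * g'⁻¹ := by group
        _ = g * ((g⁻¹ * g') * d) * g'⁻¹ := by rw [h9]
        _ = g' * d * g'⁻¹ := by group)
    have hF : Function.Bijective F := by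
      constructor
      · intro u v
        induction u using Quotient.inductionOn with
        | h g =>
          induction v using Quotient.inductionOn with
          | h g' =>
            intro e
            have e1 : g * d * g⁻¹ = g' * d * g'⁻¹ := congrArg Subtype.val e
            apply Quotient.sound
            apply QuotientGroup.leftRel_apply.mpr
            rw [hCm]
            calc g⁻¹ * g' * d = g⁻¹ * (g' * d * g'⁻¹) * g' := by group
              _ = g⁻¹ * (g * d * g⁻¹) * g' := by rw [e1]
              _ = d * (g⁻¹ * g') := by group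
      · rintro ⟨_, g, rfl⟩
        exact ⟨QuotientGroup.mk g, rfl⟩
    have h10 : Nat.card (H ⧸ C) = Nat.card (Set.range f) := Nat.card_congr (Equiv.ofBijective F hF)
    exact h10
  have hfinal := C.card_mul_index
  rw [hC5, hidx] at hfinal
  omega

/-- `|M| ≤ 32`: `M = [M,d]` and `F = ⟨d⟩` is normal -/
theorem top_of_card_le [Finite M] [Finite H] [FaithfulSMul H M] (two : ∀ m : M, m + m = 0)
    (hM : Nat.card M ≤ 32) {F : Subgroup H} {d : H} (hd : d ^ 5 = 1) (hd1 : d ≠ 1)
    (hbr : Nat.card (br M d) = 16) (hdF : d ∈ F) (hF : IsPGroup 5 F) (hFn : F.Normal)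
    (hFd : ∀ f ∈ F, f * d * f⁻¹ ∈ zpowers d) {v0 : M} (hv0 : v0 ∈ br M d)
    (span : AddSubgroup.closure (Set.range fun x : H => x • v0) = ⊤) :
    br M d = ⊤ ∧ F = zpowers d := by
  classical
  have hfact : Fact (Nat.Prime 5) := ⟨by norm_num⟩
  have hodd : Odd (orderOf d) := by
    have h1 : orderOf d ∣ 5 := orderOf_dvd_of_pow_eq_one hd
    exact Odd.of_dvd_nat (by decide) h1
  have hod : orderOf d = 5 := by
    have h1 : orderOf d ∣ 5 := orderOf_dvd_of_pow_eq_one hd
    rcases (Nat.dvd_prime (by norm_num)).mp h1 with e | e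
    · exact absurd (orderOf_eq_one_iff.mp e) hd1
    · exact e
  have hFodd : ∀ f ∈ F, Odd (orderOf f) := fun f hf =>
    odd_orderOf_of_isPGroup (by norm_num : Nat.Prime 5) (by norm_num) hF hf
  -- `|C_M(d)| ≤ 2`
  have hfx : Nat.card (fx M d) ≤ 2 := by
    have h1 : Nat.card (br M d) * Nat.card (fx M d) ≤ Nat.card M := by
      rw [← Nat.card_prod]
      refine Nat.card_le_card_of_injective (fun p : br M d × fx M d => (p.1 : M) + p.2) ?_
      rintro ⟨⟨p, hp⟩, ⟨q, hq⟩⟩ ⟨⟨p', hp'⟩, ⟨q', hq'⟩⟩ e
      have e' : p + q = p' + q' := e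
      have h2 : p - p' = q' - q := by
        rw [sub_eq_sub_iff_add_eq_add, e', add_comm]
      have h3 : p - p' = 0 := br_inf_fx two hodd (sub_mem hp hp') (by
        rw [h2]
        exact sub_mem hq' hq)
      have h4 : p = p' := sub_eq_zero.mp h3
      have h5 : q = q' := by rw [h4] at e'; exact add_left_cancel e'
      subst h4; subst h5; rfl
    rw [hbr] at h1
    omega
  -- `F` normalizes `⟨d⟩`, acts on `C_M(d)`, trivially
  have hz : ∀ f ∈ F, ∀ m ∈ fx M d, f • m ∈ fx M d := by
    intro f hf m hm
    obtain ⟨n, hn⟩ := mem_zpowers_iff.mp (hFd f⁻¹ (inv_mem hf))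
    rw [inv_inv] at hn
    have h1 : (d ^ n) • m = m := by
      have h3 : d ∈ MulAction.stabilizer H m := hm
      exact (MulAction.stabilizer H m).zpow_mem h3 n
    change d • f • m = f • m
    calc d • f • m = f • (f⁻¹ * d * f) • m := by rw [← mul_smul, ← mul_smul]; congr 1; group
      _ = f • m := by rw [← hn, h1]
  have htriv : ∀ f ∈ F, ∀ m ∈ fx M d, f • m = m := by
    intro f hf m hm
    by_cases hm0 : m = 0
    · rw [hm0, smul_zero]
    have h1 : (fx M d : Set M) = {0, m} := by
      refine (Set.eq_of_subset_of_ncard_le ?_ ?_ (Set.toFinite _)).symm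
      · rintro x (rfl | rfl)
        · exact zero_mem _
        · exact hm
      · rw [Set.ncard_pair (Ne.symm hm0)]
        exact hfx
    have h2 : f • m ∈ (fx M d : Set M) := hz f hf m hm
    rw [h1] at h2
    rcases h2 with e | e
    · exfalso
      apply hm0
      have : f • m = f • (0 : M) := by rw [smul_zero]; exact e
      exact smul_left_cancel f this
    · exact e
  have hinto : ∀ f ∈ F, br M f ≤ br M d := by
    intro f hf
    rintro _ ⟨m, rfl⟩
    obtain ⟨u, hu, c, hc, rfl⟩ := exists_decomp two hodd m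
    rw [smul_add, htriv f hf c hc, add_sub_add_right_eq_sub]
    refine sub_mem ?_ hu
    have h3 := smul_mem_br_conj f hu
    obtain ⟨n, hn⟩ := mem_zpowers_iff.mp (hFd f hf)
    rw [← hn] at h3
    exact br_zpow_le d n h3
  have hFcard : Nat.card F ∣ 20160 :=
    (card_dvd_addAut two hinto hFodd).trans (card_addAut_dvd two (by rw [hbr]))
  have hFz : F = zpowers d := by
    obtain ⟨n, hn⟩ := IsPGroup.iff_card.mp hF
    have hn1 : n ≤ 1 := by
      by_contra hcon
      push Not at hcon
      have h1 : 5 ^ 2 ∣ 5 ^ n := pow_dvd_pow 5 hcon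
      have h2 : 5 ^ 2 ∣ 20160 := h1.trans (hn ▸ hFcard)
      norm_num at h2
    have hle : zpowers d ≤ F := by rw [zpowers_le]; exact hdF
    refine (eq_of_le_of_card_ge hle ?_).symm
    rw [Nat.card_zpowers, hod, hn]
    calc 5 ^ n ≤ 5 ^ 1 := Nat.pow_le_pow_right (by norm_num) hn1
      _ = 5 := by norm_num
  refine ⟨?_, hFz⟩
  rw [eq_top_iff, ← span, AddSubgroup.closure_le]
  rintro _ ⟨x, rfl⟩
  have h1 : x * d * x⁻¹ ∈ zpowers d := by
    rw [← hFz]
    exact hFn.conj_mem d hdF x
  have h2 := smul_mem_br_conj x hv0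
  obtain ⟨n, hn⟩ := mem_zpowers_iff.mp h1
  rw [← hn] at h2
  exact br_zpow_le d n h2

end Cfsg.Agent.Omega.NO3S.Fit.Abs
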